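import Mathlib

/-!
Regular vectors for an endomorphism with squarefree minimal polynomial, and the commutant.
-/

set_option autoImplicit false
set_option linter.unusedSectionVars false

namespace Cfsg.Lib.Classical.SUThree

open Polynomial

universe u v


section Linear

variable {F : Type u} [Field F] {V : Type v} [AddCommGroup V] [Module F V]

/-- A vector whose annihilator is the minimal polynomial, for squarefree minimal polynomial. -/
theorem exists_regular_vector [FiniteDimensional F V] (T : Module.End F V) (hsq : Squarefree (minpoly F T)) :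
    ∃ x : V, ∀ f : F[X], aeval T f x = 0 → minpoly F T ∣ f := by
  classical
  have hint : IsIntegral F T := Algebra.IsIntegral.isIntegral T
  have hm0 := minpoly.ne_zero hint
  set m := minpoly F T
  set S := (UniqueFactorizationMonoid.normalizedFactors m).toFinset
  have hS : ∀ g ∈ S, Irreducible g ∧ g ∣ m := fun g hg =>
    ⟨UniqueFactorizationMonoid.irreducible_of_normalized_factor g (Multiset.mem_toFinset.1 hg),
      UniqueFactorizationMonoid.dvd_of_mem_normalizedFactors (Multiset.mem_toFinset.1 hg)⟩
  choose! c hc using fun g hg => (hS g hg).2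
  have hy : ∀ g ∈ S, ∃ x : V, aeval T (c g) x ≠ 0 := by
    intro g hg
    by_contra! h
    have hd : m ∣ c g := minpoly.dvd F T (LinearMap.ext fun x => h x)
    refine (hS g hg).1.not_isUnit (isUnit_of_dvd_one ?_)
    obtain ⟨e, he⟩ := hd
    have hc0 : c g ≠ 0 := fun h0 => hm0 (by rw [hc g hg, h0, mul_zero])
    refine ⟨e, mul_left_cancel₀ hc0 ?_⟩
    conv_lhs => rw [mul_one, he, hc g hg]
    ring
  choose! y hy using hy
  refine ⟨∑ g ∈ S, aeval T (c g) (y g), fun f hf => ?_⟩
  have hev : ∀ p q : F[X], ∀ x, aeval T p (aeval T q x) = aeval T (p * q) x := fun p q x => by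
    rw [map_mul]; rfl
  have hdiv : ∀ g ∈ S, g ∣ f := by
    intro g hg
    have hne : ∀ h ∈ S, h ≠ g → aeval T (c g) (aeval T f (aeval T (c h) (y h))) = 0 := by
      intro h hh hhg
      have hgh : m ∣ c g * (f * c h) := by
        have h1 : g ∣ c h := by
          have h2 : g ∣ h * c h := hc h hh ▸ (hS g hg).2
          refine ((hS g hg).1.prime.dvd_or_dvd h2).resolve_left fun h3 => hhg ?_
          have e1 := UniqueFactorizationMonoid.normalize_normalized_factor g (Multiset.mem_toFinset.1 hg)
          have e2 := UniqueFactorizationMonoid.normalize_normalized_factor h (Multiset.mem_toFinset.1 hh)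
          rw [← e1, ← e2]
          exact normalize_eq_normalize_iff.2 ⟨((hS g hg).1.associated_of_dvd (hS h hh).1 h3).symm.dvd, h3⟩
        rw [hc g hg, mul_comm g]
        exact mul_dvd_mul_left _ (h1.trans (dvd_mul_left _ _))
      rw [hev, hev, mul_assoc]
      obtain ⟨e, he⟩ := hgh
      rw [he, map_mul, minpoly.aeval, zero_mul]
      rfl
    have h0 := congrArg (aeval T (c g)) hf
    rw [map_sum, map_sum, map_zero, Finset.sum_eq_single_of_mem g hg hne, hev, hev] at h0
    by_contra hgf
    -- a Bezout combination with the factor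
    obtain ⟨a, b, hab⟩ := ((hS g hg).1.coprime_iff_not_dvd).2 (show ¬ g ∣ c g * f by
      intro hd
      rcases (hS g hg).1.prime.dvd_or_dvd hd with h | h
      · refine (hS g hg).1.not_isUnit (hsq g ?_)
        obtain ⟨e, he⟩ := h
        exact ⟨e, by rw [hc g hg, he, mul_assoc]⟩
      · exact hgf h)
    refine hy g hg ?_
    calc aeval T (c g) (y g) = aeval T ((a * g + b * (c g * f)) * c g) (y g) := by rw [hab, one_mul]
      _ = aeval T (a * m) (y g) + aeval T (b * (c g * f * c g)) (y g) := by
          rw [← LinearMap.add_apply, ← map_add, hc g hg]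
          exact congrArg (fun p => aeval T p (y g)) (by ring)
      _ = 0 := by
          rw [map_mul, minpoly.aeval, mul_zero, LinearMap.zero_apply, zero_add, ← hev, h0, map_zero]
  have hnd : (UniqueFactorizationMonoid.normalizedFactors m).Nodup :=
    (UniqueFactorizationMonoid.squarefree_iff_nodup_normalizedFactors hm0).1 hsq
  refine (UniqueFactorizationMonoid.prod_normalizedFactors hm0).symm.dvd.trans ?_
  have hpair : Set.Pairwise (S : Set F[X]) (IsCoprime : F[X] → F[X] → Prop) := by
    intro g hg h hh hgh
    refine ((hS g hg).1.coprime_iff_not_dvd).2 fun h3 => hgh ?_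
    have e1 := UniqueFactorizationMonoid.normalize_normalized_factor g (Multiset.mem_toFinset.1 hg)
    have e2 := UniqueFactorizationMonoid.normalize_normalized_factor h (Multiset.mem_toFinset.1 hh)
    rw [← e1, ← e2]
    exact normalize_eq_normalize_iff.2 ⟨h3, ((hS g hg).1.associated_of_dvd (hS h hh).1 h3).symm.dvd⟩
  have hprod : (UniqueFactorizationMonoid.normalizedFactors m).prod = ∏ g ∈ S, g :=
    (Finset.prod_multiset_count _).trans (Finset.prod_congr rfl fun g hg => by
      rw [Multiset.count_eq_one_of_mem hnd (Multiset.mem_toFinset.1 hg), pow_one])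
  rw [hprod]
  exact Finset.prod_dvd_of_coprime hpair hdiv

/-- With a squarefree minimal polynomial of full degree, what commutes is a polynomial. -/
theorem commute_eq_aeval [FiniteDimensional F V] (T : Module.End F V) (hsq : Squarefree (minpoly F T))
    (hdeg : (minpoly F T).natDegree = Module.finrank F V) {A : Module.End F V} (hA : A * T = T * A) :
    ∃ f : F[X], A = aeval T f := by
  obtain ⟨x, hx⟩ := exists_regular_vector T hsq
  have hint : IsIntegral F T := Algebra.IsIntegral.isIntegral T
  let ψ : Polynomial.degreeLT F (Module.finrank F V) →ₗ[F] V :=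
    (LinearMap.applyₗ x).comp ((aeval T).toLinearMap.comp (Polynomial.degreeLT F _).subtype)
  have hinj : Function.Injective ψ := by
    rw [← LinearMap.ker_eq_bot, LinearMap.ker_eq_bot']
    rintro ⟨f, hf⟩ h0
    have hd := hx f h0
    by_contra hne
    have hf0 : f ≠ 0 := fun e => hne (Subtype.ext e)
    have h1 := natDegree_le_of_dvd hd hf0
    rw [Polynomial.mem_degreeLT, degree_eq_natDegree hf0, Nat.cast_lt] at hf
    omega
  have hsurj : Function.Surjective ψ := (LinearMap.injective_iff_surjective_of_finrank_eq_finrank (by
    rw [LinearEquiv.finrank_eq (Polynomial.degreeLTEquiv F (Module.finrank F V)), Module.finrank_fin_fun])).1 hinj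
  obtain ⟨⟨f, hf⟩, hfx⟩ := hsurj (A x)
  refine ⟨f, LinearMap.ext fun y => ?_⟩
  obtain ⟨⟨g, hg⟩, rfl⟩ := hsurj y
  have hcomm : ∀ p : F[X], Commute A (aeval T p) := fun p => by
    induction p using Polynomial.induction_on' with
    | add p q hp hq => rw [map_add]; exact hp.add_right hq
    | monomial n a =>
      rw [aeval_monomial]
      exact (show Commute A (algebraMap F (Module.End F V) a) from (Algebra.commutes a A).symm).mul_right
        (Commute.pow_right hA n)
  show A (aeval T g x) = aeval T f (aeval T g x)
  calc A (aeval T g x) = (A * aeval T g) x := rfl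
    _ = aeval T g (A x) := by rw [(hcomm g).eq]; rfl
    _ = (aeval T g * aeval T f) x := by rw [← hfx]; rfl
    _ = aeval T f (aeval T g x) := by rw [← map_mul, mul_comm g f, map_mul]; rfl

end Linear

end Cfsg.Lib.Classical.SUThree
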