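import Mathlib

/-!
Common divisors of `p^j + 1` and `q^3 + 1` for a power `p^j` less than `q^3`.
-/

set_option autoImplicit false

namespace Cfsg.Lib.Classical.SUThree

/-- A common divisor of `p^j + 1` and `q^3 + 1`, `p^j < q^3`, is at most `q + 1`, and equality forces `p^j = q`. -/
theorem common_divisor {p e j n : ℕ} (hp : 2 ≤ p) (he : 0 < e) (hj : p ^ j < p ^ (3 * e))
    (h1 : n ∣ p ^ j + 1) (h2 : n ∣ p ^ (3 * e) + 1) (hn : p ^ e + 1 ≤ n) :
    p ^ j = p ^ e ∧ n = p ^ e + 1 := by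
  have hje : j < 3 * e := (Nat.pow_lt_pow_iff_right (by omega)).1 hj
  have hpe : 2 ≤ p ^ e := hp.trans (Nat.le_self_pow he.ne' p)
  set g := Nat.gcd j (3 * e) with hg
  have hg0 : 0 < g := Nat.gcd_pos_of_pos_right _ (by omega)
  obtain ⟨a, ha⟩ := Nat.gcd_dvd_left j (3 * e)
  obtain ⟨b, hb⟩ := Nat.gcd_dvd_right j (3 * e)
  rw [← hg] at ha hb
  have : NeZero n := ⟨by omega⟩
  have hm1 : ∀ k, n ∣ p ^ k + 1 → (p : ZMod n) ^ k = -1 := by
    intro k hk
    have h := (ZMod.natCast_eq_zero_iff _ _).2 hk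
    push_cast at h
    exact eq_neg_of_add_eq_zero_left h
  have e1 := hm1 _ h1
  have e2 := hm1 _ h2
  have hne : (-1 : ZMod n) ≠ 1 := by
    intro h
    have h' : ((2 : ℕ) : ZMod n) = 0 := by push_cast; linear_combination -h
    have := Nat.le_of_dvd (by norm_num) ((ZMod.natCast_eq_zero_iff _ _).1 h')
    omega
  set x : ZMod n := (p : ZMod n) ^ g with hx
  have hxa : x ^ a = -1 := by rw [hx, ← pow_mul, ← ha]; exact e1
  have hxb : x ^ b = -1 := by rw [hx, ← pow_mul, ← hb]; exact e2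
  have hab : Nat.Coprime a b := by
    refine Nat.eq_of_mul_eq_mul_left hg0 ?_
    rw [mul_one, ← Nat.gcd_mul_left, ← ha, ← hb]
  have hx2 : x ^ 2 = 1 := by
    have h1 : orderOf x ∣ 2 * a := orderOf_dvd_of_pow_eq_one (by rw [mul_comm, pow_mul, hxa, neg_one_sq])
    have h2 : orderOf x ∣ 2 * b := orderOf_dvd_of_pow_eq_one (by rw [mul_comm, pow_mul, hxb, neg_one_sq])
    have h3 := Nat.dvd_gcd h1 h2
    rw [Nat.gcd_mul_left, hab.gcd_eq_one, mul_one] at h3
    exact orderOf_dvd_iff_pow_eq_one.1 h3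
  have hodd : ∀ c, x ^ c = -1 → Odd c ∧ x = -1 := by
    intro c hc
    rcases Nat.even_or_odd c with ⟨d, hd⟩ | ⟨d, hd⟩
    · rw [hd, ← two_mul, pow_mul, hx2, one_pow] at hc
      exact absurd hc.symm hne
    · refine ⟨⟨d, hd⟩, ?_⟩
      rwa [hd, pow_succ, pow_mul, hx2, one_pow, one_mul] at hc
  obtain ⟨⟨a', ha'⟩, hxm⟩ := hodd a hxa
  obtain ⟨⟨b', hb'⟩, -⟩ := hodd b hxb
  have hdvd : n ∣ p ^ g + 1 := by
    rw [← ZMod.natCast_eq_zero_iff]
    push_cast
    rw [← hx, hxm, neg_add_cancel]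
  have hle := Nat.le_of_dvd (Nat.succ_pos _) hdvd
  have hge : e ≤ g := (Nat.pow_le_pow_iff_right (by omega)).1 (by omega : p ^ e ≤ p ^ g)
  have hb3 : b ≤ 3 := Nat.le_of_mul_le_mul_left
    (calc g * b = 3 * e := hb.symm
      _ ≤ g * 3 := by omega) hg0
  have hab' : a < b := Nat.lt_of_mul_lt_mul_left (a := g) (ha ▸ hb ▸ hje)
  have hb3' : b = 3 := by omega
  have ha1 : a = 1 := by omega
  subst hb3' ha1
  have hge' : g = e := by omega
  have hjg : j = e := by omega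
  rw [hjg]
  rw [hge'] at hle
  exact ⟨rfl, le_antisymm hle hn⟩

end Cfsg.Lib.Classical.SUThree
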