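import Cfsg.Agent.Classical.SUThree.Centres
import Cfsg.Agent.InvolCalc.ZStarApps
import Cfsg.Agent.S0205

/-!
A group whose root groups have two elements is soluble.
-/

set_option autoImplicit false
set_option linter.unusedSectionVars false
set_option linter.style.haveILetI false

namespace Cfsg.Lib.Classical.SUThree

open Cfsg.Lib.Classical Cfsg.Lib.Components.UnitaryThree Cfsg.Lib.Known.PSUThree

universe u v

/-- A finite group with an isolated involution whose centralizer is soluble is soluble. -/
theorem solvable_of_isolated {G : Type*} [Group G] [Finite G] {t : G} (ht : Cfsg.IsIsolatedInvolution t)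
    (hC : Group.IsSolvable (Subgroup.centralizer ({t} : Set G))) : Group.IsSolvable G := by
  set O := Cfsg.pPrimeCore 2 G
  have hodd := Cfsg.Lib.ZStarApps.odd_card_pPrimeCore (G := G)
  haveI : O.Normal := by infer_instance
  haveI : Group.IsSolvable O := Cfsg.Agent.S0205.result hodd
  have hz := Cfsg.Lib.ZStarApps.zstarProp ht
  have htt : t * t = 1 := by
    rw [← pow_two, ← ht.1]
    exact pow_orderOf_eq_one t
  have hti : t⁻¹ = t := inv_eq_of_mul_eq_one_right htt
  have hsurj : Function.Surjective ((QuotientGroup.mk' O).comp (Subgroup.centralizer ({t} : Set G)).subtype) := by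
    intro a
    obtain ⟨g, rfl⟩ := QuotientGroup.mk'_surjective O a
    set x := g * t * g⁻¹ * t with hx
    have hxO : x ∈ O := by
      have := inv_mem (hz g)
      rwa [mul_inv_rev, mul_inv_rev, mul_inv_rev, inv_inv, inv_inv, hti, ← mul_assoc, ← mul_assoc] at this
    have hinv : t * x * t = x⁻¹ := by
      rw [hx, mul_inv_rev, mul_inv_rev, mul_inv_rev, inv_inv, hti]
      calc t * (g * t * g⁻¹ * t) * t = t * (g * t * g⁻¹) * (t * t) := by group
        _ = _ := by rw [htt, mul_one]; group
    obtain ⟨m, hm⟩ : Odd (orderOf x) :=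
      hodd.of_dvd_nat (by rw [← Subgroup.orderOf_mk x hxO]; exact orderOf_dvd_natCard _)
    set y := x ^ (m + 1) with hy
    have hyy : y * y = x := by
      rw [hy, ← pow_add, show m + 1 + (m + 1) = orderOf x + 1 by omega, pow_succ, pow_orderOf_eq_one, one_mul]
    have hty : t * y⁻¹ * t = y := by
      have h1 : t * x⁻¹ * t = x := by
        rw [← hinv]
        calc t * (t * x * t) * t = (t * t) * x * (t * t) := by group
          _ = x := by rw [htt, one_mul, mul_one]
      rw [hy, ← inv_pow]
      conv_rhs => rw [← h1]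
      rw [show t * x⁻¹ * t = t * x⁻¹ * t⁻¹ by rw [hti], conj_pow, hti]
    have hconj : y * t * y⁻¹ = g * t * g⁻¹ := by
      calc y * t * y⁻¹ = y * (t * y⁻¹ * t) * t⁻¹ := by group
        _ = g * t * g⁻¹ := by rw [hty, hyy, hx]; group
    refine ⟨⟨y⁻¹ * g, Subgroup.mem_centralizer_singleton_iff.2 ?_⟩, ?_⟩
    · calc y⁻¹ * g * t = y⁻¹ * (g * t * g⁻¹) * g := by group
        _ = t * (y⁻¹ * g) := by rw [← hconj]; group
    · show QuotientGroup.mk (y⁻¹ * g) = (QuotientGroup.mk g : G ⧸ O)
      rw [QuotientGroup.eq, mul_inv_rev, inv_inv]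
      have h := Subgroup.Normal.conj_mem (H := O) inferInstance y (pow_mem hxO _) g⁻¹
      rwa [inv_inv] at h
  haveI := Group.isSolvable_of_surjective hsurj
  exact Group.isSolvable_of_ker_le_range O.subtype (QuotientGroup.mk' O) (by rw [QuotientGroup.ker_mk', Subgroup.range_subtype])

variable {F : Type u} [Field F] [Finite F] {V : Type v} [AddCommGroup V] [Module F V]
  [FiniteDimensional F V] {H : HermSpace F V} (K : Subgroup H.SIsom)

/-- The stabiliser of an isotropic point is soluble. -/
theorem solvable_Lg (hd : Module.finrank F V = 3) (B : Frame H) : Group.IsSolvable (Lg K B) := by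
  obtain ⟨p, hp⟩ := CharP.exists F
  haveI : Fact p.Prime := ⟨CharP.char_is_prime F p⟩
  haveI : Group.IsNilpotent (Ng K B) := (Ng_pgroup K hd B p).isNilpotent
  haveI : Group.IsSolvable (Ng K B) := inferInstance
  have hle : Ng K B ≤ Lg K B := inf_le_inf_left _ (fixE_le_stE B)
  refine Group.isSolvable_of_ker_le_range (Subgroup.inclusion hle) (eaHom K hd B) fun g hg => ?_
  obtain ⟨he, -⟩ := coords hd B g.2.2
  refine ⟨⟨g.1, g.2.1, ?_⟩, rfl⟩
  show g.1.1.1 B.e = B.e
  rw [he, show ea B g.1 = 1 from congrArg Units.val (MonoidHom.mem_ker.1 hg), one_smul]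

/-- Root groups of two elements force a soluble group. -/
theorem solvable_of_two (hd : Module.finrank F V = 3) {B : Frame H}
    (hA : Nat.card (Ag K B) = 2) : Group.IsSolvable K := by
  obtain ⟨p, hp⟩ := CharP.exists F
  haveI : Fact p.Prime := ⟨CharP.char_is_prime F p⟩
  obtain ⟨a, ha1, huniv⟩ : ∃ a : Ag K B, a ≠ 1 ∧ ∀ b : Ag K B, b = 1 ∨ b = a := by
    obtain ⟨a, b, hne, huniv⟩ := Nat.card_eq_two_iff.1 hA
    rcases eq_or_ne a 1 with rfl | ha
    · refine ⟨b, hne.symm, fun c => ?_⟩
      have := huniv.ge (Set.mem_univ c)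
      simpa using this
    · refine ⟨a, ha, fun c => ?_⟩
      have h1 : (1 : Ag K B) = b := by
        have := huniv.ge (Set.mem_univ (1 : Ag K B))
        simp [ha.symm] at this
        exact this
      have := huniv.ge (Set.mem_univ c)
      simp [← h1] at this
      exact this.symm
  have ha1' : a.1 ≠ 1 := fun h => ha1 (Subtype.ext h)
  have hfix : ∀ x : H.SIsom, x * a.1 = a.1 * x → x • pt B = pt B := fun x hx => by
    refine fix_pt hd B ((root_le_fixE B).1 a.2.2) ha1' ?_
    rw [← mul_smul, ← hx, mul_smul]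
    congr 1
    exact MulAction.mem_stabilizer_iff.1 (fixE_le_stE B ((root_le_fixE B).1 a.2.2))
  set t : K := ⟨a.1, a.2.1⟩
  have ha2 : a.1 * a.1 = 1 := by
    rcases huniv (a * a) with h | h
    · exact congrArg Subtype.val h
    · exact absurd (mul_eq_left.1 h) ha1
  have ht : Cfsg.IsIsolatedInvolution t := by
    refine ⟨orderOf_eq_prime (Subtype.ext ((pow_two a.1).trans ha2)) fun h => ha1' (congrArg Subtype.val h),
      fun g hg => ?_⟩
    have hc : (g.1 * a.1 * g.1⁻¹) * a.1 = a.1 * (g.1 * a.1 * g.1⁻¹) := congrArg Subtype.val hg.eq.symm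
    have h1 := hfix _ hc
    have hgB : g.1⁻¹ • pt B = pt B := by
      refine fix_pt hd B ((root_le_fixE B).1 a.2.2) ha1' ?_
      conv_rhs => rw [← h1]
      rw [mul_smul, mul_smul, inv_smul_smul]
    have hgs : g.1 ∈ stE B := by
      rw [← inv_mem_iff]
      exact MulAction.mem_stabilizer_iff.2 hgB
    rcases huniv ⟨g.1 * a.1 * g.1⁻¹, K.mul_mem (K.mul_mem g.2 a.2.1) (K.inv_mem g.2),
      (conj_ec hd B hgs a.2.2).1⟩ with h | h
    · exact absurd (conj_eq_one_iff.1 (congrArg Subtype.val h)) ha1'
    · exact Subtype.ext (congrArg (fun z : Ag K B => z.1) h)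
  refine solvable_of_isolated ht ?_
  haveI := solvable_Lg K hd B
  refine Group.isSolvable_of_isSolvable_injective (f := MonoidHom.mk' (fun x : Subgroup.centralizer ({t} : Set K) =>
    (⟨x.1.1, x.1.2, MulAction.mem_stabilizer_iff.2 (hfix _ (congrArg Subtype.val
      (Subgroup.mem_centralizer_singleton_iff.1 x.2)))⟩ : Lg K B)) fun _ _ => rfl) fun x y h => ?_
  exact Subtype.ext (Subtype.ext (congrArg (fun z : Lg K B => z.1) h))

end Cfsg.Lib.Classical.SUThree
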