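import Cfsg.Agent.Classical.SUThree.NoRoot
import Cfsg.Agent.Classical.SUThree.Friendship
import Cfsg.Agent.Classical.SUThree.EvenTwo
import Cfsg.Agent.Presentations.BinaryIcosahedral
import Cfsg.Prelude.Def_TwoFusion

/-!
A subgroup without transvections that fixes no point or triangle contains only homologies of order two, unless it is
soluble.
-/

set_option autoImplicit false
set_option linter.unusedSectionVars false
set_option linter.style.haveILetI false
set_option maxHeartbeats 1000000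

namespace Cfsg.Lib.Classical.SUThree

open Cfsg.Lib.Classical Cfsg.Lib.Components.UnitaryThree Cfsg.Lib.Known.PSUThree
open scoped LinearAlgebra.Projectivization

universe u v

/-- Some power of an element of order at least three has order four, three or a prime at least five. -/
theorem exists_pow_order {G : Type*} [Monoid G] {r : G} (h : 3 ≤ orderOf r) :
    ∃ j k : ℕ, orderOf (r ^ j) = k ∧ (k = 4 ∨ k = 3 ∨ (k.Prime ∧ 5 ≤ k)) := by
  set n := orderOf r
  have key : ∀ k, k ∣ n → orderOf (r ^ (n / k)) = k := fun k hk => orderOf_pow_orderOf_div (by omega) hk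
  by_cases h4 : 4 ∣ n
  · exact ⟨_, 4, key 4 h4, Or.inl rfl⟩
  obtain ⟨p, hp, hpn, hp2⟩ : ∃ p, p.Prime ∧ p ∣ n ∧ p ≠ 2 := by
    by_contra! hc
    obtain ⟨e, he⟩ : ∃ e, n = 2 ^ e :=
      ⟨n.primeFactorsList.length, Nat.eq_prime_pow_of_unique_prime_dvd (by omega) fun {d} hd hdn => hc d hd hdn⟩
    rcases e with _ | _ | e
    · omega
    · omega
    · exact h4 ⟨2 ^ e, by rw [he]; ring⟩
  refine ⟨_, p, key p hpn, ?_⟩
  rcases eq_or_ne p 3 with rfl | h3
  · exact Or.inr (Or.inl rfl)
  refine Or.inr (Or.inr ⟨hp, ?_⟩)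
  have := hp.two_le
  rcases eq_or_ne p 4 with rfl | h4'
  · norm_num at hp
  · omega

/-- Elements commuting modulo a normal subgroup. -/
theorem comm_quot {G : Type*} [Group G] (N : Subgroup G) [N.Normal] {a b : G}
    (h : QuotientGroup.mk' N a * QuotientGroup.mk' N b = QuotientGroup.mk' N b * QuotientGroup.mk' N a) :
    a * b * a⁻¹ * b⁻¹ ∈ N := by
  rw [← QuotientGroup.eq_one_iff, ← QuotientGroup.mk'_apply, map_mul, map_mul, map_mul, map_inv, map_inv, h]
  group

/-- In a group of order twelve without elements of order more than three, a character is trivial on involutions. -/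
theorem char_twelve {L : Type*} [Group L] [Finite L] {M : Type*} [CommRing M] [IsDomain M] (hcard : Nat.card L = 12)
    (hord : ∀ l : L, orderOf l ≤ 3) (χ : L →* Mˣ) {s : L} (hs : s ^ 2 = 1) : χ s = 1 := by
  classical
  by_contra hne
  set ψ : L →* Mˣ := (powMonoidHom 3).comp χ with hψ
  have hψs : ψ s = χ s := by
    show χ s ^ 3 = χ s
    rw [pow_succ, ← map_pow, hs, map_one, one_mul]
  have hpm : ∀ l, ψ l = 1 ∨ (ψ l) ^ 2 = 1 := fun l => by
    have h1 := hord l
    have h2 : 0 < orderOf l := orderOf_pos l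
    have h := congrArg χ (pow_orderOf_eq_one l)
    rw [map_pow, map_one] at h
    interval_cases ho : orderOf l
    · left; show χ l ^ 3 = 1; rw [pow_one] at h; rw [h, one_pow]
    · right; show (χ l ^ 3) ^ 2 = 1; rw [← pow_mul, mul_comm, pow_mul, h, one_pow]
    · left; exact h
  have hsq : ∀ a : Mˣ, a ^ 2 = 1 → a = 1 ∨ a = -1 := fun a ha => by
    rcases sq_eq_one_iff.1 (congrArg Units.val ha) with e | e
    · exact Or.inl (Units.ext e)
    · exact Or.inr (Units.ext e)
  have hval : ∀ l, ψ l = 1 ∨ ψ l = ψ s := fun l => by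
    rcases hpm l with h | h
    · exact Or.inl h
    · rcases hsq _ h with h | h
      · exact Or.inl h
      · refine Or.inr ?_
        rcases hpm s with e | e
        · exact absurd (hψs ▸ e) hne
        · rcases hsq _ e with e | e
          · exact absurd (hψs ▸ e) hne
          · rw [h, e]
  set N := ψ.ker with hN
  have hmem : ∀ l, l ∈ N ↔ ψ l = 1 := fun l => MonoidHom.mem_ker
  have hNcard : Nat.card N = 6 := by
    rw [hN]
    have h1 := ψ.ker.card_mul_index
    rw [Subgroup.index_ker, hcard] at h1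
    have h2 : Nat.card ψ.range = 2 := by
      rw [Nat.card_eq_two_iff]
      refine ⟨⟨1, one_mem _⟩, ⟨ψ s, ⟨s, rfl⟩⟩, fun e => hne (hψs ▸ (congrArg Subtype.val e).symm),
        Set.eq_univ_of_forall ?_⟩
      rintro ⟨a, l, rfl⟩
      rcases hval l with h | h
      · exact Or.inl (Subtype.ext h)
      · exact Or.inr (Subtype.ext h)
    rw [h2] at h1
    omega
  haveI : Fact (Nat.Prime 2) := ⟨Nat.prime_two⟩
  haveI : Fact (Nat.Prime 3) := ⟨Nat.prime_three⟩
  obtain ⟨⟨y, hyN⟩, hy⟩ := exists_prime_orderOf_dvd_card' (G := N) 3 (by rw [hNcard]; norm_num)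
  obtain ⟨⟨u, huN⟩, hu⟩ := exists_prime_orderOf_dvd_card' (G := N) 2 (by rw [hNcard]; norm_num)
  rw [Subgroup.orderOf_mk] at hy hu
  -- the elements of order three are the powers of one
  set Y := (Subgroup.zpowers y).subgroupOf N with hY
  have hYcard : Nat.card Y = 3 := by
    rw [Nat.card_congr (Subgroup.subgroupOfEquivOfLe (Subgroup.zpowers_le.2 hyN)).toEquiv, Nat.card_zpowers, hy]
  have hYi : Y.index = 2 := by
    have h := Y.card_mul_index
    rw [hYcard, hNcard] at h
    omega
  haveI : Y.Normal := Subgroup.normal_of_index_eq_two hYi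
  have hthree : ∀ l, orderOf l = 3 → l ∈ Subgroup.zpowers y := by
    intro l hl
    have h3 : l ^ 3 = 1 := by rw [← hl]; exact pow_orderOf_eq_one l
    have hlN : l ∈ N := (hmem l).2 (by
      show χ l ^ 3 = 1
      rw [← map_pow, h3, map_one])
    have h4 := Y.pow_index_mem (⟨l, hlN⟩ : N)
    rw [hYi, hY, Subgroup.mem_subgroupOf] at h4
    have h5 : l = (l ^ 2) ^ 2 := by rw [← pow_mul]; show l = l ^ 4; rw [pow_succ, h3, one_mul]
    rw [h5]
    exact pow_mem h4 2
  have hcases : ∀ l ∈ Subgroup.zpowers y, orderOf l = 3 → l = y ∨ l = y⁻¹ := by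
    intro l hl ho
    obtain ⟨i, hi, rfl⟩ := Finset.mem_image.1 (mem_zpowers_iff_mem_range_orderOf.1 hl)
    rw [Finset.mem_range, hy] at hi
    interval_cases i
    · rw [pow_zero, orderOf_one] at ho; omega
    · exact Or.inl (pow_one y)
    · refine Or.inr (eq_inv_of_mul_eq_one_left ?_)
      rw [← pow_succ, show 2 + 1 = orderOf y by omega, pow_orderOf_eq_one]
  -- no element of order two commutes with it
  have hno : ∀ l, orderOf l = 2 → l * y * l⁻¹ = y⁻¹ := by
    intro l hl
    have hc : orderOf (l * y * l⁻¹) = 3 := by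
      rw [← MulAut.conj_apply]
      exact (orderOf_injective (MulAut.conj l).toMonoidHom (MulAut.conj l).injective y).trans hy
    rcases hcases _ (hthree _ hc) hc with h | h
    · exfalso
      have hcomm : Commute l y := mul_inv_eq_iff_eq_mul.1 h
      have := hcomm.orderOf_mul_eq_mul_orderOf_of_coprime (by rw [hl, hy]; norm_num)
      have h6 := hord (l * y)
      rw [hl, hy] at this
      omega
    · exact h
  have hs2 : orderOf s = 2 := orderOf_eq_prime hs fun e => hne (by rw [e, map_one])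
  have hsu : ψ (s * u) = ψ s := by rw [map_mul, (hmem u).1 huN, mul_one]
  have hsu2 : orderOf (s * u) = 2 := by
    have h1 := hord (s * u)
    have h2 : 0 < orderOf (s * u) := orderOf_pos _
    have h3 : s * u ≠ 1 := fun e => hne (by rw [← hψs, ← hsu, e, map_one])
    have h4 : orderOf (s * u) ≠ 1 := fun e => h3 (orderOf_eq_one_iff.1 e)
    by_contra h5
    have h6 : orderOf (s * u) = 3 := by omega
    refine hne ?_
    rw [← hψs, ← hsu]
    show χ (s * u) ^ 3 = 1
    rw [← map_pow, ← h6, pow_orderOf_eq_one, map_one]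
  have h1 := hno _ hsu2
  have h2 : s * u * y * (s * u)⁻¹ = y := by
    calc s * u * y * (s * u)⁻¹ = s * (u * y * u⁻¹) * s⁻¹ := by group
      _ = (s * y * s⁻¹)⁻¹ := by rw [hno u hu]; group
      _ = y := by rw [hno s hs2, inv_inv]
  rw [h1] at h2
  have h3 : y ^ 2 = 1 := by rw [pow_two]; nth_rw 1 [← h2]; exact inv_mul_cancel y
  have := orderOf_dvd_of_pow_eq_one h3
  rw [hy] at this
  omega

variable {F : Type u} [Field F] [Finite F] {V : Type v} [AddCommGroup V] [Module F V]
  [FiniteDimensional F V] {H : HermSpace F V} {K : Subgroup H.SIsom}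

/-- A homology of `K` with the given pole and ratio. -/
def Ratio (K : Subgroup H.SIsom) (z : V) (r : F) : Prop :=
  H.h z z ≠ 0 ∧ ∃ g ∈ K, ∃ lam : F, g.1.1 z = (r * lam) • z ∧ ∀ x, H.h x z = 0 → g.1.1 x = lam • x

theorem Ratio.map {z : V} {r : F} (h : Ratio K z r) {m : H.SIsom} (hm : m ∈ K) : Ratio K (m.1.1 z) r := by
  obtain ⟨hzz, g, hg, lam, hz, hp⟩ := h
  refine ⟨by rwa [H.map_form], m * g * m⁻¹, K.mul_mem (K.mul_mem hm hg) (K.inv_mem hm), lam, ?_, fun x hx => ?_⟩
  · rw [H.smul_mul_apply, show (m⁻¹).1.1 (m.1.1 z) = z from H.inv_apply_self m.1 z, H.smul_mul_apply, hz, map_smul]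
  · have e : m.1.1 ((m⁻¹).1.1 x) = x := H.apply_inv_self m.1 x
    have hx' : H.h ((m⁻¹).1.1 x) z = 0 := by rw [← H.map_form m.1, e, hx]
    rw [H.smul_mul_apply, H.smul_mul_apply, hp _ hx', map_smul, e]

theorem Ratio.smul {z : V} {r : F} (h : Ratio K z r) {c : F} (hc : c ≠ 0) : Ratio K (c • z) r := by
  obtain ⟨hzz, g, hg, lam, hz, hp⟩ := h
  refine ⟨?_, g, hg, lam, by rw [map_smul, hz, smul_comm], fun x hx => hp x ?_⟩
  · rw [H.smul_left, H.smul_right]
    exact mul_ne_zero hc (mul_ne_zero ((map_ne_zero _).2 hc) hzz)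
  · rw [H.smul_right] at hx
    exact (mul_eq_zero.1 hx).resolve_left ((map_ne_zero _).2 hc)

theorem Ratio.pow {z : V} {r : F} (h : Ratio K z r) (j : ℕ) : Ratio K z (r ^ j) := by
  obtain ⟨hzz, g, hg, lam, hz, hp⟩ := h
  refine ⟨hzz, g ^ j, pow_mem hg j, lam ^ j, ?_, fun x hx => ?_⟩
  · induction j with
    | zero => simp
    | succ i ih =>
      rw [pow_succ g, H.smul_mul_apply, hz, map_smul, ih, smul_smul, pow_succ, pow_succ]
      congr 1
      ring
  · induction j with
    | zero => simp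
    | succ i ih => rw [pow_succ g, H.smul_mul_apply, hp x hx, map_smul, ih, smul_smul, pow_succ, mul_comm]

theorem Ratio.scalar_ne (hd : Module.finrank F V = 3) {z : V} {r : F} (h : Ratio K z r) :
    r ≠ 0 ∧ ∃ g ∈ K, ∃ lam : F, lam ≠ 0 ∧ g.1.1 z = (r * lam) • z ∧ ∀ x, H.h x z = 0 → g.1.1 x = lam • x := by
  obtain ⟨hzz, g, hg, lam, hz, hp⟩ := h
  have hz0 : z ≠ 0 := fun e => hzz (by rw [e, H.zero_left])
  have hr : r * lam ≠ 0 := fun e => H.isom_ne_zero g.1 hz0 (by rw [hz, e, zero_smul])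
  exact ⟨left_ne_zero_of_mul hr, g, hg, lam, right_ne_zero_of_mul hr, hz, hp⟩

/-- The points carrying homologies of ratio of order `k`. -/
def IsC (K : Subgroup H.SIsom) (k : ℕ) (z : V) : Prop := ∃ r, Ratio K z r ∧ orderOf r = k

theorem IsC.hc (hd : Module.finrank F V = 3) {k : ℕ} {z : V} (h : IsC K k z) : IsHC K k z := by
  obtain ⟨r, hr, hk⟩ := h
  obtain ⟨-, g, hg, lam, hlam, hz, hp⟩ := hr.scalar_ne hd
  refine ⟨hr.1, g, hg, lam, r * lam, hz, hp, fun j h0 hj e => ?_⟩
  rw [mul_pow] at e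
  have : r ^ j = 1 := mul_right_cancel₀ (pow_ne_zero j hlam) (by rw [one_mul]; exact e.symm)
  exact absurd (Nat.le_of_dvd h0 (orderOf_dvd_of_pow_eq_one this)) (by omega)

/-- Three orthogonal anisotropic vectors span. -/
theorem orth_three (hd : Module.finrank F V = 3) {x y z : V} (hx : H.h x x ≠ 0) (hy : H.h y y ≠ 0) (hz : z ≠ 0)
    (hxy : H.h x y = 0) (hzx : H.h z x = 0) (hzy : H.h z y = 0) :
    H.h z z ≠ 0 ∧ ∀ t, ∃ a b c : F, t = a • x + b • y + c • z := by
  have hyx := H.eq_zero_symm hxy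
  have hxz := H.eq_zero_symm hzx
  have hyz := H.eq_zero_symm hzy
  have hli : LinearIndependent F ![x, y, z] := by
    rw [Fintype.linearIndependent_iff]
    intro g hg
    simp [Fin.sum_univ_three] at hg
    have h1 := congrArg (fun t => H.h t x) hg
    have h2 := congrArg (fun t => H.h t y) hg
    simp [H.add_left, H.smul_left, hyx, hzx, hxy, hzy, H.zero_left, hx, hy] at h1 h2
    rw [h1, h2, zero_smul, zero_smul, zero_add, zero_add] at hg
    intro i
    fin_cases i
    · exact h1
    · exact h2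
    · exact (smul_eq_zero.1 hg).resolve_right hz
  have hspan : ∀ t, ∃ a b c : F, t = a • x + b • y + c • z := by
    intro t
    have htop := hli.span_eq_top_of_card_eq_finrank (by rw [Fintype.card_fin, hd])
    obtain ⟨g, hg⟩ := (Submodule.mem_span_range_iff_exists_fun F).1 (htop ▸ Submodule.mem_top : t ∈ _)
    exact ⟨g 0, g 1, g 2, by rw [← hg]; simp [Fin.sum_univ_three]⟩
  refine ⟨fun hzz => hz (H.nondeg _ fun t => ?_), hspan⟩
  obtain ⟨a, b, c, rfl⟩ := hspan t
  simp [H.add_left, H.smul_left, hxz, hyz, hzz]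

/-- The third point of two orthogonal centres is one too. -/
theorem IsC.third (hd : Module.finrank F V = 3) {k : ℕ} (hk : 0 < k) {x y z : V} (hx : IsC K k x) (hy : IsC K k y)
    (hxy : H.h x y = 0) (hz : z ≠ 0) (hzx : H.h z x = 0) (hzy : H.h z y = 0) : IsC K k z := by
  obtain ⟨r, hr, hrk⟩ := hx
  obtain ⟨r', hr', hr'k⟩ := hy
  obtain ⟨hzz, hspan⟩ := orth_three hd hr.1 hr'.1 hz hxy hzx hzy
  obtain ⟨hr0, g, hg, lam, hlam, hgx, hgp⟩ := hr.scalar_ne hd
  obtain ⟨hr'0, g', hg', lam', hlam', hgy, hgp'⟩ := hr'.scalar_ne hd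
  haveI : NeZero k := ⟨hk.ne'⟩
  obtain ⟨j, -, hj⟩ := (hrk ▸ IsPrimitiveRoot.orderOf r).eq_pow_of_pow_eq_one
    (show r' ^ k = 1 by rw [← hr'k]; exact pow_orderOf_eq_one r')
  obtain ⟨-, g1, hg1, lam1, hg1x, hg1p⟩ := Ratio.pow ⟨hr.1, g, hg, lam, hgx, hgp⟩ j
  rw [hj] at hg1x
  refine ⟨r'⁻¹, ⟨hzz, g1 * g', K.mul_mem hg1 hg', r' * lam1 * lam', ?_, fun t ht => ?_⟩,
    (IsPrimitiveRoot.orderOf r').inv.eq_orderOf.symm.trans hr'k⟩
  · rw [H.smul_mul_apply, hgp' z hzy, map_smul, hg1p z hzx, smul_smul]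
    congr 1
    field_simp
  · obtain ⟨a, b, c, rfl⟩ := hspan t
    simp [H.add_left, H.smul_left, H.eq_zero_symm hzx, H.eq_zero_symm hzy, hzz] at ht
    subst ht
    rw [H.smul_mul_apply]
    simp only [zero_smul, add_zero, map_add, map_smul, hgp' x hxy, hgy, hg1x, hg1p y (H.eq_zero_symm hxy),
      smul_smul, smul_add]
    congr 1 <;> congr 1 <;> ring

/-- An element with the pole of a line fixed acts on it trivially only by a scalar. -/
theorem plane_scalar (hd : Module.finrank F V = 3) {B : Frame H} {g : Mg K B} (h : rho K B g = 1) :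
    ∃ s : F, ∀ x, H.h x B.w = 0 → g.1.1.1 x = s • x := by
  have hfix := rho_eq_one hd K B h
  obtain ⟨s, hs⟩ := (smul_eq_iff g B.e_ne B.ew).1 (hfix _)
  obtain ⟨t, ht⟩ := (smul_eq_iff g (ptf_ne B) B.fw).1 (hfix _)
  have hef : H.h (B.e + B.f) B.w = 0 := by rw [H.add_left, B.ew, B.fw, add_zero]
  have hef0 : B.e + B.f ≠ 0 := fun e => by
    have := congrArg (fun v => H.h v B.f) e
    simp [H.add_left, B.ef, B.ff, H.zero_left] at this
  obtain ⟨u, hu⟩ := (smul_eq_iff g hef0 hef).1 (hfix _)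
  rw [map_add, hs, ht, smul_add] at hu
  have e1 := congrArg (fun v => H.h v B.f) hu
  have e2 := congrArg (fun v => H.h v B.e) hu
  simp [H.add_left, H.smul_left, B.ef, B.ff, B.fe, B.ee] at e1 e2
  refine ⟨s, fun x hx => ?_⟩
  conv_lhs => rw [planar hd B hx]
  conv_rhs => rw [planar hd B hx]
  rw [map_add, map_smul, map_smul, hs, ht, e2, ← e1]
  simp only [smul_add, smul_smul, mul_comm]

/-- Eigenvalues on an eigenbasis multiply to one. -/
theorem eig_prod (hd : Module.finrank F V = 3) (g : H.SIsom) {a b c : V} {x y z : F}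
    (hli : LinearIndependent F ![a, b, c]) (ha : g.1.1 a = x • a) (hb : g.1.1 b = y • b) (hc : g.1.1 c = z • c) :
    x * y * z = 1 := by
  let bs := basisOfLinearIndependentOfCardEqFinrank hli (by rw [Fintype.card_fin, hd])
  have hbs : ∀ i, bs i = ![a, b, c] i := fun i => by simp [bs]
  have hmat : LinearMap.toMatrix bs bs g.1.1.toLinearMap = Matrix.diagonal ![x, y, z] := by
    ext i j
    rw [LinearMap.toMatrix_apply, hbs, Matrix.diagonal_apply]
    have e : g.1.1.toLinearMap (![a, b, c] j) = ![x, y, z] j • bs j := by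
      rw [hbs]
      fin_cases j <;> simp [ha, hb, hc]
    rw [e, map_smul, bs.repr_self, Finsupp.smul_apply, smul_eq_mul, Finsupp.single_apply]
    by_cases h : i = j
    · subst h; simp
    · simp [h, Ne.symm h]
  have h := det_one g
  rw [← LinearMap.det_toMatrix bs, hmat, Matrix.det_diagonal, Fin.prod_univ_three] at h
  simpa using h

section Twelve

variable (hd : Module.finrank F V = 3) (hσ : ∀ x, H.σ x = x ^ H.q) (hN : NoRoot K) (h2 : (2 : F) ≠ 0)
  (B : Frame H) (hspor : TwoFix.Sporadic 12 3 (rho K B).range (Pl B))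
  (hker : ∀ r, Ratio K B.w r → r ^ 2 = 1)
include hd hσ hN h2 hspor hker

theorem order_le_three (l : (rho K B).range) : orderOf l ≤ 3 := by
  rcases eq_or_ne l 1 with rfl | hl
  · simp
  have h := pairs_line hd hσ hN B l hl
  obtain ⟨⟨p, hp⟩⟩ : Nonempty (MulAction.fixedBy (Pl B) l) := (Nat.card_pos_iff.1 (by rw [h]; norm_num)).1
  calc orderOf l = Nat.card (Subgroup.zpowers l) := (Nat.card_zpowers l).symm
    _ ≤ Nat.card (MulAction.stabilizer (rho K B).range p) :=
      Subgroup.card_le_of_le (Subgroup.zpowers_le.2 hp)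
    _ ≤ 3 := hspor.2.1 p

/-- An element of the line group with scalar square is a scalar or the reflection of the pole, up to a scalar. -/
theorem square_scalar (g : Mg K B) {e : F} (he : ∀ x, g.1.1.1 (g.1.1.1 x) = e • x) :
    ∃ s d : F, g.1.1.1 B.w = d • B.w ∧ (∀ x, H.h x B.w = 0 → g.1.1.1 x = s • x) ∧ s ^ 2 = d ^ 2 := by
  classical
  obtain ⟨d, hgw⟩ := g.2.2
  have hde : d ^ 2 = e := by
    have h := he B.w
    rw [hgw, map_smul, hgw, smul_smul] at h
    have := congrArg (fun v => H.h v B.w) h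
    simp [H.smul_left, B.ww] at this
    rw [pow_two, this]
  by_cases h1 : rho K B g = 1
  · obtain ⟨s, hs⟩ := plane_scalar hd h1
    refine ⟨s, d, hgw, hs, ?_⟩
    have h := he B.e
    rw [hs _ B.ew, map_smul, hs _ B.ew, smul_smul] at h
    have := congrArg (fun v => H.h v B.f) h
    simp [H.smul_left, B.ef] at this
    rw [hde, pow_two, this]
  exfalso
  set L := (rho K B).range
  have hg2 : rho K B (g ^ 2) = 1 := by
    rw [rho_congr hd K B (g := g ^ 2) (k := 1) (a := e) (fun x _ => ?_), map_one]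
    show (g.1 ^ 2).1.1 x = e • (1 : H.SIsom).1.1 x
    rw [pow_two, H.smul_mul_apply]
    exact he x
  set l : L := ⟨rho K B g, ⟨g, rfl⟩⟩
  have hl : l ≠ 1 := fun h => h1 (congrArg Subtype.val h)
  obtain ⟨⟨p₁, hp₁⟩, ⟨p₂, hp₂⟩, hne, -⟩ := Nat.card_eq_two_iff.1 (pairs_line hd hσ hN B l hl)
  induction p₁ using pl_ind with | h a ha0 ha => ?_
  induction p₂ using pl_ind with | h b hb0 hb => ?_
  obtain ⟨α, hα⟩ := (smul_eq_iff g ha0 ha).1 hp₁
  obtain ⟨β, hβ⟩ := (smul_eq_iff g hb0 hb).1 hp₂
  have hnab : ∀ c : F, a ≠ c • b := fun c e => hne (Subtype.ext (plMk_eq_iff.2 ⟨c, e.symm⟩ : plMk B a ha0 ha = plMk B b hb0 hb))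
  have hli : LinearIndependent F ![a, b, B.w] := by
    rw [Fintype.linearIndependent_iff]
    intro c hc
    simp [Fin.sum_univ_three] at hc
    have h := congrArg (fun t => H.h t B.w) hc
    simp [H.add_left, H.smul_left, ha, hb, B.ww, H.zero_left] at h
    rw [h, zero_smul, add_zero] at hc
    have hc0 : c 0 = 0 := by
      by_contra h0
      refine hnab (-(c 1 / c 0)) ?_
      have : a = (c 0)⁻¹ • (c 0 • a) := by rw [smul_smul, inv_mul_cancel₀ h0, one_smul]
      rw [this, eq_neg_of_add_eq_zero_left hc, smul_neg, smul_smul, neg_smul]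
      congr 2
      field_simp
    rw [hc0, zero_smul, zero_add] at hc
    intro i
    fin_cases i
    · exact hc0
    · exact (smul_eq_zero.1 hc).resolve_right hb0
    · exact h
  have hαe : α ^ 2 = e := by
    have h := he a
    rw [hα, map_smul, hα, smul_smul] at h
    rw [pow_two]
    exact smul_left_injective F ha0 h
  have hβe : β ^ 2 = e := by
    have h := he b
    rw [hβ, map_smul, hβ, smul_smul] at h
    rw [pow_two]
    exact smul_left_injective F hb0 h
  have hαβ : β = -α := by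
    rcases sq_eq_sq_iff_eq_or_eq_neg.1 (hβe.trans hαe.symm) with h | h
    · exfalso
      refine h1 ?_
      rw [rho_congr hd K B (g := g) (k := 1) (a := α) (fun x hx => ?_), map_one]
      obtain ⟨c, hc⟩ : ∃ c : Fin 3 → F, ∑ i, c i • ![a, b, B.w] i = x := (Submodule.mem_span_range_iff_exists_fun F).1
        (hli.span_eq_top_of_card_eq_finrank (by rw [Fintype.card_fin, hd]) ▸ Submodule.mem_top)
      simp [Fin.sum_univ_three] at hc
      subst hc
      simp [H.add_left, H.smul_left, ha, hb, B.ww] at hx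
      show g.1.1.1 _ = α • _
      simp only [hx, map_add, map_smul, hα, hβ, h, zero_smul, add_zero, smul_add, smul_smul, mul_comm α,
        Subgroup.coe_one]
      rfl
    · exact h
  have hprod := eig_prod hd g.1 hli hα hβ hgw
  -- the character
  let δ : Mg K B →* Fˣ := (powMonoidHom 3).comp (MonoidHom.toHomUnits
    { toFun := fun m : Mg K B => ed B m.1
      map_one' := by show H.h B.w B.w = 1; exact B.ww
      map_mul' := fun m m' => by
        obtain ⟨d1, e1⟩ := m.2.2
        obtain ⟨d2, e2⟩ := m'.2.2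
        show H.h ((m.1 * m'.1).1.1 B.w) B.w = H.h (m.1.1.1 B.w) B.w * H.h (m'.1.1.1 B.w) B.w
        rw [H.smul_mul_apply, e1, e2, map_smul, e1, smul_smul]
        simp [H.smul_left, B.ww, mul_comm] })
  have hδval : ∀ (m : Mg K B) (d : F), m.1.1.1 B.w = d • B.w → (δ m : F) = d ^ 3 := fun m d hm => by
    show (ed B m.1) ^ 3 = d ^ 3
    rw [ed, hm, H.smul_left, B.ww, mul_one]
  have hle : (rho K B).rangeRestrict.ker ≤ δ.ker := by
    intro m hm
    rw [MonoidHom.ker_rangeRestrict, MonoidHom.mem_ker] at hm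
    obtain ⟨s, hs⟩ := plane_scalar hd hm
    obtain ⟨d', hd'⟩ := m.2.2
    have hd0 : d' ≠ 0 := fun h => H.isom_ne_zero m.1.1 (w_ne B) (by rw [hd', h, zero_smul])
    have hs0 : s ≠ 0 := fun h => H.isom_ne_zero m.1.1 B.e_ne (by rw [hs _ B.ew, h, zero_smul])
    have hr := hker (d' / s) ⟨by rw [B.ww]; exact one_ne_zero, m.1, m.2.1, s,
      by rw [div_mul_cancel₀ _ hs0]; exact hd', hs⟩
    have hli' : LinearIndependent F ![B.e, B.f, B.w] := by
      rw [Fintype.linearIndependent_iff]
      intro c hc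
      simp [Fin.sum_univ_three] at hc
      have e1 := congrArg (fun t => H.h t B.f) hc
      have e2 := congrArg (fun t => H.h t B.e) hc
      have e3 := congrArg (fun t => H.h t B.w) hc
      simp [H.add_left, H.smul_left, B.ef, B.ff, B.wf, B.fe, B.ee, B.we, B.ew, B.fw, B.ww, H.zero_left] at e1 e2 e3
      intro i; fin_cases i <;> assumption
    have hp := eig_prod hd m.1 hli' (hs _ B.ew) (hs _ B.fw) hd'
    rw [MonoidHom.mem_ker]
    refine Units.ext ?_
    rw [hδval m d' hd', Units.val_one]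
    rw [div_pow, div_eq_one_iff_eq (pow_ne_zero _ hs0)] at hr
    linear_combination d' * hr + hp
  let χ : L →* Fˣ := (rho K B).rangeRestrict.liftOfSurjective (rho K B).rangeRestrict_surjective ⟨δ, hle⟩
  have hχ : χ l = δ g := MonoidHom.liftOfRightInverse_comp_apply _ _ _ ⟨δ, hle⟩ g
  have hl2 : l ^ 2 = 1 := Subtype.ext (by show rho K B g ^ 2 = 1; rw [← map_pow, hg2])
  have h3 := char_twelve hspor.1 (order_le_three hd hσ hN h2 B hspor hker) χ hl2
  rw [hχ] at h3
  have hd3 : d ^ 3 = 1 := by rw [← hδval g d hgw, h3, Units.val_one]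
  rw [hαβ] at hprod
  -- `α² = d²` while `-α² = d²`
  have h4 : α ^ 2 * d ^ 3 = -d ^ 2 := by linear_combination -(d ^ 2) * hprod
  rw [hd3, mul_one, hαe, ← hde] at h4
  have hd0 : d ≠ 0 := fun h => by rw [h] at hd3; norm_num at hd3
  exact h2 (mul_right_cancel₀ (pow_ne_zero 2 hd0) (by linear_combination h4))

/-- The reflection of the pole is in the group, and it is isolated, so the group is soluble. -/
theorem solvable_twelve : Group.IsSolvable K := by
  classical
  haveI : Finite H.SIsom := finite_sisom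
  haveI : Fact (Nat.Prime 2) := ⟨Nat.prime_two⟩
  obtain ⟨⟨l, g, rfl⟩, hl⟩ := exists_prime_orderOf_dvd_card' (G := (rho K B).range) 2 (by rw [hspor.1]; norm_num)
  have hg2 : rho K B (g ^ 2) = 1 := by
    rw [map_pow, ← hl]
    exact congrArg Subtype.val (pow_orderOf_eq_one (⟨rho K B g, g, rfl⟩ : (rho K B).range))
  obtain ⟨s, hs⟩ := plane_scalar hd hg2
  obtain ⟨d, hdw⟩ := (g ^ 2).2.2
  have hs0 : s ≠ 0 := fun h => H.isom_ne_zero (g ^ 2).1.1 B.e_ne (by rw [hs _ B.ew, h, zero_smul])
  have hne : s ≠ d := by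
    intro e
    have hsc : ∀ x, g.1.1.1 (g.1.1.1 x) = s • x := fun x => by
      have : (g ^ 2).1.1.1 x = s • x := by
        rw [decomp hd B x]
        simp only [map_add, map_smul, hs _ B.ew, hs _ B.fw, hdw, ← e, smul_add, smul_comm s]
      rwa [Subgroup.coe_pow, pow_two, H.smul_mul_apply] at this
    obtain ⟨s', d', -, hp, -⟩ := square_scalar hd hσ hN h2 B hspor hker g hsc
    have h1 : rho K B g = 1 := by
      rw [rho_congr hd K B (g := g) (k := 1) (a := s') (fun x hx => hp x hx), map_one]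
    have : (⟨rho K B g, g, rfl⟩ : (rho K B).range) = 1 := Subtype.ext h1
    rw [this, orderOf_one] at hl
    omega
  have hd0 : d ≠ 0 := fun h => H.isom_ne_zero (g ^ 2).1.1 (w_ne B) (by rw [hdw, h, zero_smul])
  have hneg : d = -s := by
    have hr := hker (d / s) ⟨by rw [B.ww]; exact one_ne_zero, (g ^ 2).1, (g ^ 2).2.1, s,
      by rw [div_mul_cancel₀ _ hs0]; exact hdw, hs⟩
    rw [div_pow, div_eq_one_iff_eq (pow_ne_zero _ hs0)] at hr
    exact (sq_eq_sq_iff_eq_or_eq_neg.1 hr).resolve_left (fun e => hne e.symm)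
  set r : K := ⟨(g ^ 2).1, (g ^ 2).2.1⟩ with hrdef
  set Z : Subgroup K := (Subgroup.center H.SIsom).subgroupOf K with hZ
  have h2d : 2 ≤ Module.finrank F V := by omega
  have hZmem : ∀ k : K, k ∈ Z ↔ ∃ a : F, ∀ x, k.1.1.1 x = a • x := by
    intro k
    rw [hZ, Subgroup.mem_subgroupOf, H.mem_center_SIsom_iff h2d]
    refine ⟨fun ⟨a, _, _, h⟩ => ⟨a, h⟩, fun ⟨a, h⟩ => ⟨a, ?_, ?_, h⟩⟩
    · have := H.map_form k.1.1 B.w B.w
      rw [h, H.smul_left, H.smul_right, B.ww, mul_one] at this
      exact this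
    · have := det_one k.1
      rw [show k.1.1.1.toLinearMap = a • LinearMap.id from LinearMap.ext h, LinearMap.det_smul, LinearMap.det_id,
        mul_one] at this
      exact this
  haveI hZn : Z.Normal := by rw [hZ]; infer_instance
  -- an element commuting with the reflection up to a scalar fixes the pole
  have hfix : ∀ k : K, r * k * r⁻¹ * k⁻¹ ∈ Z → k.1 ∈ Mg K B := by
    intro k hk
    obtain ⟨a, ha⟩ := (hZmem _).1 hk
    set v := k.1.1.1 B.w with hv
    have e1 : r * k = (r * k * r⁻¹ * k⁻¹) * (k * r) := by group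
    have e2 : r.1.1.1 v = (a * d) • v := by
      have := congrArg (fun t : K => t.1.1.1 B.w) e1
      change r.1.1.1 (k.1.1.1 B.w) = (r * k * r⁻¹ * k⁻¹).1.1.1 (k.1.1.1 (r.1.1.1 B.w)) at this
      rw [hv, this, ha, hrdef]
      show a • k.1.1.1 ((g ^ 2).1.1.1 B.w) = _
      rw [hdw, map_smul, smul_smul]
    have hdec := decomp hd B v
    have hrv : r.1.1.1 v = (H.h v B.f * s) • B.e + (H.h v B.w * d) • B.w + (H.h v B.e * s) • B.f := by
      conv_lhs => rw [hdec]
      show (g ^ 2).1.1.1 _ = _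
      simp only [map_add, map_smul, hs _ B.ew, hs _ B.fw, hdw, smul_smul]
    rw [hrv] at e2
    have c1 := congrArg (fun t => H.h t B.f) e2
    have c2 := congrArg (fun t => H.h t B.w) e2
    have c3 := congrArg (fun t => H.h t B.e) e2
    simp [H.add_left, H.smul_left, B.ef, B.wf, B.ff, B.ew, B.ww, B.fw, B.ee, B.we, B.fe] at c1 c2 c3
    have hvv : H.h v v = 1 := by rw [hv, H.map_form, B.ww]
    refine mem_Mg.2 ⟨k.2, H.h v B.w, ?_⟩
    by_cases hw : H.h v B.w = 0
    · exfalso
      have hnz : H.h v B.f ≠ 0 ∨ H.h v B.e ≠ 0 := by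
        by_contra! h
        rw [h.1, h.2, hw, zero_smul, zero_smul, zero_smul, add_zero, add_zero] at hdec
        rw [hdec, H.zero_left] at hvv
        exact zero_ne_one hvv
      have had : a * d = s := by
        rcases hnz with h | h
        · exact (mul_right_cancel₀ h (by linear_combination c1)).symm
        · exact (mul_right_cancel₀ h (by linear_combination c3)).symm
      -- the scalar is a cube root of unity
      obtain ⟨a', -, ha3, ha'⟩ := (H.mem_center_SIsom_iff h2d).1 (Subgroup.mem_subgroupOf.1 hk)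
      have : a = a' := by
        have h := (ha B.w).symm.trans (ha' B.w)
        exact smul_left_injective F (w_ne B) h
      subst this
      rw [hd] at ha3
      rw [hneg, mul_neg] at had
      have ha1 : a = -1 := mul_right_cancel₀ hs0 (by linear_combination -had)
      rw [ha1] at ha3
      norm_num at ha3
      exact h2 (by linear_combination -ha3)
    · have had : a = 1 := mul_right_cancel₀ hd0 (by
        rw [one_mul]; exact mul_right_cancel₀ hw (by linear_combination -c2))
      rw [had, one_mul] at c1 c3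
      have hsd : s - d ≠ 0 := sub_ne_zero.2 hne
      have e1 : H.h v B.f = 0 := by
        have : (s - d) * H.h v B.f = 0 := by linear_combination c1
        exact (mul_eq_zero.1 this).resolve_left hsd
      have e3 : H.h v B.e = 0 := by
        have : (s - d) * H.h v B.e = 0 := by linear_combination c3
        exact (mul_eq_zero.1 this).resolve_left hsd
      rw [e1, e3, zero_smul, zero_smul, zero_add, add_zero] at hdec
      exact hdec
  set π := QuotientGroup.mk' Z with hπ
  have hrZ : r ∉ Z := fun h => by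
    obtain ⟨a, ha⟩ := (hZmem r).1 h
    have e1 := ha B.e
    have e2 := ha B.w
    rw [show r.1.1.1 B.e = s • B.e from hs _ B.ew] at e1
    rw [show r.1.1.1 B.w = d • B.w from hdw] at e2
    exact hne ((smul_left_injective F B.e_ne e1).trans (smul_left_injective F (w_ne B) e2).symm)
  have hr2 : r * r ∈ Z := by
    refine (hZmem _).2 ⟨s * s, fun x => ?_⟩
    rw [Subgroup.coe_mul, H.smul_mul_apply]
    show (g ^ 2).1.1.1 ((g ^ 2).1.1.1 x) = _
    rw [decomp hd B x]
    simp only [map_add, map_smul, hs _ B.ew, hs _ B.fw, hdw, hneg, smul_add, smul_smul]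
    congr 1
    · congr 1 <;> congr 1 <;> ring
    · congr 1; ring
  have hiso : Cfsg.IsIsolatedInvolution (π r) := by
    refine ⟨orderOf_eq_prime ?_ fun h => hrZ ((QuotientGroup.eq_one_iff r).1 h), fun q hq => ?_⟩
    · rw [← map_pow, pow_two]; exact (QuotientGroup.eq_one_iff _).2 hr2
    obtain ⟨m, rfl⟩ := QuotientGroup.mk'_surjective Z q
    set t := m * r * m⁻¹ with ht
    have hπt : π t = π m * π r * (π m)⁻¹ := by rw [ht, map_mul, map_mul, map_inv]
    rw [← hπt] at hq ⊢
    have hc : r * t * r⁻¹ * t⁻¹ ∈ Z := comm_quot Z hq.eq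
    have htZ : t * t ∈ Z := by
      rw [ht, show m * r * m⁻¹ * (m * r * m⁻¹) = m * (r * r) * m⁻¹ by group]
      exact hZn.conj_mem _ hr2 m
    obtain ⟨e, he⟩ := (hZmem _).1 htZ
    obtain ⟨s', d', hw', hp', hsq⟩ := square_scalar hd hσ hN h2 B hspor hker ⟨t.1, hfix t hc⟩ (e := e)
      fun x => by
        show t.1.1.1 (t.1.1.1 x) = _
        rw [← H.smul_mul_apply]; exact he x
    change t.1.1.1 B.w = d' • B.w at hw'
    have hx : ∀ x, t.1.1.1 x = (H.h x B.f * s') • B.e + (H.h x B.w * d') • B.w + (H.h x B.e * s') • B.f := by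
      intro x
      conv_lhs => rw [decomp hd B x]
      have he' : t.1.1.1 B.e = s' • B.e := hp' _ B.ew
      have hf' : t.1.1.1 B.f = s' • B.f := hp' _ B.fw
      simp only [map_add, map_smul, he', hf', hw', smul_smul]
    rcases sq_eq_sq_iff_eq_or_eq_neg.1 hsq with h | h
    · exfalso
      have htmem : t ∈ Z := (hZmem t).2 ⟨s', fun x => by
        rw [hx x, ← h]
        conv_rhs => rw [decomp hd B x]
        simp only [smul_add, smul_smul, mul_comm s']⟩
      rw [ht] at htmem
      have := hZn.conj_mem _ htmem m⁻¹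
      rw [show m⁻¹ * (m * r * m⁻¹) * m⁻¹⁻¹ = r by group] at this
      exact hrZ this
    · refine (QuotientGroup.eq).2 ((hZmem _).2 ⟨s / s', fun x => ?_⟩)
      have hs'0 : s' ≠ 0 := fun h0 => by
        have := hp' _ B.ew
        rw [h0, zero_smul] at this
        exact H.isom_ne_zero t.1.1 B.e_ne this
      rw [Subgroup.coe_mul, H.smul_mul_apply]
      have hinv : t.1.1.1 ((t⁻¹).1.1.1 (r.1.1.1 x)) = r.1.1.1 x := H.apply_inv_self t.1.1 _
      refine t.1.1.1.injective ?_
      rw [hinv, map_smul, hx]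
      have hrx : r.1.1.1 x = (H.h x B.f * s) • B.e + (H.h x B.w * d) • B.w + (H.h x B.e * s) • B.f := by
        conv_lhs => rw [decomp hd B x]
        show (g ^ 2).1.1.1 _ = _
        simp only [map_add, map_smul, hs _ B.ew, hs _ B.fw, hdw, smul_smul]
      rw [hrx, hneg]
      simp only [smul_add, smul_smul, h]
      have hd'0 : d' ≠ 0 := fun e => hs'0 (by rw [h, e, neg_zero])
      congr 1
      · congr 1
        · congr 1; field_simp
        · congr 1; field_simp
      · congr 1; field_simp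
  -- the centraliser is soluble
  set T := Subgroup.comap π (Subgroup.centralizer ({π r} : Set (K ⧸ Z)))
  have hT : ∀ k ∈ T, k.1 ∈ Mg K B := by
    intro k hk
    refine hfix k ?_
    exact comm_quot Z (Subgroup.mem_centralizer_singleton_iff.1 hk).symm
  haveI hMsol : Group.IsSolvable (Mg K B) := by
    haveI : Group.IsSolvable (rho K B).range :=
      Cfsg.Lib.Presentations.isSolvable_of_card_lt_sixty _ _ rfl (by rw [hspor.1]; norm_num)
    haveI : Group.IsSolvable (rho K B).ker := by
      refine Group.isSolvable_of_comm fun a b => Subtype.ext (Subtype.ext (H.sisom_ext fun x => ?_))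
      obtain ⟨sa, ha⟩ := plane_scalar hd (MonoidHom.mem_ker.1 a.2)
      obtain ⟨sb, hb⟩ := plane_scalar hd (MonoidHom.mem_ker.1 b.2)
      obtain ⟨da, hda⟩ := a.1.2.2
      obtain ⟨db, hdb⟩ := b.1.2.2
      show (a.1.1 * b.1.1).1.1 x = (b.1.1 * a.1.1).1.1 x
      rw [H.smul_mul_apply, H.smul_mul_apply, decomp hd B x]
      simp only [map_add, map_smul, ha _ B.ew, ha _ B.fw, hb _ B.ew, hb _ B.fw, hda, hdb, smul_smul,
        mul_assoc, mul_comm sb, mul_comm db]
    exact Group.isSolvable_of_ker_le_range (rho K B).ker.subtype (rho K B).rangeRestrict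
      (by rw [MonoidHom.ker_rangeRestrict, Subgroup.range_subtype])
  haveI : Group.IsSolvable T :=
    Group.isSolvable_of_isSolvable_injective
      (f := (((Subgroup.subtype K).comp T.subtype).codRestrict (Mg K B) fun k => hT k.1 k.2))
      fun a b h => by
        have h' : a.1.1 = b.1.1 := congrArg (fun m : Mg K B => m.1) h
        exact Subtype.ext (Subtype.ext h')
  haveI : Group.IsSolvable (Subgroup.centralizer ({π r} : Set (K ⧸ Z))) :=
    Group.isSolvable_of_surjective (π.subgroupComap_surjective_of_surjective _ (QuotientGroup.mk'_surjective Z))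
  haveI := solvable_of_isolated hiso this
  haveI : Group.IsSolvable Z := by
    refine Group.isSolvable_of_comm fun a b => Subtype.ext (Subtype.ext ?_)
    exact (Subgroup.mem_center_iff.1 (Subgroup.mem_subgroupOf.1 a.2) b.1.1).symm
  exact Group.isSolvable_of_ker_le_range Z.subtype π (by rw [hπ, QuotientGroup.ker_mk', Subgroup.range_subtype])

end Twelve

/-- Homologies of order more than two force a soluble group, a fixed point or an invariant triangle. -/
theorem case_one (hd : Module.finrank F V = 3) (hσ : ∀ x, H.σ x = x ^ H.q) (hN : NoRoot K) (h2 : (2 : F) ≠ 0)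
    (hns : ¬ Group.IsSolvable K)
    (hinv : ∀ S : Set (ℙ F V), S.Nonempty → (∀ P ∈ S, H.h P.rep P.rep ≠ 0) →
      (∀ P ∈ S, ∀ Q ∈ S, P ≠ Q → H.h P.rep Q.rep = 0) →
      ∃ k ∈ K, ∃ P ∈ S, Projectivization.mk F (k.1.1 P.rep) (H.isom_ne_zero k.1 P.rep_nonzero) ∉ S)
    {z : V} {r : F} (hz : Ratio K z r) : r ^ 2 = 1 := by
  classical
  by_contra hr2
  have hord : 3 ≤ orderOf r := by
    have hr0 := (hz.scalar_ne hd).1
    have hpos : 0 < orderOf r := by
      rw [← Units.val_mk0 hr0, orderOf_units]; exact orderOf_pos _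
    have h1 : ¬ orderOf r ∣ 2 := fun h => hr2 (orderOf_dvd_iff_pow_eq_one.1 h)
    rcases Nat.lt_or_ge (orderOf r) 3 with h | h
    · interval_cases orderOf r <;> norm_num at h1
    · exact h
  obtain ⟨k, hk, hCne, hlast⟩ : ∃ k, (k = 4 ∨ k = 3 ∨ (k.Prime ∧ 5 ≤ k)) ∧ (∃ z, IsC K k z) ∧
      (k = 3 → ∀ z r, Ratio K z r → orderOf r ≠ 4 ∧ ∀ p, p.Prime → 5 ≤ p → orderOf r ≠ p) := by
    by_cases h : ∃ k, (k = 4 ∨ (k.Prime ∧ 5 ≤ k)) ∧ ∃ z, IsC K k z
    · obtain ⟨k, hk, hC⟩ := h
      exact ⟨k, by tauto, hC, fun e => by subst e; rcases hk with h | ⟨-, h⟩ <;> omega⟩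
    · push Not at h
      obtain ⟨j, k, hjk, hk⟩ := exists_pow_order hord
      rcases hk with hk | hk | hk
      · exact absurd ⟨r ^ j, hz.pow j, hjk⟩ (h k (Or.inl hk) z)
      · refine ⟨3, Or.inr (Or.inl rfl), ⟨z, r ^ j, hz.pow j, hjk.trans hk⟩, fun _ z r hr =>
          ⟨fun e => h 4 (Or.inl rfl) z ⟨r, hr, e⟩, fun p hp h5 e => h p (Or.inr ⟨hp, h5⟩) z ⟨r, hr, e⟩⟩⟩
      · exact absurd ⟨r ^ j, hz.pow j, hjk⟩ (h k (Or.inr hk) z)
  have hk3 : 3 ≤ k := by rcases hk with h | h | ⟨-, h⟩ <;> omega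
  have hmap : ∀ {x : V}, IsC K k x → ∀ {m : H.SIsom}, m ∈ K → IsC K k (m.1.1 x) :=
    fun ⟨r, hr, h⟩ _ hm => ⟨r, hr.map hm, h⟩
  have hsm : ∀ {x : V}, IsC K k x → ∀ {c : F}, c ≠ 0 → IsC K k (c • x) :=
    fun ⟨r, hr, h⟩ _ hc => ⟨r, hr.smul hc, h⟩
  have haniso : ∀ {x : V}, IsC K k x → H.h x x ≠ 0 := fun ⟨_, hr, _⟩ => hr.1
  -- two centres on a line give the pole
  have hpole : ∀ x y v, IsC K k x → IsC K k y → (∀ c : F, y ≠ c • x) → v ≠ 0 → H.h v x = 0 → H.h v y = 0 →
      IsC K k v := by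
    intro x y v hx hy hne hv0 hvx hvy
    by_cases hxy : H.h x y = 0
    · exact hx.third hd (by omega) hy hxy hv0 hvx hvy
    obtain ⟨B, x', hx'0, hxw, hyw, hx'w, hx'x, n, m, hkm, hnm, hspor, -⟩ :=
      chord_cases hd hσ hN hk3 (hx.hc hd) (hy.hc hd) hxy hne
    obtain ⟨c, hc, hcv⟩ : ∃ c : F, c ≠ 0 ∧ v = c • B.w := by
      have hx0 : x ≠ 0 := fun e => haniso hx (by rw [e, H.zero_left])
      set t := v - H.h v B.w • B.w with ht
      have htw : H.h t B.w = 0 := by rw [ht, H.sub_left, H.smul_left, B.ww, mul_one, sub_self]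
      have htx : H.h t x = 0 := by
        rw [ht, H.sub_left, H.smul_left, hvx, H.eq_zero_symm hxw, mul_zero, sub_zero]
      have hty : H.h t y = 0 := by
        rw [ht, H.sub_left, H.smul_left, hvy, H.eq_zero_symm hyw, mul_zero, sub_zero]
      obtain ⟨c1, hc1⟩ := line_perp hd B (haniso hx) hxw htw htx hx'w hx'x hx'0
      have htv : t = 0 := by
        rw [hc1] at hty ⊢
        rw [H.smul_left] at hty
        rcases mul_eq_zero.1 hty with h | h
        · rw [h, zero_smul]
        · exfalso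
          obtain ⟨hx'x', hspan⟩ := orth_three hd (haniso hx) (by rw [B.ww]; exact one_ne_zero) hx'0 hxw hx'x hx'w
          obtain ⟨a, b, e, hy'⟩ := hspan y
          have h1 : e = 0 := by
            have := H.eq_zero_symm h
            rw [hy', H.add_left, H.add_left, H.smul_left, H.smul_left, H.smul_left, H.eq_zero_symm hx'x,
              H.eq_zero_symm hx'w, mul_zero, mul_zero, zero_add, zero_add] at this
            exact (mul_eq_zero.1 this).resolve_right hx'x'
          have h2 : b = 0 := by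
            rw [hy', H.add_left, H.add_left, H.smul_left, H.smul_left, H.smul_left, hxw, hx'w, B.ww] at hyw
            linear_combination hyw
          exact hne a (by rw [hy', h1, h2, zero_smul, zero_smul, add_zero, add_zero])
      refine ⟨H.h v B.w, fun e => hv0 ?_, sub_eq_zero.1 htv⟩
      rw [sub_eq_zero.1 htv, e, zero_smul]
    rw [hcv]
    refine hsm ?_ hc
    by_cases hn : n = 12
    · by_contra hw
      rcases hnm with ⟨-, hm⟩ | ⟨h, -⟩ | ⟨h, -⟩
      swap; · omega
      swap; · omega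
      subst hn hm
      have hk' : k = 3 := by omega
      refine hns (solvable_twelve hd hσ hN h2 B hspor fun r' hr' => ?_)
      by_contra hr'2
      have hr'0 := (hr'.scalar_ne hd).1
      have hord' : 3 ≤ orderOf r' := by
        have hpos : 0 < orderOf r' := by
          rw [← Units.val_mk0 hr'0, orderOf_units]; exact orderOf_pos _
        have h1 : ¬ orderOf r' ∣ 2 := fun h => hr'2 (orderOf_dvd_iff_pow_eq_one.1 h)
        rcases Nat.lt_or_ge (orderOf r') 3 with h | h
        · interval_cases orderOf r' <;> norm_num at h1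
        · exact h
      obtain ⟨j, i, hji, hi⟩ := exists_pow_order hord'
      obtain ⟨h4, h5⟩ := hlast hk' _ _ (hr'.pow j)
      rcases hi with hi | hi | ⟨hi, hi5⟩
      · exact h4 (hji.trans hi)
      · exact hw ⟨_, hr'.pow j, hji.trans (hi.trans hk'.symm)⟩
      · exact h5 i hi hi5 hji
    · have hxx := haniso hx
      have hx00 : x ≠ 0 := fun e => hxx (by rw [e, H.zero_left])
      have s1 := hom_stab hd (by omega) (hx.hc hd) B hxw x hx00 hxw (Or.inr ⟨1, (one_smul _ _).symm⟩)
      have hsame : Nat.card (MulAction.stabilizer (rho K B).range (plMk B x hx00 hxw)) =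
          Nat.card (MulAction.stabilizer (rho K B).range (plMk B x' hx'0 hx'w)) := by
        have e : MulAction.stabilizer (rho K B).range (plMk B x hx00 hxw) =
            MulAction.stabilizer (rho K B).range (plMk B x' hx'0 hx'w) := by
          ext ⟨r, m, rfl⟩
          rw [MulAction.mem_stabilizer_iff, MulAction.mem_stabilizer_iff]
          show m • plMk B x hx00 hxw = plMk B x hx00 hxw ↔ m • plMk B x' hx'0 hx'w = plMk B x' hx'0 hx'w
          rw [smul_eq_iff, smul_eq_iff]
          exact perp_eig hd B m.1 m.2.2.choose_spec hxw hx'w hxx hx'x hx'0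
        rw [e]
      obtain ⟨⟨_, g, rfl⟩, hg⟩ := hspor.2.2 hn (plMk B x hx00 hxw) (plMk B x' hx'0 hx'w) (by omega) hsame
      change g • plMk B x hx00 hxw = plMk B x' hx'0 hx'w at hg
      rw [smul_plMk, plMk_eq_iff] at hg
      obtain ⟨t, ht⟩ := hg
      have ht0 : t ≠ 0 := fun e => by
        rw [e, zero_smul] at ht
        exact H.isom_ne_zero g.1.1 hx00 ht.symm
      have hx'C : IsC K k x' := by
        have := hsm (hmap hx g.2.1) (inv_ne_zero ht0)
        rwa [← ht, inv_smul_smul₀ ht0] at this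
      exact hx.third hd (by omega) hx'C (H.eq_zero_symm hx'x) (w_ne B) (H.eq_zero_symm hxw) (H.eq_zero_symm hx'w)
  -- the graph
  let α := {P : ℙ F V // IsC K k P.rep}
  have hproj : ∀ (x : V) (hx : x ≠ 0), IsC K k x → IsC K k (Projectivization.mk F x hx).rep := fun x hx h => by
    obtain ⟨a, ha⟩ := Projectivization.exists_smul_eq_mk_rep F x hx
    rw [← ha, Units.smul_def]
    exact hsm h a.ne_zero
  haveI : Finite V := Module.finite_of_finite F
  haveI : Nonempty α := by
    obtain ⟨z, hz⟩ := hCne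
    have hz0 : z ≠ 0 := fun e => haniso hz (by rw [e, H.zero_left])
    exact ⟨⟨_, hproj z hz0 hz⟩⟩
  let R : α → α → Prop := fun P Q => H.h P.1.rep Q.1.rep = 0
  have hrep : ∀ (x : V) (hx : x ≠ 0) (t : V), H.h (Projectivization.mk F x hx).rep t = 0 ↔ H.h x t = 0 :=
    fun x hx t => by
      obtain ⟨a, ha⟩ := Projectivization.exists_smul_eq_mk_rep F x hx
      rw [← ha, Units.smul_def, H.smul_left, mul_eq_zero]
      simp [a.ne_zero]
  have hfr : ∀ P Q : α, P ≠ Q → ∃! c, R P c ∧ R Q c := by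
    intro P Q hPQ
    have hne : ∀ c : F, Q.1.rep ≠ c • P.1.rep := fun c hc => hPQ (Subtype.ext (by
      have hc0 : c ≠ 0 := fun e => Q.1.rep_nonzero (by rw [hc, e, zero_smul])
      rw [← Projectivization.mk_rep P.1, ← Projectivization.mk_rep Q.1, Projectivization.mk_eq_mk_iff']
      exact ⟨c⁻¹, by rw [hc, inv_smul_smul₀ hc0]⟩))
    set W := Submodule.span F ({P.1.rep, Q.1.rep} : Set V) with hW
    have hW2 : Module.finrank F W = 2 := by
      have hli : LinearIndependent F ![P.1.rep, Q.1.rep] :=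
        (LinearIndependent.pair_iff' P.1.rep_nonzero).2 fun c => (hne c).symm
      rw [hW, ← Matrix.range_cons_cons_empty P.1.rep Q.1.rep ![], finrank_span_eq_card hli, Fintype.card_fin]
    have hO : Module.finrank F (H.orth W) = 1 := by rw [H.finrank_orth, hd, hW2]
    haveI := Module.nontrivial_of_finrank_pos (R := F) (show 0 < Module.finrank F (H.orth W) by omega)
    obtain ⟨⟨v, hv⟩, hv0⟩ := exists_ne (0 : H.orth W)
    have hv0' : v ≠ 0 := fun e => hv0 (Subtype.ext e)
    have hvP := H.mem_orth_span.1 hv P.1.rep (Or.inl rfl)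
    have hvQ := H.mem_orth_span.1 hv Q.1.rep (Or.inr rfl)
    refine ⟨⟨_, hproj v hv0' (hpole _ _ v P.2 Q.2 hne hv0' hvP hvQ)⟩,
      ⟨H.eq_zero_symm ((hrep v hv0' _).2 hvP), H.eq_zero_symm ((hrep v hv0' _).2 hvQ)⟩, ?_⟩
    rintro ⟨c, hc⟩ ⟨hcP, hcQ⟩
    refine Subtype.ext ?_
    have hmem : c.rep ∈ H.orth W := H.mem_orth_span.2 (by
      rintro t (rfl | rfl)
      · exact H.eq_zero_symm hcP
      · exact H.eq_zero_symm hcQ)
    obtain ⟨a, ha⟩ := (finrank_eq_one_iff_of_nonzero' (⟨v, hv⟩ : H.orth W) hv0).1 hO ⟨_, hmem⟩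
    show c = _
    rw [← Projectivization.mk_rep c, Projectivization.mk_eq_mk_iff']
    exact ⟨a, congrArg Subtype.val ha⟩
  have hRs : ∀ P Q, R P Q → R Q P := fun P Q h => H.eq_zero_symm h
  have hRi : ∀ P, ¬ R P P := fun P h => haniso P.2 h
  obtain ⟨hub, hhub⟩ := friendship R hRs hRi hfr
  let act : H.SIsom → ∀ P : α, ℙ F V := fun m P =>
    Projectivization.mk F (m.1.1 P.1.rep) (H.isom_ne_zero m.1 P.1.rep_nonzero)
  have hact : ∀ m ∈ K, ∀ P, IsC K k (act m P).rep := fun m hm P => hproj _ _ (hmap P.2 hm)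
  have hRact : ∀ m P Q, ∀ hP hQ, R ⟨act m P, hP⟩ ⟨act m Q, hQ⟩ ↔ R P Q := fun m P Q hP hQ => by
    show H.h (act m P).rep (act m Q).rep = 0 ↔ _
    rw [hrep]
    constructor
    · intro h
      have := H.eq_zero_symm h
      rw [hrep, H.map_form] at this
      exact H.eq_zero_symm this
    · intro h
      refine H.eq_zero_symm ((hrep _ _ _).2 ?_)
      rw [H.map_form]
      exact H.eq_zero_symm h
  by_cases hfixed : ∀ m ∈ K, act m hub = hub.1
  · obtain ⟨m, hm, P, hP, hout⟩ := hinv {hub.1} (Set.singleton_nonempty _) (by rintro P rfl; exact haniso hub.2)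
      (by rintro P rfl Q rfl h; exact absurd rfl h)
    rw [Set.mem_singleton_iff] at hP
    subst hP
    exact hout (hfixed m hm)
  push Not at hfixed
  obtain ⟨m, hm, hmne⟩ := hfixed
  set hub' : α := ⟨act m hub, hact m hm hub⟩
  have hne' : hub' ≠ hub := fun e => hmne (congrArg Subtype.val e)
  -- the image is a hub too
  have hhub' : ∀ w, w ≠ hub' → R hub' w := by
    intro w hw
    set u : α := ⟨act m⁻¹ w, hact _ (inv_mem hm) w⟩ with hu
    have hback : act m u = w.1 := by
      show Projectivization.mk F (m.1.1 (act m⁻¹ w).rep) _ = _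
      rw [← Projectivization.mk_rep w.1, Projectivization.mk_eq_mk_iff']
      obtain ⟨a, ha⟩ := Projectivization.exists_smul_eq_mk_rep F ((m⁻¹).1.1 w.1.rep)
        (H.isom_ne_zero (m⁻¹).1 w.1.rep_nonzero)
      refine ⟨(a : F), ?_⟩
      show (a : F) • w.1.rep = m.1.1 _
      rw [← ha, Units.smul_def, map_smul]
      exact congrArg _ (H.apply_inv_self m.1 _).symm
    have huh : u ≠ hub := fun e => hw (Subtype.ext (by rw [← hback, e]))
    have := (hRact m hub u (hact m hm hub) (hact m hm u)).2 (hhub u huh)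
    rwa [show (⟨act m u, hact m hm u⟩ : α) = w from Subtype.ext hback] at this
  have hpair : ∀ P Q : α, P ≠ Q → R P Q := by
    intro P Q hPQ
    by_cases h1 : P = hub
    · subst h1; exact hhub Q hPQ.symm
    by_cases h2 : P = hub'
    · subst h2; exact hhub' Q hPQ.symm
    by_cases h3 : Q = hub
    · subst h3; exact hRs _ _ (hhub P hPQ)
    by_cases h4 : Q = hub'
    · subst h4; exact hRs _ _ (hhub' P hPQ)
    obtain ⟨c, -, huniq⟩ := hfr hub hub' hne'.symm
    exact absurd ((huniq P ⟨hhub P h1, hhub' P h2⟩).trans (huniq Q ⟨hhub Q h3, hhub' Q h4⟩).symm) hPQ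
  obtain ⟨m', hm', P, hP, hout⟩ := hinv {P | IsC K k P.rep} ⟨hub.1, hub.2⟩ (fun P hP => haniso hP)
    fun P hP Q hQ h => hpair ⟨P, hP⟩ ⟨Q, hQ⟩ fun e => h (congrArg Subtype.val e)
  exact hout (hact m' hm' ⟨P, hP⟩)

end Cfsg.Lib.Classical.SUThree
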