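import Cfsg.Agent.Classical.SUThree.Line
import Cfsg.Agent.Known.PSUThree.Torus

/-!
The centres of the transvections in a subgroup of a three-dimensional special unitary group: they form one orbit,
and the unipotent part of a point stabiliser is semiregular on the others and small.
-/

set_option autoImplicit false
set_option linter.unusedSectionVars false
set_option linter.style.haveILetI false
set_option maxHeartbeats 1000000

namespace Cfsg.Lib.Classical.SUThree

open Cfsg.Lib.Classical Cfsg.Lib.Components.UnitaryThree Cfsg.Lib.Known.PSUThree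

universe u v

variable {F : Type u} [Field F] [Finite F] {V : Type v} [AddCommGroup V] [Module F V]
  [FiniteDimensional F V] {H : HermSpace F V}

/-- The isotropic points with a non-trivial root element in the group. -/
def Cn (K : Subgroup H.SIsom) : Set H.IsoPt := {P | ∃ g, g ∈ K ∧ g ≠ 1 ∧ g ∈ H.rootGroup P.2}

theorem root_pt (B : Frame H) : H.rootGroup (pt B).2 = H.rootGroup B.ee := by
  obtain ⟨a, ha⟩ := Projectivization.exists_smul_eq_mk_rep F B.e B.e_ne
  exact H.rootGroup_eq_of_smul B.ee (pt B).2 a.ne_zero (by rw [← Units.smul_def, ha]; rfl)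

theorem mem_Cn {K : Subgroup H.SIsom} {B : Frame H} : pt B ∈ Cn K ↔ Ag K B ≠ ⊥ := by
  rw [Subgroup.ne_bot_iff_exists_ne_one]
  show (∃ g, g ∈ K ∧ g ≠ 1 ∧ g ∈ H.rootGroup (pt B).2) ↔ ∃ a : Ag K B, a ≠ 1
  rw [root_pt]
  exact ⟨fun ⟨g, h1, h2, h3⟩ => ⟨⟨g, h1, h3⟩, fun h => h2 (congrArg Subtype.val h)⟩,
    fun ⟨a, ha⟩ => ⟨a.1, a.2.1, fun h => ha (Subtype.ext h), a.2.2⟩⟩

theorem Ag_le_Ng (K : Subgroup H.SIsom) (B : Frame H) : Ag K B ≤ Ng K B :=
  inf_le_inf_left K (root_le_fixE B).1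

theorem ptf_ne (B : Frame H) : B.f ≠ 0 := fun h => by
  have := B.ef
  rw [h, H.zero_right] at this
  exact zero_ne_one this

/-- The point of the last vector. -/
noncomputable def ptf (B : Frame H) : H.IsoPt := H.isoMk B.f (ptf_ne B) B.ff

/-- A transvection with non-zero parameter is not trivial. -/
theorem sT_ne_one {v : V} (hv : H.h v v = 0) (hv0 : v ≠ 0) {c : F} (hc : c + H.σ c = 0) (hc0 : c ≠ 0) :
    H.sT hv hc ≠ 1 := by
  intro h
  refine hv0 (H.nondeg v fun t => ?_)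
  have e : (H.sT hv hc).1.1 t = t := by rw [h]; rfl
  rw [H.sT_apply, add_eq_left, smul_eq_zero, mul_eq_zero] at e
  exact (e.resolve_right hv0).resolve_left hc0

variable (K : Subgroup H.SIsom)

theorem smul_mem_Cn {P : H.IsoPt} (hP : P ∈ Cn K) {g : H.SIsom} (hg : g ∈ K) : g • P ∈ Cn K := by
  induction P using H.isoPt_ind with | h x hx hxx => ?_
  obtain ⟨a, ha, ha1, har⟩ := hP
  obtain ⟨b, hb⟩ := Projectivization.exists_smul_eq_mk_rep F x hx
  rw [H.rootGroup_eq_of_smul hxx (H.isoMk x hx hxx).2 b.ne_zero (by rw [← Units.smul_def, hb]; rfl)] at har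
  obtain ⟨c, hc, e⟩ := har
  refine ⟨g * a * g⁻¹, K.mul_mem (K.mul_mem hg ha) (K.inv_mem hg), fun h => ha1 (conj_eq_one_iff.1 h), ?_⟩
  rw [HermSpace.smul_isoMk]
  have hgx : g.1.1 x ≠ 0 := H.isom_ne_zero g.1 hx
  obtain ⟨b', hb'⟩ := Projectivization.exists_smul_eq_mk_rep F (g.1.1 x) hgx
  rw [H.rootGroup_eq_of_smul (v := g.1.1 x) (by rw [H.map_form, hxx])
    (H.isoMk (g.1.1 x) hgx (by rw [H.map_form, hxx])).2 b'.ne_zero (by rw [← Units.smul_def, hb']; rfl)]
  rw [show a = H.sT hxx hc from Subtype.ext e, H.sT_conj]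
  exact ⟨c, hc, rfl⟩

variable (hd : Module.finrank F V = 3)
include hd

/-- The centres form one orbit, and it contains the fixed point of every unipotent element. -/
theorem Cn_orbit {B : Frame H} (hB : pt B ∈ Cn K) {B' : Frame H} (h : Ng K B' ≠ ⊥) :
    pt B' ∈ Cn K ∧ ∃ g ∈ K, g • pt B = pt B' := by
  obtain ⟨p, hp⟩ := CharP.exists F
  haveI : Fact p.Prime := ⟨CharP.char_is_prime F p⟩
  have hN : Ng K B ≠ ⊥ := fun e => mem_Cn.1 hB (eq_bot_iff.2 (e ▸ Ag_le_Ng K B))
  have hin : pt B' ∈ MulAction.orbit K (pt B) := by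
    by_contra hout
    have h1 := (orbit_mod K hd B p hN (pt B)).1 (MulAction.mem_orbit_self _)
    have h0 := (orbit_mod K hd B' p h (pt B)).2 hout
    have h2 := h0.symm.trans h1
    rw [Nat.modEq_iff_dvd' (Nat.zero_le 1)] at h2
    exact (Fact.out : p.Prime).one_lt.ne' (Nat.dvd_one.1 h2)
  obtain ⟨g, hg⟩ := hin
  exact ⟨hg ▸ smul_mem_Cn K hB g.2, g.1, g.2, hg⟩

theorem Cn_trans {P Q : H.IsoPt} (hP : P ∈ Cn K) (hQ : Q ∈ Cn K) : ∃ g ∈ K, g • P = Q := by
  obtain ⟨B, rfl⟩ := exists_frame_pt hd P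
  obtain ⟨B', rfl⟩ := exists_frame_pt hd Q
  exact (Cn_orbit K hd hP fun e => mem_Cn.1 hQ (eq_bot_iff.2 (e ▸ Ag_le_Ng K B'))).2

theorem mem_fixE_of_pow {B : Frame H} {x : H.SIsom} (hx : x ∈ stE B) (p n : ℕ) [Fact p.Prime] [CharP F p]
    (h : x ^ p ^ n = 1) : x ∈ fixE B := by
  have hpow : ∀ m, ea B (x ^ m) = ea B x ^ m := by
    intro m
    induction m with
    | zero => rw [pow_zero, pow_zero]; exact B.ef
    | succ m ih => rw [pow_succ, ea_mul hd B (pow_mem hx m) hx, ih, pow_succ]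
  have h1 : ea B x ^ p ^ n = 1 := by rw [← hpow, h]; exact B.ef
  have h2 : (ea B x - 1) ^ p ^ n = 0 := by rw [sub_pow_char_pow, one_pow, h1, sub_self]
  obtain ⟨he, -⟩ := coords hd B hx
  show x.1.1 B.e = B.e
  rw [he, sub_eq_zero.1 (pow_eq_zero_iff (pow_ne_zero n (Fact.out : p.Prime).ne_zero) |>.1 h2), one_smul]

/-- The fixed point of a unipotent element is a centre. -/
theorem fixed_mem_Cn {B : Frame H} (hB : pt B ∈ Cn K) {x : H.SIsom} (hx : x ∈ K) (hx1 : x ≠ 1) (p n : ℕ)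
    [Fact p.Prime] [CharP F p] (h : x ^ p ^ n = 1) {P : H.IsoPt} (hP : x • P = P) : P ∈ Cn K := by
  obtain ⟨B', rfl⟩ := exists_frame_pt hd P
  refine (Cn_orbit K hd hB fun e => hx1 ?_).1
  exact (Subgroup.eq_bot_iff_forall _).1 e x ⟨hx, mem_fixE_of_pow hd (MulAction.mem_stabilizer_iff.2 hP) p n h⟩

omit hd in
theorem pt_ne_iff {B : Frame H} {x : V} (hx : x ≠ 0) (hxx : H.h x x = 0) :
    H.isoMk x hx hxx = pt B ↔ ∃ c : F, c • B.e = x := by
  rw [pt, HermSpace.isoMk_eq_iff]

/-- Distinct isotropic points are not orthogonal. -/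
theorem h_ne {B : Frame H} {x : V} (hx : x ≠ 0) (hxx : H.h x x = 0) (hne : H.isoMk x hx hxx ≠ pt B) :
    H.h x B.e ≠ 0 := fun h => hne ((pt_ne_iff hx hxx).2 ⟨_, (iso_orth hd B hxx h).symm⟩)

/-- A frame through two distinct points. -/
theorem exists_pair_frame (B : Frame H) {Q : H.IsoPt} (hne : Q ≠ pt B) :
    ∃ C : Frame H, C.e = B.e ∧ ptf C = Q := by
  induction Q using H.isoPt_ind with | h x hx hxx => ?_
  obtain ⟨C, hC, a, ha, hf⟩ := exists_frame_pair hd B.ee hxx (fun h => h_ne hd hx hxx hne (H.eq_zero_symm h))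
  refine ⟨C, hC, ?_⟩
  rw [ptf, HermSpace.isoMk_eq_iff]
  exact ⟨a, hf.symm⟩

/-- An irreducible group has at least two centres. -/
theorem exists_two_Cn (hI : Irr K) (h : (Cn K).Nonempty) :
    ∃ B : Frame H, pt B ∈ Cn K ∧ ptf B ∈ Cn K := by
  obtain ⟨P, hP⟩ := h
  obtain ⟨B, rfl⟩ := exists_frame_pt hd P
  by_cases hall : ∀ g ∈ K, g • pt B = pt B
  · exfalso
    rcases hI (Submodule.span F {B.e}) (fun g hg x hx => by
      obtain ⟨a, ha⟩ := mem_stE.1 (MulAction.mem_stabilizer_iff.2 (hall g hg))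
      rw [Submodule.mem_span_singleton] at hx ⊢
      obtain ⟨c, rfl⟩ := hx
      exact ⟨c * a, by rw [map_smul, ha, smul_smul]⟩) with e | e
    · exact B.e_ne (Submodule.span_singleton_eq_bot.1 e)
    · have := congrArg (fun W : Submodule F V => Module.finrank F W) e
      simp [finrank_span_singleton B.e_ne, hd] at this
  push Not at hall
  obtain ⟨g, hg, hne⟩ := hall
  obtain ⟨C, hC, hCf⟩ := exists_pair_frame hd B hne
  refine ⟨C, ?_, hCf ▸ smul_mem_Cn K hP hg⟩
  rwa [show pt C = pt B from pt_eq_iff.2 ⟨1, one_ne_zero, by rw [one_smul, hC]⟩]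

variable (B : Frame H)

/-- The translation parts. -/
noncomputable def ebHom : Ng K B →* Multiplicative F :=
  MonoidHom.mk' (fun x => Multiplicative.ofAdd (eb B x.1)) fun x y => by
    show Multiplicative.ofAdd (eb B (x.1 * y.1)) = _
    rw [(eb_mul hd B x.2.2 y.2.2).1]
    rfl

theorem card_Ng : Nat.card (Ng K B) = Nat.card (Ag K B) * Nat.card (ebHom K hd B).range := by
  have hker : (ebHom K hd B).ker = (Ag K B).subgroupOf (Ng K B) := by
    ext x
    rw [MonoidHom.mem_ker, Subgroup.mem_subgroupOf]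
    constructor
    · intro h
      exact ⟨x.2.1, mem_root_of_eb hd B x.2.2 (Multiplicative.ofAdd.injective (h.trans ofAdd_zero.symm))⟩
    · intro h
      show Multiplicative.ofAdd (eb B x.1) = 1
      rw [(root_le_fixE B).2 _ h.2]
      rfl
  rw [← Subgroup.index_ker, hker, ← Nat.card_congr (Subgroup.subgroupOfEquivOfLe (Ag_le_Ng K B)).toEquiv,
    Subgroup.card_mul_index]

/-- Commutators of the unipotent part. -/
theorem comm_mem {x y : H.SIsom} (hx : x ∈ Ng K B) (hy : y ∈ Ng K B) :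
    ∃ c ∈ Ag K B, ec B c = H.σ (eb B x) * eb B y - H.σ (eb B y) * eb B x := by
  have hc : x * y * (y * x)⁻¹ ∈ Ng K B := mul_mem (mul_mem hx hy) (inv_mem (mul_mem hy hx))
  have h1 := eb_mul hd B hx.2 hy.2
  have h2 := eb_mul hd B hy.2 hx.2
  have h3 := eb_mul hd B (g := x * y * (y * x)⁻¹) hc.2 (mul_mem hy.2 hx.2)
  rw [inv_mul_cancel_right] at h3
  have h0 : eb B (x * y * (y * x)⁻¹) = 0 := by linear_combination h1.1 - h2.1 - h3.1
  refine ⟨_, ⟨hc.1, mem_root_of_eb hd B hc.2 h0⟩, ?_⟩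
  rw [h0, mul_zero, sub_zero] at h3
  linear_combination h1.2 - h2.2 - h3.2

/-- The translation parts are few. -/
theorem card_ebRange_le :
    Nat.card (ebHom K hd B).range ≤ max H.q (Nat.card (Ag K B) ^ 2) := by
  classical
  have hmem : ∀ v : (ebHom K hd B).range, ∃ x ∈ Ng K B, eb B x = Multiplicative.toAdd v.1 := by
    rintro ⟨_, x, rfl⟩
    exact ⟨x.1, x.2, rfl⟩
  choose x hx hxe using hmem
  by_cases hline : ∀ v w, H.σ (eb B (x v)) * eb B (x w) = H.σ (eb B (x w)) * eb B (x v)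
  · refine le_max_of_le_left ?_
    rw [← card_fixed (H := H)]
    by_cases h0 : ∀ v, eb B (x v) = 0
    · haveI : Subsingleton (ebHom K hd B).range :=
        ⟨fun v w => Subtype.ext (Multiplicative.toAdd.injective (by rw [← hxe, ← hxe, h0, h0]))⟩
      haveI : Nonempty {a : F // H.σ a = a} := ⟨⟨0, map_zero _⟩⟩
      exact (Finite.card_le_one_iff_subsingleton.2 inferInstance).trans Nat.card_pos
    push Not at h0
    obtain ⟨v₀, hv₀⟩ := h0
    refine Nat.card_le_card_of_injective (fun v => (⟨eb B (x v) / eb B (x v₀), ?_⟩ : {a : F // H.σ a = a}))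
      fun v w h => ?_
    · rw [map_div₀, div_eq_div_iff ((map_ne_zero _).2 hv₀) hv₀]
      linear_combination hline v v₀
    · have h' := congrArg Subtype.val h
      rw [div_left_inj' hv₀] at h'
      exact Subtype.ext (Multiplicative.toAdd.injective (by rw [← hxe, ← hxe, h']))
  push Not at hline
  obtain ⟨v₁, v₂, hD⟩ := hline
  refine le_max_of_le_right ?_
  rw [pow_two, ← Nat.card_prod]
  choose c hc hce using fun v w => comm_mem K hd B (hx v) (hx w)
  refine Nat.card_le_card_of_injective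
    (fun v => ((⟨c v v₁, hc v v₁⟩ : Ag K B), (⟨c v v₂, hc v v₂⟩ : Ag K B))) fun v w h => ?_
  have h1 := congrArg (fun t : Ag K B × Ag K B => ec B t.1.1) h
  have h2 := congrArg (fun t : Ag K B × Ag K B => ec B t.2.1) h
  simp only [hce] at h1 h2
  refine Subtype.ext (Multiplicative.toAdd.injective ?_)
  rw [← hxe, ← hxe]
  by_contra hne
  set d := eb B (x v) - eb B (x w) with hdd
  have hd0 : d ≠ 0 := sub_ne_zero.2 hne
  have e1 : H.σ d * eb B (x v₁) = H.σ (eb B (x v₁)) * d := by rw [hdd, map_sub]; linear_combination h1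
  have e2 : H.σ d * eb B (x v₂) = H.σ (eb B (x v₂)) * d := by rw [hdd, map_sub]; linear_combination h2
  refine hD (mul_right_cancel₀ hd0 ?_)
  linear_combination (eb B (x v₁)) * e2 - (eb B (x v₂)) * e1

theorem card_Ng_le : Nat.card (Ng K B) ≤ max (Nat.card (Ag K B) * H.q) (Nat.card (Ag K B) ^ 3) := by
  rw [card_Ng K hd B, pow_succ', ← mul_max_of_nonneg _ _ (Nat.zero_le _)]
  exact Nat.mul_le_mul_left _ (card_ebRange_le K hd B)

/-- The centres other than the point. -/
abbrev Others := {P : H.IsoPt // P ∈ Cn K ∧ P ≠ pt B}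

theorem card_others (hB : pt B ∈ Cn K) : Nat.card (Cn K) = Nat.card (Others K B) + 1 := by
  rw [show Nat.card (Others K B) = ((Cn K) \ {pt B}).ncard from (Nat.card_coe_set_eq _).trans rfl,
    Set.ncard_sdiff_singleton_add_one hB (Set.toFinite _), Nat.card_coe_set_eq]

/-- An element of the unipotent part fixing another point is trivial. -/
theorem semiregular {x : H.SIsom} (hx : x ∈ Ng K B) {P : H.IsoPt} (hP : P ≠ pt B) (h : x • P = P) : x = 1 := by
  by_contra hx1
  exact hP (fix_pt hd B hx.2 hx1 h)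

end Cfsg.Lib.Classical.SUThree
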