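import Cfsg.Agent.Classical.SUThree.Centres

/-!
Counting the centres of transvections in characteristic two, by averaging over the involutions.
-/

set_option autoImplicit false
set_option linter.unusedSectionVars false
set_option linter.style.haveILetI false
set_option maxHeartbeats 1000000

namespace Cfsg.Lib.Classical.SUThree

open Cfsg.Lib.Classical Cfsg.Lib.Components.UnitaryThree Cfsg.Lib.Known.PSUThree

universe u v

variable {F : Type u} [Field F] [Finite F] {V : Type v} [AddCommGroup V] [Module F V]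
  [FiniteDimensional F V] {H : HermSpace F V}

/-- Root elements at corresponding points correspond. -/
theorem card_Ag_eq (hd : Module.finrank F V = 3) (K : Subgroup H.SIsom) {B B' : Frame H} (hB : pt B ∈ Cn K)
    (hB' : pt B' ∈ Cn K) : Nat.card (Ag K B) = Nat.card (Ag K B') := by
  have key : ∀ B B' : Frame H, pt B ∈ Cn K → pt B' ∈ Cn K → Nat.card (Ag K B) ≤ Nat.card (Ag K B') := by
    intro B B' hB hB'
    obtain ⟨g, hg, e⟩ := Cn_trans K hd hB hB'
    have hp : pt (mapFrame g B) = pt B' := (pt_mapFrame g B).trans e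
    refine Nat.card_le_card_of_injective
      (fun x => ⟨g * x.1 * g⁻¹, K.mul_mem (K.mul_mem hg x.2.1) (K.inv_mem hg), ?_⟩) fun x y h =>
      Subtype.ext (mul_left_cancel (mul_right_cancel (congrArg Subtype.val h)))
    rw [← root_congr hp]
    obtain ⟨hc, hx⟩ := root_eq_sT B x.2.2
    rw [hx, H.sT_conj]
    exact ⟨_, hc, rfl⟩
  exact le_antisymm (key B B' hB hB') (key B' B hB' hB)

/-- Subgroups of the same order in a finite multiplicative group of a field agree. -/
theorem units_subgroup_ext {k : Type*} [Field k] [Finite k] {U W : Subgroup kˣ} (h : Nat.card U = Nat.card W) :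
    U = W := by
  have key : ∀ W' : Subgroup kˣ, W' = (powMonoidHom (α := kˣ) (Nat.card W')).ker := fun W' => by
    refine Subgroup.eq_of_le_of_card_ge (fun x hx => ?_) ?_
    · rw [MonoidHom.mem_ker, powMonoidHom_apply]
      exact congrArg Subtype.val (pow_card_eq_one' (x := (⟨x, hx⟩ : W')))
    · rw [IsCyclic.card_powMonoidHom_ker]
      exact Nat.le_of_dvd Nat.card_pos (Nat.gcd_dvd_right _ _)
  rw [key U, key W, h]

variable (K : Subgroup H.SIsom)

/-- The eigenvalues of the elements fixing both ends of a chord and its pole. -/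
def Rot (B : Frame H) : Subgroup Fˣ where
  carrier := {μ | ∃ d ∈ K, d.1.1 B.e = (μ : F) • B.e ∧ d.1.1 B.w = B.w ∧ d.1.1 B.f = (μ : F)⁻¹ • B.f}
  mul_mem' := by
    rintro μ ν ⟨d, hd, h1, h2, h3⟩ ⟨d', hd', h1', h2', h3'⟩
    refine ⟨d * d', K.mul_mem hd hd', ?_, ?_, ?_⟩
    · rw [H.smul_mul_apply, h1', map_smul, h1, smul_smul, Units.val_mul, mul_comm]
    · rw [H.smul_mul_apply, h2', h2]
    · rw [H.smul_mul_apply, h3', map_smul, h3, smul_smul, Units.val_mul, mul_inv, mul_comm]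
  one_mem' := ⟨1, K.one_mem, (by simp : _ = ((1 : Fˣ) : F) • B.e), rfl, (by simp : _ = ((1 : Fˣ) : F)⁻¹ • B.f)⟩
  inv_mem' := by
    rintro μ ⟨d, hd, h1, h2, h3⟩
    have hi : ∀ x, (d⁻¹).1.1 (d.1.1 x) = x := fun x => H.inv_apply_self d.1 x
    refine ⟨d⁻¹, K.inv_mem hd, ?_, ?_, ?_⟩
    · conv_rhs => rw [← hi B.e, h1, map_smul, smul_smul, Units.val_inv_eq_inv_val, inv_mul_cancel₀ μ.ne_zero,
        one_smul]
    · conv_lhs => rw [← h2]
      exact hi _
    · conv_rhs => rw [← hi B.f, h3, map_smul, smul_smul, Units.val_inv_eq_inv_val, inv_inv,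
        mul_inv_cancel₀ μ.ne_zero, one_smul]

variable (hd : Module.finrank F V = 3) (h2 : (2 : F) = 0)
include hd

theorem rot_data {B : Frame H} {μ : Fˣ} {d : H.SIsom} (h1 : d.1.1 B.e = (μ : F) • B.e) (hw : d.1.1 B.w = B.w) :
    d ∈ stE B ∧ ea B d = μ ∧ ed B d = 1 ∧ H.σ (μ : F) = μ := by
  have hs : d ∈ stE B := mem_stE.2 ⟨_, h1⟩
  have hea : ea B d = μ := by rw [ea, h1, H.smul_left, B.ef, mul_one]
  have hed : ed B d = 1 := by rw [ed, hw, B.ww]
  have h := ed_mul_ea hd B hs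
  rw [hed, hea, one_mul] at h
  exact ⟨hs, hea, hed, h.symm⟩

include h2

omit hd in
theorem sq_inj {a b : F} (h : a * a = b * b) : a = b := by
  have e : (a - b) * (a - b) = 0 := by linear_combination h - b * (a - b) * h2
  exact sub_eq_zero.1 (mul_self_eq_zero.1 e)

/-- An element with square one is a root element. -/
theorem root_of_sq {B : Frame H} {x : H.SIsom} (hx : x ∈ fixE B) (hxx : x * x = 1) : x ∈ H.rootGroup B.ee := by
  refine mem_root_of_eb hd B hx ?_
  have h := (eb_mul hd B hx hx).2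
  rw [hxx, (eb_one B).2] at h
  have h3 : H.σ (eb B x) * eb B x = 0 := by linear_combination h + ec B x * h2
  rcases mul_eq_zero.1 h3 with h4 | h4
  · exact H.conj.eq_zero.1 h4
  · exact h4

theorem inv_centre {t : H.SIsom} (hxx : t * t = 1) : ∃ P : H.IsoPt, t ∈ H.rootGroup P.2 := by
  haveI : CharP F 2 := CharTwo.of_one_ne_zero_of_two_eq_zero one_ne_zero h2
  haveI : Fact (Nat.Prime 2) := ⟨Nat.prime_two⟩
  obtain ⟨W, s, hW, hs⟩ := big_eig hd hxx
  obtain ⟨x, hxW, hx0, hx⟩ := isotropic_in (H := H) hd hW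
  obtain ⟨C, hC⟩ := exists_frame hd hx0 hx
  have hst : t ∈ stE C := mem_stE.2 ⟨s, by rw [hC]; exact hs x hxW⟩
  refine ⟨pt C, ?_⟩
  rw [root_pt]
  exact root_of_sq hd h2 (mem_fixE_of_pow hd hst 2 1 (by rw [pow_one, pow_two, hxx])) hxx

theorem card_rot_add_one (B : Frame H) (hB : pt B ∈ Cn K) : Nat.card (Rot K B) + 1 ≤ Nat.card (Ag K B) := by
  obtain ⟨⟨a, ha⟩, ha1⟩ := Subgroup.ne_bot_iff_exists_ne_one.1 (mem_Cn.1 hB)
  have hec : ec B a ≠ 0 := fun h => ha1 (Subtype.ext (ext_fixE hd B ((root_le_fixE B).1 ha.2) (one_mem _)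
    (((root_le_fixE B).2 _ ha.2).trans (eb_one B).1.symm) (h.trans (eb_one B).2.symm)))
  choose d hdK h1 hw h3 using fun μ : Rot K B => μ.2
  rw [← Finite.card_option]
  let f : Option (Rot K B) → Ag K B := fun o => o.elim 1 fun μ =>
    ⟨d μ * a * (d μ)⁻¹, K.mul_mem (K.mul_mem (hdK μ) ha.1) (K.inv_mem (hdK μ)),
      (conj_ec hd B (rot_data hd (h1 μ) (hw μ)).1 ha.2).1⟩
  have hval : ∀ μ, ec B (f (some μ)).1 = (μ.1 : F) * (μ.1 : F) * ec B a := fun μ => by
    obtain ⟨hs, hea, -, hσ⟩ := rot_data hd (h1 μ) (hw μ)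
    show ec B (d μ * a * (d μ)⁻¹) = _
    rw [(conj_ec hd B hs ha.2).2, hea, hσ]
  refine Nat.card_le_card_of_injective f ?_
  rintro (_ | u) (_ | u') h
  · rfl
  · have := congrArg (fun x : Ag K B => ec B x.1) h
    rw [hval, show ec B (f none).1 = 0 from (eb_one B).2] at this
    exact absurd this.symm (mul_ne_zero (mul_ne_zero u'.1.ne_zero u'.1.ne_zero) hec)
  · have := congrArg (fun x : Ag K B => ec B x.1) h
    rw [hval, show ec B (f none).1 = 0 from (eb_one B).2] at this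
    exact absurd this (mul_ne_zero (mul_ne_zero u.1.ne_zero u.1.ne_zero) hec)
  · have := congrArg (fun x : Ag K B => ec B x.1) h
    rw [hval, hval] at this
    exact congrArg some (Subtype.ext (Units.ext (sq_inj h2 (mul_right_cancel₀ hec this))))

/-- An element of square one exchanging the ends of a chord. -/
theorem swap_data {C : Frame H} {t : H.SIsom} (hxx : t * t = 1) (h : t • pt C = ptf C) :
    ∃ lam : F, lam ≠ 0 ∧ t.1.1 C.e = lam • C.f ∧ t.1.1 C.w = C.w ∧ t.1.1 C.f = lam⁻¹ • C.e := by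
  rw [pt, ptf, HermSpace.smul_isoMk, HermSpace.isoMk_eq_iff] at h
  obtain ⟨lam, hlam⟩ := h
  have h0 : lam ≠ 0 := fun e => by
    rw [e, zero_smul] at hlam
    exact H.isom_ne_zero t.1 C.e_ne hlam.symm
  have htt : ∀ z, t.1.1 (t.1.1 z) = z := fun z => by rw [← H.smul_mul_apply, hxx]; rfl
  have hf : t.1.1 C.f = lam⁻¹ • C.e := by
    have e := htt C.e
    rw [← hlam, map_smul] at e
    conv_rhs => rw [← e]
    rw [inv_smul_smul₀ h0]
  refine ⟨lam, h0, hlam.symm, ?_, hf⟩
  obtain ⟨P, hP⟩ := inv_centre hd h2 hxx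
  induction P using H.isoPt_ind with | h x hx0 hx => ?_
  obtain ⟨b, hb⟩ := Projectivization.exists_smul_eq_mk_rep F x hx0
  rw [H.rootGroup_eq_of_smul hx (H.isoMk x hx0 hx).2 b.ne_zero (by rw [← Units.smul_def, hb]; rfl)] at hP
  obtain ⟨c, hc, e⟩ := hP
  have ht : ∀ z, t.1.1 z = z + (c * H.h z x) • x := fun z => by
    rw [show t = H.sT hx hc from Subtype.ext e, H.sT_apply]
  have h1 := congrArg (fun z => H.h z C.w) (ht C.e)
  rw [← hlam] at h1
  simp [H.add_left, H.smul_left, C.fw, C.ew] at h1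
  have hxw : H.h x C.w = 0 := by
    by_contra hne
    have hk : c * H.h C.e x = 0 := by
      rcases h1 with h | h
      · rcases h with h | h <;> simp [h]
      · exact absurd h hne
    have := ht C.e
    rw [← hlam, hk, zero_smul, add_zero] at this
    have h' := congrArg (fun z => H.h z C.f) this
    simp [H.smul_left, C.ff, C.ef] at h'
  rw [ht, H.eq_zero_symm hxw, mul_zero, zero_smul, add_zero]

/-- The involutions of the group. -/
abbrev Invs := {t : H.SIsom // t ∈ K ∧ t ≠ 1 ∧ t * t = 1}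

/-- The involutions moving a point to another. -/
abbrev Swap (B : Frame H) (Q : H.IsoPt) := {t : Invs K // t.1 • pt B = Q}

theorem swap_le {B : Frame H} {C : Frame H} (hC : C.e = B.e) :
    Nat.card (Swap K B (ptf C)) ≤ Nat.card (Rot K C) := by
  rcases isEmpty_or_nonempty (Swap K B (ptf C)) with hE | ⟨⟨⟨t₀, ht₀⟩⟩⟩
  · rw [Nat.card_of_isEmpty]; exact Nat.zero_le _
  have hp : pt C = pt B := pt_eq_iff.2 ⟨1, one_ne_zero, by rw [one_smul, hC]⟩
  choose lam hl0 hle hlw hlf using fun t : Swap K B (ptf C) =>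
    swap_data hd h2 (C := C) t.1.2.2.2 (by rw [hp]; exact t.2)
  set l₀ := lam ⟨t₀, ht₀⟩
  have hmem : ∀ t, Units.mk0 (lam t / l₀) (div_ne_zero (hl0 t) (hl0 _)) ∈ Rot K C := fun t => by
    refine ⟨t₀.1 * t.1.1, K.mul_mem t₀.2.1 t.1.2.1, ?_, ?_, ?_⟩
    · rw [H.smul_mul_apply, hle, map_smul, hlf ⟨t₀, ht₀⟩, smul_smul, Units.val_mk0, div_eq_mul_inv]
    · rw [H.smul_mul_apply, hlw, hlw ⟨t₀, ht₀⟩]
    · rw [H.smul_mul_apply, hlf, map_smul, hle ⟨t₀, ht₀⟩, smul_smul, Units.val_mk0, inv_div, div_eq_mul_inv,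
        mul_comm]
  refine Nat.card_le_card_of_injective (fun t => (⟨_, hmem t⟩ : Rot K C)) fun t t' h => ?_
  have hl : lam t = lam t' := by
    have := congrArg (fun x : Rot K C => ((x.1 : Fˣ) : F)) h
    exact (div_left_inj' (hl0 _)).1 this
  exact Subtype.ext (Subtype.ext (ext_lin hd C (by rw [hle, hle, hl]) (by rw [hlw, hlw]) (by rw [hlf, hlf, hl])))

/-- Every chord through a centre has the largest possible rotation group. -/
theorem card_rot (B : Frame H) (hB : pt B ∈ Cn K) {C : Frame H} (hC : C.e = B.e) (hCf : ptf C ∈ Cn K) :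
    Nat.card (Rot K C) + 1 = Nat.card (Ag K B) := by
  classical
  set q₀ := Nat.card (Ag K B) with hq₀
  have hpC : pt C = pt B := pt_eq_iff.2 ⟨1, one_ne_zero, by rw [one_smul, hC]⟩
  have hptne : ∀ D : Frame H, ptf D ≠ pt D := fun D h => by
    rw [ptf, pt, HermSpace.isoMk_eq_iff] at h
    obtain ⟨c, hc⟩ := h
    have := congrArg (fun z => H.h z D.e) hc
    simp [H.smul_left, D.ee, D.fe] at this
  have hAg : ∀ D : Frame H, D.e = B.e → Nat.card (Ag K D) = q₀ := fun D hD => by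
    show Nat.card (Ag K D) = _
    rw [Ag, root_congr (pt_eq_iff.2 ⟨1, one_ne_zero, by rw [one_smul, hD]⟩ : pt D = pt B)]
  choose D hDe hDf using fun Q : Others K B => exists_pair_frame hd B Q.2.2
  have hbound : ∀ Q : Others K B, Nat.card (Swap K B Q.1) ≤ q₀ - 1 := fun Q => by
    have h1 := swap_le K hd h2 (B := B) (hDe Q)
    have h3 := card_rot_add_one K hd h2 (D Q)
      ((pt_eq_iff.2 ⟨1, one_ne_zero, by rw [one_smul, hDe Q]⟩ : pt (D Q) = pt B).symm ▸ hB)
    rw [hAg _ (hDe Q)] at h3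
    rw [hDf] at h1
    omega
  -- the involutions moving the point
  let Mv := {t : Invs K // t.1 • pt B ≠ pt B}
  choose E hE using fun Q : Others K B => exists_frame_pt hd Q.1
  have hlow : Nat.card (Others K B) * (q₀ - 1) ≤ Nat.card Mv := by
    haveI : Fintype (Others K B) := Fintype.ofFinite _
    have h1 : ∀ Q, Nat.card {a : Ag K (E Q) // a ≠ 1} = q₀ - 1 := fun Q => by
      haveI := Fintype.ofFinite (Ag K (E Q))
      rw [hq₀, card_Ag_eq hd K hB (show pt (E Q) ∈ Cn K from (hE Q).symm ▸ Q.2.1), Nat.card_eq_fintype_card,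
        Nat.card_eq_fintype_card, Fintype.card_subtype_compl, Fintype.card_subtype_eq]
    rw [Nat.card_eq_fintype_card (α := Others K B), ← Finset.card_univ, ← smul_eq_mul, ← Finset.sum_const,
      ← Finset.sum_congr rfl fun Q _ => h1 Q, ← Nat.card_sigma]
    have hsq : ∀ (Q) (a : Ag K (E Q)), a.1 * a.1 = 1 := fun Q a => by
      haveI : CharP F 2 := CharTwo.of_one_ne_zero_of_two_eq_zero one_ne_zero h2
      haveI : Fact (Nat.Prime 2) := ⟨Nat.prime_two⟩
      rw [← pow_two]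
      exact root_pow_char hd (E Q) 2 a.2.2
    refine Nat.card_le_card_of_injective (fun z : Σ Q, {a : Ag K (E Q) // a ≠ 1} =>
      (⟨⟨z.2.1.1, z.2.1.2.1, fun h => z.2.2 (Subtype.ext h), hsq _ _⟩, fun h =>
        z.1.2.2 ((hE z.1).symm.trans
          (fix_pt hd (E z.1) ((root_le_fixE _).1 z.2.1.2.2) (fun h' => z.2.2 (Subtype.ext h')) h).symm)⟩ : Mv)) ?_
    rintro ⟨Q, a⟩ ⟨Q', a'⟩ h
    have e : a.1.1 = a'.1.1 := congrArg (fun t : Mv => t.1.1) h
    have hf : pt (E Q') = pt (E Q) := fix_pt hd (E Q) ((root_le_fixE _).1 a.1.2.2)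
      (fun h' => a.2 (Subtype.ext h')) (by
        rw [e]
        exact MulAction.mem_stabilizer_iff.1 (fixE_le_stE _ ((root_le_fixE _).1 a'.1.2.2)))
    obtain rfl : Q' = Q := Subtype.ext ((hE Q').symm.trans (hf.trans (hE Q)))
    rw [show a = a' from Subtype.ext (Subtype.ext e)]
  have hdest : ∀ t : Mv, t.1.1 • pt B ∈ Cn K := fun t => smul_mem_Cn K hB t.1.2.1
  have hsplit : Nat.card Mv = ∑ᶠ Q : Others K B, Nat.card (Swap K B Q.1) := by
    haveI : Fintype (Others K B) := Fintype.ofFinite _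
    rw [finsum_eq_sum_of_fintype, ← Nat.card_sigma]
    exact Nat.card_congr
      { toFun := fun t => ⟨⟨t.1.1 • pt B, hdest t, t.2⟩, ⟨t.1, rfl⟩⟩
        invFun := fun z => ⟨z.2.1, fun h => z.1.2.2 (z.2.2.symm.trans h)⟩
        left_inv := fun t => rfl
        right_inv := fun z => Sigma.subtype_ext (Subtype.ext z.2.2) rfl }
  haveI : Fintype (Others K B) := Fintype.ofFinite _
  rw [finsum_eq_sum_of_fintype] at hsplit
  have hall : ∀ Q : Others K B, Nat.card (Swap K B Q.1) = q₀ - 1 := by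
    have hs := hlow
    rw [hsplit, Nat.card_eq_fintype_card (α := Others K B), ← Finset.card_univ, ← smul_eq_mul,
      ← Finset.sum_const] at hs
    intro Q
    exact (Finset.sum_eq_sum_iff_of_le fun Q' _ => hbound Q').1
      (le_antisymm (Finset.sum_le_sum fun Q' _ => hbound Q') hs) Q (Finset.mem_univ _)
  have hQ := hall ⟨ptf C, hCf, fun h => hptne C (h.trans hpC.symm)⟩
  have h1 := swap_le K hd h2 (B := B) hC
  have h3 := card_rot_add_one K hd h2 C (hpC.symm ▸ hB)
  rw [hAg _ hC] at h3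
  change Nat.card (Swap K B (ptf C)) = _ at hQ
  omega

omit h2 in
theorem eig_pts {C : Frame H} {η : F} {d : H.SIsom} (h1 : d.1.1 C.e = η • C.e) (hw : d.1.1 C.w = C.w)
    (h3 : d.1.1 C.f = η⁻¹ • C.f) (hη : η * η ≠ 1) (h0 : η ≠ 0) {P : H.IsoPt} (hne : P ≠ pt C) (hP : d • P = P) :
    P = ptf C := by
  induction P using H.isoPt_ind with | h x hx0 hx => ?_
  rw [HermSpace.smul_isoMk, HermSpace.isoMk_eq_iff] at hP
  obtain ⟨t, ht⟩ := hP
  have hγ : H.h x C.e ≠ 0 := h_ne hd hx0 hx hne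
  have hdx := decomp hd C x
  rw [hdx, map_add, map_add, map_smul, map_smul, map_smul, h1, hw, h3] at ht
  have e1 := congrArg (fun z => H.h z C.e) ht
  have e2 := congrArg (fun z => H.h z C.w) ht
  have e3 := congrArg (fun z => H.h z C.f) ht
  simp [H.add_left, H.smul_left, C.ee, C.we, C.fe, C.ew, C.ww, C.fw, C.ef, C.wf, C.ff] at e1 e2 e3
  have htη : t = η⁻¹ := mul_right_cancel₀ hγ (by linear_combination e1)
  rw [htη] at e2 e3
  have hβ : H.h x C.w = 0 := by
    have : (η⁻¹ - 1) * H.h x C.w = 0 := by linear_combination e2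
    refine (mul_eq_zero.1 this).resolve_left fun h => hη ?_
    rw [inv_eq_one.1 (sub_eq_zero.1 h), one_mul]
  have hα : H.h x C.f = 0 := by
    have : (η⁻¹ - η) * H.h x C.f = 0 := by linear_combination e3
    refine (mul_eq_zero.1 this).resolve_left fun h => hη ?_
    have h' := congrArg (fun z => η * z) (sub_eq_zero.1 h)
    rw [mul_inv_cancel₀ h0] at h'
    exact h'.symm
  rw [ptf, HermSpace.isoMk_eq_iff]
  rw [hα, hβ, zero_smul, zero_smul, zero_add, zero_add] at hdx
  exact ⟨_, hdx.symm⟩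

/-- In characteristic two the unipotent part is transitive on the other centres. -/
theorem count_even {B : Frame H} (hB : pt B ∈ Cn K) (hf : ptf B ∈ Cn K) (hA : 3 ≤ Nat.card (Ag K B)) :
    Nat.card (Others K B) = Nat.card (Ng K B) := by
  classical
  have hcard := card_rot K hd h2 B hB rfl hf
  haveI : IsCyclic (Rot K B) := inferInstance
  obtain ⟨⟨η, hη⟩, hgen⟩ := IsCyclic.exists_generator (α := Rot K B)
  have hη1 : (η : F) ≠ 1 := by
    intro h
    have := orderOf_eq_card_of_forall_mem_zpowers hgen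
    rw [show (⟨η, hη⟩ : Rot K B) = 1 from Subtype.ext (Units.ext h), orderOf_one] at this
    omega
  have hηη : (η : F) * η ≠ 1 := fun h => hη1 (sq_inj h2 (by rw [h, one_mul]))
  obtain ⟨d, hdK, h1, hw, h3⟩ := hη
  obtain ⟨hds, hdea, hded, hdσ⟩ := rot_data hd h1 hw
  have hpB : ∀ x ∈ Ng K B, x • pt B = pt B := fun x hx => MulAction.mem_stabilizer_iff.1 (fixE_le_stE B hx.2)
  have hptf : ptf B ≠ pt B := fun h => by
    rw [ptf, pt, HermSpace.isoMk_eq_iff] at h
    obtain ⟨c, hc⟩ := h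
    have := congrArg (fun z => H.h z B.e) hc
    simp [H.smul_left, B.ee, B.fe] at this
  let ψ : Ng K B → Ng K B := fun m => ⟨m.1 * d * m.1⁻¹ * d⁻¹, by
    rw [show m.1 * d * m.1⁻¹ * d⁻¹ = m.1 * (d * m.1⁻¹ * d⁻¹) by group]
    exact mul_mem m.2 ⟨K.mul_mem (K.mul_mem hdK (K.inv_mem m.2.1)) (K.inv_mem hdK),
      conj_mem_fixE hd B hds (inv_mem m.2.2)⟩⟩
  have hinj : Function.Injective ψ := by
    intro m m' e
    have e2 : m.1 * d * m.1⁻¹ = m'.1 * d * m'.1⁻¹ := mul_right_cancel (congrArg Subtype.val e)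
    have hz : d * (m'.1⁻¹ * m.1) * d⁻¹ = m'.1⁻¹ * m.1 := by
      calc d * (m'.1⁻¹ * m.1) * d⁻¹ = m'.1⁻¹ * (m'.1 * d * m'.1⁻¹) * m.1 * d⁻¹ := by group
        _ = m'.1⁻¹ * (m.1 * d * m.1⁻¹) * m.1 * d⁻¹ := by rw [e2]
        _ = m'.1⁻¹ * m.1 := by group
    set z := m'.1⁻¹ * m.1
    have hzN : z ∈ Ng K B := mul_mem (inv_mem m'.2) m.2
    have hb := conj_eb hd B hds hzN.2
    rw [hz, hded, hdea, one_mul] at hb
    have hb0 : eb B z = 0 := by
      have : ((η : F) - 1) * eb B z = 0 := by linear_combination -hb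
      exact (mul_eq_zero.1 this).resolve_left (sub_ne_zero.2 hη1)
    have hroot := mem_root_of_eb hd B hzN.2 hb0
    have hc := (conj_ec hd B hds hroot).2
    rw [hz, hdea, hdσ] at hc
    have hc0 : ec B z = 0 := by
      have : ((η : F) * η - 1) * ec B z = 0 := by linear_combination -hc
      exact (mul_eq_zero.1 this).resolve_left (sub_ne_zero.2 hηη)
    have := ext_fixE hd B hzN.2 (one_mem _) (hb0.trans (eb_one B).1.symm) (hc0.trans (eb_one B).2.symm)
    exact (Subtype.ext (inv_mul_eq_one.1 this)).symm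
  refine (Nat.card_eq_of_bijective (fun x : Ng K B => (⟨x.1 • ptf B, smul_mem_Cn K hf x.2.1, fun h =>
    hptf (by
      rw [← inv_smul_smul x.1 (ptf B), h]
      exact hpB _ (inv_mem x.2))⟩ : Others K B)) ⟨?_, ?_⟩).symm
  · intro x y h
    have h' : (y.1⁻¹ * x.1) • ptf B = ptf B := by
      rw [mul_smul, show x.1 • ptf B = y.1 • ptf B from congrArg Subtype.val h, inv_smul_smul]
    exact Subtype.ext (inv_mul_eq_one.1 (semiregular K hd B (mul_mem (inv_mem y.2) x.2) hptf h')).symm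
  rintro ⟨P, hP, hne⟩
  obtain ⟨C, hCe, hCf⟩ := exists_pair_frame hd B hne
  have hpC : pt C = pt B := pt_eq_iff.2 ⟨1, one_ne_zero, by rw [one_smul, hCe]⟩
  have hcardC := card_rot K hd h2 B hB hCe (hCf ▸ hP)
  have hsame : Rot K C = Rot K B := units_subgroup_ext (by omega)
  obtain ⟨d', hd'K, h1', hw', h3'⟩ : η ∈ Rot K C := hsame ▸ ⟨d, hdK, h1, hw, h3⟩
  have hy : d' * d⁻¹ ∈ Ng K B := by
    refine ⟨K.mul_mem hd'K (K.inv_mem hdK), ?_⟩
    show (d' * d⁻¹).1.1 B.e = B.e
    rw [hCe] at h1'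
    have hde : B.e = d.1.1 (((η : F))⁻¹ • B.e) := by rw [map_smul, h1, inv_smul_smul₀ η.ne_zero]
    conv_lhs => rw [hde]
    rw [← H.smul_mul_apply, inv_mul_cancel_right, map_smul, h1', inv_smul_smul₀ η.ne_zero]
  obtain ⟨m, hm⟩ := Finite.injective_iff_surjective.1 hinj ⟨_, hy⟩
  have hm' : m.1 * d * m.1⁻¹ = d' := mul_right_cancel (congrArg Subtype.val hm)
  refine ⟨m, Subtype.ext ?_⟩
  have hfix : d • (m.1⁻¹ • P) = m.1⁻¹ • P := by
    have hdP : d' • P = P := by
      rw [← hCf, ptf, HermSpace.smul_isoMk, HermSpace.isoMk_eq_iff]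
      exact ⟨(η : F)⁻¹, h3'.symm⟩
    rw [← mul_smul, show d * m.1⁻¹ = m.1⁻¹ * d' by rw [← hm']; group, mul_smul, hdP]
  have := eig_pts hd h1 hw h3 hηη η.ne_zero (P := m.1⁻¹ • P) (fun h => hne (by
    rw [← smul_inv_smul m.1 P, h]
    exact hpB _ m.2)) hfix
  show m.1 • ptf B = P
  rw [← this, smul_inv_smul]

end Cfsg.Lib.Classical.SUThree
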