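import Cfsg.Agent.Classical.SUThree.CountOdd
import Cfsg.Agent.Classical.SUThree.CountEven

/-!
The number of centres of transvections in a proper irreducible subgroup is one more than a power of the
characteristic less than `q^3`.
-/

set_option autoImplicit false
set_option linter.unusedSectionVars false
set_option linter.style.haveILetI false

namespace Cfsg.Lib.Classical.SUThree

open Cfsg.Lib.Classical Cfsg.Lib.Components.UnitaryThree Cfsg.Lib.Known.PSUThree

universe u v

variable {F : Type u} [Field F] [Finite F] {V : Type v} [AddCommGroup V] [Module F V]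
  [FiniteDimensional F V] {H : HermSpace F V} (K : Subgroup H.SIsom)

/-- A full root group forces everything. -/
theorem card_Ag_lt (hd : Module.finrank F V = 3) (hq : 3 ≤ H.q) (hI : Irr K) (hK : K ≠ ⊤) (B : Frame H) :
    Nat.card (Ag K B) < H.q := by
  by_contra hle
  push Not at hle
  have hroot : H.rootGroup B.ee ≤ K :=
    Subgroup.eq_of_le_of_card_ge (inf_le_right : Ag K B ≤ H.rootGroup B.ee) ((card_root_le hd B).trans hle) ▸
      inf_le_left
  exact hK (top_of_centre hd hq hI B.e_ne ⟨B.ee, fun c hc => hroot ⟨c, hc, rfl⟩⟩)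

/-- The centres number one more than a small power of the characteristic. -/
theorem card_Cn (hd : Module.finrank F V = 3) (hq : 3 ≤ H.q) (hI : Irr K) (hK : K ≠ ⊤) {p : ℕ} [Fact p.Prime]
    [CharP F p] {B : Frame H} (hB : pt B ∈ Cn K) (h22 : (2 : F) = 0 → Nat.card (Ag K B) ≠ 2) :
    ∃ j, Nat.card (Cn K) = p ^ j + 1 ∧ p ^ j < H.q ^ 3 := by
  obtain ⟨C, hC, hCf⟩ := exists_two_Cn K hd hI ⟨_, hB⟩
  have hAC : Nat.card (Ag K C) = Nat.card (Ag K B) := card_Ag_eq hd K hC hB
  have hlt := card_Ag_lt K hd hq hI hK C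
  have hbound := card_Ng_le K hd C
  obtain ⟨i, hi⟩ := IsPGroup.iff_card.1 (Ng_pgroup K hd C p)
  have hA1 : 1 < Nat.card (Ag K C) := Subgroup.one_lt_card_iff_ne_bot _ |>.2 (mem_Cn.1 hC)
  set A := Nat.card (Ag K C)
  have hsmall : Nat.card (Ng K C) < H.q ^ 3 := by
    refine hbound.trans_lt (max_lt ?_ (Nat.pow_lt_pow_left hlt (by norm_num)))
    calc A * H.q < H.q * H.q := Nat.mul_lt_mul_of_pos_right hlt (by omega)
      _ ≤ H.q ^ 3 := by rw [pow_succ, pow_two]; exact Nat.le_mul_of_pos_right _ (by omega)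
  rw [card_others K hd C hC]
  by_cases h2 : (2 : F) = 0
  · refine ⟨i, ?_, hi ▸ hsmall⟩
    have := h22 h2
    rw [← hAC] at this
    rw [count_even K hd h2 hC hCf (by omega), hi]
  rcases count_odd K hd C h2 hC hCf with h | ⟨h3, hA3, h⟩
  · exact ⟨i, by rw [h, hi], hi ▸ hsmall⟩
  · have hp3 : p = 3 := ((Nat.prime_dvd_prime_iff_eq (Fact.out : p.Prime) Nat.prime_three).1
      ((CharP.cast_eq_zero_iff F p 3).1 (by exact_mod_cast h3)))
    subst hp3
    obtain ⟨k, hk⟩ := q_pow (H := H) 3
    have hq9 : 9 ≤ H.q := by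
      rw [show A = 3 from hA3, hk] at hlt
      have : 1 < k := (Nat.pow_lt_pow_iff_right (a := 3) (by norm_num)).1 (by rwa [pow_one])
      rw [hk]
      exact (show (9 : ℕ) = 3 ^ 2 by norm_num) ▸ Nat.pow_le_pow_right (by norm_num) this
    refine ⟨i + 1, by rw [h, hi, pow_succ, mul_comm], ?_⟩
    rw [show A = 3 from hA3] at hbound
    calc 3 ^ (i + 1) = 3 * Nat.card (Ng K C) := by rw [hi, pow_succ, mul_comm]
      _ ≤ 3 * max (3 * H.q) (3 ^ 3) := Nat.mul_le_mul_left _ hbound
      _ ≤ 9 * H.q := by omega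
      _ < H.q ^ 3 := by
        have : 81 ≤ H.q ^ 2 := by nlinarith
        nlinarith

end Cfsg.Lib.Classical.SUThree
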