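import Cfsg.Agent.Classical.SUThree.Centres

/-!
Counting the centres of transvections in odd characteristic.
-/

set_option autoImplicit false
set_option linter.unusedSectionVars false
set_option linter.style.haveILetI false
set_option maxHeartbeats 1000000

namespace Cfsg.Lib.Classical.SUThree

open Cfsg.Lib.Classical Cfsg.Lib.Components.UnitaryThree Cfsg.Lib.Known.PSUThree Cfsg.Lib.RootSub
open scoped MatrixGroups

universe u v

variable {F : Type u} [Field F] [Finite F] {V : Type v} [AddCommGroup V] [Module F V]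
  [FiniteDimensional F V] {H : HermSpace F V}

variable (K : Subgroup H.SIsom) (hd : Module.finrank F V = 3) (B : Frame H) {δ : F} (hδ : δ + H.σ δ = 0)
  (hδ0 : δ ≠ 0)

/-- The trace of the group on the line of a frame. -/
noncomputable def Lsl : Subgroup SL(2, fixedField H.σ) := K.comap (emb hd B hδ hδ0)

omit [Finite F] [FiniteDimensional F V] in
theorem line_ne (z : fixedField H.σ) : ((z : F) * δ) • B.e + B.f ≠ 0 := fun h => by
  have := congrArg (fun t => H.h t B.e) h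
  simp [H.add_left, H.smul_left, B.ee, B.fe, H.zero_left] at this

/-- A point of the line. -/
noncomputable def linePt (z : fixedField H.σ) : H.IsoPt := H.isoMk _ (line_ne B z) (P_iso B hδ z)

include hd hδ hδ0

theorem mem_up {x : fixedField H.σ} : x ∈ SLTwo.upSet (Lsl K hd B hδ hδ0) ↔ H.sT B.ee (skew_mul hδ x) ∈ Ag K B := by
  rw [SLTwo.mem_upSet, Lsl, Subgroup.mem_comap, emb_up]
  exact ⟨fun h => ⟨h, _, skew_mul hδ x, rfl⟩, fun h => h.1⟩

theorem linePt_ne (z : fixedField H.σ) : linePt B hδ z ≠ pt B := fun h => by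
  obtain ⟨c, hc⟩ := (pt_ne_iff (line_ne B z) (P_iso B hδ z)).1 h
  have := congrArg (fun t => H.h t B.e) hc
  simp [H.add_left, H.smul_left, B.ee, B.fe] at this

theorem linePt_inj : Function.Injective (linePt B hδ (δ := δ)) := fun z z' h => by
  obtain ⟨c, hc⟩ := (HermSpace.isoMk_eq_iff H).1 h
  have h1 := congrArg (fun t => H.h t B.e) hc
  have h2 := congrArg (fun t => H.h t B.f) hc
  simp [H.add_left, H.smul_left, B.ee, B.fe, B.ef, B.ff] at h1 h2
  rw [h1, one_mul] at h2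
  exact Subtype.ext ((mul_left_injective₀ hδ0) h2).symm

theorem cz_iff (z : fixedField H.σ) : SLTwo.Cz (Lsl K hd B hδ hδ0) z ↔ linePt B hδ z ∈ Cn K := by
  have hroot : H.rootGroup (linePt B hδ z).2 = H.rootGroup (P_iso B hδ z) := by
    obtain ⟨a, ha⟩ := Projectivization.exists_smul_eq_mk_rep F _ (line_ne B z)
    exact H.rootGroup_eq_of_smul (P_iso B hδ z) _ a.ne_zero (by rw [← Units.smul_def, ha]; rfl)
  constructor
  · rintro ⟨s, hs, h⟩
    rw [Lsl, Subgroup.mem_comap, emb_conj] at h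
    refine ⟨_, h, sT_ne_one _ (line_ne B z) _ ?_, hroot.symm ▸ ⟨_, skew_div hδ s, rfl⟩⟩
    exact div_ne_zero (fun e => hs (Subtype.ext e)) hδ0
  · rintro ⟨g, hg, hg1, hgr⟩
    rw [hroot] at hgr
    obtain ⟨c, hc, e⟩ := hgr
    obtain ⟨-, s, rfl⟩ := exists_coe (H := H) hδ hδ0 hc
    refine ⟨s, fun h => hg1 ?_, ?_⟩
    · refine Subtype.ext (e.trans ?_)
      subst h
      exact H.isom_ext fun t => by rw [H.uT_apply]; simp
    · rw [Lsl, Subgroup.mem_comap, emb_conj]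
      exact (show g = H.sT (P_iso B hδ z) (skew_div hδ s) from Subtype.ext e) ▸ hg

theorem lineSets_ne (hB : pt B ∈ Cn K) (hf : ptf B ∈ Cn K) :
    SLTwo.upSet (Lsl K hd B hδ hδ0) ≠ ⊥ ∧ SLTwo.loSet (Lsl K hd B hδ hδ0) ≠ ⊥ := by
  constructor
  · intro e
    obtain ⟨⟨g, hg⟩, hg1⟩ := Subgroup.ne_bot_iff_exists_ne_one.1 (mem_Cn.1 hB)
    obtain ⟨hc, hgT⟩ := root_eq_sT B hg.2
    obtain ⟨⟨x, hx⟩, -⟩ := exists_coe (H := H) hδ hδ0 hc
    have hxm : x ∈ SLTwo.upSet (Lsl K hd B hδ hδ0) :=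
      (mem_up K hd B hδ hδ0).2 (by rw [← H.sT_congr B.ee B.ee hc _ rfl hx, ← hgT]; exact hg)
    have hx0 : x = 0 := (AddSubgroup.eq_bot_iff_forall _).1 e x hxm
    refine hg1 (Subtype.ext (ext_fixE hd B ((root_le_fixE B).1 hg.2) (one_mem _)
      (((root_le_fixE B).2 _ hg.2).trans (eb_one B).1.symm) ?_))
    show ec B g = ec B 1
    rw [(eb_one B).2, hx, hx0]
    exact zero_mul δ
  · intro e
    obtain ⟨g, hg, hg1, hgr⟩ := hf
    obtain ⟨a, ha⟩ := Projectivization.exists_smul_eq_mk_rep F B.f (ptf_ne B)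
    rw [H.rootGroup_eq_of_smul B.ff (ptf B).2 a.ne_zero (by rw [← Units.smul_def, ha]; rfl)] at hgr
    obtain ⟨c, hc, hge⟩ := hgr
    obtain ⟨-, y, hy⟩ := exists_coe (H := H) hδ hδ0 hc
    have hgT : g = H.sT B.ff (skew_div hδ y) :=
      (show g = H.sT B.ff hc from Subtype.ext hge).trans (H.sT_congr B.ff B.ff hc _ rfl hy)
    have hym : y ∈ SLTwo.loSet (Lsl K hd B hδ hδ0) := by
      rw [SLTwo.mem_loSet, Lsl, Subgroup.mem_comap, emb_lo, ← hgT]; exact hg
    have hy0 : y = 0 := (AddSubgroup.eq_bot_iff_forall _).1 e y hym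
    refine hg1 (hgT.trans (H.sisom_ext fun t => ?_))
    rw [H.sT_apply, hy0]
    simp

variable (h2 : (2 : F) ≠ 0)
include h2

omit hd hδ hδ0 in
theorem two_fix : (2 : fixedField H.σ) ≠ 0 := fun e => h2 (by
  have h := congrArg Subtype.val e
  exact h)

/-- The reflection of a line with two centres. -/
theorem refl_mem (hB : pt B ∈ Cn K) (hf : ptf B ∈ Cn K) :
    ∃ r ∈ Lg K B, r * r = 1 ∧ r.1.1 B.e = -B.e ∧ r.1.1 B.f = -B.f ∧ r.1.1 B.w = B.w := by
  obtain ⟨hX, hY⟩ := lineSets_ne K hd B hδ hδ0 hB hf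
  have hm : emb hd B hδ hδ0 (-1) ∈ K := SLTwo.neg_one_mem _ (two_fix h2) hX hY
  refine ⟨emb hd B hδ hδ0 (-1), ⟨hm, mem_stE.2 ⟨-1, ?_⟩⟩, ?_, ?_, ?_, emb_w hd B hδ hδ0 _⟩
  · rw [emb_e]; simp
  · rw [← map_mul, neg_one_mul, neg_neg, map_one]
  · rw [emb_e]; simp
  · rw [emb_f]; simp

omit hδ hδ0 in
/-- Every centre is a translate of one on the line. -/
theorem exists_translate (p : ℕ) [Fact p.Prime] [CharP F p] (hB : pt B ∈ Cn K) (hf : ptf B ∈ Cn K)
    (hδ : δ + H.σ δ = 0) (hδ0 : δ ≠ 0) {P : H.IsoPt} (hP : P ∈ Cn K) (hne : P ≠ pt B) :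
    ∃ x ∈ Ng K B, ∃ z, x • linePt B hδ z = P := by
  obtain ⟨C, hCe, hCf⟩ := exists_pair_frame hd B hne
  have hpt : pt C = pt B := pt_eq_iff.2 ⟨1, one_ne_zero, by rw [one_smul, hCe]⟩
  obtain ⟨r, hr, hrr, hre, hrf, hrw⟩ := refl_mem K hd B hδ hδ0 h2 hB hf
  obtain ⟨r', hr', hrr', hre', hrf', hrw'⟩ := refl_mem K hd C hδ hδ0 h2 (hpt ▸ hB) (hCf ▸ hP)
  rw [hCe] at hre'
  have hri : r⁻¹ = r := inv_eq_of_mul_eq_one_right hrr
  have hri' : r'⁻¹ = r' := inv_eq_of_mul_eq_one_right hrr'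
  have hrC : r' ∈ Lg K B := ⟨hr'.1, stE_congr hpt ▸ hr'.2⟩
  have hear : ea B r = -1 := by rw [ea, hre, H.neg_left, B.ef]
  have hedr : ed B r = 1 := by rw [ed, hrw, B.ww]
  set y := r' * r with hy
  have hyN : y ∈ Ng K B := by
    refine ⟨mul_mem hrC.1 hr.1, ?_⟩
    show (r' * r).1.1 B.e = B.e
    rw [H.smul_mul_apply, hre, map_neg, hre', neg_neg]
  set x := y ^ ((p + 1) / 2) with hx
  have hxN : x ∈ Ng K B := pow_mem hyN _
  have hp2 : p ≠ 2 := fun e => h2 (by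
    have := CharP.cast_eq_zero F p
    rw [e] at this
    exact_mod_cast this)
  have hxb : 2 * eb B x = eb B y := by
    rw [hx, eb_pow hd B hyN.2, ← mul_assoc]
    have h : 2 * ((p + 1) / 2) = p + 1 := by
      have := (Fact.out : p.Prime).odd_of_ne_two hp2
      obtain ⟨m, hm⟩ := this
      omega
    have h' : (2 : F) * (((p + 1) / 2 : ℕ) : F) = 1 := by
      have e : ((2 * ((p + 1) / 2) : ℕ) : F) = ((p + 1 : ℕ) : F) := by rw [h]
      push_cast [CharP.cast_eq_zero] at e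
      simpa using e
    rw [h', one_mul]
  have hrxN : r * x⁻¹ * r⁻¹ ∈ Ng K B :=
    ⟨K.mul_mem (K.mul_mem hr.1 (K.inv_mem hxN.1)) (K.inv_mem hr.1), conj_mem_fixE hd B hr.2 (inv_mem hxN.2)⟩
  set z := x * (r * x⁻¹ * r⁻¹) with hz
  have hzN : z ∈ Ng K B := mul_mem hxN hrxN
  have hebinv : eb B x⁻¹ = -eb B x := by
    have h := (eb_mul hd B hxN.2 (inv_mem hxN.2)).1
    rw [mul_inv_cancel, (eb_one B).1] at h
    linear_combination -h
  have hzb : eb B z = eb B y := by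
    have hc := conj_eb hd B hr.2 (inv_mem hxN.2)
    rw [hear, hedr, one_mul, hebinv] at hc
    rw [hz, (eb_mul hd B hxN.2 hrxN.2).1, hc, ← hxb]
    ring
  set a := y * z⁻¹ with ha
  have haN : a ∈ Ng K B := mul_mem hyN (inv_mem hzN)
  have hab : eb B a = 0 := by
    have h := (eb_mul hd B haN.2 hzN.2).1
    rw [ha, inv_mul_cancel_right, hzb] at h
    linear_combination -h
  have haA : a ∈ H.rootGroup B.ee := mem_root_of_eb hd B haN.2 hab
  have har : r * a = a * r := by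
    obtain ⟨h1, h2'⟩ := conj_ec hd B hr.2 haA
    rw [hear] at h2'
    simp at h2'
    have e := ext_fixE hd B ((root_le_fixE B).1 h1) haN.2 (((root_le_fixE B).2 _ h1).trans hab.symm) h2'
    calc r * a = r * a * r⁻¹ * r := by group
      _ = a * r := by rw [e]
  have haz : a * z = z * a := by
    refine ext_fixE hd B (mul_mem haN.2 hzN.2) (mul_mem hzN.2 haN.2) ?_ ?_
    · rw [(eb_mul hd B haN.2 hzN.2).1, (eb_mul hd B hzN.2 haN.2).1, add_comm]
    · rw [(eb_mul hd B haN.2 hzN.2).2, (eb_mul hd B hzN.2 haN.2).2, hab, map_zero]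
      ring
  have hya : y = a * z := by rw [ha]; group
  have hzinv : r * z * r = z⁻¹ := by
    rw [hz, mul_inv_rev, mul_inv_rev, mul_inv_rev, inv_inv, inv_inv, hri]
    calc r * (x * (r * x⁻¹ * r)) * r = r * x * r * x⁻¹ * (r * r) := by group
      _ = _ := by rw [hrr, mul_one]; group
  have hyinv : r * y * r = y⁻¹ := by
    rw [hy, mul_inv_rev, hri, hri', mul_assoc r, mul_assoc r', hrr, mul_one]
  have ha2 : a * a = 1 := by
    have e : a * z⁻¹ = z⁻¹ * a⁻¹ := by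
      calc a * z⁻¹ = a * (r * z * r) := by rw [hzinv]
        _ = (a * r) * z * r := by group
        _ = r * (a * z) * r := by rw [← har]; group
        _ = z⁻¹ * a⁻¹ := by rw [← hya, hyinv, hya, mul_inv_rev]
    have e2 : z⁻¹ * a = a * z⁻¹ := by
      calc z⁻¹ * a = z⁻¹ * (a * z) * z⁻¹ := by group
        _ = a * z⁻¹ := by rw [haz]; group
    rw [← e2] at e
    exact inv_eq_iff_mul_eq_one.1 (mul_left_cancel e).symm
  have ha1 : a = 1 := by
    refine ext_fixE hd B haN.2 (one_mem _) (hab.trans (eb_one B).1.symm) ?_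
    have h := root_pow hd B haA 2
    rw [pow_two, ha2, (eb_one B).2, Nat.cast_ofNat] at h
    rw [(eb_one B).2]
    exact (mul_eq_zero.1 h.symm).resolve_left h2
  have hconj : r' = x * r * x⁻¹ := by
    calc r' = y * r⁻¹ := by rw [hy]; group
      _ = z * r⁻¹ := by rw [hya, ha1, one_mul]
      _ = x * r * x⁻¹ * (r⁻¹ * r⁻¹) := by rw [hz]; group
      _ = x * r * x⁻¹ := by rw [hri, hrr, mul_one]
  -- the other point lies on the line
  set u := (x⁻¹).1.1 C.f with hu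
  have hu0 : u ≠ 0 := H.isom_ne_zero (x⁻¹).1 (ptf_ne C)
  have huu : H.h u u = 0 := by rw [hu, H.map_form, C.ff]
  have hru : r.1.1 u = -u := by
    have e : r * x⁻¹ = x⁻¹ * r' := by rw [hconj]; group
    rw [hu, ← H.smul_mul_apply, e, H.smul_mul_apply, hrf', map_neg]
  have huw : H.h u B.w = 0 := by
    have h := H.map_form r.1 u B.w
    rw [hru, hrw, H.neg_left] at h
    exact (mul_eq_zero.1 (show 2 * H.h u B.w = 0 by linear_combination -h)).resolve_left h2
  have hPu : P = x • H.isoMk u hu0 huu := by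
    rw [HermSpace.smul_isoMk, ← hCf, ptf, HermSpace.isoMk_eq_iff]
    refine ⟨1, ?_⟩
    rw [one_smul, hu, ← H.smul_mul_apply, mul_inv_cancel]
    rfl
  have hue : H.h u B.e ≠ 0 := h_ne hd hu0 huu fun h => hne (by
    rw [hPu, h]
    exact MulAction.mem_stabilizer_iff.1 (fixE_le_stE B hxN.2))
  have hdu := decomp hd B u
  rw [huw, zero_smul, add_zero] at hdu
  have hc : H.h u B.f / H.h u B.e + H.σ (H.h u B.f / H.h u B.e) = 0 := by
    have h := huu
    rw [hdu] at h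
    simp [H.add_left, H.add_right, H.smul_left, H.smul_right, B.ee, B.ef, B.fe, B.ff] at h
    have hσ : H.σ (H.h u B.e) ≠ 0 := (map_ne_zero _).2 hue
    rw [map_div₀]
    field_simp
    linear_combination h
  obtain ⟨⟨zc, hzc⟩, -⟩ := exists_coe (H := H) hδ hδ0 hc
  refine ⟨x, hxN, zc, ?_⟩
  rw [hPu]
  congr 1
  rw [linePt, HermSpace.isoMk_eq_iff]
  refine ⟨(H.h u B.e)⁻¹, ?_⟩
  rw [← hzc]
  conv_lhs => arg 2; rw [hdu]
  rw [smul_add, smul_smul, smul_smul, inv_mul_cancel₀ hue, one_smul, mul_comm, ← div_eq_mul_inv]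

/-- The count of centres. -/
theorem count_line (p : ℕ) [Fact p.Prime] [CharP F p] (hB : pt B ∈ Cn K) (hf : ptf B ∈ Cn K) :
    Nat.card (Ng K B) * Nat.card {z // SLTwo.Cz (Lsl K hd B hδ hδ0) z} =
      Nat.card (Others K B) * Nat.card (SLTwo.upSet (Lsl K hd B hδ hδ0)) := by
  classical
  set L := Lsl K hd B hδ hδ0
  let Φ : Ng K B × {z // SLTwo.Cz L z} → Others K B := fun y =>
    ⟨y.1.1 • linePt B hδ y.2.1, smul_mem_Cn K ((cz_iff K hd B hδ hδ0 _).1 y.2.2) y.1.2.1, fun h => by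
      refine linePt_ne hd B hδ hδ0 y.2.1 ?_
      rw [← inv_smul_smul y.1.1 (linePt B hδ y.2.1), h]
      exact MulAction.mem_stabilizer_iff.1 (fixE_le_stE B (inv_mem y.1.2.2))⟩
  have hshift : ∀ (t z : fixedField H.σ),
      emb hd B hδ hδ0 (upEl t) • linePt B hδ z = linePt B hδ (z + t) := by
    intro t z
    rw [linePt, linePt, HermSpace.smul_isoMk, HermSpace.isoMk_eq_iff]
    refine ⟨1, ?_⟩
    rw [one_smul, map_add, map_smul, emb_e, emb_f]
    simp [upEl_coe]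
    module
  have hsurj : ∀ Q : Others K B, ∃ y, Φ y = Q := by
    rintro ⟨Q, hQ, hne⟩
    obtain ⟨x, hx, z, rfl⟩ := exists_translate K hd B h2 p hB hf hδ hδ0 hQ hne
    refine ⟨⟨⟨x, hx⟩, ⟨z, (cz_iff K hd B hδ hδ0 z).2 ?_⟩⟩, rfl⟩
    have := smul_mem_Cn K hQ (inv_mem hx.1)
    rwa [inv_smul_smul] at this
  choose s hs using hsurj
  have hmove : ∀ (x : Ng K B) (z z' : fixedField H.σ), x.1 • linePt B hδ z = linePt B hδ z' →
      z' - z ∈ SLTwo.upSet L ∧ x.1 = emb hd B hδ hδ0 (upEl (z' - z)) := by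
    intro x z z' h
    obtain ⟨x1, x2, -⟩ := unipotent hd B x.2.2
    have hxe : x.1.1.1 B.e = B.e := x.2.2
    rw [linePt, linePt, HermSpace.smul_isoMk, HermSpace.isoMk_eq_iff] at h
    obtain ⟨c, hc⟩ := h
    rw [map_add, map_smul, hxe, x2] at hc
    have h1 := congrArg (fun t => H.h t B.w) hc
    simp [H.add_left, H.smul_left, H.neg_left, B.ew, B.ww, B.fw] at h1
    have hb : eb B x.1 = 0 := h1
    have hA : x.1 ∈ Ag K B := ⟨x.2.1, mem_root_of_eb hd B x.2.2 hb⟩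
    obtain ⟨hcx, hxT⟩ := root_eq_sT B hA.2
    obtain ⟨⟨t, ht⟩, -⟩ := exists_coe (H := H) hδ hδ0 hcx
    have hxt : x.1 = emb hd B hδ hδ0 (upEl t) := by
      rw [emb_up, hxT]
      exact H.sT_congr B.ee B.ee hcx _ rfl ht
    have hz : z + t = z' := linePt_inj hd B hδ hδ0 (by
      rw [← hshift, ← hxt, linePt, linePt, HermSpace.smul_isoMk, HermSpace.isoMk_eq_iff]
      exact ⟨c, by rw [map_add, map_smul, hxe, x2]; exact hc⟩)
    subst hz
    rw [add_sub_cancel_left]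
    refine ⟨?_, hxt⟩
    show emb hd B hδ hδ0 (upEl t) ∈ K
    exact hxt ▸ x.2.1
  have hfibre : ∀ Q : Others K B, Nat.card {y // Φ y = Q} = Nat.card (SLTwo.upSet L) := by
    intro Q
    have hQ0 := congrArg Subtype.val (hs Q)
    change (s Q).1.1 • linePt B hδ (s Q).2.1 = Q.1 at hQ0
    have hup : ∀ t : SLTwo.upSet L, emb hd B hδ hδ0 (upEl (-t.1)) ∈ Ng K B := fun t => by
      refine ⟨(SLTwo.upSet L).neg_mem t.2, ?_⟩
      show (emb hd B hδ hδ0 (upEl (-t.1))).1.1 B.e = B.e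
      rw [emb_e]
      simp [upEl_coe]
    refine Nat.card_eq_of_bijective (fun y => (⟨y.1.2.1 - (s Q).2.1, ?_⟩ : SLTwo.upSet L)) ⟨?_, ?_⟩
    · have h := congrArg Subtype.val y.2
      change y.1.1.1 • linePt B hδ y.1.2.1 = Q.1 at h
      rw [← hQ0] at h
      refine (hmove (y.1.1⁻¹ * (s Q).1) _ _ ?_).1
      show (y.1.1.1⁻¹ * (s Q).1.1) • _ = _
      rw [mul_smul, ← h, inv_smul_smul]
    · intro y y' e
      have hz : y.1.2.1 = y'.1.2.1 := by simpa using congrArg Subtype.val e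
      have h : y.1.1.1 • linePt B hδ y.1.2.1 = y'.1.1.1 • linePt B hδ y'.1.2.1 :=
        (congrArg Subtype.val y.2).trans (congrArg Subtype.val y'.2).symm
      rw [← hz] at h
      have h1 : (y'.1.1.1⁻¹ * y.1.1.1) • linePt B hδ y.1.2.1 = linePt B hδ y.1.2.1 := by
        rw [mul_smul, h, inv_smul_smul]
      have := semiregular K hd B (mul_mem (inv_mem y'.1.1.2) y.1.1.2) (linePt_ne hd B hδ hδ0 _) h1
      exact Subtype.ext (Prod.ext (Subtype.ext (inv_mul_eq_one.1 this).symm) (Subtype.ext hz))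
    · intro t
      refine ⟨⟨⟨(s Q).1 * ⟨_, hup t⟩, ⟨(s Q).2.1 + t.1, SLTwo.Cz.up L (s Q).2.2 t.2⟩⟩, ?_⟩, ?_⟩
      · refine Subtype.ext ?_
        show ((s Q).1.1 * emb hd B hδ hδ0 (upEl (-t.1))) • linePt B hδ _ = Q.1
        rw [mul_smul, hshift, add_neg_cancel_right, hQ0]
      · exact Subtype.ext (add_sub_cancel_left _ _)
  haveI : Fintype (Others K B) := Fintype.ofFinite _
  rw [← Nat.card_prod, ← Nat.card_congr (Equiv.sigmaFiberEquiv Φ), Nat.card_sigma,
    Finset.sum_congr rfl fun Q _ => hfibre Q, Finset.sum_const, Finset.card_univ, smul_eq_mul,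
    ← Nat.card_eq_fintype_card]

theorem card_up (hB : pt B ∈ Cn K) : Nat.card (SLTwo.upSet (Lsl K hd B hδ hδ0)) = Nat.card (Ag K B) := by
  refine Nat.card_eq_of_bijective (fun t => (⟨_, (mem_up K hd B hδ hδ0).1 t.2⟩ : Ag K B)) ⟨?_, ?_⟩
  · intro t t' e
    have e' : emb hd B hδ hδ0 (upEl t.1) = emb hd B hδ hδ0 (upEl t'.1) := by
      rw [emb_up, emb_up]; exact congrArg Subtype.val e
    refine Subtype.ext ?_
    have e2 := congrArg (fun M : (SL(2, fixedField H.σ)) => M.1 0 1) (emb_injective hd B hδ hδ0 e')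
    simpa [upEl_coe] using e2
  · intro g
    obtain ⟨hc, hgT⟩ := root_eq_sT B g.2.2
    obtain ⟨⟨x, hx⟩, -⟩ := exists_coe (H := H) hδ hδ0 hc
    have hgx : g.1 = H.sT B.ee (skew_mul hδ x) := hgT.trans (H.sT_congr B.ee B.ee hc _ rfl hx)
    exact ⟨⟨x, (mem_up K hd B hδ hδ0).2 (hgx ▸ g.2)⟩, Subtype.ext hgx.symm⟩

omit hδ hδ0 in
/-- In odd characteristic the unipotent part is transitive on the other centres, or has three orbits. -/
theorem count_odd (hB : pt B ∈ Cn K) (hf : ptf B ∈ Cn K) :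
    Nat.card (Others K B) = Nat.card (Ng K B) ∨
      ((3 : F) = 0 ∧ Nat.card (Ag K B) = 3 ∧ Nat.card (Others K B) = 3 * Nat.card (Ng K B)) := by
  obtain ⟨p, hp⟩ := CharP.exists F
  haveI : Fact p.Prime := ⟨CharP.char_is_prime F p⟩
  obtain ⟨δ, hδ0, hδ⟩ := H.conj.exists_skew
  have h := count_line K hd B hδ hδ0 h2 p hB hf
  obtain ⟨hX, hY⟩ := lineSets_ne K hd B hδ hδ0 hB hf
  rcases SLTwo.points (Lsl K hd B hδ hδ0) (two_fix h2) hX hY with hline | ⟨h3, hc3, h9⟩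
  · left
    rw [Nat.card_congr (Equiv.subtypeEquivRight hline), mul_comm] at h
    exact (Nat.eq_of_mul_eq_mul_left Nat.card_pos (h.trans (mul_comm _ _))).symm
  · right
    refine ⟨by have h3' := congrArg Subtype.val hc3; exact h3', (card_up K hd B hδ hδ0 h2 hB).symm.trans h3, ?_⟩
    rw [show Nat.card {z // SLTwo.Cz (Lsl K hd B hδ hδ0) z} = 9 from
      (Nat.card_coe_set_eq _).trans h9, h3] at h
    omega

end Cfsg.Lib.Classical.SUThree
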