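import Mathlib

/-!
Finite groups in which every non-trivial element fixes exactly two points: an invariant pair, or one of three orders.
-/

set_option autoImplicit false
set_option linter.unusedSectionVars false
set_option linter.style.haveILetI false

namespace Cfsg.Lib.Classical.SUThree.TwoFix

open MulAction

universe u v

variable (G : Type u) [Group G] [Finite G] (X : Type v) [Finite X] [MulAction G X]

/-- The hypothesis. -/
def Pairs : Prop := ∀ g : G, g ≠ 1 → Nat.card (fixedBy X g) = 2

variable {G X}

theorem card_orbit_mul (x : X) : Nat.card (orbit G x) * Nat.card (stabilizer G x) = Nat.card G := by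
  rw [← (stabilizer G x).card_mul_index, index_stabilizer, Nat.card_coe_set_eq, mul_comm]

theorem card_stab_orbit {x y : X} (h : y ∈ orbit G x) : Nat.card (stabilizer G y) = Nat.card (stabilizer G x) := by
  have h1 := card_orbit_mul (G := G) x
  have h2 := card_orbit_mul (G := G) y
  rw [orbit_eq_iff.2 h] at h2
  haveI : Nonempty (orbit G x) := ⟨⟨x, mem_orbit_self _⟩⟩
  exact Nat.eq_of_mul_eq_mul_left Nat.card_pos (h2.trans h1.symm)

/-- The conclusion when there is no invariant pair: an order, and the largest point stabiliser. -/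
def Sporadic (n m : ℕ) (G : Type u) [Group G] (X : Type v) [MulAction G X] : Prop :=
  Nat.card G = n ∧ (∀ x : X, Nat.card (stabilizer G x) ≤ m) ∧
    (n ≠ 12 → ∀ x y : X, 3 ≤ Nat.card (stabilizer G x) → Nat.card (stabilizer G x) = Nat.card (stabilizer G y) →
      y ∈ orbit G x)

/-- An invariant pair containing all points with a stabiliser of order more than two, or one of three orders. -/
theorem cases (h : Pairs G X) (hX : 2 ≤ Nat.card X) :
    (∃ S : Set X, S.ncard = 2 ∧ (∀ g : G, ∀ x ∈ S, g • x ∈ S) ∧ ∀ x, 3 ≤ Nat.card (stabilizer G x) → x ∈ S) ∨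
      Sporadic 12 3 G X ∨ Sporadic 24 4 G X ∨ Sporadic 60 5 G X := by
  classical
  haveI : Fintype G := Fintype.ofFinite _
  haveI : Fintype X := Fintype.ofFinite _
  haveI : Fintype (orbitRel.Quotient G X) := Fintype.ofFinite _
  set n := Nat.card G with hn
  have hnpos : 0 < n := Nat.card_pos
  let s : orbitRel.Quotient G X → ℕ := fun o => Nat.card o.orbit
  have hs : ∀ x : X, s ⟦x⟧ = Nat.card (orbit G x) := fun x => by
    show Nat.card (orbitRel.Quotient.orbit ⟦x⟧) = _
    rw [← orbitRel.Quotient.orbit_mk]
  have hsd : ∀ o, s o ∣ n ∧ 0 < s o := fun o => by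
    induction o using Quotient.inductionOn with | _ x => ?_
    rw [hs]
    haveI : Nonempty (orbit G x) := ⟨⟨x, mem_orbit_self _⟩⟩
    exact ⟨Dvd.intro _ (card_orbit_mul x), Nat.card_pos⟩
  have hsum : ∑ o, s o = Nat.card X := by
    rw [Nat.card_congr (selfEquivSigmaOrbits' G X), Nat.card_sigma]
  have hburn : Fintype.card (orbitRel.Quotient G X) * n = Nat.card X + 2 * (n - 1) := by
    rw [hn, Nat.card_eq_fintype_card (α := G), ← sum_card_fixedBy_eq_card_orbits_mul_card_group G X,
      ← Finset.add_sum_erase _ _ (Finset.mem_univ (1 : G)),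
      Finset.sum_congr rfl (g := fun _ => 2) fun g hg => by
        rw [← Nat.card_eq_fintype_card]; exact h g (Finset.ne_of_mem_erase hg),
      Finset.sum_const, Finset.card_erase_of_mem (Finset.mem_univ _), Finset.card_univ, smul_eq_mul,
      mul_comm 2, ← Nat.card_eq_fintype_card, Nat.card_coe_set_eq,
      show fixedBy X (1 : G) = Set.univ from Set.eq_univ_of_forall fun x => one_smul _ x, Set.ncard_univ]
  set T := Finset.univ.filter fun o => s o < n with hT
  have heq : ∑ o ∈ T, (n - s o) = 2 * (n - 1) := by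
    have h1 : ∑ o ∈ T, (n - s o) = ∑ o, (n - s o) := Finset.sum_filter_of_ne fun o _ ho => by
      have := Nat.le_of_dvd hnpos (hsd o).1; omega
    have h2 : ∑ o, (n - s o) + ∑ o, s o = Fintype.card (orbitRel.Quotient G X) * n := by
      rw [← Finset.sum_add_distrib, Finset.sum_congr rfl (g := fun _ => n) fun o _ => by
        have := Nat.le_of_dvd hnpos (hsd o).1; omega, Finset.sum_const, Finset.card_univ, smul_eq_mul]
    omega
  have hhalf : ∀ o ∈ T, 2 * s o ≤ n := by
    intro o ho
    obtain ⟨⟨c, hc⟩, -⟩ := hsd o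
    have hlt : s o < n := (Finset.mem_filter.1 ho).2
    have : 2 ≤ c := by
      by_contra! hc2
      interval_cases c <;> omega
    rw [hc]
    calc 2 * s o = s o * 2 := mul_comm _ _
      _ ≤ s o * c := Nat.mul_le_mul_left _ this
  have hcard : T.card ≤ 3 := by
    by_contra! h4
    have h5 : T.card * n ≤ ∑ o ∈ T, 2 * (n - s o) := by
      rw [← smul_eq_mul]
      exact Finset.card_nsmul_le_sum _ _ _ fun o ho => by have := hhalf o ho; omega
    rw [← Finset.mul_sum, heq] at h5
    have : 4 * n ≤ T.card * n := Nat.mul_le_mul_right _ h4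
    omega
  have hstab : ∀ x, s (⟦x⟧ : orbitRel.Quotient G X) * Nat.card (stabilizer G x) = n := fun x => by rw [hs, card_orbit_mul]
  have hmemT : ∀ x, 1 < Nat.card (stabilizer G x) → (⟦x⟧ : orbitRel.Quotient G X) ∈ T := fun x hx => by
    refine Finset.mem_filter.2 ⟨Finset.mem_univ _, ?_⟩
    rw [← hstab x]
    exact lt_mul_of_one_lt_right (hsd _).2 hx
  -- the invariant pair made of orbits
  have pair : ∀ S : Finset (orbitRel.Quotient G X), ∑ o ∈ S, s o = 2 →
      (∀ x, 3 ≤ Nat.card (stabilizer G x) → (⟦x⟧ : orbitRel.Quotient G X) ∈ S) →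
      ∃ S : Set X, S.ncard = 2 ∧ (∀ g : G, ∀ x ∈ S, g • x ∈ S) ∧ ∀ x, 3 ≤ Nat.card (stabilizer G x) → x ∈ S := by
    intro S hS hbig
    refine ⟨{x | (⟦x⟧ : orbitRel.Quotient G X) ∈ S}, ?_, fun g x hx => ?_, hbig⟩
    · rw [← Nat.card_coe_set_eq, ← hS, ← Finset.sum_coe_sort, ← Nat.card_sigma]
      exact Nat.card_congr
        { toFun := fun x => ⟨⟨⟦x.1⟧, x.2⟩, ⟨x.1, orbitRel.Quotient.mem_orbit.2 rfl⟩⟩
          invFun := fun z => ⟨z.2.1, by
            have e : (⟦z.2.1⟧ : orbitRel.Quotient G X) = z.1.1 := orbitRel.Quotient.mem_orbit.1 z.2.2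
            show (⟦z.2.1⟧ : orbitRel.Quotient G X) ∈ S
            rw [e]; exact z.1.2⟩
          left_inv := fun x => rfl
          right_inv := fun z => Sigma.subtype_ext (Subtype.ext (orbitRel.Quotient.mem_orbit.1 z.2.2)) rfl }
    · show (⟦g • x⟧ : orbitRel.Quotient G X) ∈ S
      rwa [show (⟦g • x⟧ : orbitRel.Quotient G X) = ⟦x⟧ from Quotient.sound ⟨g, rfl⟩]
  -- uniqueness of the orbit of a given length
  have uniq : ∀ (m : ℕ) (o : orbitRel.Quotient G X), (∀ o' ∈ T, o' ≠ o → s o' * m ≠ n) → 1 < m →
      ∀ x y : X, Nat.card (stabilizer G x) = m → Nat.card (stabilizer G y) = m → y ∈ orbit G x := by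
    intro m o ho hm x y hx hy
    have hxo : (⟦x⟧ : orbitRel.Quotient G X) = o := by
      by_contra hne
      exact ho _ (hmemT x (by omega)) hne (by rw [← hx, hstab])
    have hyo : (⟦y⟧ : orbitRel.Quotient G X) = o := by
      by_contra hne
      exact ho _ (hmemT y (by omega)) hne (by rw [← hy, hstab])
    exact Quotient.exact (hyo.trans hxo.symm)
  interval_cases hk : T.card
  · -- trivial group
    rw [Finset.card_eq_zero] at hk
    rw [hk, Finset.sum_empty] at heq
    have hn1 : n = 1 := by omega
    obtain ⟨a, b, hab⟩ := (Finite.one_lt_card_iff_nontrivial.1 (by omega : 1 < Nat.card X)).exists_pair_ne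
    refine Or.inl ⟨{a, b}, Set.ncard_pair hab, fun g x hx => ?_, fun x hx => ?_⟩
    · haveI := (Nat.card_eq_one_iff_unique.1 hn1).1
      rwa [Subsingleton.elim g 1, one_smul]
    · have := Nat.le_of_dvd hnpos (Subgroup.card_subgroup_dvd_card (stabilizer G x))
      omega
  · obtain ⟨o, ho⟩ := Finset.card_eq_one.1 hk
    rw [ho, Finset.sum_singleton] at heq
    have h1 := hhalf o (ho ▸ Finset.mem_singleton_self o)
    have h2 := (hsd o).2
    omega
  · refine Or.inl (pair T ?_ fun x hx => hmemT x (by omega))
    obtain ⟨a, b, hab, hT2⟩ := Finset.card_eq_two.1 hk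
    rw [hT2, Finset.sum_pair hab] at heq ⊢
    have h1 := hhalf a (by simp [hT2])
    have h2 := hhalf b (by simp [hT2])
    have := (hsd a).2
    have := (hsd b).2
    omega
  · obtain ⟨a, b, c, hab, hac, hbc, hT3⟩ := Finset.card_eq_three.1 hk
    rw [hT3] at heq
    simp only [Finset.sum_insert, Finset.mem_insert, Finset.mem_singleton, hab, hac, hbc, or_self, not_false_eq_true,
      Finset.sum_singleton] at heq
    have hmem : ∀ x, 1 < Nat.card (stabilizer G x) →
        s a * Nat.card (stabilizer G x) = n ∧ (⟦x⟧ : orbitRel.Quotient G X) = a ∨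
        s b * Nat.card (stabilizer G x) = n ∧ (⟦x⟧ : orbitRel.Quotient G X) = b ∨
        s c * Nat.card (stabilizer G x) = n ∧ (⟦x⟧ : orbitRel.Quotient G X) = c := fun x hx => by
      have := hmemT x hx
      rw [hT3, Finset.mem_insert, Finset.mem_insert, Finset.mem_singleton] at this
      rcases this with e | e | e
      · exact Or.inl ⟨e ▸ hstab x, e⟩
      · exact Or.inr (Or.inl ⟨e ▸ hstab x, e⟩)
      · exact Or.inr (Or.inr ⟨e ▸ hstab x, e⟩)
    -- relabel by decreasing length
    have key : ∀ a b c, T = {a, b, c} → a ≠ b → a ≠ c → b ≠ c → s b ≤ s a → s c ≤ s b →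
        (∀ x, 1 < Nat.card (stabilizer G x) →
          s a * Nat.card (stabilizer G x) = n ∧ (⟦x⟧ : orbitRel.Quotient G X) = a ∨
          s b * Nat.card (stabilizer G x) = n ∧ (⟦x⟧ : orbitRel.Quotient G X) = b ∨
          s c * Nat.card (stabilizer G x) = n ∧ (⟦x⟧ : orbitRel.Quotient G X) = c) →
        (∃ S : Set X, S.ncard = 2 ∧ (∀ g : G, ∀ x ∈ S, g • x ∈ S) ∧ ∀ x, 3 ≤ Nat.card (stabilizer G x) → x ∈ S) ∨
          Sporadic 12 3 G X ∨ Sporadic 24 4 G X ∨ Sporadic 60 5 G X := by
      intro a b c hT3 hab hac hbc hba hcb hmem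
      have hsum3 : ∀ f : orbitRel.Quotient G X → ℕ, ∑ o ∈ T, f o = f a + f b + f c := fun f => by
        rw [hT3]
        simp [hab, hac, hbc, add_assoc]
      have he : (n - s a) + (n - s b) + (n - s c) = 2 * (n - 1) := by
        rw [← hsum3 fun o => n - s o]
        have h1 : ∑ o ∈ T, (n - s o) = ∑ o, (n - s o) := Finset.sum_filter_of_ne fun o _ ho => by
          have := Nat.le_of_dvd hnpos (hsd o).1; omega
        have h2 : ∑ o, (n - s o) + ∑ o, s o = Fintype.card (orbitRel.Quotient G X) * n := by
          rw [← Finset.sum_add_distrib, Finset.sum_congr rfl (g := fun _ => n) fun o _ => by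
            have := Nat.le_of_dvd hnpos (hsd o).1; omega, Finset.sum_const, Finset.card_univ, smul_eq_mul]
        omega
      obtain ⟨⟨ma, hma⟩, ha0⟩ := hsd a
      obtain ⟨⟨mb, hmb⟩, hb0⟩ := hsd b
      obtain ⟨⟨mc, hmc⟩, hc0⟩ := hsd c
      have hha := hhalf a (by simp [hT3])
      have hhb := hhalf b (by simp [hT3])
      have hhc := hhalf c (by simp [hT3])
      have hn2 : s a + s b + s c = n + 2 := by omega
      have hma2 : ma = 2 := by
        have h1 : 2 ≤ ma := Nat.le_of_mul_le_mul_left (by rw [← hma]; linarith) ha0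
        by_contra hne
        have : s a * 3 ≤ n := hma ▸ Nat.mul_le_mul_left _ (by omega)
        omega
      subst hma2
      have hmb3 : mb ≤ 3 := by
        by_contra! h4
        have : s b * 4 ≤ n := hmb ▸ Nat.mul_le_mul_left _ h4
        omega
      have hmb2 : 2 ≤ mb := Nat.le_of_mul_le_mul_left (by rw [← hmb]; linarith) hb0
      interval_cases mb
      · -- an orbit of length two
        refine Or.inl (pair {c} (by rw [Finset.sum_singleton]; omega) fun x hx => ?_)
        rcases hmem x (by omega) with ⟨e, -⟩ | ⟨e, -⟩ | ⟨-, e⟩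
        · have := Nat.eq_of_mul_eq_mul_left ha0 (e.trans hma); omega
        · have := Nat.eq_of_mul_eq_mul_left hb0 (e.trans hmb); omega
        · exact Finset.mem_singleton.2 e
      · right
        have hmc5 : mc ≤ 5 := by
          by_contra! h6
          have : s c * 6 ≤ n := hmc ▸ Nat.mul_le_mul_left _ h6
          omega
        have hmc3 : 3 ≤ mc := by
          by_contra! h2
          interval_cases mc <;> omega
        have hle : ∀ x, Nat.card (stabilizer G x) ≤ mc := fun x => by
          by_contra! hx
          rcases hmem x (by omega) with ⟨e, -⟩ | ⟨e, -⟩ | ⟨e, -⟩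
          · have := Nat.eq_of_mul_eq_mul_left ha0 (e.trans hma); omega
          · have := Nat.eq_of_mul_eq_mul_left hb0 (e.trans hmb); omega
          · have := Nat.eq_of_mul_eq_mul_left hc0 (e.trans hmc); omega
        have hone : mc ≠ 3 → ∀ x y : X, 3 ≤ Nat.card (stabilizer G x) →
            Nat.card (stabilizer G x) = Nat.card (stabilizer G y) → y ∈ orbit G x := by
          intro hne x y hx hxy
          rcases hmem x (by omega) with ⟨e, hxo⟩ | ⟨e, hxo⟩ | ⟨e, hxo⟩ <;>
            rcases hmem y (by omega) with ⟨e', hyo⟩ | ⟨e', hyo⟩ | ⟨e', hyo⟩ <;>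
            first
              | exact Quotient.exact (hyo.trans hxo.symm)
              | (rw [← hxy] at e'
                 first
                   | (have := Nat.eq_of_mul_eq_mul_left ha0 (e.trans hma); omega)
                   | (have := Nat.eq_of_mul_eq_mul_left ha0 (e'.trans hma); omega)
                   | (have := Nat.eq_of_mul_eq_mul_left hb0 (e.trans hmb)
                      have := Nat.eq_of_mul_eq_mul_left hc0 (e'.trans hmc); omega)
                   | (have := Nat.eq_of_mul_eq_mul_left hc0 (e.trans hmc)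
                      have := Nat.eq_of_mul_eq_mul_left hb0 (e'.trans hmb); omega))
        interval_cases mc
        · exact Or.inl ⟨by omega, hle, fun h => absurd (by omega : n = 12) (by simpa [hn] using h)⟩
        · exact Or.inr (Or.inl ⟨by omega, hle, fun _ => hone (by norm_num)⟩)
        · exact Or.inr (Or.inr ⟨by omega, hle, fun _ => hone (by norm_num)⟩)
    have hperm : ∀ a b c : orbitRel.Quotient G X, ({a, b, c} : Finset (orbitRel.Quotient G X)) = {b, a, c} :=
      fun a b c => Finset.insert_comm a b {c}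
    have hperm' : ∀ a b c : orbitRel.Quotient G X, ({a, b, c} : Finset (orbitRel.Quotient G X)) = {a, c, b} :=
      fun a b c => by rw [Finset.pair_comm b c]
    rcases le_total (s b) (s a) with h1 | h1 <;> rcases le_total (s c) (s b) with h2 | h2
    · exact key a b c hT3 hab hac hbc h1 h2 hmem
    · rcases le_total (s c) (s a) with h3 | h3
      · exact key a c b (hT3.trans (hperm' a b c)) hac hab hbc.symm h3 h2 fun x hx => by
          rcases hmem x hx with e | e | e <;> tauto
      · exact key c a b (hT3.trans ((hperm' a b c).trans (hperm a c b))) hac.symm hbc.symm hab h3 h1 fun x hx => by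
          rcases hmem x hx with e | e | e <;> tauto
    · rcases le_total (s c) (s a) with h3 | h3
      · exact key b a c (hT3.trans (hperm a b c)) hab.symm hbc hac h1 h3 fun x hx => by
          rcases hmem x hx with e | e | e <;> tauto
      · exact key b c a (hT3.trans ((hperm a b c).trans (hperm' b a c))) hbc hab.symm hac.symm h2 h3 fun x hx => by
          rcases hmem x hx with e | e | e <;> tauto
    · exact key c b a (hT3.trans (((hperm a b c).trans (hperm' b a c)).trans (hperm b c a))) hbc.symm hac.symm
        hab.symm h2 h1 fun x hx => by rcases hmem x hx with e | e | e <;> tauto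

end Cfsg.Lib.Classical.SUThree.TwoFix
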