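import Cfsg.Agent.Classical.SUThree.Centres
import Cfsg.Agent.Classical.SUThree.TwoFix

/-!
Subgroups without transvections: point stabilisers of poles act on their lines with two fixed points for each
non-trivial element, and centres of homologies pair up in a restricted way.
-/

set_option autoImplicit false
set_option linter.unusedSectionVars false
set_option linter.style.haveILetI false
set_option maxHeartbeats 1000000

namespace Cfsg.Lib.Classical.SUThree

open Cfsg.Lib.Classical Cfsg.Lib.Components.UnitaryThree Cfsg.Lib.Known.PSUThree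

universe u v

variable {F : Type u} [Field F] [Finite F] {V : Type v} [AddCommGroup V] [Module F V]
  [FiniteDimensional F V] {H : HermSpace F V}

/-- No transvections. -/
def NoRoot (K : Subgroup H.SIsom) : Prop := ∀ B : Frame H, Ag K B = ⊥

theorem noRoot_iff (hd : Module.finrank F V = 3) (K : Subgroup H.SIsom) : NoRoot K ↔ Cn K = ∅ := by
  constructor
  · intro h
    refine Set.eq_empty_iff_forall_notMem.2 fun P hP => ?_
    obtain ⟨B, rfl⟩ := exists_frame_pt hd P
    exact mem_Cn.1 hP (h B)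
  · intro h B
    by_contra hne
    exact Set.eq_empty_iff_forall_notMem.1 h _ (mem_Cn.2 hne)

/-- A frame with a given pole. -/
theorem exists_frame_pole (hd : Module.finrank F V = 3) {z : V} (hz : H.h z z ≠ 0) :
    ∃ (B : Frame H) (c : F), c ≠ 0 ∧ B.w = c • z := by
  obtain ⟨c, hc⟩ := H.conj.norm_surjective (a := (H.h z z)⁻¹) (by rw [map_inv₀, H.self_fixed])
  have hc0 : c ≠ 0 := fun h => inv_ne_zero hz (by rw [← hc, h, zero_mul])
  set w := c • z with hwdef
  have hww : H.h w w = 1 := by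
    rw [H.smul_left, H.smul_right, ← mul_assoc, hc, inv_mul_cancel₀ hz]
  have hw0 : w ≠ 0 := fun h => by rw [h, H.zero_left] at hww; exact zero_ne_one hww
  clear_value w
  have hO : 2 ≤ Module.finrank F (H.orth (Submodule.span F {w})) := by
    rw [H.finrank_orth, finrank_span_singleton hw0, hd]
  obtain ⟨x, hxO, hx0, hxx⟩ := isotropic_in (H := H) hd hO
  have hxw : H.h x w = 0 := H.mem_orth_span.1 hxO w rfl
  obtain ⟨f, hxf, hff⟩ := H.exists_hyperbolic hx0 hxx
  -- move the partner into the plane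
  have hf' : ∃ f, H.h x f = 1 ∧ H.h f f = 0 ∧ H.h f w = 0 := by
    obtain ⟨θ, hθ⟩ := H.conj.exists_trace_one
    set a := H.h f w
    refine ⟨f - a • w + (θ * (a * H.σ a)) • x, ?_, ?_, ?_⟩
    · rw [H.add_right, H.sub_right, H.smul_right, H.smul_right, hxf, hxw, hxx]; ring
    · have hwx : H.h w x = 0 := H.eq_zero_symm hxw
      have hfx : H.h f x = 1 := by rw [H.symm, hxf, map_one]
      have hwf : H.h w f = H.σ a := H.symm _ _
      simp only [H.add_left, H.sub_left, H.add_right, H.sub_right, H.smul_left, H.smul_right, hff, hxf, hxw, hxx,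
        hwx, hfx, hwf, hww, map_mul, H.conj.invol, show H.h f w = a from rfl]
      linear_combination (a * H.σ a) * hθ
    · rw [H.add_left, H.sub_left, H.smul_left, H.smul_left, hww, hxw]; ring
  obtain ⟨f', hxf', hff', hfw'⟩ := hf'
  exact ⟨⟨x, w, f', hxx, hff', hxf', hww, H.eq_zero_symm hxw, H.eq_zero_symm hfw'⟩, c, hc0, hwdef⟩

/-- Vectors of the line orthogonal to an anisotropic one are proportional. -/
theorem line_perp (hd : Module.finrank F V = 3) (B : Frame H) {x y y' : V} (hxx : H.h x x ≠ 0)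
    (hxw : H.h x B.w = 0) (hy : H.h y B.w = 0) (hyx : H.h y x = 0) (hy' : H.h y' B.w = 0) (hy'x : H.h y' x = 0)
    (h0 : y' ≠ 0) : ∃ c : F, y = c • y' := by
  have hfe : ¬ (H.h B.f x = 0 ∧ H.h B.e x = 0) := fun h => hxx (by
    conv_lhs => arg 2; rw [planar hd B hxw]
    rw [H.add_left, H.smul_left, H.smul_left, h.1, h.2, mul_zero, mul_zero, add_zero])
  have key : ∀ y, H.h y B.w = 0 → H.h y x = 0 → ∃ c : F, y = c • (H.h B.f x • B.e - H.h B.e x • B.f) := by
    intro y hy hyx
    have hp := planar hd B hy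
    have h := hyx
    rw [hp, H.add_left, H.smul_left, H.smul_left] at h
    by_cases hf : H.h B.f x = 0
    · have he : H.h B.e x ≠ 0 := fun e => hfe ⟨hf, e⟩
      rw [hf, mul_zero, add_zero] at h
      refine ⟨-(H.h y B.e / H.h B.e x), ?_⟩
      conv_lhs => rw [hp, (mul_eq_zero.1 h).resolve_right he]
      rw [hf]
      match_scalars <;> field_simp <;> ring
    · refine ⟨H.h y B.f / H.h B.f x, ?_⟩
      conv_lhs => rw [hp]
      match_scalars
      · field_simp
      · field_simp
        linear_combination h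
  obtain ⟨c, hc⟩ := key y hy hyx
  obtain ⟨c', hc'⟩ := key y' hy' hy'x
  have hc0 : c' ≠ 0 := fun e => h0 (by rw [hc', e, zero_smul])
  exact ⟨c / c', by rw [hc, hc', smul_smul, div_mul_cancel₀ _ hc0]⟩

/-- An element fixing the pole fixes one point of an orthogonal pair of the line iff it fixes the other. -/
theorem perp_eig (hd : Module.finrank F V = 3) (B : Frame H) (g : H.SIsom) {d : F} (hg : g.1.1 B.w = d • B.w)
    {x x' : V} (hxw : H.h x B.w = 0) (hx'w : H.h x' B.w = 0) (hxx : H.h x x ≠ 0) (hx'x : H.h x' x = 0)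
    (hx'0 : x' ≠ 0) : (∃ t : F, g.1.1 x = t • x) ↔ ∃ t : F, g.1.1 x' = t • x' := by
  have hx'x' : H.h x' x' ≠ 0 := fun h => hx'0 (H.nondeg _ fun t => by
    obtain ⟨c, hc⟩ : ∃ c, t - H.h t B.w • B.w - (H.h t x / H.h x x) • x = c • x' := by
      refine line_perp hd B hxx hxw ?_ ?_ hx'w hx'x hx'0
      · rw [H.sub_left, H.sub_left, H.smul_left, H.smul_left, B.ww, hxw]; ring
      · rw [H.sub_left, H.sub_left, H.smul_left, H.smul_left, H.eq_zero_symm hxw, div_mul_cancel₀ _ hxx]; ring
    have e : t = c • x' + H.h t B.w • B.w + (H.h t x / H.h x x) • x := by rw [← hc]; module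
    rw [e, H.add_left, H.add_left, H.smul_left, H.smul_left, H.smul_left, h, H.eq_zero_symm hx'w,
      H.eq_zero_symm hx'x]
    ring)
  have key : ∀ a b : V, H.h a B.w = 0 → H.h b B.w = 0 → H.h a a ≠ 0 → H.h b a = 0 → b ≠ 0 →
      (∃ t : F, g.1.1 a = t • a) → ∃ t : F, g.1.1 b = t • b := by
    rintro a b ha hb haa hba hb0 ⟨t, ht⟩
    have ht0 : t ≠ 0 := fun e => by
      rw [e, zero_smul] at ht
      exact H.isom_ne_zero g.1 (fun h => haa (by rw [h, H.zero_left])) ht
    refine line_perp hd B haa ha (map_plane B hg hb) ?_ hb hba hb0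
    have h := H.map_form g.1 b a
    rw [ht, hba, H.smul_right] at h
    exact (mul_eq_zero.1 h).resolve_left ((map_ne_zero _).2 ht0)
  exact ⟨key x x' hxw hx'w hxx hx'x hx'0,
    key x' x hx'w hxw hx'x' (H.eq_zero_symm hx'x) (fun e => hxx (by rw [e, H.zero_left]))⟩

variable (hd : Module.finrank F V = 3) (hσ : ∀ x, H.σ x = x ^ H.q) {K : Subgroup H.SIsom} (hN : NoRoot K)
include hd hσ hN

/-- Each non-trivial element on the line fixes two points. -/
theorem pairs_line (B : Frame H) : TwoFix.Pairs (rho K B).range (Pl B) := by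
  intro x hx
  have h0 := card_one hd K B hσ (A := 1) (fun C _ => by rw [hN C, Subgroup.card_bot])
  rw [Nat.sub_self, mul_zero] at h0
  have hne : Nat.card (MulAction.fixedBy (Pl B) x) ≠ 1 := fun h => by
    haveI : Nonempty {x : (rho K B).range // Nat.card (MulAction.fixedBy (Pl B) x) = 1} := ⟨⟨x, h⟩⟩
    exact (Nat.card_pos.ne') h0
  have h1 := fix_pos hd K B hσ x
  have h2 := fix_le_two hd K B hσ hx
  omega

theorem two_le_pl (B : Frame H) : 2 ≤ Nat.card (Pl B) := by
  rw [card_pl hd B]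
  have := H.two_le_q
  nlinarith

/-- The line group has order prime to the characteristic. -/
theorem not_dvd_line (B : Frame H) (p : ℕ) [Fact p.Prime] [CharP F p] : ¬ p ∣ Nat.card (rho K B).range := by
  intro hdvd
  obtain ⟨x, hx⟩ := exists_prime_orderOf_dvd_card' p hdvd
  have hx1 : x ≠ 1 := fun h => by
    rw [h, orderOf_one] at hx
    exact (Fact.out : p.Prime).one_lt.ne hx
  have hP : IsPGroup p (Subgroup.zpowers x) := IsPGroup.of_card (n := 1) (by rw [Nat.card_zpowers, hx, pow_one])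
  have hmod := hP.card_modEq_card_fixedPoints (Pl B)
  have hfix : MulAction.fixedPoints (Subgroup.zpowers x) (Pl B) = MulAction.fixedBy (Pl B) x := by
    ext r
    constructor
    · intro h
      exact h ⟨x, Subgroup.mem_zpowers x⟩
    · rintro h ⟨y, hy⟩
      obtain ⟨i, rfl⟩ := hy
      exact MulAction.mem_stabilizer_iff.1 (zpow_mem (MulAction.mem_stabilizer_iff.2 h) i)
  rw [card_pl hd B, hfix, pairs_line hd hσ hN B x hx1] at hmod
  obtain ⟨k, hk⟩ := q_pow (H := H) p
  have hpq : p ∣ H.q := by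
    rw [hk]
    refine dvd_pow_self p fun h => ?_
    rw [h, pow_zero] at hk
    have := H.two_le_q
    omega
  rw [Nat.ModEq, Nat.add_mod, Nat.pow_mod, Nat.mod_eq_zero_of_dvd hpq |> fun h => h] at hmod
  have hp2 := (Fact.out : p.Prime).two_le
  simp [Nat.mod_eq_of_lt hp2] at hmod
  rcases Nat.lt_or_ge 2 p with h | h
  · rw [Nat.mod_eq_of_lt h] at hmod; omega
  · have : p = 2 := by omega
    subst this
    simp at hmod

omit hσ hN in
/-- The centre of a homology: an element scalar on the orthogonal plane, of order at least `k` modulo scalars. -/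
def IsHC (K : Subgroup H.SIsom) (k : ℕ) (z : V) : Prop :=
  H.h z z ≠ 0 ∧ ∃ g ∈ K, ∃ lam mu : F, g.1.1 z = mu • z ∧ (∀ x, H.h x z = 0 → g.1.1 x = lam • x) ∧
    ∀ j, 0 < j → j < k → lam ^ j ≠ mu ^ j

omit hd hσ hN in
theorem IsHC.ne_zero {k : ℕ} {z : V} (h : IsHC K k z) : z ≠ 0 := fun e => h.1 (by rw [e, H.zero_left])

omit hσ hN in
theorem IsHC.map {k : ℕ} {z : V} (h : IsHC K k z) {m : H.SIsom} (hm : m ∈ K) : IsHC K k (m.1.1 z) := by
  obtain ⟨hzz, g, hg, lam, mu, hz, hp, hj⟩ := h
  refine ⟨by rwa [H.map_form], m * g * m⁻¹, K.mul_mem (K.mul_mem hm hg) (K.inv_mem hm), lam, mu, ?_, fun x hx => ?_, hj⟩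
  · rw [H.smul_mul_apply, show (m⁻¹).1.1 (m.1.1 z) = z from H.inv_apply_self m.1 z, H.smul_mul_apply, hz, map_smul]
  · have e : m.1.1 ((m⁻¹).1.1 x) = x := H.apply_inv_self m.1 x
    have hx' : H.h ((m⁻¹).1.1 x) z = 0 := by
      rw [← H.map_form m.1, e, hx]
    rw [H.smul_mul_apply, H.smul_mul_apply, hp _ hx', map_smul, e]

omit hσ hN in
theorem IsHC.smul {k : ℕ} {z : V} (h : IsHC K k z) {c : F} (hc : c ≠ 0) : IsHC K k (c • z) := by
  obtain ⟨hzz, g, hg, lam, mu, hz, hp, hj⟩ := h
  refine ⟨?_, g, hg, lam, mu, by rw [map_smul, hz, smul_comm], fun x hx => hp x ?_, hj⟩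
  · rw [H.smul_left, H.smul_right]
    exact mul_ne_zero hc (mul_ne_zero ((map_ne_zero _).2 hc) hzz)
  · rw [H.smul_right] at hx
    exact (mul_eq_zero.1 hx).resolve_left ((map_ne_zero _).2 hc)

omit hσ hN in
/-- A homology fixing the pole of a line gives a large stabiliser at both its points on the line. -/
theorem hom_stab {k : ℕ} (hk : 2 ≤ k) {z : V} (hz : IsHC K k z) (B : Frame H) (hzw : H.h z B.w = 0) :
    ∀ x (hx0 : x ≠ 0) (hx : H.h x B.w = 0), (H.h x z = 0 ∨ ∃ c : F, x = c • z) →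
      k ≤ Nat.card (MulAction.stabilizer (rho K B).range (plMk B x hx0 hx)) := by
  intro x hx0 hx hcase
  obtain ⟨hzz, g, hg, lam, mu, hgz, hp, hj⟩ := hz
  have hgw : g.1.1 B.w = lam • B.w := hp B.w (H.eq_zero_symm hzw)
  set g' : Mg K B := ⟨g, mem_Mg.2 ⟨hg, lam, hgw⟩⟩
  have hfix : g' • plMk B x hx0 hx = plMk B x hx0 hx := by
    rw [smul_eq_iff]
    rcases hcase with h | ⟨c, rfl⟩
    · exact ⟨lam, hp x h⟩
    · exact ⟨mu, by show g.1.1 (c • z) = _; rw [map_smul, hgz, smul_comm]⟩
  set r : MulAction.stabilizer (rho K B).range (plMk B x hx0 hx) := ⟨⟨rho K B g', ⟨g', rfl⟩⟩, hfix⟩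
  have hz0 : z ≠ 0 := fun e => hzz (by rw [e, H.zero_left])
  -- the second point of the line on the axis
  obtain ⟨y, hy0, hyw, hyz⟩ : ∃ y, y ≠ 0 ∧ H.h y B.w = 0 ∧ H.h y z = 0 := by
    refine ⟨H.h B.e z • B.f - H.h B.f z • B.e, fun h => ?_, ?_, ?_⟩
    · have h1 := congrArg (fun t => H.h t B.e) h
      have h2 := congrArg (fun t => H.h t B.f) h
      simp [H.sub_left, H.smul_left, H.zero_left, B.ee, B.fe, B.ef, B.ff] at h1 h2
      refine hzz ?_
      have hp' := planar hd B hzw
      conv_lhs => arg 2; rw [hp']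
      rw [H.add_left, H.smul_left, H.smul_left, h1, h2, mul_zero, mul_zero, add_zero]
    · rw [H.sub_left, H.smul_left, H.smul_left, B.fw, B.ew]; ring
    · rw [H.sub_left, H.smul_left, H.smul_left]; ring
  have hord : ∀ j, 0 < j → j < k → r ^ j ≠ 1 := by
    intro j h0 h1 h
    refine hj j h0 h1 ?_
    have h' : rho K B (g' ^ j) = 1 := by
      rw [map_pow]
      exact congrArg (fun t : MulAction.stabilizer (rho K B).range (plMk B x hx0 hx) => t.1.1) h
    have hpow : ∀ i, (g ^ i).1.1 z = mu ^ i • z ∧ (g ^ i).1.1 y = lam ^ i • y := by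
      intro i
      induction i with
      | zero => exact ⟨by simp, by simp⟩
      | succ i ih =>
        rw [pow_succ g, pow_succ mu, pow_succ lam]
        refine ⟨?_, ?_⟩
        · rw [H.smul_mul_apply, hgz, map_smul, ih.1, smul_smul, mul_comm]
        · rw [H.smul_mul_apply, hp y hyz, map_smul, ih.2, smul_smul, mul_comm]
    have hzyw : H.h (z + y) B.w = 0 := by rw [H.add_left, hzw, hyw, add_zero]
    have hzy0 : z + y ≠ 0 := fun e => hzz (by
      have := congrArg (fun t => H.h t z) e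
      simpa [H.add_left, hyz, H.zero_left] using this)
    obtain ⟨t, ht⟩ := (smul_eq_iff (g' ^ j) hzy0 hzyw).1 (rho_eq_one hd K B h' _)
    change (g ^ j).1.1 (z + y) = t • (z + y) at ht
    rw [map_add, (hpow j).1, (hpow j).2, smul_add] at ht
    have e1 := congrArg (fun s => H.h s z) ht
    simp [H.add_left, H.smul_left, hyz] at e1
    have e2 : mu ^ j = t := e1.resolve_right hzz
    rw [← e2, add_right_inj] at ht
    exact smul_left_injective F hy0 ht
  calc k ≤ orderOf r := by
        by_contra! hlt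
        exact hord _ (orderOf_pos r) hlt (pow_orderOf_eq_one r)
    _ ≤ _ := Nat.le_of_dvd Nat.card_pos (orderOf_dvd_natCard r)

/-- Two homology centres that are not orthogonal. -/
theorem chord_cases {k : ℕ} (hk : 3 ≤ k) {x y : V} (hx : IsHC K k x) (hy : IsHC K k y) (hxy : H.h x y ≠ 0)
    (hne : ∀ c : F, y ≠ c • x) :
    ∃ (B : Frame H) (x' : V), x' ≠ 0 ∧ H.h x B.w = 0 ∧ H.h y B.w = 0 ∧ H.h x' B.w = 0 ∧ H.h x' x = 0 ∧
      ∃ n m, k ≤ m ∧ ((n = 12 ∧ m = 3) ∨ (n = 24 ∧ m = 4) ∨ (n = 60 ∧ m = 5)) ∧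
        TwoFix.Sporadic n m (rho K B).range (Pl B) ∧ (n ≠ 12 → IsHC K k x') := by
  obtain ⟨hxx, g, hg, lam, mu, hgx, hpx, hjx⟩ := id hx
  obtain ⟨hyy, g', hg', lam', mu', hgy, hpy, hjy⟩ := id hy
  -- the pole
  have hxy0 : ¬ LinearIndependent F ![x, y] → False := fun h => by
    rw [LinearIndependent.pair_iff' (hx.ne_zero)] at h
    push Not at h
    obtain ⟨c, hc⟩ := h
    exact hne c hc.symm
  obtain ⟨v, hv0, hvx, hvy⟩ : ∃ v, v ≠ 0 ∧ H.h v x = 0 ∧ H.h v y = 0 := by
    have hO : 0 < Module.finrank F (H.orth (Submodule.span F ({x, y} : Set V))) := by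
      have h1 := H.finrank_orth (Submodule.span F ({x, y} : Set V))
      have h2 : Module.finrank F (Submodule.span F ({x, y} : Set V)) ≤ 2 := by
        classical
        have h := finrank_span_le_card (R := F) ({x, y} : Set V)
        refine h.trans ?_
        simp only [Set.toFinset_insert, Set.toFinset_singleton]
        exact Finset.card_le_two
      omega
    haveI := Module.nontrivial_of_finrank_pos (R := F) hO
    obtain ⟨⟨v, hv⟩, hv0⟩ := exists_ne (0 : H.orth (Submodule.span F ({x, y} : Set V)))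
    exact ⟨v, fun e => hv0 (Subtype.ext e), H.mem_orth_span.1 hv x (Or.inl rfl), H.mem_orth_span.1 hv y (Or.inr rfl)⟩
  have hvv : H.h v v ≠ 0 := by
    intro hvv
    -- the commutator of the two homologies would be a unipotent element with non-real multiplier
    obtain ⟨B, hB⟩ := exists_frame hd hv0 hvv
    have hgB : g ∈ stE B := mem_stE.2 ⟨lam, by rw [hB]; exact hpx v hvx⟩
    have hg'B : g' ∈ stE B := mem_stE.2 ⟨lam', by rw [hB]; exact hpy v hvy⟩
    have key : ∀ (z : V) (g : H.SIsom) (lam mu : F), H.h v z = 0 → H.h z z ≠ 0 → g ∈ stE B →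
        g.1.1 v = lam • v → g.1.1 z = mu • z →
        ∃ β, ea B g = lam ∧ ed B g = mu ∧ (∃ a : F, z = a • (β • B.e + B.w)) ∧ eb B g = (mu - lam) * β := by
      intro z g lam mu hvz hzz hgs hgv hgz
      have hze : H.h z B.e = 0 := by rw [hB]; exact H.eq_zero_symm hvz
      have hdz := decomp hd B z
      rw [hze, zero_smul, add_zero] at hdz
      have hzw : H.h z B.w ≠ 0 := fun h => hzz (by
        rw [h, zero_smul, add_zero] at hdz
        rw [hdz, H.smul_left, H.smul_right, B.ee, mul_zero, mul_zero])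
      obtain ⟨he, -, hw, -⟩ := coords hd B hgs
      have hea : ea B g = lam := by rw [ea, hB, hgv, ← hB, H.smul_left, B.ef, mul_one]
      refine ⟨H.h z B.f / H.h z B.w, hea, ?_⟩
      have h := hgz
      rw [hdz, map_add, map_smul, map_smul, he, hw] at h
      have e1 := congrArg (fun t => H.h t B.w) h
      have e2 := congrArg (fun t => H.h t B.f) h
      simp [H.add_left, H.smul_left, B.ew, B.ww, B.ef, B.wf] at e1 e2
      have hed : ed B g = mu := mul_left_cancel₀ hzw (by linear_combination e1)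
      refine ⟨hed, ⟨H.h z B.w, ?_⟩, ?_⟩
      · rw [smul_add, smul_smul, mul_div_cancel₀ _ hzw]
        exact hdz
      · rw [hea] at e2
        field_simp
        linear_combination e2
    obtain ⟨β, hea, hed, ⟨a, hax⟩, heb⟩ := key x g lam mu hvx hxx hgB (hpx v hvx) hgx
    obtain ⟨β', hea', hed', ⟨a', hay⟩, heb'⟩ := key y g' lam' mu' hvy hyy hg'B (hpy v hvy) hgy
    have hββ : β ≠ β' := by
      intro e
      have ha0 : a ≠ 0 := fun h => hx.ne_zero (by rw [hax, h, zero_smul])
      refine hne (a' / a) ?_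
      rw [hay, hax, e, smul_smul (a' / a) a, div_mul_cancel₀ _ ha0]
    set c := g * g' * g⁻¹ * g'⁻¹ with hc
    have hcN : c ∈ Ng K B := by
      refine ⟨K.mul_mem (K.mul_mem (K.mul_mem hg hg') (K.inv_mem hg)) (K.inv_mem hg'), ?_⟩
      show c.1.1 B.e = B.e
      have hcs : c ∈ stE B := mul_mem (mul_mem (mul_mem hgB hg'B) (inv_mem hgB)) (inv_mem hg'B)
      obtain ⟨he, -⟩ := coords hd B hcs
      have h1 : ea B (g * g') = ea B (g' * g) := by rw [ea_mul hd B hgB hg'B, ea_mul hd B hg'B hgB, mul_comm]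
      have h2 := ea_mul hd B hcs (mul_mem hg'B hgB)
      rw [show c * (g' * g) = g * g' by rw [hc]; group, h1] at h2
      rw [he, (mul_eq_right₀ (coords hd B (mul_mem hg'B hgB)).2.1).1 h2.symm, one_smul]
    have hmul : ∀ a b : H.SIsom, a ∈ stE B → b ∈ stE B → eb B (a * b) = ea B a * eb B b + ed B b * eb B a := by
      intro a b ha hb
      obtain ⟨ae, -, aw, -⟩ := coords hd B ha
      obtain ⟨-, -, bw, -⟩ := coords hd B hb
      rw [eb, H.smul_mul_apply, bw, map_add, map_smul, map_smul, ae, aw]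
      simp [H.add_left, H.smul_left, B.ef, B.wf]
      ring
    have hed_mul : ∀ a b : H.SIsom, a ∈ stE B → b ∈ stE B → ed B (a * b) = ed B a * ed B b := by
      intro a b ha hb
      obtain ⟨ae, -, aw, -⟩ := coords hd B ha
      obtain ⟨-, -, bw, -⟩ := coords hd B hb
      rw [ed, H.smul_mul_apply, bw, map_add, map_smul, map_smul, ae, aw]
      simp [H.add_left, H.smul_left, B.ew, B.ww]
      ring
    have hcne : eb B c ≠ 0 := by
      intro h0
      have hroot : c ∈ Ag K B := ⟨hcN.1, mem_root_of_eb hd B hcN.2 h0⟩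
      rw [hN B, Subgroup.mem_bot] at hroot
      have hcomm : g * g' = g' * g := by
        calc g * g' = c * (g' * g) := by rw [hc]; group
          _ = g' * g := by rw [hroot, one_mul]
      have h := congrArg (eb B) hcomm
      rw [hmul _ _ hgB hg'B, hmul _ _ hg'B hgB, hea, hea', hed, hed', heb, heb'] at h
      have h' : (mu - lam) * (mu' - lam') * (β - β') = 0 := by linear_combination h
      rcases mul_eq_zero.1 h' with h' | h'
      · rcases mul_eq_zero.1 h' with h' | h'
        · exact hjx 1 one_pos (by omega) (by rw [pow_one, pow_one]; exact (sub_eq_zero.1 h').symm)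
        · exact hjy 1 one_pos (by omega) (by rw [pow_one, pow_one]; exact (sub_eq_zero.1 h').symm)
      · exact hββ (sub_eq_zero.1 h')
    -- conjugation scales the translation parts, which lie on one real line
    have hcc : g * c * g⁻¹ ∈ Ng K B :=
      ⟨K.mul_mem (K.mul_mem hg hcN.1) (K.inv_mem hg), conj_mem_fixE hd B hgB hcN.2⟩
    have hsc := conj_eb hd B hgB hcN.2
    rw [hed, hea] at hsc
    obtain ⟨e, he, hee⟩ := comm_mem K hd B hcN hcc
    rw [hN B, Subgroup.mem_bot] at he
    rw [he, (eb_one B).2] at hee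
    have hσv : H.σ (eb B c) ≠ 0 := (map_ne_zero _).2 hcne
    have hσsc := congrArg H.σ hsc
    rw [map_mul, map_mul] at hσsc
    -- the multiplier is real and on the circle
    have hcirc : ∀ t : F, ∀ w : V, H.h w w ≠ 0 → g.1.1 w = t • w → t * H.σ t = 1 := by
      intro t w hw ht
      have h := H.map_form g.1 w w
      rw [ht, H.smul_left, H.smul_right] at h
      exact mul_right_cancel₀ hw (by rw [one_mul, mul_assoc]; exact h)
    have hmu := hcirc mu x hxx hgx
    have hlam : lam * H.σ lam = 1 := by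
      have hwx : H.h B.w x ≠ 0 := fun h => hxx (by
        conv_lhs => arg 2; rw [hax]
        rw [H.smul_left, H.add_left, H.smul_left, h, show H.h B.e x = 0 by rw [hB]; exact hvx]
        ring)
      set z := B.f - (H.h B.f x / H.h B.w x) • B.w with hz
      have hzx : H.h z x = 0 := by rw [hz, H.sub_left, H.smul_left, div_mul_cancel₀ _ hwx, sub_self]
      have hez : H.h B.e z = 1 := by rw [hz, H.sub_right, H.smul_right, B.ef, B.ew]; ring
      have h := H.map_form g.1 B.e z
      rw [hpx z hzx, show g.1.1 B.e = lam • B.e by rw [hB]; exact hpx v hvx, H.smul_left, H.smul_right, hez,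
        mul_one] at h
      exact h
    have h2 : (lam * H.σ mu) ^ 2 = 1 := by
      set b := eb B c
      set b' := eb B (g * c * g⁻¹)
      have hb' : b' = lam * H.σ mu * b := by linear_combination (H.σ mu) * hsc - b' * hmu
      have hreal : H.σ (lam * H.σ mu) = lam * H.σ mu := by
        rw [hb', map_mul] at hee
        refine mul_right_cancel₀ (mul_ne_zero hσv hcne) ?_
        linear_combination hee
      have hm : mu * H.σ mu = 1 := hmu
      rw [map_mul, H.conj.invol] at hreal
      linear_combination (lam * H.σ lam) * hm + hlam - (lam * H.σ mu) * hreal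
    refine hjx 2 (by norm_num) (by omega) ?_
    have : lam ^ 2 * (H.σ mu) ^ 2 * mu ^ 2 = mu ^ 2 := by rw [← mul_pow, h2, one_mul]
    rw [← this]
    linear_combination (-(lam ^ 2) * (H.σ mu * mu + 1)) * hmu
  obtain ⟨B, c, hc0, hBw⟩ := exists_frame_pole hd hvv
  have hperp : ∀ t, H.h v t = 0 → H.h t B.w = 0 := fun t ht => by
    rw [hBw, H.smul_right, H.eq_zero_symm ht, mul_zero]
  have hxw := hperp x hvx
  have hyw := hperp y hvy
  obtain ⟨x', hx'0, hx'w, hx'x⟩ : ∃ t, t ≠ 0 ∧ H.h t B.w = 0 ∧ H.h t x = 0 := by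
    refine ⟨H.h B.e x • B.f - H.h B.f x • B.e, fun h => ?_, ?_, ?_⟩
    · have h1 := congrArg (fun t => H.h t B.e) h
      have h2 := congrArg (fun t => H.h t B.f) h
      simp [H.sub_left, H.smul_left, H.zero_left, B.ee, B.fe, B.ef, B.ff] at h1 h2
      refine hxx ?_
      conv_lhs => arg 2; rw [planar hd B hxw]
      rw [H.add_left, H.smul_left, H.smul_left, h1, h2, mul_zero, mul_zero, add_zero]
    · rw [H.sub_left, H.smul_left, H.smul_left, B.fw, B.ew]; ring
    · rw [H.sub_left, H.smul_left, H.smul_left]; ring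
  have s1 := hom_stab hd (by omega) hx B hxw x hx.ne_zero hxw (Or.inr ⟨1, (one_smul _ _).symm⟩)
  have s2 := hom_stab hd (by omega) hx B hxw x' hx'0 hx'w (Or.inl hx'x)
  have s3 := hom_stab hd (by omega) hy B hyw y hy.ne_zero hyw (Or.inr ⟨1, (one_smul _ _).symm⟩)
  have hsame : Nat.card (MulAction.stabilizer (rho K B).range (plMk B x hx.ne_zero hxw)) =
      Nat.card (MulAction.stabilizer (rho K B).range (plMk B x' hx'0 hx'w)) := by
    have e : MulAction.stabilizer (rho K B).range (plMk B x hx.ne_zero hxw) =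
        MulAction.stabilizer (rho K B).range (plMk B x' hx'0 hx'w) := by
      ext ⟨r, m, rfl⟩
      rw [MulAction.mem_stabilizer_iff, MulAction.mem_stabilizer_iff]
      show m • plMk B x hx.ne_zero hxw = plMk B x hx.ne_zero hxw ↔ m • plMk B x' hx'0 hx'w = plMk B x' hx'0 hx'w
      rw [smul_eq_iff, smul_eq_iff]
      exact perp_eig hd B m.1 m.2.2.choose_spec hxw hx'w hxx hx'x hx'0
    rw [e]
  refine ⟨B, x', hx'0, hxw, hyw, hx'w, hx'x, ?_⟩
  rcases TwoFix.cases (pairs_line hd hσ hN B) (two_le_pl hd hσ hN B) with ⟨S, hS2, -, hbig⟩ | hsp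
  · exfalso
    obtain ⟨a, b, -, rfl⟩ := Set.ncard_eq_two.1 hS2
    have h1 := hbig _ (by omega : 3 ≤ Nat.card (MulAction.stabilizer (rho K B).range (plMk B x hx.ne_zero hxw)))
    have h2 := hbig _ (by omega : 3 ≤ Nat.card (MulAction.stabilizer (rho K B).range (plMk B x' hx'0 hx'w)))
    have h3 := hbig _ (by omega : 3 ≤ Nat.card (MulAction.stabilizer (rho K B).range (plMk B y hy.ne_zero hyw)))
    have n1 : plMk B x hx.ne_zero hxw ≠ plMk B x' hx'0 hx'w := fun e => by
      obtain ⟨t, ht⟩ := plMk_eq_iff.1 e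
      refine hxx ?_
      conv_lhs => arg 2; rw [← ht]
      rw [H.smul_left, hx'x, mul_zero]
    have n2 : plMk B y hy.ne_zero hyw ≠ plMk B x hx.ne_zero hxw := fun e => by
      obtain ⟨t, ht⟩ := plMk_eq_iff.1 e
      exact hne t ht.symm
    have n3 : plMk B y hy.ne_zero hyw ≠ plMk B x' hx'0 hx'w := fun e => by
      obtain ⟨t, ht⟩ := plMk_eq_iff.1 e
      refine hxy (H.eq_zero_symm ?_)
      rw [← ht, H.smul_left, hx'x, mul_zero]
    simp only [Set.mem_insert_iff, Set.mem_singleton_iff] at h1 h2 h3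
    rcases h1 with h1 | h1 <;> rcases h2 with h2 | h2 <;> rcases h3 with h3 | h3
    all_goals first
      | exact n1 (h1.trans h2.symm)
      | exact n2 (h3.trans h1.symm)
      | exact n3 (h3.trans h2.symm)
  have fin : ∀ n m, ((n = 12 ∧ m = 3) ∨ (n = 24 ∧ m = 4) ∨ (n = 60 ∧ m = 5)) →
      TwoFix.Sporadic n m (rho K B).range (Pl B) →
      ∃ n m, k ≤ m ∧ ((n = 12 ∧ m = 3) ∨ (n = 24 ∧ m = 4) ∨ (n = 60 ∧ m = 5)) ∧
        TwoFix.Sporadic n m (rho K B).range (Pl B) ∧ (n ≠ 12 → IsHC K k x') := by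
    intro n m hnm hs
    refine ⟨n, m, s1.trans (hs.2.1 _), hnm, hs, fun hn12 => ?_⟩
    obtain ⟨⟨r, m', rfl⟩, hr⟩ := hs.2.2 hn12 (plMk B x hx.ne_zero hxw) (plMk B x' hx'0 hx'w) (by omega) hsame
    change m' • plMk B x hx.ne_zero hxw = plMk B x' hx'0 hx'w at hr
    rw [smul_plMk, plMk_eq_iff] at hr
    obtain ⟨t, ht⟩ := hr
    have ht0 : t ≠ 0 := fun e => by
      rw [e, zero_smul] at ht
      exact H.isom_ne_zero m'.1.1 hx.ne_zero ht.symm
    have := (hx.map hd m'.2.1).smul hd (inv_ne_zero ht0)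
    rwa [← ht, inv_smul_smul₀ ht0] at this
  rcases hsp with h | h | h
  · exact fin 12 3 (Or.inl ⟨rfl, rfl⟩) h
  · exact fin 24 4 (Or.inr (Or.inl ⟨rfl, rfl⟩)) h
  · exact fin 60 5 (Or.inr (Or.inr ⟨rfl, rfl⟩)) h

end Cfsg.Lib.Classical.SUThree
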