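import Cfsg.Agent.Classical.Unitary.FrameBasic
import Cfsg.Agent.Classical.SUThree.NoRoot
import Cfsg.Agent.Classical.SUThree.Count
import Cfsg.Agent.Classical.SUThree.Arith
import Cfsg.Agent.Classical.SUThree.EvenTwo

/-!
The monomial group of a three-dimensional special unitary group is maximal.
-/

set_option autoImplicit false
set_option linter.unusedSectionVars false
set_option linter.unusedSimpArgs false
set_option linter.style.haveILetI false
set_option maxHeartbeats 1000000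

namespace Cfsg.Lib.Classical.SUThree

open Cfsg.Lib.Classical Cfsg.Lib.Components.UnitaryThree Cfsg.Lib.Known.PSUThree

universe u v

variable {F : Type u} [Field F] [Finite F] [DecidableEq F] {V : Type v} [AddCommGroup V] [Module F V]
  [FiniteDimensional F V] {H : HermSpace F V}

/-- Powers of a phase pair. -/
theorem co_ph_pow (U : UFrame H (Fin 3)) {i e : Fin 3} (hie : i ≠ e) {a : F} (ha : a * H.σ a = 1) (x : V)
    (m : ℕ) (l : Fin 3) : U.co ((U.ph i e ha ^ m).1.1 x) l =
      if l = i then a ^ m * U.co x i else if l = e then H.σ a ^ m * U.co x e else U.co x l := by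
  induction m generalizing l with
  | zero => simp only [pow_zero, one_mul]; split_ifs with h1 h2 <;> [rw [h1]; rw [h2]; rfl] <;> rfl
  | succ m ih =>
    rw [pow_succ' (U.ph i e ha), H.smul_mul_apply, U.co_ph hie, ih, ih, ih]
    rcases eq_or_ne l i with rfl | h1
    · simp [pow_succ']
      ring
    rcases eq_or_ne l e with rfl | h2
    · simp [hie.symm, pow_succ']
      ring
    · simp [h1, h2]

theorem fin_three {i j l : Fin 3} (hij : i ≠ j) (hil : i ≠ l) (hjl : j ≠ l) (m : Fin 3) : m = i ∨ m = j ∨ m = l := by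
  omega

theorem exists_third {i j : Fin 3} (hij : i ≠ j) : ∃ l, i ≠ l ∧ j ≠ l := by
  revert i j; decide

variable (U : UFrame H (Fin 3)) {K : Subgroup H.SIsom} (hM : ∀ g : H.SIsom, U.Mono1 g.1 → g ∈ K)
  (hd : Module.finrank F V = 3) (hq : 3 ≤ H.q) (hσ : ∀ x, H.σ x = x ^ H.q)

/-- A point supported exactly on given coordinates. -/
def SuppIs (P : H.IsoPt) (T : Finset (Fin 3)) : Prop := ∀ l, U.co P.1.rep l ≠ 0 ↔ l ∈ T

theorem coMk (P : H.IsoPt) (x : V) (hx0 : x ≠ 0) (hx : H.h x x = 0) (hP : P = H.isoMk x hx0 hx) :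
    ∃ c : F, c ≠ 0 ∧ ∀ l, U.co P.1.rep l = c * U.co x l := by
  obtain ⟨c, hc⟩ := Projectivization.exists_smul_eq_mk_rep F x hx0
  refine ⟨c, c.ne_zero, fun l => ?_⟩
  rw [hP, ← U.co_smul]
  show U.co (Projectivization.mk F x hx0).rep l = _
  rw [← hc, Units.smul_def]

theorem co_smul_pt (g : H.SIsom) (P : H.IsoPt) :
    ∃ c : F, c ≠ 0 ∧ ∀ l, U.co (g • P).1.rep l = c * U.co (g.1.1 P.1.rep) l := by
  refine coMk U _ _ (H.isom_ne_zero g.1 P.1.rep_nonzero) (by rw [H.map_form]; exact P.2) ?_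
  conv_lhs => rw [show P = H.isoMk P.1.rep P.1.rep_nonzero P.2 from Subtype.ext (Projectivization.mk_rep P.1).symm]
  rw [HermSpace.smul_isoMk]

theorem exists_gen (hσ : ∀ x, H.σ x = x ^ H.q) :
    ∃ η : F, η * H.σ η = 1 ∧ (∀ m, 0 < m → m ≤ H.q → η ^ m ≠ 1) ∧ η ^ (H.q + 1) = 1 := by
  haveI := Fintype.ofFinite F
  classical
  obtain ⟨η, hη, hgen⟩ := H.exists_circle_gen
  exact ⟨η, hη, hgen, by rw [pow_succ', ← hσ, hη]⟩

include hM

theorem ph_mem {i e : Fin 3} (hie : i ≠ e) {a : F} (ha : a * H.σ a = 1) : U.ph i e ha ∈ K :=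
  hM _ (U.mono1_ph hie ha)

theorem perm_mem {g : H.SIsom} {π : Equiv.Perm (Fin 3)} {c : Fin 3 → F}
    (hg : ∀ l, g.1.1 (U.b l) = c l • U.b (π l)) (hc : ∀ l, c l ≠ 0) : g ∈ K :=
  hM _ (U.mono1_iff.2 ⟨π, c, fun l => ⟨hg l, hc l⟩⟩)

include hd hq hσ

theorem irr : Irr K := by
  classical
  haveI := Fintype.ofFinite F
  intro W hW
  obtain ⟨η, hη, hgen, -⟩ := exists_gen (H := H) hσ
  have hη1 : η ≠ 1 := fun h => hgen 1 one_pos (by omega) (by rw [h, one_pow])
  by_cases hW0 : W = ⊥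
  · exact Or.inl hW0
  right
  obtain ⟨x, hx, hx0⟩ := Submodule.exists_mem_ne_zero_of_ne_bot hW0
  -- some basis vector lies in the subspace
  obtain ⟨i, hi⟩ : ∃ i, U.b i ∈ W := by
    obtain ⟨i, hi⟩ : ∃ i, U.co x i ≠ 0 := by
      by_contra! h
      exact hx0 (U.ext_co fun l => by rw [h l, U.co_zero])
    obtain ⟨j, hj⟩ : ∃ j : Fin 3, i ≠ j := (exists_ne i).imp fun _ h => h.symm
    obtain ⟨l, hil, hjl⟩ := exists_third hj
    -- a difference removes the third coordinate
    set y := (U.ph i j hη).1.1 x - x with hy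
    have hyW : y ∈ W := sub_mem (hW _ (ph_mem U hM hj hη) x hx) hx
    have hyl : U.co y l = 0 := by
      rw [hy, U.co_sub, U.co_ph hj, if_neg hil.symm, if_neg hjl.symm, sub_self]
    have hyi : U.co y i ≠ 0 := by
      rw [hy, U.co_sub, U.co_ph hj, if_pos rfl]
      intro h
      have : (η - 1) * U.co x i = 0 := by linear_combination h
      exact (sub_ne_zero.2 hη1) ((mul_eq_zero.1 this).resolve_right hi)
    set z := (U.ph i l hη).1.1 y - y with hz
    have hzW : z ∈ W := sub_mem (hW _ (ph_mem U hM hil hη) y hyW) hyW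
    refine ⟨i, ?_⟩
    have e : z = U.co z i • U.b i := U.ext_co fun m => by
      rw [U.co_smul, U.co_b]
      rcases fin_three hj hil hjl m with rfl | rfl | rfl
      · rw [if_pos rfl, mul_one]
      · rw [if_neg hj, mul_zero, hz, U.co_sub, U.co_ph hil, if_neg hj.symm, if_neg hjl, sub_self]
      · rw [if_neg hil, mul_zero, hz, U.co_sub, U.co_ph hil, if_neg hil.symm, if_pos rfl, hyl]; ring
    have hz0 : U.co z i ≠ 0 := by
      rw [hz, U.co_sub, U.co_ph hil, if_pos rfl]
      intro h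
      have : (η - 1) * U.co y i = 0 := by linear_combination h
      exact (sub_ne_zero.2 hη1) ((mul_eq_zero.1 this).resolve_right hyi)
    have := W.smul_mem (U.co z i)⁻¹ hzW
    rwa [e, U.co_smul, U.co_b, if_pos rfl, mul_one, inv_smul_smul₀ hz0] at this
  have hall : ∀ j, U.b j ∈ W := by
    intro j
    obtain ⟨g, z, hz, hg, -⟩ := U.exists_perm (Equiv.swap i j) i
    have hc : ∀ l, (if Equiv.swap i j l = i then z else (1 : F)) ≠ 0 := fun l => by
      split_ifs
      exacts [H.circle_ne_zero hz, one_ne_zero]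
    have h1 := hW g (perm_mem U hM hg hc) _ hi
    rw [hg i, Equiv.swap_apply_left] at h1
    have h2 := W.smul_mem (if j = i then z else (1 : F))⁻¹ h1
    rwa [inv_smul_smul₀ (by split_ifs; exacts [H.circle_ne_zero hz, one_ne_zero])] at h2
  rw [eq_top_iff]
  intro y _
  rw [← U.sum_co y]
  exact Submodule.sum_mem _ fun l _ => W.smul_mem _ (hall l)

/-- An involution of the monomial group. -/
theorem Cn_nonempty_of_two (h2 : (2 : F) = 0) : (Cn K).Nonempty := by
  obtain ⟨g, z, hz, hg, -⟩ := U.exists_perm (Equiv.swap (0 : Fin 3) 1) 2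
  have hc : ∀ l, (if Equiv.swap (0 : Fin 3) 1 l = 2 then z else (1 : F)) ≠ 0 := fun l => by
    split_ifs
    exacts [H.circle_ne_zero hz, one_ne_zero]
  have hgK : g ∈ K := perm_mem U hM hg hc
  have h0 : g.1.1 (U.b 0) = U.b 1 := by rw [hg]; simp
  have h1 : g.1.1 (U.b 1) = U.b 0 := by rw [hg]; simp
  have hz2 : g.1.1 (U.b 2) = z • U.b 2 := by
    rw [hg, Equiv.swap_apply_of_ne_of_ne (by decide) (by decide), if_pos rfl]
  have hzq : z ^ (H.q + 1) = 1 := by rw [pow_succ', ← hσ, hz]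
  have hodd : Odd (H.q + 1) := by
    obtain ⟨p, hp⟩ := CharP.exists F
    haveI : Fact p.Prime := ⟨CharP.char_is_prime F p⟩
    have hp2 : p = 2 := by
      have := (CharP.cast_eq_zero_iff F p 2).1 (by exact_mod_cast h2)
      exact (Nat.prime_dvd_prime_iff_eq Fact.out Nat.prime_two).1 this
    subst hp2
    obtain ⟨k, hk⟩ := q_pow (H := H) 2
    have hk0 : k ≠ 0 := fun h => by rw [h, pow_zero] at hk; omega
    rw [hk]
    exact (Nat.even_pow.2 ⟨even_two, hk0⟩).add_one
  have hpow : ∀ m, (g ^ m).1.1 (U.b 2) = z ^ m • U.b 2 ∧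
      (g ^ m).1.1 (U.b 0) = (if Even m then U.b 0 else U.b 1) ∧
      (g ^ m).1.1 (U.b 1) = (if Even m then U.b 1 else U.b 0) := by
    intro m
    induction m with
    | zero => simp
    | succ m ih =>
      rw [pow_succ' g]
      refine ⟨?_, ?_, ?_⟩
      · rw [H.smul_mul_apply, ih.1, map_smul, hz2, smul_smul, pow_succ]
      · rw [H.smul_mul_apply, ih.2.1]
        simp only [Nat.even_add_one]
        split_ifs <;> assumption
      · rw [H.smul_mul_apply, ih.2.2]
        simp only [Nat.even_add_one]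
        split_ifs <;> assumption
  set t := g ^ (H.q + 1) with ht
  obtain ⟨t2, t0, t1⟩ := hpow (H.q + 1)
  rw [if_neg (Nat.not_even_iff_odd.2 hodd)] at t0 t1
  rw [hzq, one_smul] at t2
  rw [← ht] at t0 t1 t2
  have htne : t ≠ 1 := fun h => by
    rw [h] at t0
    exact absurd (U.b.injective (show U.b 0 = U.b 1 from t0)) (by decide)
  have htt : t * t = 1 := H.sisom_ext fun x => by
    rw [show (1 : H.SIsom).1.1 x = x from rfl]
    have key : ∀ l, (t * t).1.1 (U.b l) = U.b l := fun l => by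
      fin_cases l <;> simp [H.smul_mul_apply, t0, t1, t2]
    conv_rhs => rw [← U.sum_co x]
    conv_lhs => rw [← U.sum_co x]
    simp only [map_sum, map_smul, key]
  obtain ⟨P, hP⟩ := inv_centre hd h2 htt
  exact ⟨P, t, pow_mem hgK _, htne, hP⟩

/-- Centres are acted on freely by a cyclic group of order `q + 1` preserving supports. -/
theorem dvd_class (T : Finset (Fin 3)) :
    H.q + 1 ∣ Nat.card {P : H.IsoPt // P ∈ Cn K ∧ SuppIs U P T} := by
  classical
  rcases isEmpty_or_nonempty {P : H.IsoPt // P ∈ Cn K ∧ SuppIs U P T} with h | ⟨⟨P₀, hP₀⟩⟩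
  · rw [Nat.card_of_isEmpty]; exact dvd_zero _
  obtain ⟨η, hη, hgen, hη1⟩ := exists_gen (H := H) hσ
  -- two coordinates in the support
  have h0 : ∃ i, i ∈ T := by
    by_contra! h
    exact P₀.1.rep_nonzero (U.ext_co fun l => by
      rw [U.co_zero]
      by_contra hl
      exact h l ((hP₀.2 l).1 hl))
  obtain ⟨i, hi⟩ := h0
  obtain ⟨j, hij, hj⟩ : ∃ j, i ≠ j ∧ j ∈ T := by
    by_contra! h
    have hx := P₀.2
    rw [U.h_self_nm, Finset.sum_eq_single i (fun l _ hl => U.nm_eq_zero.2 (by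
      by_contra hne
      exact h l hl.symm ((hP₀.2 l).1 hne))) (by simp)] at hx
    exact (hP₀.2 i).2 hi (U.nm_eq_zero.1 hx)
  obtain ⟨l, hil, hjl⟩ := exists_third hij
  set g := U.ph i l hη with hg
  have hgK : g ∈ K := ph_mem U hM hil hη
  have hsupp : ∀ m P, SuppIs U P T → SuppIs U (g ^ m • P) T := by
    intro m P hP n
    obtain ⟨c, hc, hco⟩ := co_smul_pt U (g ^ m) P
    rw [hco, hg, co_ph_pow U hil hη, ← hP n]
    have e1 : η ^ m ≠ 0 := pow_ne_zero m (H.circle_ne_zero hη)
    have e2 : H.σ η ^ m ≠ 0 := pow_ne_zero m ((map_ne_zero _).2 (H.circle_ne_zero hη))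
    split_ifs with h1 h2
    · subst h1; simp [hc, e1]
    · subst h2; simp [hc, e2]
    · simp [hc]
  set S := Subgroup.zpowers g
  haveI : Finite S := inferInstance
  letI : MulAction S {P : H.IsoPt // P ∈ Cn K ∧ SuppIs U P T} :=
    { smul := fun s P => ⟨s.1 • P.1, smul_mem_Cn K P.2.1 (Subgroup.zpowers_le.2 hgK s.2), by
        obtain ⟨m, hm⟩ := (isOfFinOrder_of_finite g).mem_powers_iff_mem_zpowers.2 s.2
        rw [← show g ^ m = s.1 from hm]
        exact hsupp m _ P.2.2⟩
      one_smul := fun P => Subtype.ext (one_smul _ P.1)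
      mul_smul := fun a b P => Subtype.ext (mul_smul a.1 b.1 P.1) }
  have hord : Nat.card S = H.q + 1 := by
    rw [Nat.card_zpowers, orderOf_eq_iff (by omega)]
    have hid : ∀ m, η ^ m = 1 → g ^ m = 1 := fun m hm => H.sisom_ext fun x => U.ext_co fun n => by
      rw [hg, co_ph_pow U hil hη, hm, show H.σ η ^ m = 1 by rw [← map_pow, hm, map_one]]
      show _ = U.co x n
      split_ifs with h1 h2 <;> simp [*]
    refine ⟨hid _ hη1, fun m hm hm0 h => hgen m hm0 (by omega) ?_⟩
    have h' := co_ph_pow U hil hη (U.b i) m i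
    rw [← hg, h, if_pos rfl, U.co_b, if_pos rfl, mul_one] at h'
    have : U.co ((1 : H.SIsom).1.1 (U.b i)) i = 1 := by rw [show (1 : H.SIsom).1.1 (U.b i) = U.b i from rfl, U.co_b, if_pos rfl]
    exact h'.symm.trans this
  haveI : Fintype (MulAction.orbitRel.Quotient S {P : H.IsoPt // P ∈ Cn K ∧ SuppIs U P T}) := Fintype.ofFinite _
  rw [Nat.card_congr (MulAction.selfEquivSigmaOrbits' S _), Nat.card_sigma]
  refine Finset.dvd_sum fun o _ => ?_
  induction o using Quotient.inductionOn with | _ P => ?_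
  show H.q + 1 ∣ Nat.card (MulAction.orbitRel.Quotient.orbit (Quotient.mk'' P : MulAction.orbitRel.Quotient S _))
  rw [MulAction.orbitRel.Quotient.orbit_mk, Nat.card_coe_set_eq, ← MulAction.index_stabilizer]
  suffices h : MulAction.stabilizer S P = ⊥ by rw [h, Subgroup.index_bot, hord]
  rw [Subgroup.eq_bot_iff_forall]
  rintro ⟨s, hs⟩ hfix
  obtain ⟨m, hm⟩ := (isOfFinOrder_of_finite g).mem_powers_iff_mem_zpowers.2 hs
  have hm' : g ^ m = s := hm
  refine Subtype.ext ?_
  show s = 1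
  rw [← hm']
  have hfix' : g ^ m • P.1 = P.1 := hm'.symm ▸ congrArg Subtype.val hfix
  obtain ⟨c, hc, hco⟩ := co_smul_pt U (g ^ m) P.1
  rw [hfix'] at hco
  have hi' := hco i
  have hj' := hco j
  rw [hg, co_ph_pow U hil hη, if_pos rfl] at hi'
  rw [hg, co_ph_pow U hil hη, if_neg hij.symm, if_neg hjl] at hj'
  have hc1 : c = 1 := by
    refine mul_right_cancel₀ ((P.2.2 j).2 hj) ?_
    linear_combination -hj'
  rw [hc1, one_mul] at hi'
  have hpm : η ^ m = 1 := mul_right_cancel₀ ((P.2.2 i).2 hi) (by rw [one_mul]; exact hi'.symm)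
  refine H.sisom_ext fun x => U.ext_co fun n => ?_
  rw [hg, co_ph_pow U hil hη, hpm, show H.σ η ^ m = 1 by rw [← map_pow, hpm, map_one]]
  show _ = U.co x n
  split_ifs with h1 h2 <;> simp [*]

/-- The number of centres is divisible by `q + 1` and differs from it. -/
theorem card_Cn_frame : H.q + 1 ∣ Nat.card (Cn K) ∧ Nat.card (Cn K) ≠ H.q + 1 := by
  classical
  haveI := Fintype.ofFinite F
  let tS : Cn K → Finset (Fin 3) := fun P => Finset.univ.filter fun l => U.co P.1.1.rep l ≠ 0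
  have hcl : ∀ (T : Finset (Fin 3)), Nat.card {P : Cn K // tS P = T} =
      Nat.card {P : H.IsoPt // P ∈ Cn K ∧ SuppIs U P T} := fun T => Nat.card_congr
    { toFun := fun P => ⟨P.1.1, P.1.2, fun l => by simpa [tS] using Finset.ext_iff.1 P.2 l⟩
      invFun := fun P => ⟨⟨P.1, P.2.1⟩, by ext l; simp [tS, P.2.2 l]⟩
      left_inv := fun P => rfl
      right_inv := fun P => rfl }
  have hsum : Nat.card (Cn K) = ∑ T, Nat.card {P : H.IsoPt // P ∈ Cn K ∧ SuppIs U P T} := by
    rw [← Finset.sum_congr rfl fun T _ => hcl T, ← Nat.card_sigma]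
    exact Nat.card_congr (Equiv.sigmaFiberEquiv tS).symm
  refine ⟨hsum ▸ Finset.dvd_sum fun T _ => dvd_class U hM hd hq hσ T, fun hN => ?_⟩
  obtain ⟨⟨P, hP⟩⟩ : Nonempty (Cn K) := (Nat.card_pos_iff.1 (by omega : 0 < Nat.card (Cn K))).1
  obtain ⟨T, hT⟩ : ∃ T, T = tS ⟨P, hP⟩ := ⟨_, rfl⟩
  have hPT : SuppIs U P T := fun l => by rw [hT]; simp [tS]
  haveI : Nonempty {P : H.IsoPt // P ∈ Cn K ∧ SuppIs U P T} := ⟨⟨P, hP, hPT⟩⟩
  have hge := Nat.le_of_dvd Nat.card_pos (dvd_class U hM hd hq hσ T)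
  by_cases hfull : ∀ l, l ∈ T
  · -- a further point in the same class
    obtain ⟨η, hη, hgen, hη1⟩ := exists_gen (H := H) hσ
    let f : Option (Fin (H.q + 1)) → Cn K := fun o => o.elim
      ⟨U.ph 1 2 hη • P, smul_mem_Cn K hP (ph_mem U hM (by decide) hη)⟩
      fun m => ⟨U.ph 0 2 hη ^ (m : ℕ) • P, smul_mem_Cn K hP (pow_mem (ph_mem U hM (by decide) hη) _)⟩
    have hco : ∀ l, U.co P.1.rep l ≠ 0 := fun l => (hPT l).2 (hfull l)
    have hpow : ∀ m m' : Fin (H.q + 1), η ^ (m : ℕ) = η ^ (m' : ℕ) → m = m' := by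
      have key : ∀ a b : ℕ, a ≤ b → b ≤ H.q → η ^ a = η ^ b → a = b := by
        intro a b hab hb h
        by_contra hne
        refine hgen (b - a) (by omega) (by omega) (mul_left_cancel₀ (pow_ne_zero a (H.circle_ne_zero hη)) ?_)
        rw [← pow_add, Nat.add_sub_cancel' hab, mul_one, h]
      intro m m' h
      rcases le_total (m : ℕ) m' with h' | h'
      · exact Fin.ext (key _ _ h' (by omega) h)
      · exact Fin.ext (key _ _ h' (by omega) h.symm).symm
    have hinj : Function.Injective f := by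
      have none_some : ∀ m, f none ≠ f (some m) := by
        intro m h
        have h' : U.ph 1 2 hη • P = U.ph 0 2 hη ^ (m : ℕ) • P := congrArg Subtype.val h
        obtain ⟨c, hc, hc'⟩ := co_smul_pt U (U.ph 1 2 hη) P
        obtain ⟨d, hd0, hd'⟩ := co_smul_pt U (U.ph 0 2 hη ^ (m : ℕ)) P
        rw [h'] at hc'
        have e : ∀ l, c * U.co ((U.ph 1 2 hη).1.1 P.1.rep) l =
            d * U.co ((U.ph 0 2 hη ^ (m : ℕ)).1.1 P.1.rep) l := fun l => (hc' l).symm.trans (hd' l)
        have a0 := e 0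
        have a1 := e 1
        have a2 := e 2
        simp only [U.co_ph (show (1 : Fin 3) ≠ 2 by decide), co_ph_pow U (show (0 : Fin 3) ≠ 2 by decide),
          show (0 : Fin 3) ≠ 1 by decide, show (0 : Fin 3) ≠ 2 by decide, show (1 : Fin 3) ≠ 0 by decide,
          show (1 : Fin 3) ≠ 2 by decide, show (2 : Fin 3) ≠ 0 by decide, show (2 : Fin 3) ≠ 1 by decide,
          if_true, if_false] at a0 a1 a2
        rw [← mul_assoc] at a0 a1 a2
        have b0 := mul_right_cancel₀ (hco 0) a0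
        have b1 : c * η = d := mul_right_cancel₀ (hco 1) a1
        have b2 : c * H.σ η = d * H.σ η ^ (m : ℕ) := by
          rw [← mul_assoc] at a2; exact mul_right_cancel₀ (hco 2) a2
        subst b1
        refine hgen 3 (by norm_num) hq ?_
        have k0 : η * η ^ (m : ℕ) = 1 := mul_left_cancel₀ hc (by linear_combination -b0)
        have k2 : H.σ η = η * H.σ η ^ (m : ℕ) := mul_left_cancel₀ hc (by linear_combination b2)
        have k1 : η ^ (m : ℕ) * H.σ η ^ (m : ℕ) = 1 := by rw [← mul_pow, hη, one_pow]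
        have k3 : H.σ η ^ (m : ℕ) = η := by linear_combination -(H.σ η ^ (m : ℕ)) * k0 + η * k1
        rw [k3] at k2
        linear_combination -η * k2 + hη
      rintro (_ | m) (_ | m') h
      · rfl
      · exact absurd h (none_some m')
      · exact absurd h.symm (none_some m)
      · have h' : U.ph 0 2 hη ^ (m : ℕ) • P = U.ph 0 2 hη ^ (m' : ℕ) • P := congrArg Subtype.val h
        obtain ⟨c, hc, hc'⟩ := co_smul_pt U (U.ph 0 2 hη ^ (m : ℕ)) P
        obtain ⟨d, hd0, hd'⟩ := co_smul_pt U (U.ph 0 2 hη ^ (m' : ℕ)) P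
        rw [h'] at hc'
        have a0 := (hc' 0).symm.trans (hd' 0)
        have a1 := (hc' 1).symm.trans (hd' 1)
        simp only [co_ph_pow U (show (0 : Fin 3) ≠ 2 by decide), show (1 : Fin 3) ≠ 0 by decide,
          show (1 : Fin 3) ≠ 2 by decide, if_true, if_false] at a0 a1
        have hcd : c = d := mul_right_cancel₀ (hco 1) a1
        rw [hcd] at a0
        exact congrArg some (hpow _ _ (mul_right_cancel₀ (hco 0) (mul_left_cancel₀ hd0 a0)))
    have := Nat.card_le_card_of_injective f hinj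
    rw [Finite.card_option, Nat.card_fin, hN] at this
    omega
  -- a permutation gives a second class
  push Not at hfull
  obtain ⟨l, hl⟩ := hfull
  obtain ⟨i, hi⟩ : ∃ i, i ∈ T := by
    by_contra! h
    exact P.1.rep_nonzero (U.ext_co fun l => by
      rw [U.co_zero]; by_contra hl; exact h l ((hPT l).1 hl))
  have hli : l ≠ i := fun e => hl (e ▸ hi)
  obtain ⟨g, z, hz, hg, hgco⟩ := U.exists_perm (Equiv.swap l i) l
  have hc : ∀ m, (if Equiv.swap l i m = l then z else (1 : F)) ≠ 0 := fun m => by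
    split_ifs
    exacts [H.circle_ne_zero hz, one_ne_zero]
  have hgK : g ∈ K := perm_mem U hM hg hc
  set Q : H.IsoPt := g • P
  have hQ : Q ∈ Cn K := smul_mem_Cn K hP hgK
  obtain ⟨c, hc0, hco⟩ := co_smul_pt U g P
  have hQl : U.co Q.1.rep l ≠ 0 := by
    have h := hgco P.1.rep i
    rw [Equiv.swap_apply_right] at h
    rw [hco, h, if_pos rfl]
    exact mul_ne_zero hc0 (mul_ne_zero (H.circle_ne_zero hz) ((hPT i).2 hi))
  haveI : Nonempty {P : H.IsoPt // P ∈ Cn K ∧ SuppIs U P (tS ⟨Q, hQ⟩)} :=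
    ⟨⟨Q, hQ, fun n => by simp [tS]⟩⟩
  have hge' := Nat.le_of_dvd Nat.card_pos (dvd_class U hM hd hq hσ (tS ⟨Q, hQ⟩))
  have hne : T ≠ tS ⟨Q, hQ⟩ := fun e => hl (by rw [e]; simp [tS, hQl])
  rw [hsum] at hN
  have := Finset.sum_le_sum_of_subset (f := fun T => Nat.card {P : H.IsoPt // P ∈ Cn K ∧ SuppIs U P T})
    (Finset.subset_univ {T, tS ⟨Q, hQ⟩})
  rw [Finset.sum_pair hne, hN] at this
  omega

end Cfsg.Lib.Classical.SUThree
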