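import Cfsg.Agent.Classical.SUThree.Frame

/-!
The monomial group of a three-dimensional special unitary group is maximal: the case without transvections and the
conclusion.
-/

set_option autoImplicit false
set_option linter.unusedSectionVars false
set_option linter.unusedSimpArgs false
set_option linter.style.haveILetI false
set_option maxHeartbeats 1000000

namespace Cfsg.Lib.Classical.SUThree

open Cfsg.Lib.Classical Cfsg.Lib.Components.UnitaryThree Cfsg.Lib.Known.PSUThree

universe u v

variable {F : Type u} [Field F] [Finite F] [DecidableEq F] {V : Type v} [AddCommGroup V] [Module F V]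
  [FiniteDimensional F V] {H : HermSpace F V}
variable (U : UFrame H (Fin 3)) {K : Subgroup H.SIsom} (hM : ∀ g : H.SIsom, U.Mono1 g.1 → g ∈ K)
  (hd : Module.finrank F V = 3) (hq : 3 ≤ H.q) (hσ : ∀ x, H.σ x = x ^ H.q) (hN : NoRoot K)

include hM hd hq hσ hN

/-- The stabiliser of a frame point is monomial. -/
theorem mono_of_fix {g : H.SIsom} (hg : g ∈ K) {l : Fin 3} {t : F} (hgl : g.1.1 (U.b l) = t • U.b l) :
    U.Mono1 g.1 := by
  classical
  haveI := Fintype.ofFinite F
  obtain ⟨η, hη, hgen, -⟩ := exists_gen (H := H) hσ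
  have hll : H.h (U.b l) (U.b l) ≠ 0 := by rw [U.b_self]; exact one_ne_zero
  obtain ⟨B, c, hc0, hBw⟩ := exists_frame_pole hd hll
  have hperp : ∀ m, m ≠ l → H.h (U.b m) B.w = 0 := fun m hm => by
    rw [hBw, H.smul_right, U.b_ne hm, mul_zero]
  have hb0 : ∀ m, U.b m ≠ 0 := U.b.ne_zero
  have key : ∀ (i j : Fin 3), i ≠ j → (hil : i ≠ l) → j ≠ l →
      H.q + 1 ≤ Nat.card (MulAction.stabilizer (rho K B).range (plMk B (U.b i) (hb0 i) (hperp i hil))) := by
    intro i j hij hil hjl
    set T := U.ph i l hη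
    have hTb : ∀ m, T.1.1 (U.b m) = (if m = i then η else if m = l then H.σ η else 1) • U.b m := fun m =>
      U.ext_co fun n => by
        rw [U.co_ph hil, U.co_smul, U.co_b, U.co_b, U.co_b]
        rcases fin_three hij hil hjl m with rfl | rfl | rfl <;>
          rcases fin_three hij hil hjl n with rfl | rfl | rfl <;>
          simp [hij, hij.symm, hil, hil.symm, hjl, hjl.symm]
    have hTw : T.1.1 B.w = H.σ η • B.w := by
      rw [hBw, map_smul, hTb, if_neg hil.symm, if_pos rfl, smul_comm]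
    set T' : Mg K B := ⟨T, mem_Mg.2 ⟨ph_mem U hM hil hη, _, hTw⟩⟩
    have hfix : T' • plMk B (U.b i) (hb0 i) (hperp i hil) = plMk B (U.b i) (hb0 i) (hperp i hil) :=
      (smul_eq_iff _ _ _).2 ⟨η, by show T.1.1 (U.b i) = _; rw [hTb, if_pos rfl]⟩
    set r : MulAction.stabilizer (rho K B).range (plMk B (U.b i) (hb0 i) (hperp i hil)) :=
      ⟨⟨rho K B T', ⟨T', rfl⟩⟩, hfix⟩
    have hord : ∀ m, 0 < m → m ≤ H.q → r ^ m ≠ 1 := by
      intro m h0 h1 h
      refine hgen m h0 h1 ?_
      have h' : rho K B (T' ^ m) = 1 := by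
        rw [map_pow]
        exact congrArg (fun s : MulAction.stabilizer (rho K B).range
          (plMk B (U.b i) (hb0 i) (hperp i hil)) => s.1.1) h
      have hsw : H.h (U.b i + U.b j) B.w = 0 := by rw [H.add_left, hperp i hil, hperp j hjl, add_zero]
      have hs0 : U.b i + U.b j ≠ 0 := fun e => by
        have := congrArg (fun x => U.co x i) e
        simp [U.co_add, U.co_b, U.co_zero, hij.symm] at this
      obtain ⟨s, hs⟩ := (smul_eq_iff (T' ^ m) hs0 hsw).1 (rho_eq_one hd K B h' _)
      change (T ^ m).1.1 _ = _ at hs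
      have e1 := congrArg (fun x => U.co x i) hs
      have e2 := congrArg (fun x => U.co x j) hs
      simp only [T, co_ph_pow U hil hη, U.co_smul, U.co_add, U.co_b, if_true, hij, hij.symm, hjl, if_false, add_zero,
        zero_add, mul_one] at e1 e2
      rw [e1, ← e2]
    calc H.q + 1 ≤ orderOf r := by
          by_contra! hlt
          exact hord _ (orderOf_pos r) (by omega) (pow_orderOf_eq_one r)
      _ ≤ _ := Nat.le_of_dvd Nat.card_pos (orderOf_dvd_natCard r)
  obtain ⟨i, hil⟩ := exists_ne l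
  obtain ⟨j, hij', hlj⟩ := exists_third hil
  have s1 := key i j hij' hil hlj.symm
  have s2 := key j i hij'.symm hlj.symm hil
  rcases TwoFix.cases (pairs_line hd hσ hN B) (two_le_pl hd hσ hN B) with ⟨S, hS2, hinv, hbig⟩ | hsp
  swap
  · exfalso
    obtain ⟨p, hp⟩ := CharP.exists F
    haveI : Fact p.Prime := ⟨CharP.char_is_prime F p⟩
    have hp' := not_dvd_line hd hσ hN B p
    obtain ⟨e, he⟩ := q_pow (H := H) p
    have he0 : e ≠ 0 := fun h => by rw [h, pow_zero] at he; omega
    rcases hsp with ⟨hn, hm, -⟩ | ⟨hn, hm, -⟩ | ⟨hn, hm, -⟩ <;>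
    · have hb := s1.trans (hm _)
      rw [hn] at hp'
      have hq34 : H.q = 3 ∨ H.q = 4 := by omega
      have h12 : p ∣ 12 := by
        have : p ∣ H.q := he ▸ dvd_pow_self p he0
        rcases hq34 with h | h <;> rw [h] at this <;> exact this.trans (by norm_num)
      exact hp' (h12.trans (by norm_num))
  -- the pair is the two frame points
  have hm1 := hbig _ (show 3 ≤ Nat.card (MulAction.stabilizer (rho K B).range
    (plMk B (U.b i) (hb0 i) (hperp i hil))) by omega)
  have hm2 := hbig _ (show 3 ≤ Nat.card (MulAction.stabilizer (rho K B).range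
    (plMk B (U.b j) (hb0 j) (hperp j hlj.symm))) by omega)
  have hne : plMk B (U.b i) (hb0 i) (hperp i hil) ≠ plMk B (U.b j) (hb0 j) (hperp j hlj.symm) := fun e => by
    obtain ⟨c, hc⟩ := plMk_eq_iff.1 e
    have := congrArg (fun x => U.co x i) hc
    simp [U.co_smul, U.co_b, hij'.symm] at this
  have hS : S = {plMk B (U.b i) (hb0 i) (hperp i hil), plMk B (U.b j) (hb0 j) (hperp j hlj.symm)} :=
    (Set.eq_of_subset_of_ncard_le (Set.insert_subset hm1 (Set.singleton_subset_iff.2 hm2))
      (by rw [hS2, Set.ncard_pair hne]) (Set.toFinite _)).symm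
  have hgw : g.1.1 B.w = t • B.w := by rw [hBw, map_smul, hgl, smul_comm]
  set g' : Mg K B := ⟨g, mem_Mg.2 ⟨hg, t, hgw⟩⟩
  have himg : ∀ m, (hml : m ≠ l) → plMk B (U.b m) (hb0 m) (hperp m hml) ∈ S →
      (U.supp (g.1.1 (U.b m))).card ≤ 1 := by
    intro m hml hmS
    have h := hinv ⟨rho K B g', ⟨g', rfl⟩⟩ _ hmS
    change g' • plMk B (U.b m) (hb0 m) (hperp m hml) ∈ S at h
    rw [hS, smul_plMk, Set.mem_insert_iff, Set.mem_singleton_iff, plMk_eq_iff, plMk_eq_iff] at h
    rcases h with ⟨c, hc⟩ | ⟨c, hc⟩ <;>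
    · rw [← show c • _ = g.1.1 (U.b m) from hc]
      exact (Finset.card_le_card ((U.supp_smul_subset _ _).trans (U.supp_b _).subset)).trans
        (Finset.card_singleton _).le
  intro m
  rcases fin_three hij' hil hlj.symm m with rfl | rfl | rfl
  · exact himg _ hil hm1
  · exact himg _ hlj.symm hm2
  · rw [hgl]
    exact (Finset.card_le_card ((U.supp_smul_subset _ _).trans (U.supp_b _).subset)).trans
      (Finset.card_singleton _).le

/-- The frame vectors are centres of homologies of order at least four. -/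
theorem hc_frame (hq5 : H.q ≠ 5) (hodd : Odd H.q) (i : Fin 3) : IsHC K 4 (U.b i) := by
  classical
  haveI := Fintype.ofFinite F
  obtain ⟨η, hη, hgen, hη1⟩ := exists_gen (H := H) hσ
  obtain ⟨j, hji⟩ := exists_ne i
  obtain ⟨l, hjl, hil⟩ := exists_third hji
  refine ⟨by rw [U.b_self]; exact one_ne_zero, U.ph j i hη * U.ph l i hη,
    K.mul_mem (ph_mem U hM hji hη) (ph_mem U hM hil.symm hη), η, H.σ η * H.σ η, ?_, ?_, ?_⟩
  · refine U.ext_co fun n => ?_
    rw [H.smul_mul_apply, U.co_ph hji, U.co_ph hil.symm, U.co_ph hil.symm, U.co_ph hil.symm, U.co_smul, U.co_b,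
      U.co_b, U.co_b, U.co_b]
    rcases fin_three hji hjl hil n with rfl | rfl | rfl <;>
      simp [hji, hji.symm, hil, hil.symm, hjl, hjl.symm, mul_assoc]
  · intro x hx
    have hxi : U.co x i = 0 := hx
    refine U.ext_co fun n => ?_
    rw [H.smul_mul_apply, U.co_ph hji, U.co_ph hil.symm, U.co_ph hil.symm, U.co_ph hil.symm, U.co_smul]
    rcases fin_three hji hjl hil n with rfl | rfl | rfl <;>
      simp [hji, hji.symm, hil, hil.symm, hjl, hjl.symm, hxi]
  · intro m h0 h4 h
    have hcirc : η ^ m * H.σ η ^ m = 1 := by rw [← mul_pow, hη, one_pow]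
    have h3 : η ^ (3 * m) = 1 := by
      rw [mul_pow, ← pow_add, ← two_mul] at h
      rw [show 3 * m = m + 2 * m by omega, pow_add]
      calc η ^ m * η ^ (2 * m) = H.σ η ^ (2 * m) * η ^ (2 * m) := by rw [h]
        _ = 1 := by rw [← mul_pow, mul_comm (H.σ η), hη, one_pow]
    have hred : η ^ (3 * m % (H.q + 1)) = 1 := by
      rwa [← Nat.div_add_mod (3 * m) (H.q + 1), pow_add, pow_mul, hη1, one_pow, one_mul] at h3
    have hlt := Nat.mod_lt (3 * m) (show H.q + 1 > 0 by omega)
    have hdiv : 3 * m % (H.q + 1) = 0 := by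
      by_contra hne
      exact hgen _ (Nat.pos_of_ne_zero hne) (by omega) hred
    have hle := Nat.le_of_dvd (by omega) (Nat.dvd_of_mod_eq_zero hdiv)
    obtain ⟨r, hr⟩ := hodd
    have hd' := Nat.dvd_of_mod_eq_zero hdiv
    rcases (show H.q = 3 ∨ H.q = 7 by omega) with e | e <;> rw [e] at hd' <;> interval_cases m <;> omega

/-- A homology centre orthogonal to a frame vector is a multiple of one. -/
theorem hc_perp {k : ℕ} (hk : 3 ≤ k) {x : V} (hx : IsHC K k x) {l : Fin 3} (hxl : H.h x (U.b l) = 0) :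
    ∃ i, i ≠ l ∧ ∃ c : F, x = c • U.b i := by
  classical
  obtain ⟨hxx, g, hg, lam, mu, hgx, hpx, hj⟩ := id hx
  have hgl : g.1.1 (U.b l) = lam • U.b l := hpx _ (H.eq_zero_symm hxl)
  obtain ⟨π, cc, hπ⟩ := U.mono1_iff.1 (mono_of_fix U hM hd hq hσ hN hg hgl)
  have hπl : π l = l := by
    by_contra hne
    have h := (hπ l).1
    rw [show g.1.1 (U.b l) = g.1.1 (U.b l) from rfl, hgl] at h
    have := congrArg (fun v => U.co v (π l)) h
    simp [U.co_smul, U.co_b, Ne.symm hne] at this
    exact (hπ l).2 this.symm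
  obtain ⟨i, hil⟩ := exists_ne l
  obtain ⟨j, hij, hlj⟩ := exists_third hil
  -- the square fixes the other frame vectors
  have hsq : ∃ t : F, g.1.1 (g.1.1 (U.b i)) = t • U.b i := by
    have hne : ∀ m, m ≠ l → π m ≠ l := fun m hm e => hm (π.injective (e.trans hπl.symm))
    have : π (π i) = i := by
      rcases fin_three hij hil hlj.symm (π i) with h | h | h
      · rw [h, h]
      · rw [h]
        rcases fin_three hij hil hlj.symm (π j) with h' | h' | h'
        · exact h'
        · exact absurd (π.injective (h.trans h'.symm)) hij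
        · exact absurd h' (hne j hlj.symm)
      · exact absurd h (hne i hil)
    refine ⟨cc i * cc (π i), ?_⟩
    rw [(hπ i).1, map_smul, (hπ (π i)).1, smul_smul, this]
  obtain ⟨t, ht⟩ := hsq
  set a := H.h (U.b i) x / H.h x x
  set y := U.b i - a • x with hy
  have hyx : H.h y x = 0 := by rw [hy, H.sub_left, H.smul_left, div_mul_cancel₀ _ hxx, sub_self]
  rw [show U.b i = a • x + y by rw [hy]; module, map_add, map_smul, hgx, hpx y hyx, map_add, map_smul, map_smul,
    map_smul, hgx, hpx y hyx] at ht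
  have e1 := congrArg (fun v => H.h v x) ht
  simp [H.add_left, H.smul_left, hyx] at e1
  by_cases ha : a = 0
  · refine ⟨j, hlj.symm, U.co x j, U.ext_co fun n => ?_⟩
    have hxi : U.co x i = 0 := by
      have h : H.h (U.b i) x = 0 := (div_eq_zero_iff.1 ha).resolve_right hxx
      exact H.eq_zero_symm h
    rw [U.co_smul, U.co_b]
    rcases fin_three hij hil hlj.symm n with rfl | rfl | rfl
    · rw [if_neg hij.symm, hxi, mul_zero]
    · rw [if_pos rfl, mul_one]
    · rw [if_neg hlj.symm, mul_zero]; exact hxl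
  · refine ⟨i, hil, a⁻¹, ?_⟩
    have hy0 : y = 0 := by
      have hte : t = mu * mu := mul_right_cancel₀ (mul_ne_zero ha hxx) (by linear_combination -e1)
      rw [hte] at ht
      have h' : (lam * lam - mu * mu) • y = 0 := by linear_combination (norm := module) ht
      refine (smul_eq_zero.1 h').resolve_left fun h => hj 2 two_pos (by omega) ?_
      linear_combination h
    rw [hy, sub_eq_zero] at hy0
    rw [hy0, inv_smul_smul₀ ha]

omit hN in
/-- The monomial group is maximal. -/
theorem frame_top (hq5 : H.q ≠ 5) {g : H.SIsom} (hg : g ∈ K) (hgM : ¬ U.Mono1 g.1)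
    (hsol : Group.IsSolvable K → False) : K = ⊤ := by
  classical
  haveI := Fintype.ofFinite F
  by_contra hK
  obtain ⟨p, hp⟩ := CharP.exists F
  haveI : Fact p.Prime := ⟨CharP.char_is_prime F p⟩
  by_cases hC : (Cn K).Nonempty
  · obtain ⟨P, hP⟩ := hC
    obtain ⟨B, rfl⟩ := exists_frame_pt hd P
    obtain ⟨hdvd, hne⟩ := card_Cn_frame U hM hd hq hσ
    have h22 : (2 : F) = 0 → Nat.card (Ag K B) ≠ 2 := fun _ h => hsol (solvable_of_two K hd h)
    obtain ⟨j, hN', hj⟩ := card_Cn K hd hq (irr U hM hd hq hσ) hK (p := p) hP h22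
    obtain ⟨e, he⟩ := q_pow (H := H) p
    have he0 : 0 < e := Nat.pos_of_ne_zero fun h => by rw [h, pow_zero] at he; omega
    have h3 : H.q ^ 3 = p ^ (3 * e) := by rw [he, ← pow_mul, mul_comm]
    have hdiv : H.q + 1 ∣ H.q ^ 3 + 1 := by
      simpa using (show Odd 3 by decide).nat_add_dvd_pow_add_pow H.q 1
    rw [h3] at hdiv hj
    rw [hN'] at hdvd hne
    obtain ⟨hpj, -⟩ := common_divisor (Fact.out : p.Prime).two_le he0 hj hdvd hdiv (by rw [he])
    exact hne (by rw [hpj, ← he])
  have hN' : NoRoot K := (noRoot_iff hd K).2 (Set.not_nonempty_iff_eq_empty.1 hC)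
  have h2 : (2 : F) ≠ 0 := fun h => hC (Cn_nonempty_of_two U hM hd hq hσ h)
  have hodd : Odd H.q := by
    obtain ⟨e, he⟩ := q_pow (H := H) p
    have hp2 : p ≠ 2 := fun e' => h2 (by
      have := CharP.cast_eq_zero F p
      rw [e'] at this
      exact_mod_cast this)
    rw [he]
    exact ((Fact.out : p.Prime).odd_of_ne_two hp2).pow
  unfold UFrame.Mono1 at hgM
  push Not at hgM
  obtain ⟨i, hi⟩ := hgM
  have hHC := hc_frame U hM hd hq hσ hN' hq5 hodd
  set x := g.1.1 (U.b i) with hx
  have hxHC : IsHC K 4 x := (hHC i).map hd hg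
  have hcox : ∀ l, U.co x l ≠ 0 := by
    intro l h
    obtain ⟨m, -, c, hc⟩ := hc_perp U hM hd hq hσ hN' (by norm_num) hxHC (l := l) h
    rw [hc] at hi
    have hle := (Finset.card_le_card ((U.supp_smul_subset c (U.b m)).trans (U.supp_b m).subset)).trans
      (Finset.card_singleton m).le
    omega
  obtain ⟨B, x', hx'0, hxw, hyw, hx'w, hx'x, n, m, hkm, hnm, -, hx'HC⟩ :=
    chord_cases hd hσ hN' (k := 4) (by norm_num) hxHC (hHC 0) (hcox 0) fun c hc => by
      have h1 := congrArg (fun v => U.co v 1) hc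
      simp [U.co_smul, U.co_b, hcox 1] at h1
      rw [h1, zero_smul] at hc
      exact U.b.ne_zero 0 hc
  have hx'H := hx'HC (by omega)
  have hinv : ∀ v, g.1.1 ((g⁻¹).1.1 v) = v := fun v => H.apply_inv_self g.1 v
  obtain ⟨j, hji, c, hc⟩ := hc_perp U hM hd hq hσ hN' (by norm_num) (hx'H.map hd (inv_mem hg)) (l := i) (by
    rw [← H.map_form g.1, hinv]
    exact hx'x)
  have hc0 : c ≠ 0 := fun e => by
    rw [e, zero_smul] at hc
    exact H.isom_ne_zero (g⁻¹).1 hx'0 hc
  have hgj : x' = c • g.1.1 (U.b j) := by rw [← hinv x', hc, map_smul]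
  obtain ⟨l, hjl, hil⟩ := exists_third hji
  set v := (g⁻¹).1.1 B.w with hv
  have hwgl : B.w = U.co v l • g.1.1 (U.b l) := by
    have e : v = U.co v l • U.b l := U.ext_co fun n => by
      rw [U.co_smul, U.co_b]
      rcases fin_three hji hjl hil n with rfl | rfl | rfl
      · rw [if_neg hjl.symm, mul_zero]
        have h : H.h v (U.b n) = 0 := by
          rw [← H.map_form g.1, hinv]
          refine H.eq_zero_symm ?_
          rw [hgj, H.smul_left] at hx'w
          exact (mul_eq_zero.1 hx'w).resolve_left hc0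
        exact h
      · rw [if_neg hil.symm, mul_zero]
        show H.h v (U.b n) = 0
        rw [← H.map_form g.1, hinv]
        exact H.eq_zero_symm hxw
      · rw [if_pos rfl, mul_one]
    conv_lhs => rw [← hinv B.w, ← hv, e, map_smul]
  have hv0 : U.co v l ≠ 0 := fun e => by
    rw [e, zero_smul] at hwgl
    exact w_ne B hwgl
  have hwHC : IsHC K 4 B.w := by
    rw [hwgl]
    exact ((hHC l).map hd hg).smul hd hv0
  obtain ⟨a, -, b, hb⟩ := hc_perp U hM hd hq hσ hN' (by norm_num) hwHC (l := 0) (H.eq_zero_symm hyw)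
  have : b = 0 := by
    rw [hb, H.smul_right] at hxw
    exact H.conj.eq_zero.1 ((mul_eq_zero.1 hxw).resolve_right (hcox a))
  rw [this, zero_smul] at hb
  exact w_ne B hb

end Cfsg.Lib.Classical.SUThree
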