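import Mathlib
import Cfsg.Agent.Known.PSUThree.Point

/-!
In a three-dimensional special unitary group three full root groups whose centres are not collinear generate
everything; the stabiliser of a non-degenerate point is maximal.
-/

set_option autoImplicit false
set_option linter.unusedSectionVars false
set_option linter.style.haveILetI false

namespace Cfsg.Lib.Classical.SUThree

open Cfsg.Lib.Classical Cfsg.Lib.Components.UnitaryThree

universe u v

variable {F : Type u} [Field F] {V : Type v} [AddCommGroup V] [Module F V] {H : HermSpace F V}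

/-- A vector off the line of a frame, scaled to have unit coefficient at the last vector. -/
def Pv (B : Frame H) (v c : F) : V := c • B.e + (-H.σ v) • B.w + B.f

theorem Pv_e (B : Frame H) (v c : F) : H.h (Pv B v c) B.e = 1 := by
  simp [Pv, H.add_left, H.smul_left, H.neg_left, B.ee, B.we, B.fe]

theorem Pv_iso_iff (B : Frame H) (v c : F) :
    H.h (Pv B v c) (Pv B v c) = 0 ↔ c + H.σ c + v * H.σ v = 0 := by
  have e : H.h (Pv B v c) (Pv B v c) = c + H.σ c + v * H.σ v := by
    simp [Pv, H.add_left, H.add_right, H.smul_left, H.smul_right, H.neg_left, H.neg_right, B.ee, B.ff, B.ef,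
      B.fe, B.ww, B.we, B.ew, B.wf, B.fw, H.conj.invol]
    ring
  rw [e]

variable [Finite F] [FiniteDimensional F V]

/-- Isotropic vectors orthogonal to an isotropic vector are multiples of it. -/
theorem iso_orth (hd : Module.finrank F V = 3) (B : Frame H) {x : V} (hxx : H.h x x = 0)
    (hxe : H.h x B.e = 0) : x = H.h x B.f • B.e := by
  have hdx := decomp hd B x
  rw [hxe, zero_smul, add_zero] at hdx
  have h0 : H.h x B.w = 0 := by
    have h := hxx
    rw [hdx] at h
    simp [H.add_left, H.add_right, H.smul_left, H.smul_right, B.ee, B.ew, B.we, B.ww] at h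
    exact h
  rw [h0, zero_smul, add_zero] at hdx
  exact hdx

theorem exists_frame_pair (hd : Module.finrank F V = 3) {x y : V} (hxx : H.h x x = 0) (hyy : H.h y y = 0)
    (hxy : H.h x y ≠ 0) : ∃ B : Frame H, B.e = x ∧ ∃ a : F, a ≠ 0 ∧ B.f = a • y := by
  have hσ : H.σ (H.h x y) ≠ 0 := (map_ne_zero _).2 hxy
  set a := (H.σ (H.h x y))⁻¹ with ha
  have hxa : H.h x (a • y) = 1 := by
    rw [H.smul_right, ha, map_inv₀, H.conj.invol, inv_mul_cancel₀ hxy]
  have haa : H.h (a • y) (a • y) = 0 := by rw [H.smul_left, H.smul_right, hyy, mul_zero, mul_zero]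
  obtain ⟨w, hww, hwx, hwy⟩ := H.exists_norm_one_orth_pair (by omega) hxx hxa
  exact ⟨⟨x, w, a • y, hxx, haa, hxa, hww, hwx, hwy⟩, rfl, a, inv_ne_zero hσ, rfl⟩

theorem top_of_triangle (hd : Module.finrank F V = 3) (hq : 3 ≤ H.q) {K : Subgroup H.SIsom} (B : Frame H)
    (he : B.e ∈ H.uCentres K) (hf : B.f ∈ H.uCentres K) {x : V} (hx : x ∈ H.uCentres K)
    (hxw : H.h x B.w ≠ 0) : K = ⊤ := by
  obtain ⟨hee, heK⟩ := he
  -- the root group at the first vector shifts the first coordinate
  have hshift : ∀ v c c', c + H.σ c + v * H.σ v = 0 → c' + H.σ c' + v * H.σ v = 0 →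
      Pv B v c ∈ H.uCentres K → Pv B v c' ∈ H.uCentres K := by
    intro v c c' hc hc' hmem
    have hs : (c' - c) + H.σ (c' - c) = 0 := by rw [map_sub]; linear_combination hc' - hc
    have h := HermSpace.uCentres_map hmem (heK _ hs)
    change (H.sT hee hs).1.1 (Pv B v c) ∈ _ at h
    rw [H.sT_apply, Pv_e, mul_one] at h
    convert h using 1
    simp only [Pv]
    module
  let Hit : F → Prop := fun v => ∀ c, c + H.σ c + v * H.σ v = 0 → Pv B v c ∈ H.uCentres K
  have hhit0 : Hit 0 := fun c hc => by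
    refine hshift 0 0 c (by simp) hc ?_
    simpa [Pv] using hf
  have hfix : ∀ v : F, H.σ (v * H.σ v) = v * H.σ v := fun v => H.conj.norm_mem v
  -- joining with the last vector divides by any element off the fixed field
  have hstep : ∀ v u : F, v ≠ 0 → H.σ u ≠ u → Hit v → Hit (v / u) := by
    intro v u hv hu hv'
    set N := v * H.σ v with hN
    have hN0 : N ≠ 0 := mul_ne_zero hv ((map_ne_zero _).2 hv)
    have hu0 : u ≠ 0 := fun h => hu (by rw [h, map_zero])
    have hu1 : u - 1 ≠ 0 := fun h => hu (by rw [sub_eq_zero.1 h, map_one])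
    have hσu0 : H.σ u ≠ 0 := (map_ne_zero _).2 hu0
    have hd0 : H.σ u - u ≠ 0 := sub_ne_zero.2 hu
    set k := -N * ((u - 1) * (H.σ u - 1)) / (H.σ u - u) with hk
    have hkσ : H.σ k = -k := by
      rw [hk, map_div₀, map_mul, map_neg, hfix, map_mul, map_sub, map_sub, map_sub, H.conj.invol, map_one]
      rw [show u - H.σ u = -(H.σ u - u) by ring, div_neg]
      ring
    set c := k / (u - 1) with hc
    have hσu1 : H.σ u - 1 ≠ 0 := fun h => hu1 (by
      have := congrArg H.σ h
      rwa [map_sub, H.conj.invol, map_one, map_zero] at this)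
    have hcN : c + H.σ c + N = 0 := by
      rw [hc, map_div₀, hkσ, map_sub, map_one, hk]
      field_simp
      ring
    have hc0 : c ≠ 0 := fun h => hN0 (by rw [h, map_zero] at hcN; simpa using hcN)
    have hP := hv' c hcN
    have hPf : H.h B.f (Pv B v c) ≠ 0 := by
      simp [Pv, H.add_right, H.smul_right, H.neg_right, B.fe, B.fw, B.ff]
      exact hc0
    have hk' : c * (u - 1) = k := by rw [hc, div_mul_cancel₀ _ hu1]
    have hcN' : c / H.σ u + H.σ (c / H.σ u) + v / u * H.σ (v / u) = 0 := by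
      clear_value c N
      clear hc hk
      simp only [map_div₀, H.conj.invol]
      field_simp
      have h2 := congrArg H.σ hk'
      rw [map_mul, map_sub, map_one, hkσ] at h2
      rw [hN] at hcN
      linear_combination hk' + h2 + hcN
    have e : Pv B (v / u) (c / H.σ u) = (1 - 1 / H.σ u) • B.f + (1 / H.σ u) • Pv B v c := by
      simp only [Pv, map_div₀]
      match_scalars <;> field_simp <;> ring
    intro c' hc'
    refine hshift (v / u) _ c' hcN' hc' ?_
    rw [e]
    refine HermSpace.uCentres_span hf hP hPf ?_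
    rw [← e, Pv_iso_iff]
    exact hcN'
  -- the given centre
  have hxe : H.h x B.e ≠ 0 := fun h => hxw (by
    rw [iso_orth hd B (HermSpace.uCentres_iso hx) h, H.smul_left, B.ew, mul_zero])
  have hxP : ∀ x, H.h x x = 0 → H.h x B.e ≠ 0 → ∃ v c, c + H.σ c + v * H.σ v = 0 ∧
      (H.h x B.e)⁻¹ • x = Pv B v c ∧ (v = 0 ↔ H.h x B.w = 0) := by
    intro x hxx h0
    have e : (H.h x B.e)⁻¹ • x = Pv B (-H.σ ((H.h x B.e)⁻¹ * H.h x B.w)) ((H.h x B.e)⁻¹ * H.h x B.f) := by
      conv_lhs => arg 2; rw [decomp hd B x]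
      simp only [Pv, map_neg, H.conj.invol]
      match_scalars <;> field_simp
    refine ⟨_, _, (Pv_iso_iff B _ _).1 ?_, e, ?_⟩
    · rw [← e, H.smul_left, H.smul_right, hxx, mul_zero, mul_zero]
    · rw [neg_eq_zero, H.conj.eq_zero, mul_eq_zero]
      exact ⟨fun h => h.resolve_left (inv_ne_zero h0), Or.inr⟩
  obtain ⟨v₀, c₀, hc₀, e₀, hv₀⟩ := hxP x (HermSpace.uCentres_iso hx) hxe
  have hv₀0 : v₀ ≠ 0 := fun h => hxw (hv₀.1 h)
  have hHit₀ : Hit v₀ := fun c hc =>
    hshift v₀ c₀ c hc₀ hc (e₀ ▸ HermSpace.uCentres_smul hx _)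
  have hall : ∀ t, Hit t := by
    intro t
    rcases eq_or_ne t 0 with rfl | ht
    · exact hhit0
    set r := v₀ / t with hr
    have hr0 : r ≠ 0 := div_ne_zero hv₀0 ht
    by_cases hfr : H.σ r = r
    · obtain ⟨θ, hθ⟩ := H.conj.ne_id
      have hθ0 : θ ≠ 0 := fun h => hθ (by rw [h, map_zero])
      have h1 : H.σ (r / θ) ≠ r / θ := by
        rw [map_div₀, hfr]
        intro h
        rw [div_eq_div_iff ((map_ne_zero _).2 hθ0) hθ0] at h
        exact hθ (mul_left_cancel₀ hr0 h).symm
      have h2 := hstep _ _ (div_ne_zero hv₀0 hθ0) h1 (hstep v₀ θ hv₀0 hθ hHit₀)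
      convert h2 using 1
      rw [hr]
      field_simp
    · convert hstep v₀ r hv₀0 hfr hHit₀ using 1
      rw [hr]
      field_simp
  refine HermSpace.eq_top_of_uCentres (Or.inr ⟨hd, hq⟩) fun y hyy => ?_
  by_cases hye : H.h y B.e = 0
  · rw [iso_orth hd B hyy hye]
    exact HermSpace.uCentres_smul ⟨hee, heK⟩ _
  · obtain ⟨v, c, hc, e, -⟩ := hxP y hyy hye
    have := HermSpace.uCentres_smul (hall v c hc) (H.h y B.e)
    rwa [← e, smul_smul, mul_inv_cancel₀ hye, one_smul] at this

/-- No proper non-zero subspace is invariant. -/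
def Irr (K : Subgroup H.SIsom) : Prop :=
  ∀ W : Submodule F V, (∀ k ∈ K, ∀ x ∈ W, k.1.1 x ∈ W) → W = ⊥ ∨ W = ⊤

/-- An irreducible group with a full root group is everything. -/
theorem top_of_centre (hd : Module.finrank F V = 3) (hq : 3 ≤ H.q) {K : Subgroup H.SIsom} (hK : Irr K)
    {v : V} (hv0 : v ≠ 0) (hv : v ∈ H.uCentres K) : K = ⊤ := by
  have hspan : Submodule.span F {y | ∃ k ∈ K, k.1.1 v = y} = ⊤ := by
    refine (hK _ fun k hk x hx => ?_).resolve_left fun h => hv0 ((Submodule.mem_bot F).1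
      (h ▸ Submodule.subset_span (s := {y | ∃ k ∈ K, k.1.1 v = y}) ⟨1, one_mem K, rfl⟩))
    have h1 : Submodule.span F {y | ∃ k ∈ K, k.1.1 v = y} ≤
        (Submodule.span F {y | ∃ k ∈ K, k.1.1 v = y}).comap k.1.1.toLinearMap :=
      Submodule.span_le.2 fun y ⟨k', hk', e⟩ =>
        Submodule.subset_span ⟨k * k', mul_mem hk hk', by rw [H.smul_mul_apply, e]; rfl⟩
    exact h1 hx
  have hcen : ∀ k ∈ K, k.1.1 v ∈ H.uCentres K := fun k hk => HermSpace.uCentres_map hv hk
  have hgen : ∀ P : Submodule F V, P ≠ ⊤ → ∃ k ∈ K, k.1.1 v ∉ P := by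
    intro P hP
    by_contra! h
    exact hP (top_le_iff.1 (hspan ▸ Submodule.span_le.2 (by rintro y ⟨k, hk, rfl⟩; exact h k hk)))
  have hne : ∀ P : Submodule F V, Module.finrank F P < 3 → P ≠ ⊤ := fun P h e => by
    rw [e, finrank_top, hd] at h
    omega
  obtain ⟨k, hk, hkv⟩ := hgen (Submodule.span F {v}) (hne _ (by rw [finrank_span_singleton hv0]; norm_num))
  have hvv := HermSpace.uCentres_iso hv
  have hkk := HermSpace.uCentres_iso (hcen k hk)
  have hnp : H.h v (k.1.1 v) ≠ 0 := by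
    intro h
    obtain ⟨B, hB⟩ := exists_frame hd hv0 hvv
    have := iso_orth hd B hkk (by rw [hB]; exact H.eq_zero_symm h)
    rw [hB] at this
    exact hkv (this ▸ Submodule.smul_mem _ _ (Submodule.mem_span_singleton_self v))
  obtain ⟨B, hBe, a, ha, hBf⟩ := exists_frame_pair hd hvv hkk hnp
  have hw0 : B.w ≠ 0 := fun h => by
    have := B.ww; rw [h, H.zero_left] at this; exact zero_ne_one this
  obtain ⟨k', hk', hk'v⟩ := hgen (H.orth (Submodule.span F {B.w})) (hne _ (by
    rw [H.finrank_orth, finrank_span_singleton hw0, hd]; norm_num))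
  refine top_of_triangle hd hq B (hBe ▸ hv) (hBf ▸ HermSpace.uCentres_smul (hcen k hk) a) (hcen k' hk') ?_
  intro h
  exact hk'v (H.mem_orth_span.2 (by rintro z rfl; exact h))

/-- The stabiliser of a non-degenerate point is maximal. -/
theorem isCoatom_point (hd : Module.finrank F V = 3) (hq : 3 ≤ H.q) {W : Submodule F V}
    (hW : H.NondegOn W) (h1 : Module.finrank F W = 1) : IsCoatom (H.sSubStab W) := by
  haveI : Nontrivial W := Module.nontrivial_of_finrank_pos (R := F) (by omega)
  obtain ⟨w₁, hw₁⟩ := (H.restrict W hW).exists_norm_one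
  set w : V := (w₁ : V) with hwdef
  replace hw₁ : H.h w w = 1 := hw₁
  have hw0 : w ≠ 0 := fun h => by rw [h, H.zero_left] at hw₁; exact zero_ne_one hw₁
  have hWw : W = Submodule.span F {w} := by
    refine (Submodule.eq_of_le_of_finrank_le ((Submodule.span_singleton_le_iff_mem _ _).2 w₁.2) ?_).symm
    rw [h1, finrank_span_singleton hw0]
  have hdO : Module.finrank F (H.orth W) = 2 := by rw [H.finrank_orth, h1, hd]
  obtain ⟨e₁, he0, hee⟩ := (H.restrict _ (H.nondegOn_orth hW)).exists_isotropic_of_two_le hdO.ge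
  have he0' : (e₁ : V) ≠ 0 := fun h => he0 (Subtype.ext h)
  obtain ⟨f₁, hef, hff⟩ := (H.restrict _ (H.nondegOn_orth hW)).exists_hyperbolic he0 hee
  have horth : ∀ y : V, y ∈ H.orth W ↔ H.h y w = 0 := fun y => by rw [hWw, H.mem_orth_span]; simp
  let B : Frame H := ⟨e₁, w, f₁, hee, hff, hef, hw₁, H.eq_zero_symm ((horth _).1 e₁.2),
    H.eq_zero_symm ((horth _).1 f₁.2)⟩
  obtain ⟨δ, hδ0, hδ⟩ := H.conj.exists_skew
  refine ⟨fun htop => ?_, fun K hlt => ?_⟩
  · obtain ⟨c, hc⟩ := H.conj.norm_surjective (a := (-1 : F)) (by rw [map_neg, map_one])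
    obtain ⟨θ, hθ⟩ := H.conj.exists_trace_one
    have hP : H.h (Pv B 1 (-θ)) (Pv B 1 (-θ)) = 0 := by
      rw [Pv_iso_iff, map_one, map_neg, one_mul]; linear_combination -hθ
    have hmem : (H.sT hP hδ).1.1 w ∈ W :=
      ((H.mem_sSubStab.1 (htop ▸ Subgroup.mem_top (H.sT hP hδ))) w).1 w₁.2
    rw [H.sT_apply, Submodule.add_mem_iff_right _ w₁.2, hWw, Submodule.mem_span_singleton] at hmem
    obtain ⟨a, ha⟩ := hmem
    have h := congrArg (fun z => H.h z B.e) ha
    have hwP : H.h w (Pv B 1 (-θ)) = -1 := by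
      show H.h B.w _ = _
      simp [Pv, H.add_right, H.smul_right, H.neg_right, B.we, B.ww, B.wf]
    simp [H.smul_left, H.neg_left, Pv_e, hwP, show H.h w B.e = 0 from B.we] at h
    exact hδ0 h
  · obtain ⟨g, hgK, hgM⟩ := SetLike.exists_of_lt hlt
    have hcen : ∀ y : H.orth W, H.h (y : V) y = 0 → (y : V) ∈ H.uCentres K := fun y hy =>
      H.iso_subset_uCentres hlt.le hy (Or.inr y.2)
    have hor : H.h (g.1.1 B.e) B.w ≠ 0 ∨ H.h (g.1.1 B.f) B.w ≠ 0 := by
      by_contra! h
      refine hgM (H.mem_sSubStab.2 (H.mem_subStab_of_map_le fun x hx => ?_))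
      rw [hWw, Submodule.mem_span_singleton] at hx ⊢
      obtain ⟨a, rfl⟩ := hx
      have hOle : (H.orth W).map g.1.1.toLinearMap ≤ H.orth W := by
        rintro _ ⟨y, hy, rfl⟩
        have hp := decomp hd B y
        rw [show H.h y B.w = 0 from (horth y).1 hy, zero_smul, add_zero] at hp
        rw [horth, LinearEquiv.coe_coe, hp, map_add, map_smul, map_smul, H.add_left, H.smul_left, H.smul_left,
          h.1, h.2, mul_zero, mul_zero, add_zero]
      have hOeq : (H.orth W).map g.1.1.toLinearMap = H.orth W :=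
        Submodule.eq_of_le_of_finrank_le hOle (LinearEquiv.finrank_map_eq g.1.1 (H.orth W)).ge
      have h1 : ∀ y : V, H.h y w = 0 → H.h y (g.1.1 w) = 0 := fun y hy => by
        obtain ⟨z, hz, rfl⟩ := hOeq.ge ((horth y).2 hy)
        exact (H.map_form g.1 z w).trans ((horth z).1 hz)
      refine ⟨a * H.h (g.1.1 w) w, ?_⟩
      rw [map_smul, ← smul_smul]
      congr 1
      conv_rhs => rw [decomp hd B (g.1.1 w)]
      rw [H.eq_zero_symm (h1 B.e B.ew), H.eq_zero_symm (h1 B.f B.fw), zero_smul, zero_smul, zero_add, add_zero]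
    rcases hor with h | h
    · exact top_of_triangle hd hq B (hcen e₁ hee) (hcen f₁ hff)
        (HermSpace.uCentres_map (hcen e₁ hee) hgK) h
    · exact top_of_triangle hd hq B (hcen e₁ hee) (hcen f₁ hff)
        (HermSpace.uCentres_map (hcen f₁ hff) hgK) h

end Cfsg.Lib.Classical.SUThree
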