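import Cfsg.Agent.Classical.SUThree.HeisModel

/-!
Elements of a subgroup containing the normaliser of a Heisenberg group that are diagonal in its frame.
-/

set_option autoImplicit false
set_option linter.unusedSectionVars false
set_option linter.unusedSimpArgs false
set_option linter.style.haveILetI false

namespace Cfsg.Lib.Classical.SUThree.Heis

open Cfsg.Lib.Classical Cfsg.Lib.Components.UnitaryThree Cfsg.Lib.Known.PSUThree
open Cfsg.Lib.Classical.ExtraThree (dA mB root_pow root_ne cube_cases)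
open scoped Matrix LinearAlgebra.Projectivization

universe u v

variable {F : Type u} [Field F] [Finite F] {V : Type v} [AddCommGroup V] [Module F V] [FiniteDimensional F V]
  {H : HermSpace F V} {K : Subgroup H.SIsom} {U : UFrame H (Fin 3)} {ω : F} {X Y W G : K} {p : ℕ}

/-- The standing hypotheses on the overgroup. -/
structure Amb (K : Subgroup H.SIsom) (p : ℕ) : Prop where
  dim : Module.finrank F V = 3
  pts : Nat.card H.IsoPt = H.q ^ 3 + 1
  pow : ∀ x, H.σ x = x ^ H.q
  prime : p.Prime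
  eleven : 11 ≤ p
  qp : H.q = p
  chr : CharP F p
  two : (2 : F) ≠ 0
  irr : Irr K
  noRoot : NoRoot K
  nsol : ¬ Group.IsSolvable K
  inv : ∀ S : Set (ℙ F V), S.Nonempty → (∀ P ∈ S, H.h P.rep P.rep ≠ 0) →
    (∀ P ∈ S, ∀ Q ∈ S, P ≠ Q → H.h P.rep Q.rep = 0) →
    ∃ k ∈ K, ∃ P ∈ S, Projectivization.mk F (k.1.1 P.rep) (H.isom_ne_zero k.1 P.rep_nonzero) ∉ S

/-- Homologies have order two. -/
theorem Amb.ratio (A : Amb K p) {z : V} {r : F} (hz : Ratio K z r) : r ^ 2 = 1 :=
  case_one A.dim A.pow A.noRoot A.two A.nsol A.inv hz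

theorem Dg.circle {g : H.SIsom} {d : Fin 3 → F} (h : Dg U g d) (i : Fin 3) : d i * H.σ (d i) = 1 := by
  have := H.map_form g.1 (U.b i) (U.b i)
  rw [h i, H.smul_left, H.smul_right, U.b_self, mul_one] at this
  exact this

theorem Dg.co {g : H.SIsom} {d : Fin 3 → F} (h : Dg U g d) (x : V) (j : Fin 3) :
    U.co (g.1.1 x) j = d j * U.co x j := by
  have := H.map_form g.1 x (U.b j)
  rw [h j, H.smul_right] at this
  show H.h (g.1.1 x) (U.b j) = d j * H.h x (U.b j)
  linear_combination d j * this - H.h (g.1.1 x) (U.b j) * h.circle j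

/-- An element commuting with a regular diagonal element is diagonal. -/
theorem Dg.comm {g k : H.SIsom} {e : Fin 3 → F} (h : Dg U k e) (he : Function.Injective e) (hc : g * k = k * g) :
    ∃ d, Dg U g d := by
  refine ⟨fun i => U.co (g.1.1 (U.b i)) i, fun i => U.ext_co fun j => ?_⟩
  rw [U.co_smul, U.co_b]
  have h1 : g.1.1 (k.1.1 (U.b i)) = k.1.1 (g.1.1 (U.b i)) := by rw [← H.smul_mul_apply, hc]; rfl
  have h2 := congrArg (fun x => U.co x j) h1
  simp only [h i, map_smul, U.co_smul, h.co] at h2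
  rcases eq_or_ne i j with rfl | hij
  · rw [if_pos rfl, mul_one]
  · rw [if_neg hij, mul_zero]
    exact (mul_eq_zero.1 (show (e i - e j) * U.co (g.1.1 (U.b i)) j = 0 by linear_combination h2)).resolve_left
      (sub_ne_zero.2 fun e' => hij (he e'))

theorem omega_pow (M : Model K U ω X Y W G) : ω ^ 3 = 1 := root_pow M.root

theorem Model.omega_ne (M : Model K U ω X Y W G) : ω ≠ 1 := root_ne M.three M.root

theorem Model.omega_ne_zero (M : Model K U ω X Y W G) : ω ≠ 0 := fun e => by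
  have := omega_pow M
  rw [e] at this
  norm_num at this

theorem Model.X_dg (M : Model K U ω X Y W G) : Dg U X.1 ![1, ω, ω ^ 2] := M.hX.dg

theorem Model.X_inj (M : Model K U ω X Y W G) : Function.Injective ![1, ω, ω ^ 2] := by
  have h1 := M.omega_ne
  have h0 := M.omega_ne_zero
  have h2 : ω ^ 2 ≠ 1 := fun e => h1 (by linear_combination omega_pow M - ω * e)
  have h3 : ω ^ 2 ≠ ω := fun e => h1 (mul_right_cancel₀ h0 (by linear_combination e))
  intro i j h
  fin_cases i <;> fin_cases j <;> simp [h1, h1.symm, h2, h2.symm, h3, h3.symm] at h ⊢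

theorem Model.Y_apply (M : Model K U ω X Y W G) (i : Fin 3) : Y.1.1.1 (U.b i) = U.b (i + 1) := by
  rw [M.hY i, Fin.sum_univ_three]
  fin_cases i <;> simp [mB]

theorem Model.Y_cube (M : Model K U ω X Y W G) : Y ^ 3 = 1 := Subtype.ext (by
  rw [Subgroup.coe_pow, pow_succ, pow_two, mul_assoc]
  exact Has.ext (M.hY.mul (M.hY.mul M.hY)) (by rw [mB_cube]; exact Has.one))

theorem Model.X_cube (M : Model K U ω X Y W G) : X ^ 3 = 1 := Subtype.ext (by
  rw [Subgroup.coe_pow, pow_succ, pow_two, mul_assoc]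
  exact Has.ext (M.hX.mul (M.hX.mul M.hX)) (by rw [dA_cube M.root]; exact Has.one))

theorem Model.Y_inv_apply (M : Model K U ω X Y W G) (i : Fin 3) : (Y⁻¹).1.1.1 (U.b i) = U.b (i - 1) := by
  have h := M.Y_apply (i - 1)
  rw [sub_add_cancel] at h
  rw [← h]
  exact H.inv_apply_self Y.1.1 _

theorem Model.XY (M : Model K U ω X Y W G) (x : V) : (X * Y).1.1.1 x = ω • (Y * X).1.1.1 x :=
  Has.smul_ext (by rw [← dA_mB M.root]; exact M.hX.mul M.hY) (M.hY.mul M.hX) x

theorem Model.W_X (M : Model K U ω X Y W G) : W * X = Y * Y * W := Subtype.ext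
  (Has.ext (M.hW.mul M.hX) (by rw [fA_dA M.root]; exact (M.hY.mul M.hY).mul M.hW))

theorem Model.W_Y (M : Model K U ω X Y W G) : W * Y = X * W := Subtype.ext
  (Has.ext (M.hW.mul M.hY) (by rw [fA_mB M.root]; exact M.hX.mul M.hW))

theorem Model.G_X (M : Model K U ω X Y W G) (x : V) : (X * (Y * Y) * G).1.1.1 x = ω • (G * X).1.1.1 x :=
  Has.smul_ext (by rw [← gA_dA M.root]; exact (M.hX.mul (M.hY.mul M.hY)).mul M.hG) (M.hG.mul M.hX) x

theorem Model.t_has (M : Model K U ω X Y W G) : Has U (W * W).1 tA := by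
  rw [← fA_sq M.root M.three]; exact M.hW.mul M.hW

theorem Model.G_sq (M : Model K U ω X Y W G) : G * G = W * W := Subtype.ext
  (Has.ext (M.hG.mul M.hG) (by rw [gA_sq M.root M.three]; exact M.t_has))

theorem Model.t_sq (M : Model K U ω X Y W G) : W * W * (W * W) = 1 := Subtype.ext
  (Has.ext (M.t_has.mul M.t_has) (by rw [tA_sq]; exact Has.one))

theorem Model.G_W (M : Model K U ω X Y W G) : G * W = W * W * (W * G) := Subtype.ext
  (Has.ext (M.hG.mul M.hW) (by rw [gA_fA M.root M.three]; exact M.t_has.mul (M.hW.mul M.hG)))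

theorem Model.t_apply (M : Model K U ω X Y W G) :
    (W * W).1.1.1 (U.b 0) = -U.b 0 ∧ (W * W).1.1.1 (U.b 1) = -U.b 2 ∧ (W * W).1.1.1 (U.b 2) = -U.b 1 := by
  refine ⟨?_, ?_, ?_⟩ <;> rw [M.t_has, Fin.sum_univ_three] <;> simp [tA]

theorem Model.t_inv (M : Model K U ω X Y W G) : (W * W)⁻¹ = W * W := inv_eq_of_mul_eq_one_right M.t_sq

theorem Model.W_comm_t (M : Model K U ω X Y W G) : W * (W * W) = W * W * W := (mul_assoc W W W).symm

theorem Model.G_comm_t (M : Model K U ω X Y W G) : G * (W * W) = W * W * G := by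
  rw [← M.G_sq, mul_assoc]

theorem Model.WG_sq (M : Model K U ω X Y W G) : (W * G) * (W * G) = W * W := by
  calc W * G * (W * G) = W * (G * W) * G := by group
    _ = W * (W * W) * W * (G * G) := by rw [M.G_W]; group
    _ = W * W * (W * W) * (G * G) := by group
    _ = W * W := by rw [M.t_sq, one_mul, M.G_sq]

/-- Diagonal elements conjugated by the cycle. -/
theorem Dg.conjY (M : Model K U ω X Y W G) {g : K} {d : Fin 3 → F} (h : Dg U g.1 d) :
    Dg U (Y * g * Y⁻¹).1 (fun i => d (i - 1)) := fun i => by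
  show Y.1.1.1 (g.1.1.1 ((Y⁻¹).1.1.1 (U.b i))) = _
  rw [M.Y_inv_apply, h, map_smul, M.Y_apply, sub_add_cancel]

/-- Diagonal elements conjugated by the involution. -/
theorem Dg.conjT (M : Model K U ω X Y W G) {g : K} {d : Fin 3 → F} (h : Dg U g.1 d) :
    Dg U (W * W * g * (W * W)).1 (fun i => d (Equiv.swap 1 2 i)) := by
  obtain ⟨h0, h1, h2⟩ := M.t_apply
  intro i
  show (W * W).1.1.1 (g.1.1.1 ((W * W).1.1.1 (U.b i))) = d (Equiv.swap 1 2 i) • U.b i
  fin_cases i <;> simp only [Fin.isValue, Fin.mk_one, Fin.zero_eta, Fin.reduceFinMk]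
  · rw [h0, map_neg, h, map_neg, map_smul, h0, smul_neg, neg_neg]; rfl
  · rw [h1, map_neg, h, map_neg, map_smul, h2, smul_neg, neg_neg]; rfl
  · rw [h2, map_neg, h, map_neg, map_smul, h1, smul_neg, neg_neg]; rfl

/-- A diagonal element with two equal eigenvalues is a homology. -/
theorem ratio_of_dg {g : K} {d : Fin 3 → F} (h : Dg U g.1 d) (h12 : d 1 = d 2) :
    Ratio K (U.b 0) (d 0 / d 1) := by
  refine ⟨by rw [U.b_self]; exact one_ne_zero, g.1, g.2, d 1, ?_, fun x hx => ?_⟩
  · rw [div_mul_cancel₀ _ (h.ne_zero 1)]; exact h 0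
  · refine U.ext_co fun j => ?_
    rw [h.co, U.co_smul]
    fin_cases j
    · show d 0 * U.co x 0 = d 1 * U.co x 0
      rw [show U.co x 0 = 0 from hx, mul_zero, mul_zero]
    · rfl
    · show d 2 * U.co x 2 = d 1 * U.co x 2
      rw [h12]

theorem six_zero (A : Amb K p) (M : Model K U ω X Y W G) {g : K} {d : Fin 3 → F} (h : Dg U g.1 d) :
    d 0 ^ 6 = 1 := by
  have hh : Dg U (g * (W * W * g * (W * W))).1 (d * fun i => d (Equiv.swap 1 2 i)) := h.mul (Dg.conjT M h)
  have hr := A.ratio (ratio_of_dg hh (by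
    simp only [Pi.mul_apply, Equiv.swap_apply_left, Equiv.swap_apply_right]; ring))
  simp only [Pi.mul_apply, Equiv.swap_apply_left, Equiv.swap_apply_of_ne_of_ne (show (0 : Fin 3) ≠ 1 by decide)
    (show (0 : Fin 3) ≠ 2 by decide)] at hr
  rw [div_pow, div_eq_one_iff_eq (pow_ne_zero _ (mul_ne_zero (h.ne_zero 1) (h.ne_zero 2)))] at hr
  linear_combination d 0 ^ 2 * hr + (d 0 * d 1 * d 2 + 1) * h.prod

/-- Eigenvalues of diagonal elements are sixth roots of unity. -/
theorem Dg.six (A : Amb K p) (M : Model K U ω X Y W G) {g : K} {d : Fin 3 → F} (h : Dg U g.1 d) (i : Fin 3) :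
    d i ^ 6 = 1 := by
  have h1 := Dg.conjY M h
  have h2 := Dg.conjY M h1
  have e := six_zero A M h
  have e1 := six_zero A M h1
  have e2 := six_zero A M h2
  fin_cases i
  · exact e
  · exact e2
  · exact e1

/-- A diagonal element raised to the sixth power is trivial. -/
theorem Dg.pow_six (A : Amb K p) (M : Model K U ω X Y W G) {g : K} {d : Fin 3 → F} (h : Dg U g.1 d) : g ^ 6 = 1 :=
  Subtype.ext (Dg.ext (U := U) (d := fun _ => 1) (fun i => by
    rw [Subgroup.coe_pow, h.pow 6 i, Pi.pow_apply, h.six A M]) fun i => by rw [one_smul]; rfl)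

/-- The eigenvalues of a diagonal involution. -/
theorem Dg.signs {g : K} {d : Fin 3 → F} (h : Dg U g.1 d) (hg : g * g = 1) (i : Fin 3) : d i = 1 ∨ d i = -1 := by
  refine mul_self_eq_one_iff.1 (smul_left_injective F (U.b.ne_zero i) ?_)
  show (d i * d i) • U.b i = (1 : F) • U.b i
  rw [← smul_smul, ← h i, ← map_smul, ← h i, one_smul, ← H.smul_mul_apply, ← Subgroup.coe_mul, hg]
  rfl

end Cfsg.Lib.Classical.SUThree.Heis
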