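import Cfsg.Agent.Classical.SUThree.HeisThree

/-!
The centraliser of an element of order three modulo scalars in an overgroup of the normaliser of a Heisenberg group.
-/

set_option autoImplicit false
set_option linter.unusedSectionVars false
set_option linter.unusedSimpArgs false
set_option linter.style.haveILetI false
set_option maxHeartbeats 1000000

namespace Cfsg.Lib.Classical.SUThree.Heis

open Cfsg.Lib.Classical Cfsg.Lib.Components.UnitaryThree Cfsg.Lib.Known.PSUThree
open Cfsg.Lib.Classical.ExtraThree (dA mB root_pow root_ne cube_cases)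
open scoped Matrix LinearAlgebra.Projectivization

universe u v

variable {F : Type u} [Field F] [Finite F] {V : Type v} [AddCommGroup V] [Module F V] [FiniteDimensional F V]
  {H : HermSpace F V} {K : Subgroup H.SIsom} {U : UFrame H (Fin 3)} {ω : F} {X Y W G : K} {p : ℕ}

/-- Centralisers of conjugate elements have the same order. -/
theorem card_centralizer_conj {Q : Type*} [Group Q] (g x : Q) :
    Nat.card (Subgroup.centralizer ({g * x * g⁻¹} : Set Q)) = Nat.card (Subgroup.centralizer ({x} : Set Q)) := by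
  refine (Nat.card_congr (Equiv.subtypeEquiv (MulAut.conj g).toEquiv fun c => ?_)).symm
  show c ∈ Subgroup.centralizer ({x} : Set Q) ↔ g * c * g⁻¹ ∈ Subgroup.centralizer ({g * x * g⁻¹} : Set Q)
  rw [Subgroup.mem_centralizer_singleton_iff, Subgroup.mem_centralizer_singleton_iff, conj_mul, conj_mul]
  simp only [mul_left_inj, mul_right_inj]

variable (A : Amb K p) (M : Model K U ω X Y W G)
include A M

theorem pr_XY : Commute (pr K X) (pr K Y) := by
  rw [Commute, SemiconjBy, ← map_mul, ← map_mul]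
  exact (pr_eq A.dim).2 ⟨ω, M.XY⟩

theorem pr_X_cube : pr K X ^ 3 = 1 := by rw [← map_pow, M.X_cube, map_one]

theorem pr_Y_cube : pr K Y ^ 3 = 1 := by rw [← map_pow, M.Y_cube, map_one]

theorem orderOf_X : orderOf (pr K X) = 3 := by
  haveI : Fact (Nat.Prime 3) := ⟨Nat.prime_three⟩
  refine orderOf_eq_prime (pr_X_cube (K := K) A M) fun e => ?_
  obtain ⟨a, ha⟩ := (pr_eq_one A.dim).1 e
  have h := fun i => smul_left_injective F (U.b.ne_zero i) ((M.X_dg i).symm.trans (ha _))
  exact M.omega_ne (by simpa using (h 1).trans (h 0).symm)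

/-- The centraliser modulo scalars. -/
theorem cent_X {k : K} (hk : pr K k * pr K X = pr K X * pr K k) :
    ∃ a b : ℕ, pr K k = pr K X ^ a * pr K Y ^ b := by
  have hd := A.dim
  have hw3 := omega_pow M
  obtain ⟨z, hz⟩ := (pr_eq (g := k * X) (k := X * k) hd).1 (by rw [map_mul, map_mul, hk])
  have hz3 : z ^ 3 = 1 := by
    have hc : (k * X * (X * k)⁻¹).1 ∈ Subgroup.center H.SIsom := (central_iff hd).2 ⟨z, fun x => by
      show (k * X).1.1.1 (((X * k).1⁻¹).1.1 x) = z • x
      rw [hz, show (X * k).1.1.1 (((X * k).1⁻¹).1.1 x) = x from H.apply_inv_self _ x]⟩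
    have h3 := central_cube hd hc
    have hzx : ∀ x, (k * X * (X * k)⁻¹).1.1.1 x = z • x := fun x => by
      show (k * X).1.1.1 (((X * k).1⁻¹).1.1 x) = z • x
      rw [hz, show (X * k).1.1.1 (((X * k).1⁻¹).1.1 x) = x from H.apply_inv_self _ x]
    have := congrArg (fun g : H.SIsom => g.1.1 (U.b 0)) h3
    simp only [pow_succ, pow_zero, one_mul, H.smul_mul_apply, hzx, map_smul, smul_smul] at this
    exact smul_left_injective F (U.b.ne_zero 0) (show z ^ 3 • U.b 0 = (1 : F) • U.b 0 by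
      rw [show z ^ 3 = z * (z * z) by ring]; exact this.trans (one_smul F _).symm)
  have hYX : ∀ x, (Y * X).1.1.1 x = ω ^ 2 • (X * Y).1.1.1 x := fun x => by
    rw [M.XY, smul_smul, ← pow_succ, hw3, one_smul]
  obtain ⟨j, k', hk', hcomm⟩ : ∃ (j : ℕ) (k' : K), pr K k = pr K Y ^ j * pr K k' ∧ k' * X = X * k' := by
    rcases cube_cases M.root hz3 with e | e | e
    · refine ⟨0, k, by rw [pow_zero, one_mul], Subtype.ext (H.sisom_ext fun x => ?_)⟩
      show (k * X).1.1.1 x = (X * k).1.1.1 x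
      rw [hz, e, one_smul]
    · refine ⟨2, Y * k, ?_, Subtype.ext (H.sisom_ext fun x => ?_)⟩
      · rw [map_mul, ← mul_assoc, ← pow_succ, pr_Y_cube A M, one_mul]
      · show Y.1.1.1 ((k * X).1.1.1 x) = X.1.1.1 ((Y * k).1.1.1 x)
        rw [hz, map_smul]
        show z • (Y * X).1.1.1 (k.1.1.1 x) = (X * Y).1.1.1 (k.1.1.1 x)
        rw [hYX, smul_smul, e, ← pow_succ', hw3, one_smul]
    · refine ⟨1, Y * (Y * k), ?_, Subtype.ext (H.sisom_ext fun x => ?_)⟩
      · rw [map_mul, map_mul, ← mul_assoc, ← mul_assoc, ← pow_succ, ← pow_succ, pr_Y_cube A M, one_mul]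
      · show Y.1.1.1 (Y.1.1.1 ((k * X).1.1.1 x)) = X.1.1.1 (Y.1.1.1 (Y.1.1.1 (k.1.1.1 x)))
        rw [hz, map_smul, map_smul]
        show z • Y.1.1.1 ((Y * X).1.1.1 (k.1.1.1 x)) = _
        rw [hYX, map_smul]
        show z • ω ^ 2 • (Y * X).1.1.1 (Y.1.1.1 (k.1.1.1 x)) = _
        rw [hYX, smul_smul, smul_smul, e, show ω ^ 2 * ω ^ 2 * ω ^ 2 = (ω ^ 3) ^ 2 by ring, hw3, one_pow, one_smul]
        rfl
  obtain ⟨d, hdg⟩ := M.X_dg.comm M.X_inj (g := k'.1) (congrArg Subtype.val hcomm)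
  have h3 : k' ^ 3 = 1 := by
    by_contra hne
    refine no_comm_X A M (s := k' ^ 3) ?_ hne (Commute.pow_left hcomm 3)
    rw [← pow_add]
    exact Dg.pow_six A M hdg
  have hd3 : ∀ i, d i ^ 3 = 1 := fun i => smul_left_injective F (U.b.ne_zero i) (by
    show d i ^ 3 • U.b i = (1 : F) • U.b i
    rw [← Pi.pow_apply, ← hdg.pow 3 i, ← Subgroup.coe_pow, h3, one_smul]
    rfl)
  have h0 := hdg.ne_zero 0
  obtain ⟨a, ha⟩ : ∃ a : ℕ, d 1 / d 0 = ω ^ a := by
    rcases cube_cases M.root (show (d 1 / d 0) ^ 3 = 1 by rw [div_pow, hd3, hd3, div_one]) with e | e | e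
    exacts [⟨0, by rw [e, pow_zero]⟩, ⟨1, by rw [e, pow_one]⟩, ⟨2, e⟩]
  have hk'X : pr K k' = pr K X ^ a := by
    rw [← map_pow]
    refine (pr_eq hd).2 ⟨d 0, fun x => ?_⟩
    refine ext_frame (U := U) (f := k'.1.1.1.toLinearMap) (f' := d 0 • (X ^ a).1.1.1.toLinearMap) (fun i => ?_) x
    rw [LinearEquiv.coe_coe, LinearMap.smul_apply, LinearEquiv.coe_coe, hdg i, Subgroup.coe_pow, M.X_dg.pow a i,
      smul_smul, Pi.pow_apply]
    congr 1
    fin_cases i
    · simp
    · show d 1 = d 0 * ω ^ a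
      rw [← ha, mul_div_cancel₀ _ h0]
    · show d 2 = d 0 * (ω ^ 2) ^ a
      rw [← pow_mul, mul_comm 2 a, pow_mul, ← ha, div_pow]
      have e3 := hd3 1
      field_simp
      linear_combination d 1 ^ 2 * hdg.prod - d 0 * d 2 * e3
  refine ⟨a, j, ?_⟩
  rw [hk', hk'X]
  exact ((Commute.pow_pow (pr_XY (K := K) A M) a j).eq).symm

theorem exp_X {c : Qt K} (hc : c ∈ Subgroup.centralizer ({pr K X} : Set (Qt K))) : c ^ 3 = 1 := by
  obtain ⟨k, rfl⟩ := QuotientGroup.mk'_surjective (Zs K) c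
  obtain ⟨a, b, e⟩ := cent_X A M (Subgroup.mem_centralizer_singleton_iff.1 hc)
  rw [e, (Commute.pow_pow (pr_XY (K := K) A M) a b).mul_pow, ← pow_mul, ← pow_mul, mul_comm a, mul_comm b, pow_mul, pow_mul,
    pr_X_cube A M, pr_Y_cube A M, one_pow, one_pow, one_mul]

/-- The nine elements. -/
theorem card_X : Nat.card (Subgroup.centralizer ({pr K X} : Set (Qt K))) = 9 := by
  set f : Fin 3 × Fin 3 → Qt K := fun ab => pr K X ^ (ab.1 : ℕ) * pr K Y ^ (ab.2 : ℕ)
  have hf : Function.Injective f := by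
    rintro ⟨a, b⟩ ⟨a', b'⟩ h
    simp only [f, ← map_pow, ← map_mul] at h
    obtain ⟨c, hc⟩ := (pr_eq A.dim).1 h
    have hYn : ∀ n : ℕ, ∀ i, (Y ^ n).1.1.1 (U.b i) = U.b (i + Fin.ofNat 3 n) := by
      intro n
      induction n with
      | zero => intro i; show U.b i = _; congr 1; ext; simp [Fin.val_add, Fin.ofNat]
      | succ n ih =>
        intro i
        rw [pow_succ']
        show Y.1.1.1 ((Y ^ n).1.1.1 (U.b i)) = _
        rw [ih, M.Y_apply, add_assoc]
        congr 2
        ext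
        simp [Fin.val_add, Fin.ofNat, Nat.add_mod]
    have hval : ∀ (a b : Fin 3) (i : Fin 3), (X ^ (a : ℕ) * Y ^ (b : ℕ)).1.1.1 (U.b i) =
        (![1, ω, ω ^ 2] (i + b)) ^ (a : ℕ) • U.b (i + b) := fun a b i => by
      show (X ^ (a : ℕ)).1.1.1 ((Y ^ (b : ℕ)).1.1.1 (U.b i)) = _
      rw [hYn, Fin.ofNat_val_eq_self, Subgroup.coe_pow, M.X_dg.pow _ _, Pi.pow_apply]
    have hb : b = b' := by
      have := hc (U.b 0)
      rw [hval, hval, zero_add, zero_add, smul_smul] at this
      have e := congrArg (fun x => U.co x b) this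
      simp only [U.co_smul, U.co_b, if_true] at e
      by_contra hne
      rw [if_neg (Ne.symm hne), mul_zero, mul_one] at e
      exact pow_ne_zero _ (M.X_dg.ne_zero b) e
    subst hb
    have e1 := hc (U.b (0 - b))
    have e2 := hc (U.b (1 - b))
    rw [hval, hval, smul_smul, sub_add_cancel] at e1 e2
    have e1' := smul_left_injective F (U.b.ne_zero _) e1
    have e2' := smul_left_injective F (U.b.ne_zero _) e2
    simp at e1' e2'
    rw [← e1', one_mul] at e2'
    have ha : a = a' := by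
      have h1 := M.omega_ne
      have h0 := M.omega_ne_zero
      have h2 : ω ^ 2 ≠ 1 := fun e => h1 (by linear_combination omega_pow M - ω * e)
      have h3 : ω ^ 2 ≠ ω := fun e => h1 (mul_right_cancel₀ h0 (by linear_combination e))
      fin_cases a <;> fin_cases a' <;> simp [h1, h1.symm, h2, h2.symm, h3, h3.symm] at e2' ⊢
    rw [ha]
  have hset : ((Subgroup.centralizer ({pr K X} : Set (Qt K)) : Subgroup (Qt K)) : Set (Qt K)) = Set.range f := by
    ext c
    constructor
    · intro hc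
      obtain ⟨k, rfl⟩ := QuotientGroup.mk'_surjective (Zs K) c
      obtain ⟨a, b, e⟩ := cent_X A M (Subgroup.mem_centralizer_singleton_iff.1 hc)
      refine ⟨(⟨a % 3, Nat.mod_lt _ (by norm_num)⟩, ⟨b % 3, Nat.mod_lt _ (by norm_num)⟩), ?_⟩
      show pr K X ^ (a % 3) * pr K Y ^ (b % 3) = _
      rw [← pow_eq_pow_mod a (pr_X_cube (K := K) A M), ← pow_eq_pow_mod b (pr_Y_cube (K := K) A M), e]
    · rintro ⟨⟨a, b⟩, rfl⟩
      refine Subgroup.mem_centralizer_singleton_iff.2 ?_
      exact ((Commute.refl (pr K X)).pow_left _).mul_left (Commute.pow_left (Commute.symm (pr_XY (K := K) A M)) _)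
  show Nat.card ((Subgroup.centralizer ({pr K X} : Set (Qt K)) : Subgroup (Qt K)) : Set (Qt K)) = 9
  rw [hset, Nat.card_range_of_injective hf, Nat.card_prod, Nat.card_eq_fintype_card, Fintype.card_fin]

/-- All elements of order three are conjugate modulo scalars. -/
theorem three_class {y : Qt K} (hy : orderOf y = 3) : ∃ g : Qt K, g * pr K X * g⁻¹ = y := by
  classical
  haveI : Fact (Nat.Prime 3) := ⟨Nat.prime_three⟩
  set x := pr K X
  set y' := pr K Y
  set w := pr K W
  set g₀ := pr K G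
  have hWX : w * x * w⁻¹ = y' ^ 2 := by
    rw [pow_two, mul_inv_eq_iff_eq_mul, ← map_mul, ← map_mul, ← map_mul, M.W_X]
  have hWY : w * y' * w⁻¹ = x := by
    rw [mul_inv_eq_iff_eq_mul, ← map_mul, ← map_mul, M.W_Y]
  have hGX : g₀ * x * g₀⁻¹ = x * y' ^ 2 := by
    rw [pow_two, mul_inv_eq_iff_eq_mul]
    simp only [x, y', g₀, ← map_mul]
    exact ((pr_eq A.dim).2 ⟨ω, M.G_X⟩).symm
  have hxy : Commute x y' := pr_XY A M
  have hmap : ∀ a b : ℕ, w * (x ^ a * y' ^ b) * w⁻¹ = x ^ b * y' ^ (2 * a) := fun a b => by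
    rw [← conj_mul, ← conj_pow, ← conj_pow, hWX, hWY, ← pow_mul]
    exact (hxy.pow_pow b (2 * a)).symm.eq
  let Cj : Qt K → Prop := fun z => ∃ g, g * x * g⁻¹ = z
  have hstep : ∀ a b : ℕ, Cj (x ^ a * y' ^ b) → Cj (x ^ (b % 3) * y' ^ (2 * a % 3)) := by
    rintro a b ⟨g, hg⟩
    refine ⟨w * g, ?_⟩
    rw [← pow_eq_pow_mod b (pr_X_cube (K := K) A M), ← pow_eq_pow_mod (2 * a) (pr_Y_cube (K := K) A M), ← hmap, ← hg]
    group
  have c10 : Cj (x ^ 1 * y' ^ 0) := ⟨1, by simp⟩
  have c02 := hstep 1 0 c10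
  have c20 := hstep 0 2 c02
  have c01 := hstep 2 0 c20
  have c12 : Cj (x ^ 1 * y' ^ 2) := ⟨g₀, by rw [hGX, pow_one]⟩
  have c22 := hstep 1 2 c12
  have c21 := hstep 2 2 c22
  have c11 := hstep 2 1 c21
  have hall : ∀ c ∈ Subgroup.centralizer ({x} : Set (Qt K)), c ≠ 1 → Cj c := by
    intro c hc hc1
    obtain ⟨k, rfl⟩ := QuotientGroup.mk'_surjective (Zs K) c
    obtain ⟨a, b, e⟩ := cent_X A M (Subgroup.mem_centralizer_singleton_iff.1 hc)
    rw [e, pow_eq_pow_mod a (pr_X_cube (K := K) A M), pow_eq_pow_mod b (pr_Y_cube (K := K) A M)] at hc1 ⊢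
    have ha := Nat.mod_lt a (show 3 > 0 by norm_num)
    have hb := Nat.mod_lt b (show 3 > 0 by norm_num)
    generalize a % 3 = a', b % 3 = b' at *
    interval_cases a' <;> interval_cases b'
    exacts [absurd (by simp) hc1, c01, c02, c10, c11, c12, c20, c21, c22]
  set C := Subgroup.centralizer ({x} : Set (Qt K))
  have hC : IsPGroup 3 C := IsPGroup.of_card (n := 2) (by rw [card_X A M]; norm_num)
  obtain ⟨P, hP⟩ := hC.exists_le_sylow
  have hPC : (P : Subgroup (Qt K)) = C := by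
    haveI : Nontrivial (P : Subgroup (Qt K)) :=
      ⟨⟨⟨x, hP (Subgroup.mem_centralizer_singleton_iff.2 rfl)⟩, 1, fun e => by
        have := orderOf_X A M
        rw [show pr K X = 1 from congrArg Subtype.val e, orderOf_one] at this
        omega⟩⟩
    haveI := P.2.center_nontrivial
    obtain ⟨z, hz⟩ := exists_prime_orderOf_dvd_card' (G := Subgroup.center (P : Subgroup (Qt K))) 3 (by
      obtain ⟨k, hk, e⟩ := (P.2.to_subgroup (Subgroup.center _)).nontrivial_iff_card.1 inferInstance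
      rw [e]
      exact dvd_pow_self 3 (by omega))
    rw [← Subgroup.orderOf_coe, ← Subgroup.orderOf_coe] at hz
    have hzc : ∀ a ∈ (P : Subgroup (Qt K)), a * z.1.1 = z.1.1 * a := fun a ha =>
      congrArg Subtype.val (Subgroup.mem_center_iff.1 z.2 ⟨a, ha⟩)
    have hzC : z.1.1 ∈ C := Subgroup.mem_centralizer_singleton_iff.2
      (hzc x (hP (Subgroup.mem_centralizer_singleton_iff.2 rfl))).symm
    obtain ⟨g, hg⟩ := hall _ hzC (fun e => by rw [e, orderOf_one] at hz; omega)
    refine (Subgroup.eq_of_le_of_card_ge hP ?_).symm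
    calc Nat.card (P : Subgroup (Qt K)) ≤ Nat.card (Subgroup.centralizer ({z.1.1} : Set (Qt K))) :=
          Subgroup.card_le_of_le fun a ha => Subgroup.mem_centralizer_singleton_iff.2 (hzc a ha)
      _ = Nat.card C := by rw [← hg]; exact card_centralizer_conj g x
  have hQ : IsPGroup 3 (Subgroup.zpowers y) := IsPGroup.of_card (n := 1) (by rw [Nat.card_zpowers, hy]; norm_num)
  obtain ⟨Q, hQ⟩ := hQ.exists_le_sylow
  obtain ⟨g, hg⟩ := MulAction.exists_smul_eq (Qt K) Q P
  have hmem : g * y * g⁻¹ ∈ (P : Subgroup (Qt K)) := by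
    rw [← hg]
    exact Subgroup.smul_mem_pointwise_smul y (MulAut.conj g) (Q : Subgroup (Qt K))
      (hQ (Subgroup.mem_zpowers _))
  rw [hPC] at hmem
  obtain ⟨g', hg'⟩ := hall _ hmem (fun e => by
    rw [mul_inv_eq_one, mul_eq_left] at e
    rw [e, orderOf_one] at hy
    omega)
  refine ⟨g⁻¹ * g', ?_⟩
  calc g⁻¹ * g' * x * (g⁻¹ * g')⁻¹ = g⁻¹ * (g' * x * g'⁻¹) * g := by group
    _ = y := by rw [hg']; group

/-- No involution commutes with an element of order three modulo scalars. -/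
theorem no_comm {a b : Qt K} (ha : orderOf a = 2) (hb : orderOf b = 3) (hab : a * b = b * a) : False := by
  obtain ⟨g, rfl⟩ := three_class A M hb
  have ha' : orderOf (g⁻¹ * a * g) = 2 := by
    rw [← ha]
    have h := orderOf_injective (MulAut.conj g⁻¹).toMonoidHom (MulAut.conj g⁻¹).injective a
    simpa [MulAut.conj_apply] using h
  obtain ⟨s, hs, hs2⟩ := lift_coprime A.dim (g⁻¹ * a * g) (by rw [ha']; norm_num)
  rw [ha'] at hs2
  refine no_comm_X A M (s := s) (by rw [← pow_two]; exact hs2) (fun e => ?_) ?_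
  · rw [e, map_one] at hs
    rw [← hs, orderOf_one] at ha'
    omega
  · refine (comm_coprime A.dim (n := 2) (by norm_num) (g := X) hs2 ?_).symm
    rw [hs]
    calc pr K X * (g⁻¹ * a * g) = g⁻¹ * ((g * pr K X * g⁻¹) * a) * g := by group
      _ = g⁻¹ * (a * (g * pr K X * g⁻¹)) * g := by rw [hab]
      _ = g⁻¹ * a * g * pr K X := by group

end Cfsg.Lib.Classical.SUThree.Heis
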