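import Mathlib
import Cfsg.Prelude.Def_TwoFusion

/-!
A centraliser of an involution that is an abelian group with one involution extended by an element of order four.
-/

set_option autoImplicit false
set_option linter.unusedSectionVars false
set_option linter.style.haveILetI false

namespace Cfsg.Lib.Classical.SUThree.Heis

open Subgroup

universe u

variable {Q : Type u} [Group Q]

/-- The shape of the centraliser. -/
structure Coset (A : Subgroup Q) (t a₀ s : Q) : Prop where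
  ord_t : orderOf t = 2
  t_mem : t ∈ A
  comm : ∀ a ∈ A, ∀ b ∈ A, a * b = b * a
  uniq : ∀ a ∈ A, orderOf a = 2 → a = t
  a₀_mem : a₀ ∈ A
  a₀_sq : a₀ * a₀ = t
  s_sq : s * s = t
  s_out : s ∉ A
  twist : ∀ a ∈ A, s * a * s⁻¹ * a = 1 ∨ s * a * s⁻¹ * a = t
  a₀_twist : s * a₀ * s⁻¹ * a₀ = 1
  cases : ∀ c, c * t = t * c → c ∈ A ∨ s⁻¹ * c ∈ A

variable {A : Subgroup Q} {t a₀ s : Q} (C : Coset A t a₀ s)
include C

theorem Coset.tt : t * t = 1 := by rw [← pow_two, ← C.ord_t]; exact pow_orderOf_eq_one t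

theorem Coset.t_ne : t ≠ 1 := fun e => by
  have := C.ord_t
  rw [e, orderOf_one] at this
  omega

theorem Coset.small {a : Q} (ha : a ∈ A) (h : a * a = 1) : a = 1 ∨ a = t := by
  haveI : Fact (Nat.Prime 2) := ⟨Nat.prime_two⟩
  by_cases h1 : a = 1
  · exact Or.inl h1
  · exact Or.inr (C.uniq a ha (orderOf_eq_prime (by rw [pow_two, h]) h1))

theorem Coset.s_t : s * t = t * s := by rw [← C.s_sq, mul_assoc]

theorem Coset.twist_mem {a : Q} (ha : a ∈ A) : s * a * s⁻¹ * a ∈ A := by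
  rcases C.twist a ha with h | h <;> rw [h]
  exacts [one_mem A, C.t_mem]

theorem Coset.conj_mem {a : Q} (ha : a ∈ A) : s * a * s⁻¹ ∈ A := by
  have := mul_mem (C.twist_mem ha) (inv_mem ha)
  rwa [mul_inv_cancel_right] at this

theorem Coset.conj_inv {a : Q} (ha : a ∈ A) : s⁻¹ * a * s = s * a * s⁻¹ := by
  have h := C.comm t C.t_mem a ha
  calc s⁻¹ * a * s = s * ((s * s)⁻¹ * a * (s * s)) * s⁻¹ := by group
    _ = s * (t⁻¹ * (a * t)) * s⁻¹ := by rw [C.s_sq]; group
    _ = s * a * s⁻¹ := by rw [← h]; group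

/-- The twist. -/
noncomputable def Coset.chi : A →* A :=
  MonoidHom.mk' (fun a => ⟨s * a.1 * s⁻¹ * a.1, C.twist_mem a.2⟩) fun a b => Subtype.ext (by
    show s * (a.1 * b.1) * s⁻¹ * (a.1 * b.1) = s * a.1 * s⁻¹ * a.1 * (s * b.1 * s⁻¹ * b.1)
    have h := C.comm a.1 a.2 _ (C.conj_mem b.2)
    calc s * (a.1 * b.1) * s⁻¹ * (a.1 * b.1) = s * a.1 * s⁻¹ * ((s * b.1 * s⁻¹) * a.1) * b.1 := by group
      _ = s * a.1 * s⁻¹ * (a.1 * (s * b.1 * s⁻¹)) * b.1 := by rw [h]
      _ = _ := by group)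

theorem Coset.chi_val (a : A) : (C.chi a : Q) = s * a.1 * s⁻¹ * a.1 := rfl

theorem Coset.chi_cases (a : A) : C.chi a = 1 ∨ C.chi a = ⟨t, C.t_mem⟩ :=
  (C.twist a.1 a.2).imp (fun h => Subtype.ext h) fun h => Subtype.ext h

theorem Coset.mul_s_sq {a : Q} (ha : a ∈ A) : (s * a) * (s * a) = t * (s * a * s⁻¹ * a) := by
  rw [← C.conj_inv ha, ← C.s_sq]
  group

theorem Coset.out_iff {a : A} : orderOf (s * a.1) = 2 ↔ C.chi a = ⟨t, C.t_mem⟩ := by
  constructor
  · intro h
    have h2 : (s * a.1) * (s * a.1) = 1 := by rw [← pow_two, ← h]; exact pow_orderOf_eq_one _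
    rw [C.mul_s_sq a.2] at h2
    refine Subtype.ext ?_
    show s * a.1 * s⁻¹ * a.1 = t
    calc s * a.1 * s⁻¹ * a.1 = t * (t * (s * a.1 * s⁻¹ * a.1)) := by rw [← mul_assoc t, C.tt, one_mul]
      _ = t := by rw [h2, mul_one]
  · intro h
    haveI : Fact (Nat.Prime 2) := ⟨Nat.prime_two⟩
    refine orderOf_eq_prime ?_ fun e => C.s_out ?_
    · rw [pow_two, C.mul_s_sq a.2, show s * a.1 * s⁻¹ * a.1 = t from congrArg Subtype.val h, C.tt]
    · rw [eq_inv_of_mul_eq_one_left e]; exact inv_mem a.2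

theorem Coset.out_four_iff {a : A} : orderOf (s * a.1) = 4 ↔ C.chi a = 1 := by
  rcases C.chi_cases a with h | h
  · refine iff_of_true ?_ h
    haveI : Fact (Nat.Prime 2) := ⟨Nat.prime_two⟩
    have h2 : (s * a.1) ^ 2 = t := by
      rw [pow_two, C.mul_s_sq a.2, show s * a.1 * s⁻¹ * a.1 = 1 from congrArg Subtype.val h, mul_one]
    refine orderOf_eq_prime_pow (p := 2) (n := 1) ?_ ?_
    · rw [pow_one, h2]; exact C.t_ne
    · rw [pow_succ, pow_one, pow_mul, h2, pow_two, C.tt]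
  · refine iff_of_false ?_ ?_
    · rw [C.out_iff.2 h]; norm_num
    · rw [h]; exact fun e => C.t_ne (congrArg Subtype.val e)

theorem Coset.le_centralizer : A ≤ centralizer ({t} : Set Q) := fun a ha =>
  mem_centralizer_singleton_iff.2 (C.comm a ha t C.t_mem)

theorem Coset.sq_mem {c : Q} (hc : c * t = t * c) : c * c ∈ A := by
  rcases C.cases c hc with h | h
  · exact mul_mem h h
  · rw [show c = s * (s⁻¹ * c) by group, C.mul_s_sq h]
    exact mul_mem C.t_mem (C.twist_mem h)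

theorem Coset.normal_in {c : Q} (hc : c ∈ centralizer ({t} : Set Q)) {a : Q} (ha : a ∈ A) : c * a * c⁻¹ ∈ A := by
  rcases C.cases c (mem_centralizer_singleton_iff.1 hc) with h | h
  · exact mul_mem (mul_mem h ha) (inv_mem h)
  · have e : c * a * c⁻¹ = s * ((s⁻¹ * c) * a * (s⁻¹ * c)⁻¹) * s⁻¹ := by group
    rw [e, C.comm _ h a ha, mul_inv_cancel_right]
    exact C.conj_mem ha

/-- The centraliser is soluble. -/
theorem Coset.solvable : Group.IsSolvable (centralizer ({t} : Set Q)) := by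
  set A' := A.subgroupOf (centralizer ({t} : Set Q))
  haveI : A'.Normal := ⟨fun a ha c => C.normal_in c.2 ha⟩
  haveI : Group.IsSolvable A' := Group.isSolvable_of_comm fun a b =>
    Subtype.ext (Subtype.ext (C.comm _ a.2 _ b.2))
  haveI : Group.IsSolvable (centralizer ({t} : Set Q) ⧸ A') := by
    have hsq : ∀ x : centralizer ({t} : Set Q) ⧸ A', x * x = 1 := fun x => by
      obtain ⟨c, rfl⟩ := QuotientGroup.mk'_surjective A' x
      rw [← map_mul, QuotientGroup.mk'_apply, QuotientGroup.eq_one_iff]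
      exact C.sq_mem (mem_centralizer_singleton_iff.1 c.2)
    refine Group.isSolvable_of_comm fun x y => ?_
    have hinv : ∀ z : centralizer ({t} : Set Q) ⧸ A', z⁻¹ = z := fun z => inv_eq_of_mul_eq_one_right (hsq z)
    calc x * y = (x * y)⁻¹ := (hinv _).symm
      _ = y⁻¹ * x⁻¹ := mul_inv_rev x y
      _ = y * x := by rw [hinv, hinv]
  exact Group.isSolvable_of_ker_le_range A'.subtype (QuotientGroup.mk' A')
    (by rw [QuotientGroup.ker_mk', Subgroup.range_subtype])

variable [Finite Q] {b : Q} (hb : orderOf b = 2) (hbt : b * t = t * b) (hne : b ≠ t)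

include hb hbt hne

theorem Coset.exists_chi : ∃ a : A, C.chi a = ⟨t, C.t_mem⟩ ∧ s * a.1 = b := by
  rcases C.cases b hbt with h | h
  · exact absurd (C.uniq b h hb) hne
  · refine ⟨⟨s⁻¹ * b, h⟩, C.out_iff.1 ?_, ?_⟩
    · show orderOf (s * (s⁻¹ * b)) = 2
      rw [mul_inv_cancel_left, hb]
    · exact mul_inv_cancel_left s b

theorem Coset.card_A : Nat.card A = 2 * Nat.card C.chi.ker := by
  obtain ⟨a, ha, -⟩ := C.exists_chi hb hbt hne
  have h := C.chi.ker.card_mul_index
  rw [Subgroup.index_ker] at h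
  have h2 : Nat.card C.chi.range = 2 := by
    rw [Nat.card_eq_two_iff]
    refine ⟨1, ⟨⟨t, C.t_mem⟩, a, ha⟩, fun e => C.t_ne (congrArg (fun x : C.chi.range => x.1.1) e).symm,
      Set.eq_univ_of_forall ?_⟩
    rintro ⟨_, c, rfl⟩
    rcases C.chi_cases c with e | e
    · exact Or.inl (Subtype.ext e)
    · exact Or.inr (Subtype.ext e)
  rw [h2] at h
  omega

theorem Coset.four_dvd : 4 ∣ Nat.card C.chi.ker := by
  have hm : (⟨a₀, C.a₀_mem⟩ : A) ∈ C.chi.ker := Subtype.ext C.a₀_twist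
  haveI : Fact (Nat.Prime 2) := ⟨Nat.prime_two⟩
  have h4 : orderOf a₀ = 4 := by
    refine orderOf_eq_prime_pow (p := 2) (n := 1) ?_ ?_
    · rw [pow_one, pow_two, C.a₀_sq]; exact C.t_ne
    · rw [pow_succ, pow_one, pow_mul, pow_two a₀, C.a₀_sq, pow_two, C.tt]
  have := orderOf_dvd_natCard (⟨⟨a₀, C.a₀_mem⟩, hm⟩ : C.chi.ker)
  rwa [← Subgroup.orderOf_coe, ← Subgroup.orderOf_coe, h4] at this

theorem Coset.card_centralizer : Nat.card (centralizer ({t} : Set Q)) = 4 * Nat.card C.chi.ker := by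
  classical
  have hset : ((centralizer ({t} : Set Q) : Subgroup Q) : Set Q) = (A : Set Q) ∪ (s * ·) '' (A : Set Q) := by
    ext c
    constructor
    · intro hc
      exact (C.cases c (mem_centralizer_singleton_iff.1 hc)).imp id fun h => ⟨_, h, mul_inv_cancel_left s c⟩
    · rintro (h | ⟨a, ha, rfl⟩)
      · exact C.le_centralizer h
      · exact mul_mem (mem_centralizer_singleton_iff.2 C.s_t) (C.le_centralizer ha)
  have hdisj : Disjoint (A : Set Q) ((s * ·) '' (A : Set Q)) := Set.disjoint_left.2 fun c hc ⟨a, ha, e⟩ => C.s_out (by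
    rw [show s = c * a⁻¹ by rw [← e]; group]; exact mul_mem hc (inv_mem ha))
  have h : Nat.card ((centralizer ({t} : Set Q) : Subgroup Q) : Set Q) = 4 * Nat.card C.chi.ker := by
    rw [hset, Nat.card_coe_set_eq, Set.ncard_union_eq hdisj, Set.ncard_image_of_injective _ (mul_right_injective s),
      ← Nat.card_coe_set_eq, SetLike.coe_sort_coe, C.card_A hb hbt hne]
    omega
  exact h

theorem Coset.out_ord {c : Q} (hc : c ∈ centralizer ({t} : Set Q)) (hcA : c ∉ A) :
    orderOf c = 2 ∨ (orderOf c = 4 ∧ c ^ 2 = t) := by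
  have h := (C.cases c (mem_centralizer_singleton_iff.1 hc)).resolve_left hcA
  have e : c = s * (⟨s⁻¹ * c, h⟩ : A).1 := (mul_inv_cancel_left s c).symm
  rcases C.chi_cases ⟨_, h⟩ with h1 | h1
  · refine Or.inr ⟨e ▸ C.out_four_iff.2 h1, ?_⟩
    rw [e, pow_two, C.mul_s_sq h]
    show t * (s * (s⁻¹ * c) * s⁻¹ * (s⁻¹ * c)) = t
    rw [show s * (s⁻¹ * c) * s⁻¹ * (s⁻¹ * c) = 1 from congrArg Subtype.val h1, mul_one]
  · exact Or.inl (e ▸ C.out_iff.2 h1)

theorem Coset.out_four : {c : Q | c ∈ centralizer ({t} : Set Q) ∧ c ∉ A ∧ orderOf c = 4}.ncard =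
    Nat.card C.chi.ker := by
  classical
  have : {c : Q | c ∈ centralizer ({t} : Set Q) ∧ c ∉ A ∧ orderOf c = 4} =
      (fun a : A => s * a.1) '' (C.chi.ker : Set A) := by
    ext c
    constructor
    · rintro ⟨hc, hcA, h4⟩
      have h := (C.cases c (mem_centralizer_singleton_iff.1 hc)).resolve_left hcA
      refine ⟨⟨_, h⟩, C.out_four_iff.1 ?_, mul_inv_cancel_left s c⟩
      show orderOf (s * (s⁻¹ * c)) = 4
      rw [mul_inv_cancel_left, h4]
    · rintro ⟨a, ha, rfl⟩
      refine ⟨mul_mem (mem_centralizer_singleton_iff.2 C.s_t) (C.le_centralizer a.2), fun h => C.s_out ?_,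
        C.out_four_iff.2 ha⟩
      have := mul_mem h (inv_mem a.2)
      rwa [mul_inv_cancel_right] at this
  rw [this, Set.ncard_image_of_injective _ (fun a b e => Subtype.ext (mul_left_cancel e)), ← Nat.card_coe_set_eq]
  rfl

/-- The involutions outside the abelian part form one orbit. -/
theorem Coset.out_class {c : Q} (hc : c * t = t * c) (hc2 : orderOf c = 2) (hct : c ≠ t) :
    ∃ g : Q, g * b * g⁻¹ = c := by
  classical
  obtain ⟨a, ha, hab⟩ := C.exists_chi hb hbt hne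
  obtain ⟨a', ha', hac⟩ := C.exists_chi hc2 hc hct
  let Φ : A →* C.chi.ker :=
    MonoidHom.mk' (fun c => ⟨C.chi c * (c * c)⁻¹, by
      rw [MonoidHom.mem_ker, map_mul, map_inv, map_mul]
      have h1 : C.chi (C.chi c) = 1 := by
        rcases C.chi_cases c with e | e <;> rw [e]
        · exact map_one _
        · refine Subtype.ext ?_
          show s * t * s⁻¹ * t = 1
          rw [C.s_t, mul_inv_cancel_right, C.tt]
      rw [h1, one_mul]
      have h2 : C.chi c * C.chi c = 1 := by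
        rcases C.chi_cases c with e | e <;> rw [e]
        · exact one_mul _
        · exact Subtype.ext C.tt
      rw [h2, inv_one]⟩) fun c d => Subtype.ext (by
        letI : CommGroup A := { (inferInstance : Group A) with mul_comm := fun x y => Subtype.ext (C.comm _ x.2 _ y.2) }
        show C.chi (c * d) * (c * d * (c * d))⁻¹ = C.chi c * (c * c)⁻¹ * (C.chi d * (d * d)⁻¹)
        rw [map_mul, mul_mul_mul_comm c d c d, mul_inv, mul_mul_mul_comm])
  have hker : Nat.card Φ.ker ≤ 2 := by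
    have hsub : ∀ c : Φ.ker, c.1.1 = 1 ∨ c.1.1 = t := by
      intro c
      have h : C.chi c.1 * (c.1 * c.1)⁻¹ = 1 := congrArg Subtype.val (MonoidHom.mem_ker.1 c.2)
      rw [mul_inv_eq_one] at h
      rcases C.chi_cases c.1 with e | e
      · exact C.small c.1.2 (by
          rw [e] at h
          exact (congrArg Subtype.val h).symm)
      · exfalso
        -- a square root of the involution has trivial twist
        rw [e] at h
        have hcc : c.1.1 * c.1.1 = t := (congrArg Subtype.val h).symm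
        have hq : c.1.1 * a₀⁻¹ * (c.1.1 * a₀⁻¹) = 1 := by
          rw [show c.1.1 * a₀⁻¹ * (c.1.1 * a₀⁻¹) = c.1.1 * (a₀⁻¹ * c.1.1) * a₀⁻¹ by group,
            C.comm _ (inv_mem C.a₀_mem) _ c.1.2, ← mul_assoc, hcc, mul_assoc, ← mul_inv_rev, C.a₀_sq, mul_inv_cancel]
        have h1 : C.chi (⟨a₀, C.a₀_mem⟩ : A) = 1 := Subtype.ext C.a₀_twist
        have ht1 : C.chi (⟨t, C.t_mem⟩ : A) = 1 := Subtype.ext (by
          show s * t * s⁻¹ * t = 1
          rw [C.s_t, mul_inv_cancel_right, C.tt])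
        rcases C.small (mul_mem c.1.2 (inv_mem C.a₀_mem)) hq with e' | e'
        · rw [mul_inv_eq_one] at e'
          rw [show c.1 = ⟨a₀, C.a₀_mem⟩ from Subtype.ext e', h1] at e
          exact C.t_ne (congrArg Subtype.val e).symm
        · rw [mul_inv_eq_iff_eq_mul] at e'
          rw [show c.1 = ⟨t, C.t_mem⟩ * ⟨a₀, C.a₀_mem⟩ from Subtype.ext e', map_mul, h1, ht1, one_mul] at e
          exact C.t_ne (congrArg Subtype.val e).symm
    calc Nat.card Φ.ker ≤ Nat.card ({1, t} : Set Q) :=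
          Nat.card_le_card_of_injective (fun c => (⟨c.1.1, hsub c⟩ : ({1, t} : Set Q)))
            fun c d e => Subtype.ext (Subtype.ext (congrArg Subtype.val e :))
      _ ≤ 2 := by
        rw [Nat.card_coe_set_eq]
        exact (Set.ncard_insert_le _ _).trans (by rw [Set.ncard_singleton])
  have hsurj : Φ.range = ⊤ := by
    refine Subgroup.eq_top_of_le_card _ ?_
    have h1 := Φ.ker.card_mul_index
    rw [Subgroup.index_ker, C.card_A hb hbt hne] at h1
    nlinarith [Nat.card_pos (α := Φ.ker)]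
  have hmem : a⁻¹ * a' ∈ C.chi.ker := by rw [MonoidHom.mem_ker, map_mul, map_inv, ha, ha', inv_mul_cancel]
  obtain ⟨g, hg⟩ := hsurj.ge (Subgroup.mem_top (⟨_, hmem⟩ : C.chi.ker))
  refine ⟨g.1, ?_⟩
  have hg' : (C.chi g : Q) * (g.1 * g.1)⁻¹ = a.1⁻¹ * a'.1 := congrArg (fun x : C.chi.ker => x.1.1) hg
  rw [← hab, ← hac]
  have hx := C.comm _ (C.chi g).2 a.1 a.2
  calc g.1 * (s * a.1) * g.1⁻¹ = s * (s⁻¹ * g.1 * s) * a.1 * g.1⁻¹ := by group
    _ = s * ((s * g.1 * s⁻¹ * g.1) * g.1⁻¹) * a.1 * g.1⁻¹ := by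
      rw [C.conj_inv g.2]; group
    _ = s * (a.1 * ((C.chi g : Q) * (g.1 * g.1)⁻¹)) := by
      rw [← C.chi_val]
      have h2 := C.comm _ (inv_mem g.2) a.1 a.2
      calc s * ((C.chi g : Q) * g.1⁻¹) * a.1 * g.1⁻¹ = s * ((C.chi g : Q) * (g.1⁻¹ * a.1) * g.1⁻¹) := by group
        _ = s * (((C.chi g : Q) * a.1) * g.1⁻¹ * g.1⁻¹) := by rw [h2]; group
        _ = _ := by rw [hx]; group
    _ = s * a'.1 := by rw [hg', mul_inv_cancel_left]

end Cfsg.Lib.Classical.SUThree.Heis
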