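import Mathlib

/-!
There is no group with the centraliser pattern that a Hessian group would force on a proper overgroup in `SU_3(p)`.
-/

set_option autoImplicit false
set_option linter.unusedSectionVars false
set_option linter.style.haveILetI false
set_option maxHeartbeats 1000000

namespace Cfsg.Lib.Classical.SUThree.HeisCount

open Subgroup

universe u

variable {G : Type u} [Group G]

/-- The elements conjugate into a set. -/
def conjs (T : Set G) : Set G := {v | ∃ g : G, g⁻¹ * v * g ∈ T}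

theorem mem_conjs {T : Set G} {v : G} : v ∈ conjs T ↔ ∃ g : G, ∃ u ∈ T, g * u * g⁻¹ = v := by
  constructor
  · rintro ⟨g, hg⟩
    exact ⟨g, _, hg, by group⟩
  · rintro ⟨g, u, hu, rfl⟩
    exact ⟨g, by simpa [mul_assoc] using hu⟩

theorem conjs_map {T : Set G} {v : G} (hv : v ∈ conjs T) (g : G) : g * v * g⁻¹ ∈ conjs T := by
  obtain ⟨h, hh⟩ := hv
  exact ⟨g * h, by simpa [mul_assoc] using hh⟩

/-- Elements of a set normalised by a subgroup and meeting its conjugates only from that subgroup. -/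
theorem card_conjs [Finite G] {T : Set G} {S : Subgroup G} (h1 : ∀ h : G, ∀ u ∈ T, h * u * h⁻¹ ∈ T → h ∈ S)
    (h2 : ∀ h ∈ S, ∀ u ∈ T, h * u * h⁻¹ ∈ T) : (conjs T).ncard * Nat.card S = Nat.card G * T.ncard := by
  classical
  haveI : Fintype (conjs T) := Fintype.ofFinite _
  let f : G × T → conjs T := fun x => ⟨x.1 * x.2.1 * x.1⁻¹, mem_conjs.2 ⟨x.1, x.2.1, x.2.2, rfl⟩⟩
  have hfib : ∀ v : conjs T, Nat.card {x : G × T // f x = v} = Nat.card S := by
    intro v
    obtain ⟨g, u, hu, hv⟩ := mem_conjs.1 v.2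
    refine (Nat.card_congr (Equiv.ofBijective (fun s : S => (⟨(g * s.1⁻¹, ⟨s.1 * u * s.1⁻¹, h2 _ s.2 u hu⟩),
      Subtype.ext (by
        show g * s.1⁻¹ * (s.1 * u * s.1⁻¹) * (g * s.1⁻¹)⁻¹ = v.1
        rw [← hv]; group)⟩ : {x : G × T // f x = v})) ⟨?_, ?_⟩)).symm
    · intro s s' e
      have h : g * s.1⁻¹ = g * s'.1⁻¹ := congrArg (fun x : {x : G × T // f x = v} => x.1.1) e
      exact Subtype.ext (inv_injective (mul_left_cancel h))
    · rintro ⟨⟨g', ⟨u', hu'⟩⟩, hx⟩
      have hx' : g' * u' * g'⁻¹ = v.1 := congrArg Subtype.val hx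
      have he : g'⁻¹ * g * u * (g'⁻¹ * g)⁻¹ = u' := by
        rw [← hv] at hx'
        calc g'⁻¹ * g * u * (g'⁻¹ * g)⁻¹ = g'⁻¹ * (g * u * g⁻¹) * g' := by group
          _ = u' := by rw [← hx']; group
      refine ⟨⟨g'⁻¹ * g, h1 _ u hu (he.symm ▸ hu')⟩, Subtype.ext (Prod.ext ?_ (Subtype.ext he))⟩
      show g * (g'⁻¹ * g)⁻¹ = g'
      group
  have h := Nat.card_congr (Equiv.sigmaFiberEquiv f)
  rw [Nat.card_sigma, Finset.sum_congr rfl fun v _ => hfib v, Finset.sum_const, Finset.card_univ, Nat.card_prod,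
    smul_eq_mul, ← Nat.card_eq_fintype_card, Nat.card_coe_set_eq, Nat.card_coe_set_eq] at h
  exact h

/-- An element of even order commutes with an involution. -/
theorem exists_involution_comm {G : Type u} [Group G] [Finite G] {v : G} (h : 2 ∣ orderOf v) :
    ∃ s : G, orderOf s = 2 ∧ v * s = s * v :=
  ⟨v ^ (orderOf v / 2), orderOf_pow_orderOf_div (orderOf_pos v).ne' h, ((Commute.refl v).pow_right _).eq⟩

/-- The centraliser pattern. -/
structure Pattern [Finite G] (p : ℕ) (t x : G) (A : Subgroup G) (w : ℕ) : Prop where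
  prime : p.Prime
  five : 11 ≤ p
  ord_t : orderOf t = 2
  inv_class : ∀ s : G, orderOf s = 2 → ∃ g : G, g * t * g⁻¹ = s
  ord_x : orderOf x = 3
  three_class : ∀ y : G, orderOf y = 3 → ∃ g : G, g * x * g⁻¹ = y
  card_x : Nat.card (centralizer ({x} : Set G)) = 9
  exp_x : ∀ c ∈ centralizer ({x} : Set G), c ^ 3 = 1
  card_A : Nat.card A = 2 * w
  four : 4 ∣ w
  A_le : A ≤ centralizer ({t} : Set G)
  t_mem : t ∈ A
  card_t : Nat.card (centralizer ({t} : Set G)) = 4 * w
  A_inv : ∀ a ∈ A, orderOf a = 2 → a = t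
  A_cent : ∀ a ∈ A, a ≠ 1 → a ≠ t → centralizer ({a} : Set G) = A
  A_ord : ∀ a ∈ A, orderOf a ≠ 3 ∧ orderOf a ≠ p
  out_ord : ∀ c ∈ centralizer ({t} : Set G), c ∉ A → orderOf c = 2 ∨ (orderOf c = 4 ∧ c ^ 2 = t)
  out_four : {c : G | c ∈ centralizer ({t} : Set G) ∧ c ∉ A ∧ orderOf c = 4}.ncard = w
  A_conj : ∀ c ∈ centralizer ({t} : Set G), ∀ a ∈ A, c * a * c⁻¹ ∈ A
  regular : ∀ u : G, (orderOf u).Prime → 5 ≤ orderOf u → orderOf u ≠ p →
    (∀ a ∈ centralizer ({u} : Set G), ∀ b ∈ centralizer ({u} : Set G), a * b = b * a) ∧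
      (∀ c ∈ centralizer ({u} : Set G), orderOf c ≠ p) ∧
      ∃ φ : normalizer ((centralizer ({u} : Set G)) : Set G) →* Equiv.Perm (Fin 3),
        ∀ n, φ n = 1 → n.1 * u = u * n.1
  p_small : ∀ P : Subgroup G, IsPGroup p P → Nat.card P ≤ p
  p_cyclic : ∀ P : Subgroup G, Nat.card P = p → ∃ (M : Type u) (_ : CommGroup M) (_ : IsCyclic M)
    (χ : normalizer (P : Set G) →* M), ∀ n, χ n = 1 ↔ n.1 ∈ P
  p_A : ∀ P : Subgroup G, Nat.card P = p → ∀ g : G, ∀ h ∈ normalizer (P : Set G), g⁻¹ * h * g ∈ A →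
    5 ≤ orderOf h → ∀ a ∈ A, g * a * g⁻¹ ∈ normalizer (P : Set G)

variable [Finite G] {p : ℕ} {t x : G} {A : Subgroup G} {w : ℕ} (P : Pattern p t x A w)
include P

/-- The elements of order above two in the abelian part. -/
theorem UA_centralizer {v : G} (hv : v ∈ conjs ((A : Set G) \ {1, t})) :
    ∃ g : G, ∀ c, c * v = v * c ↔ g⁻¹ * c * g ∈ A := by
  obtain ⟨g, hg, hg'⟩ := hv
  simp only [Set.mem_insert_iff, Set.mem_singleton_iff, not_or] at hg'
  refine ⟨g, fun c => ?_⟩
  rw [← P.A_cent _ hg hg'.1 hg'.2, mem_centralizer_singleton_iff]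
  constructor
  · intro h
    calc g⁻¹ * c * g * (g⁻¹ * v * g) = g⁻¹ * (c * v) * g := by group
      _ = g⁻¹ * v * g * (g⁻¹ * c * g) := by rw [h]; group
  · intro h
    calc c * v = g * (g⁻¹ * c * g * (g⁻¹ * v * g)) * g⁻¹ := by group
      _ = v * c := by rw [h]; group

theorem UA_order {v : G} (hv : v ∈ conjs ((A : Set G) \ {1, t})) :
    orderOf v ≠ 1 ∧ orderOf v ≠ 2 ∧ orderOf v ≠ 3 ∧ orderOf v ≠ p := by
  obtain ⟨g, hg, hg'⟩ := hv
  simp only [Set.mem_insert_iff, Set.mem_singleton_iff, not_or] at hg'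
  have e : orderOf (g⁻¹ * v * g) = orderOf v := by
    simpa [MulAut.conj_apply] using orderOf_injective (MulAut.conj g⁻¹).toMonoidHom (MulAut.conj g⁻¹).injective v
  rw [← e]
  exact ⟨fun h => hg'.1 (orderOf_eq_one_iff.1 h), fun h => hg'.2 (P.A_inv _ hg h), P.A_ord _ hg⟩

/-- An element commuting with an involution is one of the known ones. -/
theorem of_comm_inv {v s : G} (hs : orderOf s = 2) (hc : v * s = s * v) :
    orderOf v ∣ 2 ∨ v ∈ conjs ((A : Set G) \ {1, t}) ∨
      v ∈ conjs {c : G | c ∈ centralizer ({t} : Set G) ∧ c ∉ A ∧ orderOf c = 4} := by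
  obtain ⟨g, rfl⟩ := P.inv_class s hs
  set c := g⁻¹ * v * g with hcdef
  have hcmem : c ∈ centralizer ({t} : Set G) := mem_centralizer_singleton_iff.2 (by
    calc c * t = g⁻¹ * (v * (g * t * g⁻¹)) * g := by rw [hcdef]; group
      _ = t * c := by rw [hc, hcdef]; group)
  have e : orderOf c = orderOf v := by
    simpa [MulAut.conj_apply] using orderOf_injective (MulAut.conj g⁻¹).toMonoidHom (MulAut.conj g⁻¹).injective v
  by_cases hA : c ∈ A
  · by_cases h1 : c = 1
    · exact Or.inl (by rw [← e, h1, orderOf_one]; exact one_dvd _)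
    by_cases h2 : c = t
    · exact Or.inl (by rw [← e, h2, P.ord_t])
    exact Or.inr (Or.inl ⟨g, hA, by simp [h1, h2]; exact ⟨h1, h2⟩⟩)
  · rcases P.out_ord c hcmem hA with h | ⟨h, -⟩
    · exact Or.inl (by rw [← e, h])
    · exact Or.inr (Or.inr ⟨g, hcmem, hA, h⟩)

theorem card_inv : {s : G | orderOf s = 2}.ncard * (4 * w) = Nat.card G := by
  have h := card_conjs (T := ({t} : Set G)) (S := centralizer ({t} : Set G)) (by
    rintro h u rfl hu
    exact mem_centralizer_singleton_iff.2 (mul_inv_eq_iff_eq_mul.1 hu)) (by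
    rintro h hh u rfl
    exact mul_inv_eq_iff_eq_mul.2 (mem_centralizer_singleton_iff.1 hh))
  rw [P.card_t, Set.ncard_singleton, mul_one] at h
  rw [← h]
  congr 2
  ext s
  refine ⟨fun hs => ?_, fun hs => ?_⟩
  · obtain ⟨g, hg⟩ := P.inv_class s hs
    exact mem_conjs.2 ⟨g, t, rfl, hg⟩
  · obtain ⟨g, u, rfl, rfl⟩ := mem_conjs.1 hs
    show orderOf (g * u * g⁻¹) = 2
    rw [← P.ord_t]
    exact orderOf_injective (MulAut.conj g).toMonoidHom (MulAut.conj g).injective _

theorem card_three : {y : G | orderOf y = 3}.ncard * 9 = Nat.card G := by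
  have h := card_conjs (T := ({x} : Set G)) (S := centralizer ({x} : Set G)) (by
    rintro h u rfl hu
    exact mem_centralizer_singleton_iff.2 (mul_inv_eq_iff_eq_mul.1 hu)) (by
    rintro h hh u rfl
    exact mul_inv_eq_iff_eq_mul.2 (mem_centralizer_singleton_iff.1 hh))
  rw [P.card_x, Set.ncard_singleton, mul_one] at h
  rw [← h]
  congr 2
  ext s
  refine ⟨fun hs => ?_, fun hs => ?_⟩
  · obtain ⟨g, hg⟩ := P.three_class s hs
    exact mem_conjs.2 ⟨g, x, rfl, hg⟩
  · obtain ⟨g, u, rfl, rfl⟩ := mem_conjs.1 hs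
    show orderOf (g * u * g⁻¹) = 3
    rw [← P.ord_x]
    exact orderOf_injective (MulAut.conj g).toMonoidHom (MulAut.conj g).injective _

theorem card_UA : (conjs ((A : Set G) \ {1, t})).ncard * (4 * w) = Nat.card G * (2 * w - 2) := by
  have h := card_conjs (T := (A : Set G) \ {1, t}) (S := centralizer ({t} : Set G)) (by
    rintro h u ⟨hu, hu'⟩ ⟨hv, hv'⟩
    simp only [Set.mem_insert_iff, Set.mem_singleton_iff, not_or] at hu' hv'
    -- the involution is carried along
    have hcomm : h * t * h⁻¹ ∈ centralizer ({h * u * h⁻¹} : Set G) := mem_centralizer_singleton_iff.2 (by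
      have hut : t * u = u * t := (mem_centralizer_singleton_iff.1 (P.A_le hu)).symm
      calc h * t * h⁻¹ * (h * u * h⁻¹) = h * (t * u) * h⁻¹ := by group
        _ = h * u * h⁻¹ * (h * t * h⁻¹) := by rw [hut]; group)
    rw [P.A_cent _ hv hv'.1 hv'.2] at hcomm
    refine mem_centralizer_singleton_iff.2 (mul_inv_eq_iff_eq_mul.1 (P.A_inv _ hcomm ?_))
    rw [← P.ord_t]
    exact orderOf_injective (MulAut.conj h).toMonoidHom (MulAut.conj h).injective _) (by
    rintro c hc u ⟨hu, hu'⟩
    refine ⟨P.A_conj c hc u hu, fun h => hu' ?_⟩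
    simp only [Set.mem_insert_iff, Set.mem_singleton_iff] at h ⊢
    rcases h with h | h
    · exact Or.inl (conj_eq_one_iff.1 h)
    · refine Or.inr ?_
      have := mem_centralizer_singleton_iff.1 hc
      calc u = c⁻¹ * (c * u * c⁻¹) * c := by group
        _ = c⁻¹ * (t * c) := by rw [h]; group
        _ = t := by rw [← this]; group)
  rw [P.card_t] at h
  rw [h]
  congr 1
  rw [Set.ncard_sdiff (by
    intro a ha
    simp only [Set.mem_insert_iff, Set.mem_singleton_iff] at ha
    rcases ha with rfl | rfl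
    · exact one_mem A
    · exact P.t_mem) (Set.toFinite _)]
  rw [Set.ncard_pair (fun e => by have := P.ord_t; rw [← e, orderOf_one] at this; omega), ← Nat.card_coe_set_eq]
  exact congrArg (· - 2) P.card_A

theorem card_UO : (conjs {c : G | c ∈ centralizer ({t} : Set G) ∧ c ∉ A ∧ orderOf c = 4}).ncard * (4 * w) =
    Nat.card G * w := by
  have hsq : ∀ c : G, c ∈ centralizer ({t} : Set G) → c ∉ A → orderOf c = 4 → c ^ 2 = t := fun c h1 h2 h3 =>
    ((P.out_ord c h1 h2).resolve_left (by omega)).2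
  have h := card_conjs (T := {c : G | c ∈ centralizer ({t} : Set G) ∧ c ∉ A ∧ orderOf c = 4})
    (S := centralizer ({t} : Set G)) (by
    rintro h u ⟨hu1, hu2, hu3⟩ ⟨hv1, hv2, hv3⟩
    refine mem_centralizer_singleton_iff.2 (mul_inv_eq_iff_eq_mul.1 ?_)
    rw [← hsq u hu1 hu2 hu3]
    show h * u ^ 2 * h⁻¹ = u ^ 2
    rw [← conj_pow, hsq _ hv1 hv2 hv3, hsq u hu1 hu2 hu3]) (by
    rintro c hc u ⟨hu1, hu2, hu3⟩
    refine ⟨mul_mem (mul_mem hc hu1) (inv_mem hc), fun h => hu2 ?_, ?_⟩
    · have := P.A_conj c⁻¹ (inv_mem hc) _ h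
      simpa [mul_assoc] using this
    · rw [← hu3]
      exact orderOf_injective (MulAut.conj c).toMonoidHom (MulAut.conj c).injective _)
  rwa [P.card_t, P.out_four] at h

theorem w_pos : 4 ≤ w := by
  refine Nat.le_of_dvd ?_ P.four
  have h : 0 < Nat.card A := Nat.card_pos
  rw [P.card_A] at h
  omega

theorem large : 144 ≤ Nat.card G := by
  have h9 : 9 ∣ Nat.card G := P.card_x ▸ Subgroup.card_subgroup_dvd_card _
  have h16 : 16 ∣ Nat.card G := by
    refine Dvd.dvd.trans ?_ (P.card_t ▸ Subgroup.card_subgroup_dvd_card _)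
    obtain ⟨k, hk⟩ := P.four
    exact ⟨k, by rw [hk]; ring⟩
  exact Nat.le_of_dvd Nat.card_pos ((show Nat.Coprime 9 16 by norm_num).mul_dvd_of_dvd_of_dvd h9 h16)

/-- The five known kinds of elements are disjoint from each other and from any further set of unknown ones. -/
theorem known_add {X : Set G} (hX : ∀ v ∈ X, orderOf v ≠ 1 ∧ orderOf v ≠ 2 ∧ orderOf v ≠ 3 ∧
      v ∉ conjs ((A : Set G) \ {1, t}) ∧ orderOf v ≠ 4) :
    1 + {s : G | orderOf s = 2}.ncard + {y : G | orderOf y = 3}.ncard + (conjs ((A : Set G) \ {1, t})).ncard +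
      (conjs {c : G | c ∈ centralizer ({t} : Set G) ∧ c ∉ A ∧ orderOf c = 4}).ncard + X.ncard =
    (({1} : Set G) ∪ {s : G | orderOf s = 2} ∪ {y : G | orderOf y = 3} ∪ conjs ((A : Set G) \ {1, t}) ∪
      conjs {c : G | c ∈ centralizer ({t} : Set G) ∧ c ∉ A ∧ orderOf c = 4} ∪ X).ncard := by
  have hO : ∀ v ∈ conjs {c : G | c ∈ centralizer ({t} : Set G) ∧ c ∉ A ∧ orderOf c = 4}, orderOf v = 4 := by
    rintro v ⟨g, -, -, hg⟩
    rw [← hg]
    simpa [MulAut.conj_apply] using
      (orderOf_injective (MulAut.conj g⁻¹).toMonoidHom (MulAut.conj g⁻¹).injective v).symm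
  -- an element of order four outside is not conjugate into the abelian part
  have hAO : ∀ v ∈ conjs ((A : Set G) \ {1, t}),
      v ∉ conjs {c : G | c ∈ centralizer ({t} : Set G) ∧ c ∉ A ∧ orderOf c = 4} := by
    rintro v hv ⟨g', hc, hnA, h4⟩
    obtain ⟨g, hg, hg'⟩ := hv
    simp only [Set.mem_insert_iff, Set.mem_singleton_iff, not_or] at hg'
    set a := g⁻¹ * v * g with ha
    set c := g'⁻¹ * v * g' with hcd
    have hc2 : c ^ 2 = t := ((P.out_ord c hc hnA).resolve_left (by omega)).2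
    set h := g'⁻¹ * g with hh
    have hca : h * a * h⁻¹ = c := by rw [hh, ha, hcd]; group
    have ha2 : a ^ 2 = t := by
      refine P.A_inv _ (pow_mem hg 2) ?_
      have e : orderOf (a ^ 2) = orderOf (c ^ 2) := by
        rw [← hca, conj_pow]
        exact (orderOf_injective (MulAut.conj h).toMonoidHom (MulAut.conj h).injective _).symm
      rw [e, hc2, P.ord_t]
    have hht : h ∈ centralizer ({t} : Set G) := mem_centralizer_singleton_iff.2 (mul_inv_eq_iff_eq_mul.1 (by
      rw [← ha2, ← conj_pow, hca, hc2, ha2]))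
    exact hnA (hca ▸ P.A_conj h hht a hg)
  rw [Set.ncard_union_eq ?_ (Set.toFinite _) (Set.toFinite _),
    Set.ncard_union_eq ?_ (Set.toFinite _) (Set.toFinite _),
    Set.ncard_union_eq ?_ (Set.toFinite _) (Set.toFinite _),
    Set.ncard_union_eq ?_ (Set.toFinite _) (Set.toFinite _),
    Set.ncard_union_eq ?_ (Set.toFinite _) (Set.toFinite _), Set.ncard_singleton]
  all_goals rw [Set.disjoint_left]
  · intro v hv1 hv2
    rw [Set.mem_singleton_iff.1 hv1] at hv2
    simp [orderOf_one] at hv2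
  · intro v hv h3
    rcases hv with hv | hv
    · rw [Set.mem_singleton_iff.1 hv] at h3
      simp [orderOf_one] at h3
    · simp only [Set.mem_setOf_eq] at hv h3
      omega
  · intro v hv hA
    obtain ⟨h1, h2, h3, -⟩ := UA_order P hA
    rcases hv with (hv | hv) | hv
    · exact h1 (by rw [Set.mem_singleton_iff.1 hv, orderOf_one])
    · exact h2 hv
    · exact h3 hv
  · intro v hv hO'
    have h4 := hO v hO'
    rcases hv with ((hv | hv) | hv) | hv
    · rw [Set.mem_singleton_iff.1 hv, orderOf_one] at h4; omega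
    · simp only [Set.mem_setOf_eq] at hv; omega
    · simp only [Set.mem_setOf_eq] at hv; omega
    · exact hAO v hv hO'
  · intro v hv hXv
    obtain ⟨h1, h2, h3, hA, h4⟩ := hX v hXv
    rcases hv with (((hv | hv) | hv) | hv) | hv
    · exact h1 (by rw [Set.mem_singleton_iff.1 hv, orderOf_one])
    · exact h2 hv
    · exact h3 hv
    · exact hA hv
    · exact h4 (hO v hv)

/-- The weight of the known elements. -/
theorem known_weight {X : Set G} (hX : ∀ v ∈ X, orderOf v ≠ 1 ∧ orderOf v ≠ 2 ∧ orderOf v ≠ 3 ∧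
      v ∉ conjs ((A : Set G) \ {1, t}) ∧ orderOf v ≠ 4) :
    36 * w + Nat.card G * (31 * w - 9) + 36 * w * X.ncard ≤ 36 * w * Nat.card G := by
  have h := known_add P hX
  have hle := Set.ncard_le_ncard (Set.subset_univ (({1} : Set G) ∪ {s : G | orderOf s = 2} ∪
    {y : G | orderOf y = 3} ∪ conjs ((A : Set G) \ {1, t}) ∪
      conjs {c : G | c ∈ centralizer ({t} : Set G) ∧ c ∉ A ∧ orderOf c = 4} ∪ X)) (Set.toFinite _)
  rw [Set.ncard_univ, ← h] at hle
  have e1 := card_inv P
  have e2 := card_three P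
  have e3 := card_UA P
  have e4 := card_UO P
  have hw := w_pos P
  obtain ⟨m, hm⟩ : ∃ m, w = m + 4 := ⟨w - 4, by omega⟩
  subst hm
  rw [show 2 * (m + 4) - 2 = 2 * m + 6 by omega] at e3
  rw [show 31 * (m + 4) - 9 = 31 * m + 115 by omega]
  nlinarith [Nat.mul_le_mul_left (36 * (m + 4)) hle]

/-- Every element is of a known kind, or of order the characteristic, unless a regular element is left over. -/
theorem order_cases (hreg : ∀ u : G, (orderOf u).Prime → 5 ≤ orderOf u → orderOf u ≠ p →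
    u ∈ conjs ((A : Set G) \ {1, t})) (v : G) :
    orderOf v ∣ 2 ∨ orderOf v ∣ 3 ∨ v ∈ conjs ((A : Set G) \ {1, t}) ∨
      v ∈ conjs {c : G | c ∈ centralizer ({t} : Set G) ∧ c ∉ A ∧ orderOf c = 4} ∨ orderOf v = p := by
  have hpos : 0 < orderOf v := orderOf_pos v
  by_cases h2 : 2 ∣ orderOf v
  · obtain ⟨s, hs, hc⟩ := exists_involution_comm h2
    rcases of_comm_inv P hs hc with h | h | h
    · exact Or.inl h
    · exact Or.inr (Or.inr (Or.inl h))
    · exact Or.inr (Or.inr (Or.inr (Or.inl h)))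
  by_cases h3 : 3 ∣ orderOf v
  · refine Or.inr (Or.inl (orderOf_dvd_of_pow_eq_one ?_))
    set y := v ^ (orderOf v / 3) with hy
    obtain ⟨g, hg⟩ := P.three_class y (orderOf_pow_orderOf_div hpos.ne' h3)
    have hc : v * y = y * v := ((Commute.refl v).pow_right _).eq
    have hmem : g⁻¹ * v * g ∈ centralizer ({x} : Set G) := mem_centralizer_singleton_iff.2 (by
      calc g⁻¹ * v * g * x = g⁻¹ * (v * y) * g := by rw [← hg]; group
        _ = x * (g⁻¹ * v * g) := by rw [hc, ← hg]; group)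
    have h := P.exp_x _ hmem
    rw [show g⁻¹ * v * g = g⁻¹ * v * g⁻¹⁻¹ by rw [inv_inv], conj_pow] at h
    exact conj_eq_one_iff.1 h
  by_cases hr : ∃ r, r.Prime ∧ r ∣ orderOf v ∧ r ≠ p
  · obtain ⟨r, hr, hrv, hrp⟩ := hr
    have h5 : 5 ≤ r := by
      have h1 := hr.two_le
      have e2 : r ≠ 2 := fun e => h2 (e ▸ hrv)
      have e3 : r ≠ 3 := fun e => h3 (e ▸ hrv)
      have e4 : r ≠ 4 := fun e => by rw [e] at hr; norm_num at hr
      omega
    have ho := orderOf_pow_orderOf_div hpos.ne' hrv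
    obtain ⟨g, hg⟩ := UA_centralizer P (hreg _ (by rw [ho]; exact hr) (by rw [ho]; exact h5) (by rw [ho]; exact hrp))
    refine Or.inr (Or.inr (Or.inl ⟨g, (hg v).1 ((Commute.refl v).pow_right _).eq, ?_⟩))
    simp only [Set.mem_insert_iff, Set.mem_singleton_iff]
    rintro (h | h)
    · have : v = 1 := (conj_eq_one_iff (a := g⁻¹)).1 (by rw [inv_inv]; exact h)
      rw [this, orderOf_one] at hrv
      exact hr.one_lt.ne' (Nat.eq_one_of_dvd_one hrv)
    · refine h2 ?_
      have e : orderOf (g⁻¹ * v * g) = orderOf v := by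
        simpa [MulAut.conj_apply] using orderOf_injective (MulAut.conj g⁻¹).toMonoidHom (MulAut.conj g⁻¹).injective v
      rw [← e, h, P.ord_t]
  push Not at hr
  by_cases h1 : orderOf v = 1
  · exact Or.inl (by rw [h1]; exact one_dvd _)
  refine Or.inr (Or.inr (Or.inr (Or.inr ?_)))
  haveI : Fact p.Prime := ⟨P.prime⟩
  obtain ⟨e, he⟩ : ∃ e, orderOf v = p ^ e :=
    ⟨_, Nat.eq_prime_pow_of_unique_prime_dvd hpos.ne' fun {d} hd hdv => hr d hd hdv⟩
  have hle := P.p_small (zpowers v) (IsPGroup.of_card (n := e) (by rw [Nat.card_zpowers, he]))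
  rw [Nat.card_zpowers, he] at hle
  rcases e with _ | _ | e
  · exact absurd he h1
  · rw [he, pow_one]
  · have : p ^ 1 < p ^ (e + 1 + 1) := Nat.pow_lt_pow_right P.prime.one_lt (by omega)
    rw [pow_one] at this
    omega

/-- No regular element is left over. -/
theorem regular_in (u : G) (hu : (orderOf u).Prime) (h5 : 5 ≤ orderOf u) (hup : orderOf u ≠ p) :
    u ∈ conjs ((A : Set G) \ {1, t}) := by
  classical
  by_contra hA
  obtain ⟨hab, hnp, hperm⟩ := P.regular u hu h5 hup
  set C := centralizer ({u} : Set G) with hC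
  have huC : u ∈ C := mem_centralizer_singleton_iff.2 rfl
  have hu1 : u ≠ 1 := fun e => by rw [e, orderOf_one] at h5; omega
  -- nothing in the centraliser has order divisible by two or three
  have hCord : ∀ c ∈ C, ¬ 2 ∣ orderOf c ∧ ¬ 3 ∣ orderOf c := by
    intro c hc
    constructor <;> intro hdvd
    · obtain ⟨k, hk⟩ := hdvd
      have hcu := mem_centralizer_singleton_iff.1 hc
      set s := c ^ (orderOf c / 2)
      have hs : orderOf s = 2 := orderOf_pow_orderOf_div (orderOf_pos c).ne' ⟨k, hk⟩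
      rcases of_comm_inv P (v := u) hs ((Commute.pow_right (Commute.symm hcu) _).eq) with h | h | h
      · have := Nat.le_of_dvd (by norm_num) h; omega
      · exact hA h
      · obtain ⟨g, -, -, hg⟩ := h
        have e : orderOf (g⁻¹ * u * g) = orderOf u := by
          simpa [MulAut.conj_apply] using orderOf_injective (MulAut.conj g⁻¹).toMonoidHom (MulAut.conj g⁻¹).injective u
        rw [← e, hg] at hu
        norm_num at hu
    · have hcu := mem_centralizer_singleton_iff.1 hc
      set y := c ^ (orderOf c / 3)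
      obtain ⟨g, hg⟩ := P.three_class y (orderOf_pow_orderOf_div (orderOf_pos c).ne' hdvd)
      have hmem : g⁻¹ * u * g ∈ centralizer ({x} : Set G) := mem_centralizer_singleton_iff.2 (by
        have hc' : u * y = y * u := (Commute.pow_right (Commute.symm hcu) _).eq
        calc g⁻¹ * u * g * x = g⁻¹ * (u * y) * g := by rw [← hg]; group
          _ = x * (g⁻¹ * u * g) := by rw [hc', ← hg]; group)
      have h := P.exp_x _ hmem
      rw [show g⁻¹ * u * g = g⁻¹ * u * g⁻¹⁻¹ by rw [inv_inv], conj_pow] at h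
      have := Nat.le_of_dvd (by norm_num) (orderOf_dvd_of_pow_eq_one (conj_eq_one_iff.1 h))
      omega
  have hCA : ∀ v ∈ C, v ∉ conjs ((A : Set G) \ {1, t}) := by
    intro v hv hvA
    obtain ⟨g, hg⟩ := UA_centralizer P hvA
    refine hA ⟨g, (hg u).1 (mem_centralizer_singleton_iff.1 hv).symm, ?_⟩
    have e : orderOf (g⁻¹ * u * g) = orderOf u := by
      simpa [MulAut.conj_apply] using orderOf_injective (MulAut.conj g⁻¹).toMonoidHom (MulAut.conj g⁻¹).injective u
    simp only [Set.mem_insert_iff, Set.mem_singleton_iff]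
    rintro (h | h)
    · rw [h, orderOf_one] at e; omega
    · rw [h, P.ord_t] at e; omega
  -- the centraliser of each of its non-trivial elements
  have hCC : ∀ v ∈ C, v ≠ 1 → (∀ a, a * v = v * a → a ∈ C) := by
    intro v hv hv1 a ha
    obtain ⟨r, hr, hrv⟩ := Nat.exists_prime_and_dvd (n := orderOf v) (fun e => hv1 (orderOf_eq_one_iff.1 e))
    set z := v ^ (orderOf v / r)
    have hz : orderOf z = r := orderOf_pow_orderOf_div (orderOf_pos v).ne' hrv
    have hzC : z ∈ C := pow_mem hv _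
    have hr5 : 5 ≤ r := by
      have h1 := hr.two_le
      have e2 : r ≠ 2 := fun e => (hCord v hv).1 (e ▸ hrv)
      have e3 : r ≠ 3 := fun e => (hCord v hv).2 (e ▸ hrv)
      have e4 : r ≠ 4 := fun e => by rw [e] at hr; norm_num at hr
      omega
    have haz : a * z = z * a := (Commute.pow_right ha _).eq
    have huz : u * z = z * u := hab u huC z hzC
    refine mem_centralizer_singleton_iff.2 ?_
    obtain ⟨hab', -⟩ := P.regular z (hz ▸ hr) (hz ▸ hr5) (fun e => hnp z hzC e)
    exact hab' a (mem_centralizer_singleton_iff.2 haz) u (mem_centralizer_singleton_iff.2 huz)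
  set T := (C : Set G) \ {1}
  set N := normalizer (C : Set G)
  obtain ⟨φ, hφ⟩ := hperm
  have hcount := card_conjs (T := T) (S := N) (by
    rintro h v ⟨hv, hv1⟩ ⟨hw, hw1⟩
    rw [Set.mem_singleton_iff] at hv1 hw1
    refine mem_normalizer_iff.2 fun c => ⟨fun hc => ?_, fun hc => ?_⟩
    · refine hCC _ hw hw1 _ ?_
      have e := hab c hc v hv
      calc h * c * h⁻¹ * (h * v * h⁻¹) = h * (c * v) * h⁻¹ := by group
        _ = h * v * h⁻¹ * (h * c * h⁻¹) := by rw [e]; group
    · refine hCC v hv hv1 c ?_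
      have e := hab _ hc _ hw
      calc c * v = h⁻¹ * (h * c * h⁻¹ * (h * v * h⁻¹)) * h := by group
        _ = v * c := by rw [e]; group) (by
    rintro h hh v ⟨hv, hv1⟩
    exact ⟨(mem_normalizer_iff.1 hh v).1 hv, fun e => hv1 (conj_eq_one_iff.1 e)⟩)
  have hX : ∀ v ∈ conjs T, orderOf v ≠ 1 ∧ orderOf v ≠ 2 ∧ orderOf v ≠ 3 ∧
      v ∉ conjs ((A : Set G) \ {1, t}) ∧ orderOf v ≠ 4 := by
    intro v hv
    obtain ⟨g, hg, hg1⟩ := hv
    rw [Set.mem_singleton_iff] at hg1
    have e : orderOf (g⁻¹ * v * g) = orderOf v := by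
      simpa [MulAut.conj_apply] using orderOf_injective (MulAut.conj g⁻¹).toMonoidHom (MulAut.conj g⁻¹).injective v
    obtain ⟨n2, n3⟩ := hCord _ hg
    rw [e] at n2 n3
    refine ⟨fun h => hg1 (orderOf_eq_one_iff.1 (e.trans h)), fun h => n2 (by rw [h]), fun h => n3 (by rw [h]),
      fun h => hCA _ hg ?_, fun h => n2 (by rw [h]; norm_num)⟩
    simpa using conjs_map h g⁻¹
  have hw := known_weight P hX
  have h4 := w_pos P
  -- the normaliser is at most three times the centraliser
  have hC5 : 5 ≤ Nat.card C := by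
    have h1 := Subgroup.orderOf_dvd_natCard C huC
    have := Nat.le_of_dvd Nat.card_pos h1
    omega
  have hker : ∀ n : N, φ n = 1 ↔ n.1 ∈ C := by
    intro n
    refine ⟨fun h => mem_centralizer_singleton_iff.2 (hφ n h), fun h => ?_⟩
    -- the image of the centraliser has order prime to six
    have h1 : orderOf (φ n) ∣ orderOf n.1 := by
      rw [orderOf_coe]; exact orderOf_map_dvd φ n
    have h2 : orderOf (φ n) ∣ 6 := by
      have := orderOf_dvd_natCard (φ n)
      rwa [Nat.card_eq_fintype_card (α := Equiv.Perm (Fin 3)), Fintype.card_perm, Fintype.card_fin] at this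
    obtain ⟨n2, n3⟩ := hCord _ h
    have h6 := Nat.le_of_dvd (by norm_num) h2
    interval_cases ho : orderOf (φ n)
    all_goals first
      | exact orderOf_eq_one_iff.1 ho
      | exact absurd h1 n2
      | exact absurd h1 n3
      | exact absurd ((⟨3, rfl⟩ : (2 : ℕ) ∣ 6).trans h1) n2
      | omega
  have hN3 : Nat.card N ≤ 3 * Nat.card C := by
    by_contra hbig
    have h1 := φ.ker.card_mul_index
    rw [index_ker] at h1
    have h2 : Nat.card φ.ker = Nat.card C := Nat.card_congr
      { toFun := fun n => ⟨n.1.1, (hker n.1).1 n.2⟩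
        invFun := fun c => ⟨⟨c.1, le_normalizer c.2⟩, (hker _).2 c.2⟩
        left_inv := fun _ => rfl
        right_inv := fun _ => rfl }
    rw [h2] at h1
    have h3 : Nat.card φ.range = 6 := by
      have hd : Nat.card φ.range ∣ 6 := by
        have := φ.range.card_subgroup_dvd_card
        rwa [Nat.card_eq_fintype_card (α := Equiv.Perm (Fin 3)), Fintype.card_perm, Fintype.card_fin] at this
      have h6 := Nat.le_of_dvd (by norm_num) hd
      by_contra hne
      have : Nat.card φ.range ≤ 3 := by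
        interval_cases hh : Nat.card φ.range <;> norm_num at hd <;> omega
      have := Nat.mul_le_mul_left (Nat.card C) this
      rw [h1] at this
      omega
    have htop : ∀ a : Equiv.Perm (Fin 3), ∃ n, φ n = a := by
      intro a
      have : φ.range = ⊤ := eq_top_of_card_eq _ (by
        rw [h3, Nat.card_eq_fintype_card (α := Equiv.Perm (Fin 3)), Fintype.card_perm, Fintype.card_fin]; rfl)
      exact (this ▸ mem_top a : a ∈ φ.range)
    haveI : Fact (Nat.Prime 2) := ⟨Nat.prime_two⟩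
    obtain ⟨s, hs⟩ := exists_prime_orderOf_dvd_card' (G := N) 2 (by
      rw [← h1, h3]
      exact dvd_mul_of_dvd_right (by norm_num) _)
    have hso : orderOf s.1 = 2 := by rw [orderOf_coe, hs]
    -- an involution of the normaliser inverts the element
    have hinv : ∀ n : N, orderOf n = 2 → n.1 * u * n.1⁻¹ = u⁻¹ := by
      intro n hn
      have hno : orderOf n.1 = 2 := by rw [orderOf_coe, hn]
      have hnn : n.1 * n.1 = 1 := by rw [← pow_two, ← hno, pow_orderOf_eq_one]
      have hni : n.1⁻¹ = n.1 := inv_eq_of_mul_eq_one_right hnn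
      have hu' := (mem_normalizer_iff.1 n.2 u).1 huC
      set c := u * (n.1 * u * n.1⁻¹) with hc
      have hcC : c ∈ C := mul_mem huC hu'
      rcases eq_or_ne c 1 with h | h
      · exact (inv_eq_of_mul_eq_one_right h).symm
      · exfalso
        refine (hCord n.1 (hCC c hcC h n.1 ?_)).1 (by rw [hno])
        have e := hab _ hu' u huC
        calc n.1 * c = n.1 * u * n.1⁻¹ * ((n.1 * n.1) * u) * n.1⁻¹ := by rw [hc]; group
          _ = u * (n.1 * u * n.1⁻¹) * (n.1 * n.1) * n.1⁻¹ := by rw [hnn, one_mul, mul_one, ← e]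
          _ = c * n.1 := by rw [hc]; group
    have hne : φ s ≠ 1 := fun h => (hCord _ ((hker s).1 h)).1 (by rw [hso])
    have hmove : ∃ a : Equiv.Perm (Fin 3), a * φ s * a⁻¹ ≠ φ s := by
      revert hne
      generalize φ s = b
      revert b
      decide
    obtain ⟨a, ha⟩ := hmove
    obtain ⟨n, rfl⟩ := htop a
    have hs' : orderOf (n * s * n⁻¹) = 2 := by
      rw [← hs]
      exact orderOf_injective (MulAut.conj n).toMonoidHom (MulAut.conj n).injective s
    have i1 := hinv s hs
    have i2 := hinv _ hs'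
    have hprod : s.1 * (n * s * n⁻¹ : N).1 ∈ C := mem_centralizer_singleton_iff.2 (by
      refine mul_inv_eq_iff_eq_mul.1 ?_
      calc s.1 * (n * s * n⁻¹ : N).1 * u * (s.1 * (n * s * n⁻¹ : N).1)⁻¹
          = s.1 * ((n * s * n⁻¹ : N).1 * u * (n * s * n⁻¹ : N).1⁻¹) * s.1⁻¹ := by group
        _ = (s.1 * u * s.1⁻¹)⁻¹ := by rw [i2]; group
        _ = u := by rw [i1, inv_inv])
    have h5 := (hker (s * (n * s * n⁻¹))).2 hprod
    rw [map_mul, map_mul, map_mul, map_inv] at h5
    have hss : φ s * φ s = 1 := by rw [← map_mul, ← pow_two, ← hs, pow_orderOf_eq_one, map_one]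
    exact ha ((eq_inv_of_mul_eq_one_right h5).trans (inv_eq_of_mul_eq_one_right hss))
  have hT : T.ncard + 1 = Nat.card C :=
    (Set.ncard_sdiff_singleton_add_one (one_mem C) (Set.toFinite _)).trans (Nat.card_coe_set_eq _).symm
  obtain ⟨m, hm⟩ : ∃ m, w = m + 4 := ⟨w - 4, by omega⟩
  obtain ⟨c, hc⟩ : ∃ c, Nat.card C = c + 5 := ⟨Nat.card C - 5, by omega⟩
  have hT' : T.ncard = c + 4 := by omega
  subst hm
  rw [show 31 * (m + 4) - 9 = 31 * m + 115 by omega] at hw
  rw [hT'] at hcount
  rw [hc] at hN3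
  have hG : 0 < Nat.card G := Nat.card_pos
  have k1 : 4 * Nat.card G ≤ 15 * (conjs T).ncard := by
    by_contra k
    nlinarith [Nat.mul_le_mul_left (conjs T).ncard hN3]
  nlinarith [Nat.mul_le_mul_left (36 * (m + 4)) k1]

/-- There is no such group. -/
theorem no_group : False := by
  classical
  haveI : Fact p.Prime := ⟨P.prime⟩
  have h11 := P.five
  have hw4 := w_pos P
  have hlarge := large P
  have hcases := order_cases P (regular_in P)
  set X := {v : G | orderOf v = p} with hXdef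
  have hX : ∀ v ∈ X, orderOf v ≠ 1 ∧ orderOf v ≠ 2 ∧ orderOf v ≠ 3 ∧
      v ∉ conjs ((A : Set G) \ {1, t}) ∧ orderOf v ≠ 4 := fun v hv => by
    have hv' : orderOf v = p := hv
    exact ⟨by omega, by omega, by omega, fun h => (UA_order P h).2.2.2 hv', by omega⟩
  -- everything is accounted for
  have hall : ({1} : Set G) ∪ {s : G | orderOf s = 2} ∪ {y : G | orderOf y = 3} ∪ conjs ((A : Set G) \ {1, t}) ∪
      conjs {c : G | c ∈ centralizer ({t} : Set G) ∧ c ∉ A ∧ orderOf c = 4} ∪ X = Set.univ := by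
    refine Set.eq_univ_of_forall fun v => ?_
    rcases hcases v with h | h | h | h | h
    · rcases (Nat.dvd_prime Nat.prime_two).1 h with e | e
      · exact Or.inl (Or.inl (Or.inl (Or.inl (Or.inl (orderOf_eq_one_iff.1 e)))))
      · exact Or.inl (Or.inl (Or.inl (Or.inl (Or.inr e))))
    · rcases (Nat.dvd_prime Nat.prime_three).1 h with e | e
      · exact Or.inl (Or.inl (Or.inl (Or.inl (Or.inl (orderOf_eq_one_iff.1 e)))))
      · exact Or.inl (Or.inl (Or.inl (Or.inr e)))
    · exact Or.inl (Or.inl (Or.inr h))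
    · exact Or.inl (Or.inr h)
    · exact Or.inr h
  have h := known_add P hX
  rw [hall, Set.ncard_univ] at h
  have e1 := card_inv P
  have e2 := card_three P
  have e3 := card_UA P
  have e4 := card_UO P
  obtain ⟨m, hm⟩ : ∃ m, w = m + 4 := ⟨w - 4, by omega⟩
  subst hm
  rw [show 2 * (m + 4) - 2 = 2 * m + 6 by omega] at e3
  have hmain : 36 * (m + 4) + Nat.card G * (31 * m + 115) + 36 * (m + 4) * X.ncard =
      36 * (m + 4) * Nat.card G := by nlinarith [congrArg (fun z => 36 * (m + 4) * z) h]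
  by_cases hX0 : X.ncard * (2 * (m + 4)) ≤ Nat.card G
  · nlinarith
  -- the normaliser of a Sylow subgroup for the characteristic
  obtain ⟨v, hv⟩ : X.Nonempty := Set.nonempty_of_ncard_ne_zero fun e => hX0 (by rw [e, zero_mul]; exact Nat.zero_le _)
  set Q := zpowers v with hQ
  have hQc : Nat.card Q = p := by rw [hQ, Nat.card_zpowers]; exact hv
  obtain ⟨S, hS⟩ := (IsPGroup.of_card (n := 1) (by rw [hQc, pow_one]) : IsPGroup p Q).exists_le_sylow
  have hSQ : (S : Subgroup G) = Q := (eq_of_le_of_card_ge hS (by rw [hQc]; exact P.p_small _ S.2)).symm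
  set N := normalizer (Q : Set G)
  have hcount := card_conjs (T := (Q : Set G) \ {1}) (S := N) (by
    rintro h a ⟨ha, ha1⟩ ⟨hb, hb1⟩
    rw [Set.mem_singleton_iff] at ha1 hb1
    have hgen : ∀ a ∈ Q, a ≠ 1 → zpowers a = Q := fun a ha ha1 => by
      refine eq_of_le_of_card_ge (zpowers_le.2 ha) ?_
      have h1 := Subgroup.orderOf_dvd_natCard Q ha
      rw [hQc] at h1 ⊢
      rw [Nat.card_zpowers, ((Nat.dvd_prime P.prime).1 h1).resolve_left (fun e => ha1 (orderOf_eq_one_iff.1 e))]
    refine mem_normalizer_iff.2 fun c => ?_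
    conv_rhs => rw [← hgen _ hb hb1]
    conv_lhs => rw [← hgen a ha ha1]
    constructor
    · rintro ⟨i, rfl⟩
      exact ⟨i, by show (h * a * h⁻¹) ^ i = h * a ^ i * h⁻¹; rw [conj_zpow]⟩
    · rintro ⟨i, hi⟩
      refine ⟨i, ?_⟩
      have hi' : (h * a * h⁻¹) ^ i = h * c * h⁻¹ := hi
      rw [conj_zpow] at hi'
      exact mul_left_cancel (mul_right_cancel hi')) (by
    rintro h hh a ⟨ha, ha1⟩
    exact ⟨(mem_normalizer_iff.1 hh a).1 ha, fun e => ha1 (conj_eq_one_iff.1 e)⟩)
  have hXc : conjs ((Q : Set G) \ {1}) = X := by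
    ext a
    refine ⟨fun ha => ?_, fun ha => ?_⟩
    · obtain ⟨g, hg, hg1⟩ := ha
      have e : orderOf (g⁻¹ * a * g) = orderOf a := by
        simpa [MulAut.conj_apply] using
          orderOf_injective (MulAut.conj g⁻¹).toMonoidHom (MulAut.conj g⁻¹).injective a
      have h1 := Subgroup.orderOf_dvd_natCard Q hg
      rw [hQc, e] at h1
      exact ((Nat.dvd_prime P.prime).1 h1).resolve_left (fun e' => hg1 (orderOf_eq_one_iff.1 (e.trans e')))
    · obtain ⟨S', hS'⟩ := (IsPGroup.of_card (n := 1) (by rw [Nat.card_zpowers, pow_one]; exact ha) :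
        IsPGroup p (zpowers a)).exists_le_sylow
      obtain ⟨g, hg⟩ := MulAction.exists_smul_eq G S S'
      refine ⟨g, ?_, fun e => ?_⟩
      · have hm := hS' (mem_zpowers a)
        rw [← hg, Sylow.coe_subgroup_smul, hSQ, Subgroup.mem_pointwise_smul_iff_inv_smul_mem] at hm
        simpa [MulAut.smul_def, MulAut.conj_apply] using hm
      · rw [Set.mem_singleton_iff] at e
        have : a = 1 := by
          calc a = g * (g⁻¹ * a * g) * g⁻¹ := by group
            _ = 1 := by rw [e]; group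
        rw [Set.mem_setOf_eq, this, orderOf_one] at ha
        omega
  rw [hXc, Set.ncard_sdiff_singleton_of_mem (one_mem Q), ← Nat.card_coe_set_eq] at hcount
  change X.ncard * Nat.card N = Nat.card G * (Nat.card Q - 1) at hcount
  rw [hQc] at hcount
  -- the quotient by the subgroup
  obtain ⟨M, hM1, hM2, χ, hχ⟩ := P.p_cyclic Q hQc
  have hQN : Q ≤ N := le_normalizer
  haveI : Finite χ.range := Finite.of_surjective _ χ.rangeRestrict_surjective
  obtain ⟨γ, hgen⟩ := IsCyclic.exists_generator (α := χ.range)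
  set e := Nat.card χ.range with hedef
  have hγ : orderOf γ = e := orderOf_eq_card_of_forall_mem_zpowers hgen
  have hker : Nat.card χ.ker = p := by
    rw [← hQc]
    exact Nat.card_congr
      { toFun := fun n => ⟨n.1.1, (hχ n.1).1 (MonoidHom.mem_ker.1 n.2)⟩
        invFun := fun c => ⟨⟨c.1, hQN c.2⟩, MonoidHom.mem_ker.2 ((hχ _).2 c.2)⟩
        left_inv := fun _ => rfl
        right_inv := fun _ => rfl }
  have hNc : Nat.card N = p * e := by
    have h1 := χ.ker.card_mul_index
    rw [index_ker, hker] at h1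
    exact h1.symm
  rw [hNc] at hcount
  have hpe : ¬ p ∣ e := by
    intro hd
    have h2 : p ^ 2 ∣ Nat.card N := by rw [hNc, pow_two]; exact Nat.mul_dvd_mul_left p hd
    obtain ⟨R, hR⟩ := Sylow.exists_subgroup_card_pow_prime p h2
    have h3 := P.p_small (R.map N.subtype) ((IsPGroup.of_card hR).map _)
    rw [card_map_of_injective N.subtype_injective, hR] at h3
    nlinarith
  rcases Nat.lt_or_ge e 5 with hsmall | hbig
  · have k0 : X.ncard * (p * e) ≤ X.ncard * (p * 4) :=
      Nat.mul_le_mul_left _ (Nat.mul_le_mul_left _ (by omega))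
    obtain ⟨c, hc⟩ : ∃ c, p = c + 11 := ⟨p - 11, by omega⟩
    rw [hcount, hc, show c + 11 - 1 = c + 10 by omega] at k0
    have k1 : 10 * Nat.card G ≤ 44 * X.ncard := by
      by_contra k
      nlinarith [Nat.mul_lt_mul_of_pos_right (not_le.1 k) (show 0 < c + 11 by omega)]
    nlinarith [Nat.mul_le_mul_left (36 * (m + 4)) k1]
  -- an element of large order of the normaliser lies in an abelian part, so all of that part normalises
  obtain ⟨n₀, hn₀⟩ := χ.rangeRestrict_surjective γ
  set h₀ := n₀ ^ p with hh₀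
  have hco : Nat.Coprime e p := ((P.prime.coprime_iff_not_dvd).2 hpe).symm
  have hχh : χ.rangeRestrict h₀ = γ ^ p := by rw [hh₀, map_pow, hn₀]
  have hord : orderOf h₀.1 = e := by
    rw [orderOf_coe]
    refine Nat.dvd_antisymm (orderOf_dvd_of_pow_eq_one ?_) ?_
    · have h1 : (n₀ ^ e).1 ∈ Q := (hχ _).1 (by
        have h2 : χ.rangeRestrict (n₀ ^ e) = 1 := by rw [map_pow, hn₀, ← hγ, pow_orderOf_eq_one]
        exact congrArg Subtype.val h2)
      have h2 : (n₀ ^ e).1 ^ p = 1 :=
        orderOf_dvd_iff_pow_eq_one.1 (hQc ▸ Subgroup.orderOf_dvd_natCard Q h1)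
      refine Subtype.ext ?_
      rw [hh₀, ← pow_mul, mul_comm, pow_mul, SubmonoidClass.coe_pow, h2, OneMemClass.coe_one]
    · have h1 := orderOf_map_dvd χ.rangeRestrict h₀
      rw [hχh, orderOf_pow' _ P.prime.ne_zero, hγ, hco.gcd_eq_one, Nat.div_one] at h1
      exact h1
  have hmem : h₀.1 ∈ N := h₀.2
  obtain ⟨g, hgA, -⟩ : h₀.1 ∈ conjs ((A : Set G) \ {1, t}) := by
    rcases hcases h₀.1 with h | h | h | h | h
    · have := Nat.le_of_dvd (by norm_num) h; omega
    · have := Nat.le_of_dvd (by norm_num) h; omega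
    · exact h
    · obtain ⟨g, -, -, h4⟩ := h
      have e' : orderOf (g⁻¹ * h₀.1 * g) = orderOf h₀.1 := by
        simpa [MulAut.conj_apply] using
          orderOf_injective (MulAut.conj g⁻¹).toMonoidHom (MulAut.conj g⁻¹).injective h₀.1
      omega
    · exact absurd (hord ▸ h ▸ dvd_refl p : p ∣ e) hpe
  have hall' := P.p_A Q hQc g h₀.1 hmem hgA (by omega)
  have h2w : 2 * (m + 4) ≤ e := by
    rw [← P.card_A]
    refine Nat.card_le_card_of_injective (fun a : A => χ.rangeRestrict ⟨g * a.1 * g⁻¹, hall' a.1 a.2⟩) ?_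
    intro a b hab
    have h1 : χ.rangeRestrict (⟨g * a.1 * g⁻¹, hall' a.1 a.2⟩⁻¹ * ⟨g * b.1 * g⁻¹, hall' b.1 b.2⟩) = 1 := by
      rw [map_mul, map_inv]
      simp only at hab
      rw [hab, inv_mul_cancel]
    have h2 := (hχ _).1 (congrArg Subtype.val h1)
    have h3 : g * (a⁻¹ * b : A).1 * g⁻¹ ∈ Q := by
      convert h2 using 1
      simp [mul_assoc]
    by_contra hne
    have h4 := Subgroup.orderOf_dvd_natCard Q h3
    rw [hQc] at h4
    have e1 : orderOf (g * (a⁻¹ * b : A).1 * g⁻¹) = orderOf (a⁻¹ * b : A).1 := by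
      simpa [MulAut.conj_apply] using orderOf_injective (MulAut.conj g).toMonoidHom (MulAut.conj g).injective _
    rw [e1] at h4
    rcases (Nat.dvd_prime P.prime).1 h4 with h5 | h5
    · exact hne (inv_mul_eq_one.1 (Subtype.ext (orderOf_eq_one_iff.1 h5)))
    · exact (P.A_ord _ (a⁻¹ * b : A).2).2 h5
  refine hX0 ?_
  by_contra k
  nlinarith [Nat.mul_lt_mul_of_pos_left (not_le.1 k) P.prime.pos, Nat.mul_le_mul_left (X.ncard * p) h2w, Nat.mul_le_mul_left (Nat.card G) (Nat.sub_le p 1)]

end Cfsg.Lib.Classical.SUThree.HeisCount
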