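import Cfsg.Agent.Classical.SUThree.HeisTorus
import Cfsg.Agent.Classical.SUThree.HeisCoset
import Cfsg.Agent.Classical.SUThree.EvenTwo

/-!
One class of involutions modulo scalars in an insoluble overgroup of the normaliser of a Heisenberg group.
-/

set_option autoImplicit false
set_option linter.unusedSectionVars false
set_option linter.unusedSimpArgs false
set_option linter.style.haveILetI false
set_option maxHeartbeats 1000000

namespace Cfsg.Lib.Classical.SUThree.Heis

open Cfsg.Lib.Classical Cfsg.Lib.Components.UnitaryThree Cfsg.Lib.Known.PSUThree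
open scoped Matrix LinearAlgebra.Projectivization

universe u v

/-- Two involutions with product of odd order are conjugate. -/
theorem conj_of_odd {Q : Type*} [Group Q] {t s : Q} (ht : t * t = 1) (hs : s * s = 1) (h : Odd (orderOf (t * s))) :
    ∃ g : Q, g * t * g⁻¹ = s := by
  obtain ⟨m, hm⟩ := h
  set d := t * s with hd
  have hti : t⁻¹ = t := inv_eq_of_mul_eq_one_right ht
  have hsi : s⁻¹ = s := inv_eq_of_mul_eq_one_right hs
  have hinv : t * d * t⁻¹ = d⁻¹ := by
    rw [hd, mul_inv_rev, hsi, hti, ← mul_assoc, ht, one_mul]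
  have hpow : ∀ n : ℕ, t * d ^ n * t⁻¹ = (d ^ n)⁻¹ := fun n => by rw [← conj_pow, hinv, inv_pow]
  refine ⟨t * (d ^ m)⁻¹, ?_⟩
  have h1 : d ^ (2 * m + 1) = 1 := by rw [← hm]; exact pow_orderOf_eq_one d
  calc t * (d ^ m)⁻¹ * t * (t * (d ^ m)⁻¹)⁻¹ = t * (d ^ m)⁻¹ * (t * d ^ m * t⁻¹) := by group
    _ = t * (d ^ (2 * m))⁻¹ := by rw [hpow, two_mul, pow_add, mul_inv_rev, mul_assoc]
    _ = t * d := by
      rw [pow_succ] at h1
      rw [eq_inv_of_mul_eq_one_left h1, inv_inv]
    _ = s := by rw [hd, ← mul_assoc, ht, one_mul]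

variable {F : Type u} [Field F] [Finite F] {V : Type v} [AddCommGroup V] [Module F V] [FiniteDimensional F V]
  {H : HermSpace F V} {K : Subgroup H.SIsom} {U : UFrame H (Fin 3)} {ω : F} {X Y W G : K} {p : ℕ}
  {bs : Module.Basis (Fin 3) F V} {t q q' : K}
variable (A : Amb K p) (M : Model K U ω X Y W G) (S : Split K bs t q q')
include A M S

theorem coset : Coset (Tor bs K) (pr K t) (pr K q) (pr K q') where
  ord_t := orderOf_t A M S
  t_mem := t_mem A M S
  comm := fun _ ha _ hb => tor_comm ha hb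
  uniq := fun _ ha h => tor_inv A M S ha h
  a₀_mem := q_mem A M S
  a₀_sq := by rw [← map_mul, S.q_sq]
  s_sq := by rw [← map_mul, S.q'_sq]
  s_out := q'_not_mem A M S
  twist := fun _ ha => twist_mem A M S ha
  a₀_twist := by
    rw [← map_inv, ← map_mul, ← map_mul, ← map_mul, S.twist, mul_assoc, S.q_sq, t_sq' A M S, map_one]
  cases := fun _ hc => cent_cases A M S hc

/-- The central involution is not isolated. -/
theorem exists_other : ∃ b : Qt K, orderOf b = 2 ∧ b * pr K t = pr K t * b ∧ b ≠ pr K t ∧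
    ∃ g : Qt K, g * pr K t * g⁻¹ = b := by
  by_contra hno
  refine A.nsol ?_
  have hiso : Cfsg.IsIsolatedInvolution (pr K t) := by
    refine ⟨orderOf_t A M S, fun g hg => ?_⟩
    by_contra hne
    refine hno ⟨g * pr K t * g⁻¹, ?_, hg.eq.symm, hne, g, rfl⟩
    rw [← MulAut.conj_apply]
    exact (orderOf_injective (MulAut.conj g).toMonoidHom (MulAut.conj g).injective _).trans (orderOf_t A M S)
  haveI : Group.IsSolvable (Qt K) := solvable_of_isolated hiso (coset A M S).solvable
  haveI : Group.IsSolvable (Zs K) := Group.isSolvable_of_comm fun a b => Subtype.ext (Subtype.ext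
    ((Subgroup.mem_center_iff.1 (Subgroup.mem_subgroupOf.1 a.2) b.1.1).symm))
  exact Group.isSolvable_of_ker_le_range (Zs K).subtype (pr K) (by rw [QuotientGroup.ker_mk', Subgroup.range_subtype])

/-- All involutions are conjugate. -/
theorem inv_class {s : Qt K} (hs : orderOf s = 2) : ∃ g : Qt K, g * pr K t * g⁻¹ = s := by
  obtain ⟨b, hb, hbt, hne, g₀, hg₀⟩ := exists_other A M S
  have C := coset A M S
  have hin : ∀ c : Qt K, orderOf c = 2 → c * pr K t = pr K t * c → ∃ g : Qt K, g * pr K t * g⁻¹ = c := by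
    intro c hc hct
    by_cases h : c = pr K t
    · exact ⟨1, by rw [h]; group⟩
    · obtain ⟨g, hg⟩ := C.out_class hb hbt hne hct hc h
      exact ⟨g * g₀, by rw [← hg, ← hg₀]; group⟩
  have ht2 : pr K t * pr K t = 1 := C.tt
  have hs2 : s * s = 1 := by rw [← pow_two, ← hs]; exact pow_orderOf_eq_one s
  rcases Nat.even_or_odd (orderOf (pr K t * s)) with he | ho
  · set d := pr K t * s with hd
    set n := orderOf d with hn
    set z := d ^ (n / 2) with hz
    have hpos : 0 < n := orderOf_pos d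
    obtain ⟨k, hk⟩ := he
    have hz2 : orderOf z = 2 := orderOf_pow_orderOf_div hpos.ne' ⟨k, by omega⟩
    have hzz : z⁻¹ = z := inv_eq_of_mul_eq_one_right (by rw [← pow_two, ← hz2]; exact pow_orderOf_eq_one z)
    have hinv : pr K t * d * (pr K t)⁻¹ = d⁻¹ := by
      rw [hd, mul_inv_rev, inv_eq_of_mul_eq_one_right hs2, inv_eq_of_mul_eq_one_right ht2, ← mul_assoc, ht2, one_mul]
    have hzt : z * pr K t = pr K t * z := by
      have h : pr K t * z * (pr K t)⁻¹ = z := by
        rw [hz, ← conj_pow, hinv, inv_pow]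
        exact hzz
      exact (mul_inv_eq_iff_eq_mul.1 h).symm
    have hzs : z * s = s * z := by
      have h : s = pr K t * d := by rw [hd, ← mul_assoc, ht2, one_mul]
      have hzd : z * d = d * z := ((Commute.refl d).pow_left _).eq
      rw [h, ← mul_assoc, hzt, mul_assoc, hzd, ← mul_assoc]
    obtain ⟨g, hg⟩ := hin z hz2 hzt
    obtain ⟨g', hg'⟩ := hin (g⁻¹ * s * g) (by
      have h := orderOf_injective (MulAut.conj g⁻¹).toMonoidHom (MulAut.conj g⁻¹).injective s
      rw [← hs, ← h]
      simp [MulAut.conj_apply]) (by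
      rw [show pr K t = g⁻¹ * z * g by rw [← hg]; group]
      calc g⁻¹ * s * g * (g⁻¹ * z * g) = g⁻¹ * (s * z) * g := by group
        _ = g⁻¹ * (z * s) * g := by rw [hzs]
        _ = g⁻¹ * z * g * (g⁻¹ * s * g) := by group)
    exact ⟨g * g', by
      calc g * g' * pr K t * (g * g')⁻¹ = g * (g' * pr K t * g'⁻¹) * g⁻¹ := by group
        _ = s := by rw [hg']; group⟩
  · exact conj_of_odd ht2 hs2 ho

end Cfsg.Lib.Classical.SUThree.Heis
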