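import Cfsg.Agent.Classical.SUThree.NoRoot
import Mathlib.FieldTheory.IsAlgClosed.AlgebraicClosure
import Mathlib.LinearAlgebra.Eigenspace.Minpoly
import Mathlib.LinearAlgebra.Matrix.Charpoly.Minpoly

/-!
An element of prime order prime to the characteristic, not scalar: either a homology, or regular
semisimple, and then its centraliser is abelian and the normaliser of that centraliser permutes the
three eigenlines.
-/

set_option autoImplicit false
set_option linter.unusedSectionVars false
set_option linter.style.haveILetI false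

namespace Cfsg.Lib.Classical.SUThree

open Cfsg.Lib.Classical Cfsg.Lib.Components.UnitaryThree Cfsg.Lib.Known.PSUThree
open Polynomial Matrix

universe u v

variable {F : Type u} [Field F]

/-- A matrix over `F` killed by a separable `X ^ r - 1` satisfies a quadratic over `F` or has three
distinct eigenvalues over the algebraic closure. -/
theorem quad_or_diag (A : Matrix (Fin 3) (Fin 3) F) {r : ℕ} (hr : (r : F) ≠ 0) (hA : A ^ r = 1) :
    (∃ b c : F, A * A + b • A + c • (1 : Matrix (Fin 3) (Fin 3) F) = 0) ∨
    ∃ (l : Fin 3 → AlgebraicClosure F) (Q : (Matrix (Fin 3) (Fin 3) (AlgebraicClosure F))ˣ),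
      Function.Injective l ∧ A.map (algebraMap F (AlgebraicClosure F)) * (Q : Matrix (Fin 3) (Fin 3) (AlgebraicClosure F)) =
        (Q : Matrix (Fin 3) (Fin 3) (AlgebraicClosure F)) * Matrix.diagonal l := by
  classical
  set K := AlgebraicClosure F
  set M : Matrix (Fin 3) (Fin 3) K := A.map (algebraMap F K) with hM
  set f : Module.End K (Fin 3 → K) := Matrix.toLinAlgEquiv' M with hf
  have hMr : M ^ r = 1 := by
    rw [hM, ← RingHom.mapMatrix_apply, ← map_pow, hA, map_one]
  have hfr : f ^ r = 1 := by rw [hf, ← map_pow, hMr, map_one]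
  have hrK : (r : K) ≠ 0 := by
    rw [← map_natCast (algebraMap F K)]; exact (_root_.map_ne_zero _).2 hr
  have hint : IsIntegral K f := Algebra.IsIntegral.isIntegral f
  have hmon := minpoly.monic hint
  have hdvd : minpoly K f ∣ X ^ r - C (1 : K) := minpoly.dvd K f (by simp [hfr])
  have hsep : (minpoly K f).Separable := (separable_X_pow_sub_C (1 : K) hrK one_ne_zero).of_dvd hdvd
  have hdeg : (minpoly K f).natDegree ≤ 3 := by
    have h := natDegree_le_of_dvd (LinearMap.minpoly_dvd_charpoly f) f.charpoly_monic.ne_zero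
    rwa [LinearMap.charpoly_natDegree, Module.finrank_fin_fun] at h
  rcases hdeg.lt_or_eq with hlt | heq
  · left
    set g := minpoly K f * X ^ (2 - (minpoly K f).natDegree) with hg
    have hgm : g.Monic := hmon.mul (monic_X_pow _)
    have hgd : g.natDegree = 2 := by
      rw [hg, hmon.natDegree_mul (monic_X_pow _), natDegree_X_pow]; omega
    have hg0 : aeval f g = 0 := by rw [hg, map_mul, minpoly.aeval, zero_mul]
    rw [aeval_eq_sum_range' (n := 3) (by omega)] at hg0
    have h2 : g.coeff 2 = 1 := by rw [← hgd]; exact hgm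
    simp only [Finset.sum_range_succ, Finset.sum_range_zero, zero_add, pow_zero, pow_one, h2, one_smul] at hg0
    have hK : g.coeff 0 • (1 : Matrix (Fin 3) (Fin 3) K) + g.coeff 1 • M + M ^ 2 = 0 :=
      Matrix.toLinAlgEquiv'.injective (by
        rw [map_add, map_add, map_smul, map_smul, map_pow, map_one, map_zero]; exact hg0)
    obtain ⟨π, hπ⟩ := (Algebra.linearMap F K).exists_leftInverse_of_injective
      (LinearMap.ker_eq_bot.2 (algebraMap F K).injective)
    have hπa : ∀ a : F, π (algebraMap F K a) = a := fun a => LinearMap.congr_fun hπ a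
    have hπm : ∀ (c : K) (a : F), π (c * algebraMap F K a) = π c * a := fun c a => by
      rw [mul_comm c, ← Algebra.smul_def, map_smul, smul_eq_mul, mul_comm]
    refine ⟨π (g.coeff 1), π (g.coeff 0), ?_⟩
    ext i j
    have hij := congrArg (fun N : Matrix (Fin 3) (Fin 3) K => π (N i j)) hK
    have hsq : (M ^ 2) i j = algebraMap F K ((A * A) i j) := by
      rw [pow_two, hM, ← Matrix.map_mul]; rfl
    simp only [Matrix.add_apply, Matrix.smul_apply, smul_eq_mul, map_add, hsq, hπa, Matrix.zero_apply,
      map_zero] at hij ⊢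
    rw [show M i j = algebraMap F K (A i j) from rfl, hπm] at hij
    rcases eq_or_ne i j with rfl | hne
    · simp only [Matrix.one_apply_eq, mul_one] at hij ⊢
      linear_combination hij
    · simp only [Matrix.one_apply_ne hne, mul_zero, map_zero] at hij ⊢
      linear_combination hij
  · right
    have hcard : (minpoly K f).roots.toFinset.card = 3 := by
      rw [Multiset.toFinset_card_of_nodup (nodup_roots hsep), IsAlgClosed.card_roots_eq_natDegree, heq]
    set e := (minpoly K f).roots.toFinset.equivFinOfCardEq hcard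
    set l : Fin 3 → K := fun i => (e.symm i).1
    have hl : Function.Injective l := fun i j h => e.symm.injective (Subtype.ext h)
    have hev : ∀ i, f.HasEigenvalue (l i) := fun i => by
      refine Module.End.hasEigenvalue_of_isRoot ?_
      have h := (e.symm i).2
      rw [Multiset.mem_toFinset, mem_roots hmon.ne_zero] at h
      exact h
    choose v hv using fun i => (hev i).exists_hasEigenvector
    set P : Matrix (Fin 3) (Fin 3) K := Matrix.of fun i j => v j i with hP
    have hPu : IsUnit P := by
      rw [← Matrix.linearIndependent_cols_iff_isUnit]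
      exact f.eigenvectors_linearIndependent' l hl v hv
    refine ⟨l, hPu.unit, hl, ?_⟩
    rw [IsUnit.unit_spec]
    ext i j
    have h := congrFun (hv j).apply_eq_smul i
    rw [Pi.smul_apply, smul_eq_mul, hf, Matrix.toLinAlgEquiv'_apply] at h
    rw [Matrix.mul_diagonal, Matrix.mul_apply]
    simp only [hP, Matrix.of_apply]
    rw [mul_comm, ← h]
    rfl

/-- A matrix conjugating a regular diagonal matrix to a diagonal one is monomial. -/
theorem monomial_of_conj {K : Type*} [Field K] {l μ : Fin 3 → K} (hl : Function.Injective l)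
    {N : Matrix (Fin 3) (Fin 3) K} (hN : IsUnit N) (h : N * Matrix.diagonal l = Matrix.diagonal μ * N) :
    ∃ s : Equiv.Perm (Fin 3), ∀ i j, N i j ≠ 0 ↔ j = s i := by
  classical
  have hdet : N.det ≠ 0 := ((Matrix.isUnit_iff_isUnit_det N).1 hN).ne_zero
  have hrow : ∀ i, ∃ j, N i j ≠ 0 := fun i => by
    by_contra! h0
    exact hdet (Matrix.det_eq_zero_of_row_eq_zero i h0)
  have hcol : ∀ j, ∃ i, N i j ≠ 0 := fun j => by
    by_contra! h0
    exact hdet (Matrix.det_eq_zero_of_column_eq_zero j h0)
  have key : ∀ i j, N i j ≠ 0 → l j = μ i := fun i j hij => by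
    have e := congrFun (congrFun h i) j
    rw [Matrix.mul_diagonal, Matrix.diagonal_mul, mul_comm (μ i)] at e
    exact mul_left_cancel₀ hij e
  choose s hs using hrow
  have huniq : ∀ i j, N i j ≠ 0 → j = s i := fun i j hij => hl ((key i j hij).trans (key i _ (hs i)).symm)
  have hsurj : Function.Surjective s := fun j => by
    obtain ⟨i, hi⟩ := hcol j
    exact ⟨i, (huniq i j hi).symm⟩
  exact ⟨Equiv.ofBijective s (Finite.injective_iff_surjective.2 hsurj |> fun hi => ⟨hi, hsurj⟩),
    fun i j => ⟨huniq i j, fun e => e ▸ hs i⟩⟩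

theorem perm_unique {K : Type*} [Field K] {N : Matrix (Fin 3) (Fin 3) K} {s t : Equiv.Perm (Fin 3)}
    (hs : ∀ i j, N i j ≠ 0 ↔ j = s i) (ht : ∀ i j, N i j ≠ 0 → j = t i) : s = t :=
  Equiv.ext fun i => ht i _ ((hs i _).2 rfl)

theorem diagonal_of_comm {K : Type*} [Field K] {l : Fin 3 → K} (hl : Function.Injective l)
    {N : Matrix (Fin 3) (Fin 3) K} (h : N * Matrix.diagonal l = Matrix.diagonal l * N) :
    N = Matrix.diagonal fun i => N i i := by
  ext i j
  rcases eq_or_ne i j with rfl | hne
  · rw [Matrix.diagonal_apply_eq]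
  · rw [Matrix.diagonal_apply_ne _ hne]
    have e := congrFun (congrFun h i) j
    rw [Matrix.mul_diagonal, Matrix.diagonal_mul, mul_comm (l i)] at e
    by_contra h0
    exact hne (hl (mul_left_cancel₀ h0 e)).symm

variable [Finite F] {V : Type v} [AddCommGroup V] [Module F V] [FiniteDimensional F V] {H : HermSpace F V}

/-- The homology case: two eigenvalues in `F`. -/
theorem homology_of_two (hd : Module.finrank F V = 3) {u : H.SIsom}
    (hns : ∀ a : F, ∃ x, u.1.1 x ≠ a • x) {a b : F} (hab : a ≠ b)
    (h : ∀ x, u.1.1 (u.1.1 x - b • x) = a • (u.1.1 x - b • x)) :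
    ∃ (z : V) (rho a : F), H.h z z ≠ 0 ∧ rho ≠ 1 ∧ u.1.1 z = (rho * a) • z ∧ ∀ x, H.h x z = 0 → u.1.1 x = a • x := by
  set T : V →ₗ[F] V := u.1.1.toLinearMap
  set Ea := LinearMap.ker (T - a • LinearMap.id)
  set Eb := LinearMap.ker (T - b • LinearMap.id)
  have hma : ∀ x, x ∈ Ea ↔ u.1.1 x = a • x := fun x => by
    simp only [Ea, LinearMap.mem_ker, LinearMap.sub_apply, LinearMap.smul_apply, LinearMap.id_apply, sub_eq_zero]
    rfl
  have hmb : ∀ x, x ∈ Eb ↔ u.1.1 x = b • x := fun x => by
    simp only [Eb, LinearMap.mem_ker, LinearMap.sub_apply, LinearMap.smul_apply, LinearMap.id_apply, sub_eq_zero]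
    rfl
  have hinf : Ea ⊓ Eb = ⊥ := by
    refine (Submodule.eq_bot_iff _).2 fun x hx => ?_
    have h1 := (hma x).1 hx.1
    rw [(hmb x).1 hx.2] at h1
    have h2 : (b - a) • x = 0 := by rw [sub_smul, h1, sub_self]
    exact (smul_eq_zero.1 h2).resolve_left (sub_ne_zero.2 hab.symm)
  have hsup : Ea ⊔ Eb = ⊤ := by
    refine eq_top_iff.2 fun x _ => ?_
    have ha' := (hma _).2 (h x)
    have hb' : u.1.1 x - a • x ∈ Eb := by
      refine (hmb _).2 ?_
      have h1 := h x
      rw [map_sub, map_smul, smul_sub, smul_smul] at h1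
      rw [map_sub, map_smul, smul_sub, smul_smul, mul_comm b a]
      linear_combination (norm := module) h1
    have e : x = (a - b)⁻¹ • (u.1.1 x - b • x) + (-(a - b)⁻¹) • (u.1.1 x - a • x) := by
      have h0 : a - b ≠ 0 := sub_ne_zero.2 hab
      match_scalars <;> field_simp <;> ring
    rw [e]
    exact Submodule.add_mem_sup (Ea.smul_mem _ ha') (Eb.smul_mem _ hb')
  have hdim := Submodule.finrank_sup_add_finrank_inf_eq Ea Eb
  rw [hinf, hsup, finrank_bot, finrank_top, hd, add_zero] at hdim
  have hne : ∀ (E : Submodule F V) (c : F), (∀ x, x ∈ E ↔ u.1.1 x = c • x) → Module.finrank F E < 3 := by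
    intro E c hE
    refine hd ▸ Submodule.finrank_lt fun htop => ?_
    obtain ⟨x, hx⟩ := hns c
    exact hx ((hE x).1 (htop ▸ Submodule.mem_top))
  have hA3 := hne Ea a hma
  have hB3 := hne Eb b hmb
  have main : ∀ (W E : Submodule F V) (c d : F), c ≠ d → (∀ x, x ∈ W ↔ u.1.1 x = c • x) →
      (∀ x, x ∈ E ↔ u.1.1 x = d • x) → Module.finrank F W = 2 → W ⊔ E = ⊤ → Module.finrank F E ≠ 0 →
      ∃ (z : V) (rho a : F), H.h z z ≠ 0 ∧ rho ≠ 1 ∧ u.1.1 z = (rho * a) • z ∧ ∀ x, H.h x z = 0 → u.1.1 x = a • x := by
    intro W E c d hcd hW hE h2 hWE h1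
    obtain ⟨z, hzE, hz0⟩ : ∃ z ∈ E, z ≠ 0 := Submodule.exists_mem_ne_zero_of_ne_bot fun e => h1 (by rw [e, finrank_bot])
    have hcirc : c * H.σ c = 1 := by
      by_contra hc
      have hle : W ≤ H.orth W := fun x hx y hy => by
        have e := H.map_form u.1 x y
        rw [(hW x).1 hx, (hW y).1 hy, H.smul_left, H.smul_right, ← mul_assoc] at e
        by_contra hxy
        exact hc (mul_right_cancel₀ hxy (by rw [one_mul]; exact e))
      have := Submodule.finrank_mono hle
      rw [H.finrank_orth, hd, h2] at this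
      omega
    have hperp : ∀ x ∈ W, H.h x z = 0 := fun x hx => by
      have e := H.map_form u.1 x z
      rw [(hW x).1 hx, (hE z).1 hzE, H.smul_left, H.smul_right, ← mul_assoc] at e
      by_contra hxz
      have h3 : c * H.σ d = 1 := mul_right_cancel₀ hxz (by rw [one_mul]; exact e)
      refine hcd (H.σ.injective (mul_left_cancel₀ (left_ne_zero_of_mul_eq_one hcirc) ?_))
      rw [hcirc, h3]
    have hle : W ≤ H.orth (Submodule.span F {z}) := fun x hx => H.mem_orth_span.2 fun w hw => by
      rw [Set.mem_singleton_iff.1 hw]; exact hperp x hx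
    have heq : W = H.orth (Submodule.span F {z}) :=
      Submodule.eq_of_le_of_finrank_eq hle (by rw [h2, H.finrank_orth, hd, finrank_span_singleton hz0])
    have hzz : H.h z z ≠ 0 := fun h0 => by
      have hzW : z ∈ W := heq ▸ H.mem_orth_span.2 fun w hw => by rw [Set.mem_singleton_iff.1 hw]; exact h0
      have e := (hW z).1 hzW
      rw [(hE z).1 hzE] at e
      exact hcd (smul_left_injective F hz0 e).symm
    have hc0 : c ≠ 0 := left_ne_zero_of_mul_eq_one hcirc
    refine ⟨z, d / c, c, hzz, fun e => hcd ((div_eq_one_iff_eq hc0).1 e).symm,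
      by rw [div_mul_cancel₀ _ hc0]; exact (hE z).1 hzE, fun x hx => (hW x).1 ?_⟩
    rw [heq]
    exact H.mem_orth_span.2 fun w hw => by rw [Set.mem_singleton_iff.1 hw]; exact hx
  rcases Nat.lt_or_ge (Module.finrank F Ea) 2 with h2 | h2
  · exact main Eb Ea b a hab.symm hmb hma (by omega) (by rw [sup_comm, hsup]) (by omega)
  · exact main Ea Eb a b hab hma hmb (by omega) hsup (by omega)

/-- A non-scalar map satisfying a quadratic on a 3-space, of order prime to the characteristic, has two
eigenvalues in the field. -/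
theorem two_of_quad (hd : Module.finrank F V = 3) (T : Module.End F V) (hns : ∀ a : F, ∃ x, T x ≠ a • x)
    {r : ℕ} (hr : (r : F) ≠ 0) (hT : T ^ r = 1) {b c : F} (hq : ∀ x, T (T x) + b • T x + c • x = 0) :
    ∃ a a' : F, a ≠ a' ∧ ∀ x, T (T x - a' • x) = a • (T x - a' • x) := by
  obtain ⟨a, ha⟩ : ∃ a : F, a * a + b * a + c = 0 := by
    haveI : Nontrivial V := Module.nontrivial_of_finrank_pos (R := F) (by omega)
    obtain ⟨v, hv⟩ := exists_ne (0 : V)
    by_cases hev : ∃ a : F, T v = a • v
    · obtain ⟨a, ha⟩ := hev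
      refine ⟨a, ?_⟩
      have h := hq v
      rw [ha, map_smul, ha, smul_smul, smul_smul, ← add_smul, ← add_smul] at h
      exact (smul_eq_zero.1 h).resolve_right hv
    · set W := Submodule.span F (Set.range ![v, T v]) with hW
      have hli : LinearIndependent F ![v, T v] :=
        (LinearIndependent.pair_iff' hv).2 fun a h => hev ⟨a, h.symm⟩
      have hW2 : Module.finrank F W = 2 := by
        rw [hW, finrank_span_eq_card hli, Fintype.card_fin]
      obtain ⟨x, hx⟩ : ∃ x, x ∉ W := by
        by_contra! hall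
        rw [show W = ⊤ from eq_top_iff.2 fun y _ => hall y, finrank_top, hd] at hW2
        omega
      have hvW : v ∈ W := Submodule.subset_span ⟨0, rfl⟩
      have hTvW : T v ∈ W := Submodule.subset_span ⟨1, rfl⟩
      have hWT : ∀ w ∈ W, T w ∈ W := by
        intro w hw
        induction hw using Submodule.span_induction with
        | mem w hw =>
          obtain ⟨i, rfl⟩ := hw
          fin_cases i
          · exact hTvW
          · show T (T v) ∈ W
            rw [show T (T v) = -(b • T v) + -(c • v) by linear_combination (norm := module) hq v]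
            exact W.add_mem (W.neg_mem (W.smul_mem _ hTvW)) (W.neg_mem (W.smul_mem _ hvW))
        | zero => rw [map_zero]; exact W.zero_mem
        | add y z _ _ hy hz => rw [map_add]; exact W.add_mem hy hz
        | smul k y _ hy => rw [map_smul]; exact W.smul_mem k hy
      have hxtop : W ⊔ Submodule.span F {x} = ⊤ := by
        refine Submodule.eq_top_of_finrank_eq (le_antisymm (Submodule.finrank_le _) ?_)
        have hlt : W < W ⊔ Submodule.span F {x} := lt_of_le_of_ne le_sup_left fun e =>
          hx (e ▸ Submodule.mem_sup_right (Submodule.mem_span_singleton_self x))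
        have := Submodule.finrank_lt_finrank_of_lt hlt
        omega
      obtain ⟨w, hw, y, hy, hwy⟩ := Submodule.mem_sup.1 (hxtop ▸ (Submodule.mem_top : T x ∈ ⊤))
      obtain ⟨a, rfl⟩ := Submodule.mem_span_singleton.1 hy
      refine ⟨a, ?_⟩
      have h := hq x
      rw [← hwy, map_add, map_smul, ← hwy] at h
      have hmem : (a * a + b * a + c) • x ∈ W := by
        rw [show (a * a + b * a + c) • x = -(T w + (a + b) • w) by linear_combination (norm := module) h]
        exact W.neg_mem (W.add_mem (hWT w hw) (W.smul_mem _ hw))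
      by_contra hne
      exact hx ((W.smul_mem_iff hne).1 hmem)
  refine ⟨a, -b - a, fun e => ?_, fun x => ?_⟩
  · -- a double eigenvalue would make the map scalar
    have hb : b = -(a + a) := by linear_combination e
    have hc : c = a * a := by linear_combination ha - a * hb
    have hN : ∀ x, T (T x - a • x) = a • (T x - a • x) := fun x => by
      have h := hq x
      rw [hb, hc] at h
      rw [map_sub, map_smul]
      linear_combination (norm := module) h
    have hpow : ∀ (n : ℕ) (x : V), (T ^ (n + 1)) x = a ^ (n + 1) • x + ((n + 1 : ℕ) : F) • a ^ n • (T x - a • x) := by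
      intro n
      induction n with
      | zero => intro x; simp
      | succ n ih =>
        intro x
        rw [pow_succ' T (n + 1), Module.End.mul_apply, ih, map_add, map_smul, map_smul, map_smul, hN]
        push_cast
        match_scalars <;> ring
    obtain ⟨x, hx⟩ := hns a
    obtain ⟨n, rfl⟩ : ∃ n, r = n + 1 := Nat.exists_eq_succ_of_ne_zero fun h0 => hr (by rw [h0, Nat.cast_zero])
    have hx0 : T x - a • x ≠ 0 := sub_ne_zero.2 hx
    have h1 : ∀ y, a ^ (n + 1) • y + ((n + 1 : ℕ) : F) • a ^ n • (T y - a • y) = y := fun y => by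
      rw [← hpow, hT, Module.End.one_apply]
    have h2 := h1 (T x - a • x)
    rw [hN, sub_self, smul_zero, smul_zero, add_zero] at h2
    have han : a ^ (n + 1) = 1 := smul_left_injective F hx0 (h2.trans (one_smul F _).symm)
    have h3 := h1 x
    rw [han, one_smul, add_eq_left, smul_eq_zero, smul_eq_zero] at h3
    have ha0 : a ≠ 0 := fun h0 => by rw [h0, zero_pow (Nat.succ_ne_zero n)] at han; exact zero_ne_one han
    rcases h3 with h3 | h3 | h3
    · exact hr h3
    · exact pow_ne_zero n ha0 h3
    · exact hx0 h3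
  · have h := hq x
    rw [map_sub, map_smul]
    have hc : c = -(a * a) - b * a := by linear_combination ha
    rw [hc] at h
    linear_combination (norm := module) h

/-- A non-scalar element of prime order prime to the characteristic is a homology or regular semisimple. -/
theorem regular_cases (hd : Module.finrank F V = 3) {u : H.SIsom} {r : ℕ} (_hr : r.Prime) (hrF : (r : F) ≠ 0)
    (hu : u ^ r = 1) (hns : ∀ a : F, ∃ x, u.1.1 x ≠ a • x) :
    (∃ (z : V) (rho a : F), H.h z z ≠ 0 ∧ rho ≠ 1 ∧ u.1.1 z = (rho * a) • z ∧ ∀ x, H.h x z = 0 → u.1.1 x = a • x) ∨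
    ((∀ a b, a * u = u * a → b * u = u * b → a * b = b * a) ∧
      (∀ (p : ℕ) [CharP F p], p.Prime → ∀ c, c * u = u * c → c ^ p = 1 → c = 1) ∧
      ∃ phi : Subgroup.normalizer ((Subgroup.centralizer {u} : Subgroup H.SIsom) : Set H.SIsom) →* Equiv.Perm (Fin 3),
        ∀ n, phi n = 1 ↔ n.1 * u = u * n.1) := by
  classical
  let bs := Module.finBasisOfFinrankEq F V hd
  let lin : H.SIsom →* Module.End F V :=
    { toFun := fun g => g.1.1.toLinearMap, map_one' := rfl, map_mul' := fun _ _ => rfl }
  have hlin : Function.Injective lin := fun g g' h =>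
    Subtype.ext (H.isom_ext fun x => LinearMap.congr_fun h x)
  let mat : H.SIsom →* Matrix (Fin 3) (Fin 3) F :=
    (LinearMap.toMatrixAlgEquiv bs).toAlgHom.toRingHom.toMonoidHom.comp lin
  have hAr : mat u ^ r = 1 := by rw [← map_pow, hu, map_one]
  rcases quad_or_diag (mat u) hrF hAr with ⟨b, c, hq⟩ | ⟨l, Q, hl, hQ⟩
  · left
    have hq' : lin u * lin u + b • lin u + c • (1 : Module.End F V) = 0 :=
      (LinearMap.toMatrixAlgEquiv bs).injective (by
        rw [map_add, map_add, map_smul, map_smul, map_mul, map_one, map_zero]; exact hq)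
    obtain ⟨a, a', haa, ha⟩ := two_of_quad hd (lin u) hns hrF (by rw [← map_pow, hu, map_one])
      (fun x => LinearMap.congr_fun hq' x)
    exact homology_of_two hd hns haa ha
  right
  let P : H.SIsom →* Matrix (Fin 3) (Fin 3) (AlgebraicClosure F) :=
    { toFun := fun g => (↑Q⁻¹ : Matrix (Fin 3) (Fin 3) (AlgebraicClosure F)) *
        (mat g).map (algebraMap F (AlgebraicClosure F)) * ↑Q
      map_one' := by rw [map_one, Matrix.map_one _ (map_zero _) (map_one _), Matrix.mul_one, Units.inv_mul]
      map_mul' := fun g g' => by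
        rw [map_mul, Matrix.map_mul]
        simp only [Matrix.mul_assoc, Units.mul_inv_cancel_left] }
  have hPinj : Function.Injective P := fun g g' h => by
    refine hlin ((LinearMap.toMatrixAlgEquiv bs).injective (Matrix.map_injective (algebraMap F (AlgebraicClosure F)).injective ?_))
    exact Units.mul_right_inj _ |>.1 ((Units.mul_left_inj Q).1 h)
  have hPu : P u = Matrix.diagonal l := by
    show (↑Q⁻¹ : Matrix (Fin 3) (Fin 3) (AlgebraicClosure F)) *
      (mat u).map (algebraMap F (AlgebraicClosure F)) * (Q : Matrix (Fin 3) (Fin 3) (AlgebraicClosure F)) = _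
    rw [Matrix.mul_assoc, hQ, ← Matrix.mul_assoc, Units.inv_mul, Matrix.one_mul]
  have hdiag : ∀ g, g * u = u * g → P g = Matrix.diagonal fun i => P g i i := fun g hg =>
    diagonal_of_comm hl (by rw [← hPu, ← map_mul, hg, map_mul])
  refine ⟨fun a b ha hb => hPinj ?_, fun p _ hp c hc hcp => hPinj ?_, ?_⟩
  · rw [map_mul, map_mul, hdiag a ha, hdiag b hb, Matrix.diagonal_mul_diagonal, Matrix.diagonal_mul_diagonal]
    exact congrArg Matrix.diagonal (funext fun i => mul_comm _ _)
  · haveI : CharP (AlgebraicClosure F) p := charP_of_injective_algebraMap (algebraMap F (AlgebraicClosure F)).injective p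
    haveI : Fact p.Prime := ⟨hp⟩
    have h := congrArg P hcp
    rw [map_pow, map_one, hdiag c hc, Matrix.diagonal_pow, ← Matrix.diagonal_one] at h
    rw [map_one, hdiag c hc, ← Matrix.diagonal_one]
    refine congrArg Matrix.diagonal (funext fun i => frobenius_inj (AlgebraicClosure F) p ?_)
    rw [frobenius_def, frobenius_def, one_pow]
    exact congrFun (Matrix.diagonal_injective h) i
  set NN := Subgroup.normalizer ((Subgroup.centralizer {u} : Subgroup H.SIsom) : Set H.SIsom)
  have hex : ∀ n : NN, ∃ s : Equiv.Perm (Fin 3), ∀ i j, P n.1 i j ≠ 0 ↔ j = s i := by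
    intro n
    have hw : n.1 * u * n.1⁻¹ ∈ Subgroup.centralizer {u} :=
      (Subgroup.mem_normalizer_iff.1 n.2 u).1 (Subgroup.mem_centralizer_singleton_iff.2 rfl)
    refine monomial_of_conj hl (μ := fun i => P (n.1 * u * n.1⁻¹) i i) ?_ ?_
    · exact (Group.isUnit n.1).map P
    · rw [← hdiag _ (Subgroup.mem_centralizer_singleton_iff.1 hw), ← hPu, ← map_mul, ← map_mul]
      congr 1
      group
  choose s hs using hex
  refine ⟨MonoidHom.mk' (fun n => (s n)⁻¹) fun n n' => ?_, fun n => ⟨fun hn => ?_, fun hn => ?_⟩⟩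
  · rw [← _root_.mul_inv_rev]
    refine congrArg Inv.inv (perm_unique (hs (n * n')) fun i k hik => ?_)
    rw [show P (n * n').1 = P n.1 * P n'.1 from map_mul P _ _, Matrix.mul_apply] at hik
    obtain ⟨j, -, hj⟩ := Finset.exists_ne_zero_of_sum_ne_zero hik
    rw [Equiv.Perm.mul_apply, ← (hs n i j).1 (left_ne_zero_of_mul hj)]
    exact (hs n' j k).1 (right_ne_zero_of_mul hj)
  · have h1 : s n = 1 := inv_eq_one.1 hn
    have hd' : P n.1 = Matrix.diagonal fun i => P n.1 i i := by
      ext i j
      rcases eq_or_ne i j with rfl | hne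
      · rw [Matrix.diagonal_apply_eq]
      · rw [Matrix.diagonal_apply_ne _ hne]
        by_contra h0
        exact hne (((hs n i j).1 h0).trans (by rw [h1, Equiv.Perm.one_apply])).symm
    refine hPinj ?_
    rw [map_mul, map_mul, hPu, hd', Matrix.diagonal_mul_diagonal, Matrix.diagonal_mul_diagonal]
    exact congrArg Matrix.diagonal (funext fun i => mul_comm _ _)
  · refine inv_eq_one.2 (perm_unique (hs n) fun i j hij => ?_)
    rw [hdiag n.1 hn] at hij
    by_contra hne
    exact hij (Matrix.diagonal_apply_ne _ (fun e => hne (by rw [e, Equiv.Perm.one_apply])))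

end Cfsg.Lib.Classical.SUThree
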