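import Cfsg.Agent.Classical.SUThree.CaseOne
import Cfsg.Agent.Classical.SUThree.Regular
import Cfsg.Agent.Classical.Unitary.FrameBasic
import Cfsg.Agent.Classical.Misc.ExtraThree

/-!
The normaliser of a Heisenberg group of order twenty-seven in a three-dimensional special unitary group, in a frame,
and generalities about the quotient by the scalars.
-/

set_option autoImplicit false
set_option linter.unusedSectionVars false
set_option linter.unusedSimpArgs false
set_option linter.style.haveILetI false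
set_option linter.unusedTactic false
set_option linter.unreachableTactic false

namespace Cfsg.Lib.Classical.SUThree.Heis

open Cfsg.Lib.Classical Cfsg.Lib.Components.UnitaryThree Cfsg.Lib.Known.PSUThree
open Cfsg.Lib.Classical.ExtraThree (dA mB root_pow root_ne)
open scoped Matrix LinearAlgebra.Projectivization

universe u v

variable {F : Type u} [Field F] {V : Type v} [AddCommGroup V] [Module F V] {H : HermSpace F V}

/-- The Fourier matrix. -/
def fA (ω : F) : Matrix (Fin 3) (Fin 3) F := (1 + 2 * ω)⁻¹ • !![1, 1, 1; 1, ω, ω ^ 2; 1, ω ^ 2, ω]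

/-- The Fourier matrix twisted by a diagonal element. -/
def gA (ω : F) : Matrix (Fin 3) (Fin 3) F :=
  (1 + 2 * ω)⁻¹ • !![1, ω ^ 2, ω ^ 2; ω, ω, ω ^ 2; ω, ω ^ 2, ω]

/-- Minus the transposition of the last two vectors. -/
def tA : Matrix (Fin 3) (Fin 3) F := !![-1, 0, 0; 0, 0, -1; 0, -1, 0]

section Matrices

theorem dA_eq (ω : F) : dA ω = !![1, 0, 0; 0, ω, 0; 0, 0, ω ^ 2] := by
  ext i j
  fin_cases i <;> fin_cases j <;> simp [dA]

variable {ω : F} (hw : ω ^ 2 + ω + 1 = 0) (h3 : (3 : F) ≠ 0)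
include hw

theorem fA_dA : fA ω * dA ω = (mB * mB) * fA ω := by
  rw [fA, smul_mul_assoc, mul_smul_comm]
  congr 1
  ext i j
  fin_cases i <;> fin_cases j <;>
    simp [dA_eq, mB, Matrix.mul_apply, Fin.sum_univ_three] <;> grind

theorem fA_mB : fA ω * mB = dA ω * fA ω := by
  rw [fA, smul_mul_assoc, mul_smul_comm]
  congr 1
  ext i j
  fin_cases i <;> fin_cases j <;>
    simp [dA_eq, mB, Matrix.mul_apply, Fin.sum_univ_three] <;> grind

theorem gA_dA : (dA ω * (mB * mB)) * gA ω = ω • (gA ω * dA ω) := by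
  rw [gA, smul_mul_assoc, mul_smul_comm, smul_comm ω]
  congr 1
  ext i j
  fin_cases i <;> fin_cases j <;>
    simp [dA_eq, mB, Matrix.mul_apply, Fin.sum_univ_three] <;> grind

theorem dA_mB : dA ω * mB = ω • (mB * dA ω) := by
  ext i j
  fin_cases i <;> fin_cases j <;>
    simp [dA_eq, mB, Matrix.mul_apply, Fin.sum_univ_three] <;> grind

theorem dA_cube : dA ω * (dA ω * dA ω) = 1 := by
  ext i j
  fin_cases i <;> fin_cases j <;>
    simp [dA_eq, mB, Matrix.mul_apply, Fin.sum_univ_three] <;> grind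

omit hw in
theorem mB_cube : (mB : Matrix (Fin 3) (Fin 3) F) * (mB * mB) = 1 := by
  ext i j
  fin_cases i <;> fin_cases j <;>
    simp [dA_eq, mB, Matrix.mul_apply, Fin.sum_univ_three] <;> grind

omit hw in
theorem tA_sq : (tA : Matrix (Fin 3) (Fin 3) F) * tA = 1 := by
  ext i j
  fin_cases i <;> fin_cases j <;> simp [tA, Matrix.mul_apply, Fin.sum_univ_three]

include h3

theorem theta_ne : (1 + 2 * ω : F) ≠ 0 := fun e => h3 (by linear_combination 4 * hw - (1 + 2 * ω) * e)

theorem scale_sq (A B C : Matrix (Fin 3) (Fin 3) F) (h : A * B = (-3 : F) • C) :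
    ((1 + 2 * ω)⁻¹ • A) * ((1 + 2 * ω)⁻¹ • B) = C := by
  have h2 : (1 + 2 * ω) * (1 + 2 * ω) = -3 := by linear_combination 4 * hw
  rw [smul_mul_smul_comm, h, smul_smul, ← h2, ← mul_inv, inv_mul_cancel₀ (mul_ne_zero (theta_ne hw h3) (theta_ne hw h3)),
    one_smul]

theorem fA_sq : fA ω * fA ω = tA := by
  refine scale_sq hw h3 _ _ _ ?_
  ext i j
  fin_cases i <;> fin_cases j <;> simp [tA, Matrix.mul_apply, Fin.sum_univ_three] <;> grind

theorem gA_sq : gA ω * gA ω = tA := by
  refine scale_sq hw h3 _ _ _ ?_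
  ext i j
  fin_cases i <;> fin_cases j <;> simp [tA, Matrix.mul_apply, Fin.sum_univ_three] <;> grind

theorem gA_fA : gA ω * fA ω = tA * (fA ω * gA ω) := by
  rw [gA, fA, smul_mul_smul_comm, smul_mul_smul_comm, mul_smul_comm]
  congr 1
  ext i j
  fin_cases i <;> fin_cases j <;> simp [tA, Matrix.mul_apply, Fin.sum_univ_three] <;> grind

end Matrices

/-- The element has the given matrix in the frame. -/
def Has (U : UFrame H (Fin 3)) (g : H.SIsom) (M : Matrix (Fin 3) (Fin 3) F) : Prop :=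
  ∀ j, g.1.1 (U.b j) = ∑ i, M i j • U.b i

variable {U : UFrame H (Fin 3)}

theorem Has.one [FiniteDimensional F V] : Has U 1 1 := fun j => by
  simp [Matrix.one_apply]

theorem Has.mul {g k : H.SIsom} {M N : Matrix (Fin 3) (Fin 3) F} (h : Has U g M) (h' : Has U k N) :
    Has U (g * k) (M * N) := fun j => by
  rw [H.smul_mul_apply, h' j, map_sum]
  simp only [map_smul, h _, Finset.smul_sum, smul_smul, Matrix.mul_apply, Finset.sum_smul]
  rw [Finset.sum_comm]
  refine Finset.sum_congr rfl fun i _ => Finset.sum_congr rfl fun l _ => ?_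
  rw [mul_comm]

theorem ext_frame {f f' : V →ₗ[F] V} (h : ∀ i, f (U.b i) = f' (U.b i)) (x : V) : f x = f' x :=
  LinearMap.congr_fun (U.b.ext h) x

theorem Has.smul_ext {g k : H.SIsom} {M : Matrix (Fin 3) (Fin 3) F} {c : F} (h : Has U g (c • M))
    (h' : Has U k M) (x : V) : g.1.1 x = c • k.1.1 x := by
  refine ext_frame (U := U) (f := g.1.1.toLinearMap) (f' := c • k.1.1.toLinearMap) (fun i => ?_) x
  rw [LinearMap.smul_apply, LinearEquiv.coe_coe, LinearEquiv.coe_coe, h i, h' i, Finset.smul_sum]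
  simp only [Matrix.smul_apply, smul_eq_mul, smul_smul]

theorem Has.ext {g k : H.SIsom} {M : Matrix (Fin 3) (Fin 3) F} (h : Has U g M) (h' : Has U k M) : g = k :=
  H.sisom_ext fun x => by
    rw [Has.smul_ext (c := (1 : F)) (by rwa [one_smul]) h' x, one_smul]

/-- The element acts diagonally in the frame. -/
def Dg (U : UFrame H (Fin 3)) (g : H.SIsom) (d : Fin 3 → F) : Prop := ∀ i, g.1.1 (U.b i) = d i • U.b i

theorem Dg.mul {g k : H.SIsom} {d e : Fin 3 → F} (h : Dg U g d) (h' : Dg U k e) : Dg U (g * k) (d * e) := fun i => by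
  rw [H.smul_mul_apply, h' i, map_smul, h i, smul_smul, Pi.mul_apply, mul_comm]

theorem Dg.pow {g : H.SIsom} {d : Fin 3 → F} (h : Dg U g d) : ∀ n : ℕ, Dg U (g ^ n) (d ^ n)
  | 0 => fun i => by simp
  | n + 1 => by rw [pow_succ, pow_succ]; exact (h.pow n).mul h

theorem Dg.ext {g k : H.SIsom} {d : Fin 3 → F} (h : Dg U g d) (h' : Dg U k d) : g = k :=
  H.sisom_ext fun x => ext_frame (U := U) (f := g.1.1.toLinearMap) (f' := k.1.1.toLinearMap)
    (fun i => by rw [LinearEquiv.coe_coe, LinearEquiv.coe_coe, h i, h' i]) x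

theorem Dg.ne_zero {g : H.SIsom} {d : Fin 3 → F} (h : Dg U g d) (i : Fin 3) : d i ≠ 0 := fun e =>
  H.isom_ne_zero g.1 (U.b.ne_zero i) (by rw [h i, e, zero_smul])

theorem Dg.scalar {g : H.SIsom} {d : Fin 3 → F} (h : Dg U g d) {a : F} (ha : ∀ i, d i = a) (x : V) :
    g.1.1 x = a • x :=
  ext_frame (U := U) (f := g.1.1.toLinearMap) (f' := a • LinearMap.id)
    (fun i => by rw [LinearEquiv.coe_coe, h i, ha, LinearMap.smul_apply, LinearMap.id_apply]) x

theorem Has.dg {g : H.SIsom} {d : Fin 3 → F} (h : Has U g (Matrix.diagonal d)) : Dg U g d := fun j => by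
  rw [h j, Finset.sum_eq_single j]
  · rw [Matrix.diagonal_apply_eq]
  · intro i _ hij
    rw [Matrix.diagonal_apply_ne _ hij, zero_smul]
  · simp

variable [Finite F] [FiniteDimensional F V] {K : Subgroup H.SIsom}

theorem Dg.prod {g : H.SIsom} {d : Fin 3 → F} (h : Dg U g d) : d 0 * d 1 * d 2 = 1 := by
  have hd : Module.finrank F V = 3 := by rw [Module.finrank_eq_card_basis U.b, Fintype.card_fin]
  refine eig_prod hd g ?_ (h 0) (h 1) (h 2)
  convert U.b.linearIndependent using 1
  funext i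
  fin_cases i <;> rfl

/-- The data: a group containing the normaliser. -/
structure Model (K : Subgroup H.SIsom) (U : UFrame H (Fin 3)) (ω : F) (X Y W G : K) : Prop where
  root : ω ^ 2 + ω + 1 = 0
  two : (2 : F) ≠ 0
  three : (3 : F) ≠ 0
  hX : Has U X.1 (dA ω)
  hY : Has U Y.1 mB
  hW : Has U W.1 (fA ω)
  hG : Has U G.1 (gA ω)

/-- The scalars in the group. -/
noncomputable def Zs (K : Subgroup H.SIsom) : Subgroup K := (Subgroup.center H.SIsom).subgroupOf K

instance (K : Subgroup H.SIsom) : (Zs K).Normal := by rw [Zs]; infer_instance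

/-- The quotient by the scalars. -/
abbrev Qt (K : Subgroup H.SIsom) := K ⧸ Zs K

/-- The projection. -/
noncomputable abbrev pr (K : Subgroup H.SIsom) : K →* Qt K := QuotientGroup.mk' (Zs K)

section Quot

variable (hd : Module.finrank F V = 3)
include hd

theorem central_iff {g : H.SIsom} : g ∈ Subgroup.center H.SIsom ↔ ∃ a : F, ∀ x, g.1.1 x = a • x := by
  have h2 : 2 ≤ Module.finrank F V := by omega
  rw [H.mem_center_SIsom_iff h2]
  refine ⟨fun ⟨a, _, _, h⟩ => ⟨a, h⟩, fun ⟨a, h⟩ => ⟨a, ?_, ?_, h⟩⟩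
  · haveI : Nontrivial V := Module.nontrivial_of_finrank_pos (R := F) (by omega)
    obtain ⟨v, hv⟩ := H.exists_norm_one
    have := H.map_form g.1 v v
    rw [h, H.smul_left, H.smul_right, hv, mul_one] at this
    exact this
  · have := det_one g
    rw [show g.1.1.toLinearMap = a • LinearMap.id from LinearMap.ext h, LinearMap.det_smul, LinearMap.det_id,
      mul_one] at this
    exact this

theorem central_cube {z : H.SIsom} (hz : z ∈ Subgroup.center H.SIsom) : z ^ 3 = 1 := by
  have h2 : 2 ≤ Module.finrank F V := by omega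
  obtain ⟨a, -, ha3, h⟩ := (H.mem_center_SIsom_iff h2).1 hz
  rw [hd] at ha3
  refine H.sisom_ext fun x => ?_
  rw [pow_succ, pow_two, H.smul_mul_apply, H.smul_mul_apply, h, h, h, smul_smul, smul_smul,
    show a * a * a = a ^ 3 by ring, ha3, one_smul]
  rfl

theorem pr_eq_one {g : K} : pr K g = 1 ↔ ∃ a : F, ∀ x, g.1.1.1 x = a • x := by
  rw [QuotientGroup.mk'_apply, QuotientGroup.eq_one_iff, Zs, Subgroup.mem_subgroupOf, central_iff hd]

theorem pr_eq {g k : K} : pr K g = pr K k ↔ ∃ a : F, ∀ x, g.1.1.1 x = a • k.1.1.1 x := by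
  rw [← mul_inv_eq_one, ← map_inv, ← map_mul, pr_eq_one hd]
  refine exists_congr fun a => ⟨fun h x => ?_, fun h x => ?_⟩
  · have e : k.1⁻¹.1.1 (k.1.1.1 x) = x := H.inv_apply_self k.1.1 x
    have := h (k.1.1.1 x)
    change g.1.1.1 (k.1⁻¹.1.1 (k.1.1.1 x)) = _ at this
    rwa [e] at this
  · show g.1.1.1 (k.1⁻¹.1.1 x) = a • x
    rw [h, show k.1.1.1 (k.1⁻¹.1.1 x) = x from H.apply_inv_self k.1.1 x]

/-- An element of order prime to three lifts with the same order. -/
theorem lift_coprime (a : Qt K) (h : Nat.Coprime (orderOf a) 3) : ∃ s : K, pr K s = a ∧ s ^ orderOf a = 1 := by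
  obtain ⟨l, rfl⟩ := QuotientGroup.mk'_surjective (Zs K) a
  set n := orderOf (pr K l)
  obtain ⟨k, hk1, hk3⟩ := Nat.chineseRemainder h 1 0
  refine ⟨l ^ k, ?_, ?_⟩
  · show pr K (l ^ k) = pr K l
    rw [map_pow, ← pow_mod_orderOf]
    have : k % n = 1 % n := hk1
    rw [this, pow_mod_orderOf, pow_one]
  · have hz : (l ^ n : K) ∈ Zs K := (QuotientGroup.eq_one_iff _).1 (by
      show pr K (l ^ n) = 1
      rw [map_pow, pow_orderOf_eq_one])
    obtain ⟨m, rfl⟩ : 3 ∣ k := Nat.dvd_of_mod_eq_zero hk3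
    rw [← pow_mul, mul_comm (3 * m) n, pow_mul, pow_mul]
    refine Subtype.ext ?_
    rw [Subgroup.coe_pow, Subgroup.coe_pow, central_cube hd (Subgroup.mem_subgroupOf.1 hz), one_pow]
    rfl

/-- Commuting modulo scalars with an element of order prime to three is commuting. -/
theorem comm_coprime {n : ℕ} (hn : Nat.Coprime n 3) {g s : K} (hs : s ^ n = 1)
    (hc : pr K g * pr K s = pr K s * pr K g) : g * s = s * g := by
  have hz : g * s * g⁻¹ * s⁻¹ ∈ Zs K := comm_quot (Zs K) hc
  set z := g * s * g⁻¹ * s⁻¹ with hzdef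
  have hzc : ∀ y : K, Commute z y := fun y =>
    Subtype.ext ((Subgroup.mem_center_iff.1 (Subgroup.mem_subgroupOf.1 hz) y.1).symm)
  have h3 : z ^ 3 = 1 := Subtype.ext (central_cube hd (Subgroup.mem_subgroupOf.1 hz))
  have hn' : z ^ n = 1 := by
    have e : g * s * g⁻¹ = z * s := by rw [hzdef]; group
    have := congrArg (fun y : K => y ^ n) e
    rw [conj_pow, hs, mul_one, mul_inv_cancel, (hzc s).mul_pow, hs, mul_one] at this
    exact this.symm
  have h1 : z = 1 := by
    have := pow_gcd_eq_one.2 ⟨hn', h3⟩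
    rwa [hn, pow_one] at this
  calc g * s = z * s * g := by rw [hzdef]; group
    _ = s * g := by rw [h1, one_mul]

end Quot

/-- A vector fixed by an element negating its orthogonal plane. -/
def Refl (v : V) (s : H.SIsom) : Prop :=
  H.h v v ≠ 0 ∧ s.1.1 v = v ∧ ∀ x, H.h x v = 0 → s.1.1 x = -x

theorem Refl.apply {v : V} {s : H.SIsom} (h : Refl v s) (x : V) :
    s.1.1 x = -x + (2 * (H.h x v / H.h v v)) • v := by
  have hy : H.h (x - (H.h x v / H.h v v) • v) v = 0 := by
    rw [H.sub_left, H.smul_left, div_mul_cancel₀ _ h.1, sub_self]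
  have := h.2.2 _ hy
  rw [map_sub, map_smul, h.2.1] at this
  linear_combination (norm := module) this

theorem Refl.sq {v : V} {s : H.SIsom} (h : Refl v s) : s * s = 1 := H.sisom_ext fun x => by
  rw [H.smul_mul_apply, h.apply x, map_add, map_neg, map_smul, h.2.1, h.apply x, show (1 : H.SIsom).1.1 x = x from rfl]
  module

theorem Refl.unique {v v' : V} {s s' : H.SIsom} (h : Refl v s) (h' : Refl v' s') {c : F} (hv : v' = c • v) :
    s = s' := H.sisom_ext fun x => by
  have hc : c ≠ 0 := fun e => h'.1 (by rw [hv, e, zero_smul, H.zero_left])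
  rw [h.apply, h'.apply, hv, H.smul_left, H.smul_right, H.smul_right, smul_smul]
  congr 2
  have := h.1
  have := (map_ne_zero H.σ).2 hc
  field_simp

theorem Refl.conj {v : V} {s : H.SIsom} (h : Refl v s) (g : H.SIsom) : Refl (g.1.1 v) (g * s * g⁻¹) := by
  refine ⟨by rw [H.map_form]; exact h.1, ?_, fun x hx => ?_⟩
  · rw [H.smul_mul_apply, show (g⁻¹).1.1 (g.1.1 v) = v from H.inv_apply_self g.1 v, H.smul_mul_apply, h.2.1]
  · have e : g.1.1 ((g⁻¹).1.1 x) = x := H.apply_inv_self g.1 x
    rw [H.smul_mul_apply, H.smul_mul_apply, h.2.2 _ (by rw [← H.map_form g.1, e]; exact hx), map_neg, e]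

theorem Refl.comm_iff (h2 : (2 : F) ≠ 0) {v : V} {s : H.SIsom} (h : Refl v s) (g : H.SIsom) :
    g * s = s * g ↔ ∃ d : F, g.1.1 v = d • v := by
  constructor
  · intro e
    refine ⟨H.h (g.1.1 v) v / H.h v v, ?_⟩
    have h1 : s.1.1 (g.1.1 v) = g.1.1 v := by rw [← H.smul_mul_apply, ← e, H.smul_mul_apply, h.2.1]
    rw [h.apply] at h1
    have h4 : (2 : F) • g.1.1 v = (2 : F) • ((H.h (g.1.1 v) v / H.h v v) • v) := by
      linear_combination (norm := module) -h1
    exact smul_right_injective V h2 h4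
  · rintro ⟨d, hd⟩
    have := (h.conj g).unique h (c := d⁻¹) (by
      have hd0 : d ≠ 0 := fun e => H.isom_ne_zero g.1 (x := v) (fun e' => h.1 (by rw [e', H.zero_left]))
        (by rw [hd, e, zero_smul])
      rw [hd, smul_smul, inv_mul_cancel₀ hd0, one_smul])
    exact mul_inv_eq_iff_eq_mul.1 this

/-- An involution is minus a reflection. -/
theorem exists_refl (hd : Module.finrank F V = 3) (h2 : (2 : F) ≠ 0) {s : H.SIsom} (hs : s * s = 1) (h1 : s ≠ 1) :
    ∃ v, Refl v s := by
  haveI : Nontrivial V := Module.nontrivial_of_finrank_pos (R := F) (by omega)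
  have hss : ∀ x, s.1.1 (s.1.1 x) = x := fun x => by rw [← H.smul_mul_apply, hs]; rfl
  have hns : ∀ a : F, ∃ x, s.1.1 x ≠ a • x := by
    intro a
    by_contra! h
    have hc : s ∈ Subgroup.center H.SIsom := (central_iff hd).2 ⟨a, h⟩
    have h3 := central_cube hd hc
    rw [pow_succ, pow_two, hs, one_mul] at h3
    exact h1 h3
  obtain ⟨z, rho, a, hzz, hrho, hz, hp⟩ := homology_of_two hd hns (a := 1) (b := -1)
    (fun e => h2 (by linear_combination e)) (fun x => by rw [map_sub, map_smul, hss, one_smul]; module)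
  have hz0 : z ≠ 0 := fun e => hzz (by rw [e, H.zero_left])
  have hr2 : (rho * a) ^ 2 = 1 := by
    have := hss z
    rw [hz, map_smul, hz, smul_smul, ← pow_two] at this
    exact smul_left_injective F hz0 (this.trans (one_smul F z).symm)
  obtain ⟨B, c, hc, hw⟩ := exists_frame_pole hd hzz
  have hperp : ∀ x, H.h x B.w = 0 → H.h x z = 0 := fun x hx => by
    rw [hw, H.smul_right] at hx
    exact (mul_eq_zero.1 hx).resolve_left ((map_ne_zero _).2 hc)
  have hli : LinearIndependent F ![B.e, B.f, B.w] := by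
    rw [Fintype.linearIndependent_iff]
    intro c hc
    simp [Fin.sum_univ_three] at hc
    have e1 := congrArg (fun t => H.h t B.f) hc
    have e2 := congrArg (fun t => H.h t B.e) hc
    have e3 := congrArg (fun t => H.h t B.w) hc
    simp [H.add_left, H.smul_left, B.ef, B.ff, B.wf, B.fe, B.ee, B.we, B.ew, B.fw, B.ww, H.zero_left] at e1 e2 e3
    intro i; fin_cases i <;> assumption
  have ha2 : a * a = 1 := by
    have := hss B.e
    rw [hp _ (hperp _ B.ew), map_smul, hp _ (hperp _ B.ew), smul_smul] at this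
    exact smul_left_injective F B.e_ne (this.trans (one_smul F _).symm)
  have hprod := eig_prod hd s hli (hp _ (hperp _ B.ew)) (hp _ (hperp _ B.fw))
    (show s.1.1 B.w = (rho * a) • B.w by rw [hw, map_smul, hz, smul_comm])
  have hra : rho * a = 1 := by linear_combination hprod - rho * a * ha2
  have ham : a = -1 := by
    rcases mul_self_eq_one_iff.1 ha2 with e | e
    · rw [e, mul_one] at hra; exact absurd hra hrho
    · exact e
  exact ⟨z, hzz, by rw [hz, hra, one_smul], fun x hx => by rw [hp x hx, ham, neg_one_smul]⟩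

end Cfsg.Lib.Classical.SUThree.Heis
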