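import Cfsg.Agent.Classical.SUThree.HeisBase

/-!
No involution of an overgroup of the normaliser of a Heisenberg group centralises the diagonal element of order three.
-/

set_option autoImplicit false
set_option linter.unusedSectionVars false
set_option linter.unusedSimpArgs false
set_option linter.style.haveILetI false
set_option maxHeartbeats 1000000

namespace Cfsg.Lib.Classical.SUThree.Heis

open Cfsg.Lib.Classical Cfsg.Lib.Components.UnitaryThree Cfsg.Lib.Known.PSUThree
open Cfsg.Lib.Classical.ExtraThree (dA mB root_pow root_ne cube_cases)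
open scoped Matrix LinearAlgebra.Projectivization

universe u v

variable {F : Type u} [Field F] [Finite F] {V : Type v} [AddCommGroup V] [Module F V] [FiniteDimensional F V]
  {H : HermSpace F V} {K : Subgroup H.SIsom} {U : UFrame H (Fin 3)} {ω : F} {X Y W G : K} {p : ℕ}
variable (A : Amb K p) (M : Model K U ω X Y W G)
include A M

/-- The three sign changes follow from one diagonal involution. -/
theorem exists_signs {s : K} {d : Fin 3 → F} (h : Dg U s.1 d) (hs : s * s = 1) (h1 : s ≠ 1) :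
    ∃ r0 r1 : K, Dg U r0.1 ![1, -1, -1] ∧ Dg U r1.1 ![-1, 1, -1] := by
  have hsg := fun i => h.signs hs i
  have hp := h.prod
  have h2 := A.two
  have hne : (1 : F) ≠ -1 := fun e => h2 (by linear_combination e)
  obtain ⟨r, hr⟩ : ∃ r : K, Dg U r.1 ![1, -1, -1] := by
    have hY1 := Dg.conjY M h
    have hY2 := Dg.conjY M hY1
    rcases hsg 0 with e0 | e0
    · have e12 : d 1 = -1 ∧ d 2 = -1 := by
        rcases hsg 1 with e1 | e1 <;> rcases hsg 2 with e2 | e2 <;>
          rw [e0, e1, e2] at hp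
        · exfalso
          refine h1 (Subtype.ext (Dg.ext h fun i => ?_))
          fin_cases i <;> simp [e0, e1, e2] <;> rfl
        · exact absurd (by linear_combination -hp) hne
        · exact absurd (by linear_combination -hp) hne
        · exact ⟨e1, e2⟩
      refine ⟨s, fun i => ?_⟩
      rw [h i]
      fin_cases i <;> simp [e0, e12.1, e12.2]
    · rcases hsg 1 with e1 | e1
      · have e2 : d 2 = -1 := by rw [e0, e1] at hp; linear_combination -hp
        refine ⟨Y * (Y * s * Y⁻¹) * Y⁻¹, fun i => ?_⟩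
        rw [hY2 i]
        fin_cases i
        · show d 1 • U.b 0 = _; simp [e1]
        · show d 2 • U.b 1 = _; simp [e2]
        · show d 0 • U.b 2 = _; simp [e0]
      · have e2 : d 2 = 1 := by rw [e0, e1] at hp; linear_combination hp
        refine ⟨Y * s * Y⁻¹, fun i => ?_⟩
        rw [hY1 i]
        fin_cases i
        · show d 2 • U.b 0 = _; simp [e2]
        · show d 0 • U.b 1 = _; simp [e0]
        · show d 1 • U.b 2 = _; simp [e1]
  refine ⟨r, Y * r * Y⁻¹, hr, fun i => ?_⟩
  rw [Dg.conjY M hr i]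
  fin_cases i <;> rfl

/-- With a sign change, the stabiliser of the first line is monomial. -/
theorem monomial_fix {r1 : K} (h1 : Dg U r1.1 ![-1, 1, -1]) {g : K} {a : F} (hg : g.1.1.1 (U.b 0) = a • U.b 0) :
    (∃ d, Dg U g.1 d) ∨ ∃ b c : F, g.1.1.1 (U.b 1) = b • U.b 2 ∧ g.1.1.1 (U.b 2) = c • U.b 1 := by
  classical
  have hd := A.dim
  obtain ⟨B, c, hc, hw⟩ := exists_frame_pole hd (show H.h (U.b 0) (U.b 0) ≠ 0 by
    rw [U.b_self]; exact one_ne_zero)
  have hperp : ∀ i, i ≠ 0 → H.h (U.b i) B.w = 0 := fun i hi => by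
    rw [hw, H.smul_right, U.b_ne hi, mul_zero]
  have hmem : ∀ {k : K}, (∃ a : F, k.1.1.1 (U.b 0) = a • U.b 0) → k.1 ∈ Mg K B := fun {k} ⟨a, ha⟩ =>
    mem_Mg.2 ⟨k.2, a, by rw [hw, map_smul, ha, smul_comm]⟩
  set p1 : Pl B := plMk B (U.b 1) (U.b.ne_zero 1) (hperp 1 (by decide))
  set p2 : Pl B := plMk B (U.b 2) (U.b.ne_zero 2) (hperp 2 (by decide))
  have h12 : p1 ≠ p2 := fun e => by
    obtain ⟨t, ht⟩ := plMk_eq_iff.1 e
    have := congrArg (fun x => U.co x 1) ht
    simp [U.co_smul, U.co_b] at this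
  set y : K := X * r1
  have hy : Dg U y.1 ![-1, ω, -ω ^ 2] := fun i => by
    show (X.1 * r1.1).1.1 _ = _
    rw [(M.X_dg.mul h1) i]
    fin_cases i <;> simp
  set yM : Mg K B := ⟨y.1, hmem ⟨_, hy 0⟩⟩
  have hne : ∀ (n : ℕ) (d : Fin 3 → F), Dg U (yM ^ n).1 d → d 1 ≠ d 2 → rho K B yM ^ n ≠ 1 := by
    intro n d hdd hne12 e
    rw [← map_pow] at e
    obtain ⟨s, hs⟩ := plane_scalar hd e
    have e1 := hs _ (hperp 1 (by decide))
    have e2 := hs _ (hperp 2 (by decide))
    rw [hdd 1] at e1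
    rw [hdd 2] at e2
    exact hne12 ((smul_left_injective F (U.b.ne_zero 1) e1).trans
      (smul_left_injective F (U.b.ne_zero 2) e2).symm)
  have hw3 := omega_pow M
  have hord : 6 ≤ orderOf (rho K B yM) := by
    have e6 : rho K B yM ^ 6 = 1 := by
      rw [← map_pow]
      have : (yM ^ 6 : Mg K B) = 1 := Subtype.ext (congrArg Subtype.val (Dg.pow_six A M hy) :)
      rw [this, map_one]
    have hdvd := orderOf_dvd_of_pow_eq_one e6
    have hpos : 0 < orderOf (rho K B yM) := Nat.pos_of_dvd_of_pos hdvd (by norm_num)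
    have hpow : ∀ n, Dg U (yM ^ n).1 (![-1, ω, -ω ^ 2] ^ n) := fun n => hy.pow n
    have h6 := Nat.le_of_dvd (by norm_num) hdvd
    by_contra hlt
    have hk := pow_orderOf_eq_one (rho K B yM)
    interval_cases ho : orderOf (rho K B yM)
    · refine hne 1 _ (hpow 1) ?_ hk
      simp
      intro e
      exact one_ne_zero (show (1 : F) = 0 by linear_combination M.root - e)
    · refine hne 2 _ (hpow 2) ?_ hk
      simp
      intro e
      exact M.omega_ne (by linear_combination ω ^ 2 * e + (ω ^ 3 - ω + 1) * hw3)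
    · refine hne 3 _ (hpow 3) ?_ hk
      simp
      intro e
      exact A.two (by linear_combination e + (-1 - 1 * (ω ^ 3 + 1)) * hw3)
    · norm_num at hdvd
    · norm_num at hdvd
  set L := (rho K B).range
  set yL : L := ⟨rho K B yM, yM, rfl⟩
  have hfix : yM • p1 = p1 := (smul_eq_iff _ _ _).2 ⟨_, hy 1⟩
  have hfix2 : yM • p2 = p2 := (smul_eq_iff _ _ _).2 ⟨_, hy 2⟩
  have hst : ∀ q : Pl B, yM • q = q → 6 ≤ Nat.card (MulAction.stabilizer L q) := fun q hq =>
    calc 6 ≤ orderOf yL := by rw [← Subgroup.orderOf_coe]; exact hord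
      _ = Nat.card (Subgroup.zpowers yL) := (Nat.card_zpowers _).symm
      _ ≤ Nat.card (MulAction.stabilizer L q) :=
        Subgroup.card_le_of_le (Subgroup.zpowers_le.2 (show yL • q = q from hq))
  rcases TwoFix.cases (pairs_line hd A.pow A.noRoot B) (two_le_pl hd A.pow A.noRoot B) with
    ⟨S, hS2, hSinv, hSbig⟩ | h | h | h
  · have hm1 := hSbig p1 (le_trans (by norm_num) (hst p1 hfix))
    have hm2 := hSbig p2 (le_trans (by norm_num) (hst p2 hfix2))
    have hS : ({p1, p2} : Set (Pl B)) = S := Set.eq_of_subset_of_ncard_le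
      (Set.insert_subset hm1 (Set.singleton_subset_iff.2 hm2)) (by rw [hS2, Set.ncard_pair h12]) (Set.toFinite _)
    set gM : Mg K B := ⟨g.1, hmem ⟨a, hg⟩⟩
    have hcase : ∀ i : Fin 3, i ≠ 0 → (∃ b : F, g.1.1.1 (U.b i) = b • U.b 1) ∨ ∃ b : F, g.1.1.1 (U.b i) = b • U.b 2 := by
      intro i hi
      have hin : plMk B (U.b i) (U.b.ne_zero i) (hperp i hi) ∈ S := by
        fin_cases i
        · exact absurd rfl hi
        · exact hm1
        · exact hm2
      have := hSinv ⟨rho K B gM, gM, rfl⟩ _ hin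
      rw [← hS] at this
      change gM • _ ∈ ({p1, p2} : Set (Pl B)) at this
      rw [smul_plMk] at this
      rcases this with e | e
      · obtain ⟨b, hb⟩ := plMk_eq_iff.1 e
        exact Or.inl ⟨b, hb.symm⟩
      · obtain ⟨b, hb⟩ := plMk_eq_iff.1 (Set.mem_singleton_iff.1 e)
        exact Or.inr ⟨b, hb.symm⟩
    have hinj : ∀ (l : Fin 3) {b c : F}, g.1.1.1 (U.b 1) = b • U.b l → g.1.1.1 (U.b 2) = c • U.b l → False := by
      intro l b c hb hc'
      have h0 : g.1.1.1 (c • U.b 1 - b • U.b 2) = 0 := by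
        rw [map_sub, map_smul, map_smul, hb, hc', smul_smul, smul_smul, mul_comm, sub_self]
      have h0' := LinearEquiv.map_eq_zero_iff _ |>.1 h0
      have := congrArg (fun x => U.co x 1) h0'
      simp [U.co_sub, U.co_smul, U.co_b, U.co_zero] at this
      rw [this, zero_smul] at hc'
      exact H.isom_ne_zero g.1.1 (U.b.ne_zero 2) hc'
    rcases hcase 1 (by decide) with ⟨b, hb⟩ | ⟨b, hb⟩ <;> rcases hcase 2 (by decide) with ⟨c', hc'⟩ | ⟨c', hc'⟩
    · exact (hinj 1 hb hc').elim
    · exact Or.inl ⟨![a, b, c'], fun i => by fin_cases i <;> assumption⟩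
    · exact Or.inr ⟨b, c', hb, hc'⟩
    · exact (hinj 2 hb hc').elim
  all_goals exact absurd ((hst p1 hfix).trans (h.2.1 p1)) (by norm_num)

end Cfsg.Lib.Classical.SUThree.Heis
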