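import Cfsg.Agent.Classical.SUThree.HeisInvol

/-!
Elements of prime order at least five and the Sylow subgroups of the characteristic, modulo scalars.
-/

set_option autoImplicit false
set_option linter.unusedSectionVars false
set_option linter.unusedSimpArgs false
set_option linter.style.haveILetI false
set_option maxHeartbeats 1000000

namespace Cfsg.Lib.Classical.SUThree.Heis

open Cfsg.Lib.Classical Cfsg.Lib.Components.UnitaryThree Cfsg.Lib.Known.PSUThree
open scoped Matrix LinearAlgebra.Projectivization Pointwise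

universe u v

variable {F : Type u} [Field F] [Finite F] {V : Type v} [AddCommGroup V] [Module F V] [FiniteDimensional F V]
  {H : HermSpace F V} {K : Subgroup H.SIsom} {U : UFrame H (Fin 3)} {ω : F} {X Y W G : K} {p : ℕ}

/-- The centraliser of a conjugate of a regular element that commutes with it is the same. -/
theorem mem_normalizer_of_abelian {L : Type*} [Group L] {u g : L}
    (hab : ∀ a b, a * u = u * a → b * u = u * b → a * b = b * a) (hw : g * u * g⁻¹ * u = u * (g * u * g⁻¹)) :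
    g ∈ Subgroup.normalizer ((Subgroup.centralizer {u} : Subgroup L) : Set L) := by
  set w := g * u * g⁻¹ with hwdef
  have hmove : ∀ x, x * u = u * x → g * x * g⁻¹ * w = w * (g * x * g⁻¹) := fun x hx => by
    rw [hwdef, conj_mul, conj_mul, hx]
  have hback : ∀ x, x * w = w * x → g⁻¹ * x * g * u = u * (g⁻¹ * x * g) := fun x hx => by
    calc g⁻¹ * x * g * u = g⁻¹ * (x * w) * g := by rw [hwdef]; group
      _ = g⁻¹ * (w * x) * g := by rw [hx]
      _ = u * (g⁻¹ * x * g) := by rw [hwdef]; group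
  rw [Subgroup.mem_normalizer_iff]
  intro x
  rw [Subgroup.mem_centralizer_singleton_iff, Subgroup.mem_centralizer_singleton_iff]
  constructor
  · intro hx
    -- `g x g⁻¹` centralises `w`, hence commutes with `u`
    have h := hab _ _ (hback u hw.symm) hx
    calc g * x * g⁻¹ * u = g * (x * (g⁻¹ * u * g)) * g⁻¹ := by group
      _ = g * ((g⁻¹ * u * g) * x) * g⁻¹ := by rw [h]
      _ = u * (g * x * g⁻¹) := by group
  · intro hx
    have h := hab _ _ hw hx
    have := hback _ h.symm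
    rwa [show g⁻¹ * (g * x * g⁻¹) * g = x by group] at this

variable (A : Amb K p) (M : Model K U ω X Y W G)
include A M

theorem char_cast {r : ℕ} (hr : r.Prime) (hne : r ≠ p) : (r : F) ≠ 0 := by
  haveI := A.chr
  rw [Ne, CharP.cast_eq_zero_iff F p, (Nat.prime_dvd_prime_iff_eq A.prime hr)]
  exact fun e => hne e.symm

/-- Elements of prime order at least five other than the characteristic. -/
theorem regular (a : Qt K) (hr : (orderOf a).Prime) (h5 : 5 ≤ orderOf a) (hap : orderOf a ≠ p) :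
    (∀ x ∈ Subgroup.centralizer ({a} : Set (Qt K)), ∀ y ∈ Subgroup.centralizer ({a} : Set (Qt K)), x * y = y * x) ∧
      (∀ c ∈ Subgroup.centralizer ({a} : Set (Qt K)), orderOf c ≠ p) ∧
      ∃ φ : Subgroup.normalizer ((Subgroup.centralizer ({a} : Set (Qt K))) : Set (Qt K)) →* Equiv.Perm (Fin 3),
        ∀ n, φ n = 1 → n.1 * a = a * n.1 := by
  classical
  have hd := A.dim
  set r := orderOf a with hrdef
  have hcop : Nat.Coprime r 3 := (Nat.coprime_primes hr Nat.prime_three).2 (by omega)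
  obtain ⟨s, hs, hsr⟩ := lift_coprime hd a hcop
  rw [← hrdef] at hsr
  have hns : ∀ c : F, ∃ x, s.1.1.1 x ≠ c • x := fun c => by
    by_contra! h
    have h1 : pr K s = 1 := (pr_eq_one hd).2 ⟨c, h⟩
    rw [hs] at h1
    rw [hrdef, h1, orderOf_one] at h5
    omega
  have hexact : ∀ {g : K}, pr K g * a = a * pr K g → g.1 * s.1 = s.1 * g.1 := fun {g} h =>
    congrArg Subtype.val (comm_coprime hd hcop hsr (by rw [hs]; exact h))
  rcases regular_cases hd hr (char_cast A M hr hap) (u := s.1) (by rw [← Subgroup.coe_pow, hsr]; rfl) hns with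
    ⟨z, rho, c, hzz, hrho, hz, hp⟩ | ⟨hab, hnp, φ, hφ⟩
  · exfalso
    have hrho2 := A.ratio (K := K) ⟨hzz, s.1, s.2, c, hz, hp⟩
    have hz0 : z ≠ 0 := fun e => hzz (by rw [e, H.zero_left])
    obtain ⟨B, c', hc', hw⟩ := exists_frame_pole hd hzz
    have hpe : s.1.1.1 B.e = c • B.e := hp _ (by
      have := B.ew
      rw [hw, H.smul_right] at this
      exact (mul_eq_zero.1 this).resolve_left ((map_ne_zero _).2 hc'))
    have hiter : ∀ (n : ℕ) {x : V} {l : F}, s.1.1.1 x = l • x → (s.1 ^ n).1.1 x = l ^ n • x := by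
      intro n
      induction n with
      | zero => intro x l _; rw [pow_zero, pow_zero, one_smul]; rfl
      | succ n ih =>
        intro x l hl
        rw [pow_succ, H.smul_mul_apply, hl, map_smul, ih hl, smul_smul, ← pow_succ']
    have h1 : (s.1 ^ r) = 1 := by rw [← Subgroup.coe_pow, hsr]; rfl
    have e1 := hiter r hz
    have e2 := hiter r hpe
    rw [h1] at e1 e2
    have e1' : (rho * c) ^ r = 1 := smul_left_injective F hz0 (e1.symm.trans (one_smul F z).symm)
    have e2' : c ^ r = 1 := smul_left_injective F B.e_ne (e2.symm.trans (one_smul F B.e).symm)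
    rw [mul_pow, e2', mul_one] at e1'
    obtain ⟨m, hm⟩ : Odd r := hr.odd_of_ne_two (by omega)
    rw [hm, pow_succ, pow_mul, hrho2, one_pow, one_mul] at e1'
    exact hrho e1'
  refine ⟨fun x hx y hy => ?_, fun x hx hxp => ?_, ?_⟩
  · obtain ⟨g, rfl⟩ := QuotientGroup.mk'_surjective (Zs K) x
    obtain ⟨k, rfl⟩ := QuotientGroup.mk'_surjective (Zs K) y
    rw [← map_mul, ← map_mul]
    exact congrArg _ (Subtype.ext (hab _ _ (hexact (Subgroup.mem_centralizer_singleton_iff.1 hx))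
      (hexact (Subgroup.mem_centralizer_singleton_iff.1 hy))))
  · obtain ⟨g, hg, hgp⟩ := lift_coprime hd x (by
      rw [hxp]; exact (Nat.coprime_primes A.prime Nat.prime_three).2 (by have := A.eleven; omega))
    haveI := A.chr
    rw [← hg] at hx
    have := hnp p A.prime g.1 (hexact (Subgroup.mem_centralizer_singleton_iff.1 hx))
      (by rw [← Subgroup.coe_pow, ← hxp, hgp]; rfl)
    rw [← hg, show g = 1 from Subtype.ext this, map_one, orderOf_one] at hxp
    exact A.prime.one_lt.ne hxp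
  · set N := Subgroup.normalizer ((Subgroup.centralizer ({a} : Set (Qt K))) : Set (Qt K))
    set N' := N.comap (pr K)
    have hmem : ∀ g : N', g.1.1 ∈ Subgroup.normalizer
        ((Subgroup.centralizer {s.1} : Subgroup H.SIsom) : Set H.SIsom) := fun g => by
      have hga : pr K g.1 * a * (pr K g.1)⁻¹ ∈ Subgroup.centralizer ({a} : Set (Qt K)) :=
        (Subgroup.mem_normalizer_iff.1 g.2 a).1 (Subgroup.mem_centralizer_singleton_iff.2 rfl)
      rw [← hs, ← map_inv, ← map_mul, ← map_mul, hs] at hga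
      exact mem_normalizer_of_abelian hab (hexact (Subgroup.mem_centralizer_singleton_iff.1 hga))
    let ψ : N' →* Equiv.Perm (Fin 3) := φ.comp (MonoidHom.mk' (fun g => ⟨g.1.1, hmem g⟩) fun _ _ => rfl)
    let π' : N' →* N := MonoidHom.mk' (fun g => ⟨pr K g.1, g.2⟩) fun g k => Subtype.ext (map_mul (pr K) g.1 k.1)
    have hsurj : Function.Surjective π' := fun n => by
      obtain ⟨g, hg⟩ := QuotientGroup.mk'_surjective (Zs K) n.1
      exact ⟨⟨g, by show pr K g ∈ N; rw [hg]; exact n.2⟩, Subtype.ext hg⟩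
    have hker : π'.ker ≤ ψ.ker := fun g hg => by
      have h1 : pr K g.1 = 1 := congrArg Subtype.val (MonoidHom.mem_ker.1 hg)
      exact MonoidHom.mem_ker.2 ((hφ ⟨g.1.1, hmem g⟩).2 (hexact (by rw [h1, one_mul, mul_one])))
    refine ⟨π'.liftOfSurjective hsurj ⟨ψ, hker⟩, fun n hn => ?_⟩
    obtain ⟨g, rfl⟩ := hsurj n
    have hψ : π'.liftOfSurjective hsurj ⟨ψ, hker⟩ (π' g) = ψ g :=
      MonoidHom.liftOfRightInverse_comp_apply _ _ _ ⟨ψ, hker⟩ g
    rw [hψ] at hn
    show pr K g.1 * a = a * pr K g.1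
    rw [← hs, ← map_mul, ← map_mul]
    exact congrArg _ (Subtype.ext ((hφ ⟨g.1.1, hmem g⟩).1 hn))

/-- A subgroup of order a power of the characteristic lifts into the unipotent radical of a point. -/
theorem exists_lift (P : Subgroup (Qt K)) (hP : IsPGroup p P) :
    ∃ (P' : Subgroup K) (B : Frame H), P'.map (pr K) = P ∧ (∀ x ∈ P', x.1 ∈ Ng K B) ∧ IsPGroup p P' := by
  classical
  have hd := A.dim
  haveI : Fact p.Prime := ⟨A.prime⟩
  haveI := A.chr
  set P₁ := P.comap (pr K)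
  let f : P₁ →* P := MonoidHom.mk' (fun x => ⟨pr K x.1, x.2⟩) fun x y => Subtype.ext (map_mul (pr K) x.1 y.1)
  have hf : Function.Surjective f := fun y => by
    obtain ⟨x, hx⟩ := QuotientGroup.mk'_surjective (Zs K) y.1
    exact ⟨⟨x, by show pr K x ∈ P; rw [hx]; exact y.2⟩, Subtype.ext hx⟩
  obtain ⟨Q⟩ : Nonempty (Sylow p P₁) := inferInstance
  have htop : ((Q.mapSurjective hf : Sylow p P) : Subgroup P) = ⊤ :=
    (Sylow.is_maximal' (Q.mapSurjective hf) (hP.of_equiv Subgroup.topEquiv.symm) le_top).symm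
  set P' := (Q : Subgroup P₁).map P₁.subtype
  have hP' : IsPGroup p P' := Q.2.map _
  have hmap : P'.map (pr K) = P := by
    refine le_antisymm ?_ fun y hy => ?_
    · rintro _ ⟨_, ⟨x, -, rfl⟩, rfl⟩
      exact x.2
    · obtain ⟨x, hx, e⟩ : (⟨y, hy⟩ : P) ∈ (Q : Subgroup P₁).map f := by
        rw [show (Q : Subgroup P₁).map f = ((Q.mapSurjective hf : Sylow p P) : Subgroup P) from rfl, htop]
        exact Subgroup.mem_top _
      exact ⟨x.1, ⟨x, hx, rfl⟩, congrArg Subtype.val e⟩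
  have hS : IsPGroup p (P'.map K.subtype) := hP'.map _
  have hmod := hS.card_modEq_card_fixedPoints H.IsoPt
  have hne : (MulAction.fixedPoints (P'.map K.subtype) H.IsoPt).Nonempty := by
    by_contra hemp
    rw [Set.not_nonempty_iff_eq_empty] at hemp
    rw [hemp, A.pts, A.qp, Nat.card_coe_set_eq, Set.ncard_empty, Nat.ModEq, Nat.zero_mod] at hmod
    have h1 : p ∣ p ^ 3 + 1 := Nat.dvd_of_mod_eq_zero hmod
    rw [Nat.dvd_add_right (dvd_pow_self p (by norm_num))] at h1
    exact A.prime.one_lt.ne' (Nat.dvd_one.1 h1)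
  obtain ⟨P0, hP0⟩ := hne
  obtain ⟨B, rfl⟩ := exists_frame_pt hd P0
  refine ⟨P', B, hmap, fun x hx => ?_, hP'⟩
  obtain ⟨n, hn⟩ := hP' ⟨x, hx⟩
  refine ⟨x.2, mem_fixE_of_pow hd (MulAction.mem_stabilizer_iff.2 (hP0 ⟨x.1, x, hx, rfl⟩)) p n ?_⟩
  exact congrArg (fun y : P' => y.1.1) hn

/-- The order of a unipotent radical. -/
theorem card_radical (B : Frame H) : Nat.card (Ng K B) ≤ p := by
  have h := card_Ng_le K A.dim B
  rw [A.noRoot B, Subgroup.card_bot, one_mul, one_pow, A.qp] at h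
  exact h.trans (max_le le_rfl A.prime.one_lt.le)

theorem p_small (P : Subgroup (Qt K)) (hP : IsPGroup p P) : Nat.card P ≤ p := by
  obtain ⟨P', B, hmap, hNg, -⟩ := exists_lift A M P hP
  calc Nat.card P ≤ Nat.card P' := by
        rw [← hmap]
        exact Nat.le_of_dvd Nat.card_pos (P'.card_map_dvd (pr K))
    _ ≤ Nat.card (Ng K B) := Nat.card_le_card_of_injective (fun x => (⟨x.1.1, hNg x.1 x.2⟩ : Ng K B))
        fun x y e => Subtype.ext (Subtype.ext (congrArg Subtype.val e :))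
    _ ≤ p := card_radical A M B

/-- A subgroup of the order of the characteristic and its point. -/
theorem exists_point (P : Subgroup (Qt K)) (hP : Nat.card P = p) :
    ∃ B : Frame H, (∀ g : K, g.1 ∈ Ng K B → pr K g ∈ P) ∧
      ∀ g : K, pr K g ∈ Subgroup.normalizer (P : Set (Qt K)) ↔ g.1 ∈ stE B := by
  classical
  have hd := A.dim
  haveI : Fact p.Prime := ⟨A.prime⟩
  haveI := A.chr
  obtain ⟨P', B, hmap, hNg, hP'⟩ := exists_lift A M P (IsPGroup.of_card (n := 1) (by rw [hP, pow_one]))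
  have hinj : Function.Injective fun x : P' => (⟨x.1.1, hNg x.1 x.2⟩ : Ng K B) :=
    fun x y e => Subtype.ext (Subtype.ext (congrArg Subtype.val e :))
  have hbij : Function.Bijective fun x : P' => (⟨x.1.1, hNg x.1 x.2⟩ : Ng K B) := by
    refine (Nat.bijective_iff_injective_and_card _).2 ⟨hinj, le_antisymm (Nat.card_le_card_of_injective _ hinj) ?_⟩
    refine (card_radical A M B).trans ?_
    rw [← hP, ← hmap]
    exact Nat.le_of_dvd Nat.card_pos (P'.card_map_dvd (pr K))
  have hiff : ∀ g : K, g ∈ P' ↔ g.1 ∈ Ng K B := fun g => ⟨hNg g, fun h => by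
    obtain ⟨x, hx⟩ := hbij.2 ⟨g.1, h⟩
    rw [← show x.1 = g from Subtype.ext (congrArg Subtype.val hx :)]
    exact x.2⟩
  refine ⟨B, fun g hg => hmap ▸ ⟨g, (hiff g).2 hg, rfl⟩, fun g => ⟨fun hg => ?_, fun hg => ?_⟩⟩
  · haveI : Nontrivial P := Finite.one_lt_card_iff_nontrivial.1 (hP ▸ A.prime.one_lt)
    obtain ⟨⟨x, hxP⟩, hx1⟩ := exists_ne (1 : P)
    obtain ⟨x, hx, rfl⟩ : x ∈ P'.map (pr K) := hmap.symm ▸ hxP
    have hgx := (Subgroup.mem_normalizer_iff.1 hg (pr K x)).1 hxP
    rw [← map_inv, ← map_mul, ← map_mul] at hgx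
    obtain ⟨y, hy, e⟩ : pr K (g * x * g⁻¹) ∈ P'.map (pr K) := hmap.symm ▸ hgx
    obtain ⟨i, hi⟩ := hP' ⟨x, hx⟩
    obtain ⟨j, hj⟩ := hP' ⟨y, hy⟩
    have hxp : x ^ p ^ (i + j) = 1 := by
      rw [pow_add, pow_mul, show x ^ p ^ i = 1 from congrArg Subtype.val hi, one_pow]
    have hyp : y ^ p ^ (i + j) = 1 := by
      rw [pow_add, mul_comm, pow_mul, show y ^ p ^ j = 1 from congrArg Subtype.val hj, one_pow]
    have hcz : (g * x * g⁻¹ * y⁻¹).1 ∈ Subgroup.center H.SIsom := by
      have : pr K (g * x * g⁻¹ * y⁻¹) = 1 := by rw [map_mul, map_inv, ← e, mul_inv_cancel]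
      rwa [QuotientGroup.mk'_apply, QuotientGroup.eq_one_iff, Zs, Subgroup.mem_subgroupOf] at this
    set c := g * x * g⁻¹ * y⁻¹ with hcdef
    have hcc : ∀ k : K, Commute c k := fun k => Subtype.ext (Subgroup.mem_center_iff.1 hcz k.1).symm
    have hc3 : c ^ 3 = 1 := Subtype.ext (central_cube hd hcz)
    have hcp : c ^ p ^ (i + j) = 1 := by
      have h := congrArg (· ^ p ^ (i + j)) (show g * x * g⁻¹ = c * y by rw [hcdef]; group)
      simp only [conj_pow, (hcc y).mul_pow, hxp, hyp, mul_one, mul_inv_cancel] at h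
      exact h.symm
    have hc1 : c = 1 := by
      have h := pow_gcd_eq_one.2 ⟨hc3, hcp⟩
      rwa [((Nat.coprime_primes Nat.prime_three A.prime).2 (by have := A.eleven; omega)).pow_right _, pow_one] at h
    have hy' : g * x * g⁻¹ = y := mul_inv_eq_one.1 hc1
    have hyne : y.1 ≠ 1 := fun h => hx1 (Subtype.ext (by
      show pr K x = 1
      have : y = 1 := Subtype.ext h
      rw [← hy', mul_inv_eq_one, mul_eq_left] at this
      rw [this, map_one]))
    by_contra hg'
    refine hyne (semiregular K hd B (hNg y hy) (P := g.1 • pt B) hg' ?_)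
    have hfix : x.1 • pt B = pt B := MulAction.mem_stabilizer_iff.1 (fixE_le_stE B (hNg x hx).2)
    rw [← hy', Subgroup.coe_mul, Subgroup.coe_mul, mul_smul, mul_smul, Subgroup.coe_inv, inv_smul_smul, hfix]
  · rw [← hmap]
    refine Subgroup.le_normalizer_map (pr K) ⟨g, ?_, rfl⟩
    rw [SetLike.mem_coe, Subgroup.mem_normalizer_iff]
    intro x
    rw [hiff, hiff]
    have hconj : ∀ {g x : H.SIsom}, g ∈ stE B → x ∈ fixE B → g * x * g⁻¹ ∈ fixE B := by
      intro g x hg hx
      obtain ⟨a, ha⟩ := mem_stE.1 hg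
      have ha0 : a ≠ 0 := fun h => H.isom_ne_zero g.1 B.e_ne (by rw [ha, h, zero_smul])
      show (g * x * g⁻¹).1.1 B.e = B.e
      have he : (g⁻¹).1.1 B.e = a⁻¹ • B.e := by
        conv_lhs => rw [show B.e = a⁻¹ • g.1.1 B.e by rw [ha, smul_smul, inv_mul_cancel₀ ha0, one_smul]]
        rw [map_smul, show (g⁻¹).1.1 (g.1.1 B.e) = B.e from H.inv_apply_self _ _]
      rw [H.smul_mul_apply, H.smul_mul_apply, he, map_smul, map_smul, show x.1.1 B.e = B.e from hx, ha, smul_smul,
        inv_mul_cancel₀ ha0, one_smul]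
    constructor
    · exact fun h => ⟨(g * x * g⁻¹).2, hconj hg h.2⟩
    · intro h
      refine ⟨x.2, ?_⟩
      have := hconj (inv_mem hg) h.2
      rwa [Subgroup.coe_mul, Subgroup.coe_mul, Subgroup.coe_inv, show (g.1)⁻¹ * (g.1 * x.1 * g.1⁻¹) * g.1⁻¹⁻¹ = x.1 by group] at this

/-- The normaliser of a subgroup of the order of the characteristic is cyclic over it. -/
theorem p_cyclic (P : Subgroup (Qt K)) (hP : Nat.card P = p) :
    ∃ (M₀ : Type v) (_ : CommGroup M₀) (_ : IsCyclic M₀)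
      (χ : Subgroup.normalizer (P : Set (Qt K)) →* M₀), ∀ n, χ n = 1 ↔ n.1 ∈ P := by
  classical
  have hd := A.dim
  haveI : Fact p.Prime := ⟨A.prime⟩
  haveI := A.chr
  obtain ⟨B, hB, hN⟩ := exists_point A M P hP
  set N := Subgroup.normalizer (P : Set (Qt K))
  set N' := N.comap (pr K)
  let π' : N' →* N := MonoidHom.mk' (fun g => ⟨pr K g.1, g.2⟩) fun g k => Subtype.ext (map_mul (pr K) g.1 k.1)
  have hsurj : Function.Surjective π' := fun n => by
    obtain ⟨g, hg⟩ := QuotientGroup.mk'_surjective (Zs K) n.1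
    exact ⟨⟨g, by show pr K g ∈ N; rw [hg]; exact n.2⟩, Subtype.ext hg⟩
  let ψ : N' →* Fˣ := MonoidHom.mk' (fun g => eaHom K hd B ⟨g.1.1, g.1.2, (hN g.1).1 g.2⟩ ^ 3)
    fun g k => by
      show _ = _ * _
      rw [← mul_pow, ← map_mul]
      rfl
  have hz : ∃ z : K, ∀ x, z.1.1.1 x = ω • x := by
    refine ⟨X * Y * (Y * X)⁻¹, fun x => ?_⟩
    show (X * Y).1.1.1 (((Y * X).1⁻¹).1.1 x) = ω • x
    rw [M.XY, show (Y * X).1.1.1 (((Y * X).1⁻¹).1.1 x) = x from H.apply_inv_self _ x]
  obtain ⟨z, hz⟩ := hz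
  have hzpow : ∀ (n : ℕ) (x : V), (z ^ n).1.1.1 x = ω ^ n • x := fun n => by
    induction n with
    | zero => intro x; rw [pow_zero, pow_zero, one_smul]; rfl
    | succ n ih =>
      intro x
      rw [pow_succ', Subgroup.coe_mul, H.smul_mul_apply, ih, map_smul, hz, smul_smul, pow_succ]
  have hiff : ∀ g : N', ψ g = 1 ↔ pr K g.1 ∈ P := by
    intro g
    have hst := (hN g.1).1 g.2
    obtain ⟨he, -⟩ := coords hd B hst
    have hψ : ψ g = 1 ↔ ea B g.1.1 ^ 3 = 1 := by
      show eaHom K hd B _ ^ 3 = 1 ↔ _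
      rw [Units.ext_iff, Units.val_pow_eq_pow_val, eaHom_apply, Units.val_one]
    rw [hψ]
    constructor
    · intro h
      obtain ⟨i, hi⟩ : ∃ i : ℕ, ω ^ i * ea B g.1.1 = 1 := by
        have hw3 := omega_pow M
        rcases Cfsg.Lib.Classical.ExtraThree.cube_cases M.root h with e | e | e <;> rw [e]
        exacts [⟨0, by ring⟩, ⟨2, by linear_combination hw3⟩, ⟨1, by linear_combination hw3⟩]
      have hm : (z ^ i * g.1).1 ∈ Ng K B := by
        refine ⟨(z ^ i * g.1).2, ?_⟩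
        show (z ^ i * g.1).1.1.1 B.e = B.e
        rw [Subgroup.coe_mul, H.smul_mul_apply, he, map_smul, hzpow, smul_smul, mul_comm, hi, one_smul]
      have := hB _ hm
      rwa [map_mul, (pr_eq_one hd).2 ⟨ω ^ i, hzpow i⟩, one_mul] at this
    · intro h
      obtain ⟨P', B', hmap, hNg, hP'⟩ := exists_lift A M P (IsPGroup.of_card (n := 1) (by rw [hP, pow_one]))
      obtain ⟨y, hy, e⟩ : pr K g.1 ∈ P'.map (pr K) := hmap.symm ▸ h
      obtain ⟨c, hc⟩ := (pr_eq hd).1 e.symm
      have hc3 : c ^ 3 = 1 := by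
        have hcen : (g.1 * y⁻¹).1 ∈ Subgroup.center H.SIsom := (central_iff hd).2 ⟨c, fun x => by
          show g.1.1.1.1 ((y.1⁻¹).1.1 x) = c • x
          rw [hc, show y.1.1.1 ((y.1⁻¹).1.1 x) = x from H.apply_inv_self _ x]⟩
        obtain ⟨c', -, hc'3, hc'⟩ := (H.mem_center_SIsom_iff (by omega : 2 ≤ Module.finrank F V)).1 hcen
        have e1 : g.1.1.1.1 B.e = c' • y.1.1.1 B.e := by
          rw [← hc']
          show _ = g.1.1.1.1 ((y.1⁻¹).1.1 (y.1.1.1 B.e))
          rw [show (y.1⁻¹).1.1 (y.1.1.1 B.e) = B.e from H.inv_apply_self _ _]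
        have hcc' : c = c' := smul_left_injective F (H.isom_ne_zero y.1.1 B.e_ne) ((hc B.e).symm.trans e1)
        rw [hcc', ← hd]; exact hc'3
      have hyst : y.1 ∈ stE B := (hN y).1 (Subgroup.le_normalizer (hmap ▸ ⟨y, hy, rfl⟩ : pr K y ∈ P))
      obtain ⟨n, hn'⟩ := hP' ⟨y, hy⟩
      have hn : y.1 ^ p ^ n = 1 := congrArg (fun x : P' => x.1.1) hn'
      have hfix : y.1.1.1 B.e = B.e := mem_fixE_of_pow hd hyst p n hn
      have hea : g.1.1.1.1 B.e = c • B.e := by rw [hc, hfix]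
      rw [smul_left_injective F B.e_ne (he.symm.trans hea)]
      exact hc3
  have hker : π'.ker ≤ ψ.ker := fun g hg => by
    rw [MonoidHom.mem_ker, hiff, show pr K g.1 = 1 from congrArg Subtype.val (MonoidHom.mem_ker.1 hg)]
    exact one_mem P
  set χ := π'.liftOfSurjective hsurj ⟨ψ, hker⟩ with hχ
  letI : CommGroup (N ⧸ χ.ker) :=
    { (inferInstance : Group (N ⧸ χ.ker)) with
      mul_comm := fun a b => QuotientGroup.kerLift_injective χ (by rw [map_mul, map_mul, mul_comm]) }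
  refine ⟨N ⧸ χ.ker, inferInstance,
    isCyclic_of_injective (QuotientGroup.kerLift χ) (QuotientGroup.kerLift_injective χ),
    QuotientGroup.mk' χ.ker, fun n => ?_⟩
  rw [QuotientGroup.mk'_apply, QuotientGroup.eq_one_iff, MonoidHom.mem_ker]
  obtain ⟨g, rfl⟩ := hsurj n
  have hψ : χ (π' g) = ψ g := MonoidHom.liftOfRightInverse_comp_apply _ _ _ ⟨ψ, hker⟩ g
  rw [hψ]
  exact hiff g

/-- A conjugate of the abelian part meeting the normaliser in an element of order at least five lies in it. -/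
theorem p_abelian {bs : Module.Basis (Fin 3) F V} {t q q' : K} (S : Split K bs t q q') (P : Subgroup (Qt K))
    (hP : Nat.card P = p) (g : Qt K) (h : Qt K) (hh : h ∈ Subgroup.normalizer (P : Set (Qt K)))
    (hA : g⁻¹ * h * g ∈ Tor bs K) (h5 : 5 ≤ orderOf h) (a : Qt K) (ha : a ∈ Tor bs K) :
    g * a * g⁻¹ ∈ Subgroup.normalizer (P : Set (Qt K)) := by
  classical
  obtain ⟨B, -, hN⟩ := exists_point A M P hP
  obtain ⟨g, rfl⟩ := QuotientGroup.mk'_surjective (Zs K) g
  obtain ⟨h, rfl⟩ := QuotientGroup.mk'_surjective (Zs K) h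
  obtain ⟨k, ⟨e, hk⟩, rfl⟩ := ha
  rw [← map_inv, ← map_mul, ← map_mul] at hA
  obtain ⟨d, hd⟩ := (mem_Tor A.dim).1 hA
  have hord : orderOf (pr K (g⁻¹ * h * g)) = orderOf (pr K h) := by
    have := orderOf_injective (MulAut.conj (pr K g)⁻¹).toMonoidHom (MulAut.conj (pr K g)⁻¹).injective (pr K h)
    rw [← this, map_mul, map_mul, map_inv]
    simp [MulAut.conj_apply]
  replace h5 : 5 ≤ orderOf (pr K h) := h5
  have hne : pr K (g⁻¹ * h * g) ≠ 1 ∧ pr K (g⁻¹ * h * g) ≠ pr K t := by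
    constructor <;> intro e' <;> rw [e'] at hord
    · rw [orderOf_one] at hord; omega
    · rw [orderOf_t A M S] at hord; omega
  have hinj := tor_regular A M S hd hne.1 hne.2
  obtain ⟨l, hl⟩ := mem_stE.1 ((hN h).1 hh)
  set y := (g.1⁻¹).1.1 B.e with hy
  have hgy : g.1.1.1 y = B.e := H.apply_inv_self g.1.1 B.e
  have hly : (g⁻¹ * h * g).1.1.1 y = l • y := by
    show (g.1⁻¹).1.1 (h.1.1.1 (g.1.1.1 y)) = l • y
    rw [hgy, hl, map_smul]
  have hrep : ∀ (f : H.SIsom) (c : Fin 3 → F), Dv bs f c → ∀ x j, bs.repr (f.1.1 x) j = c j * bs.repr x j := by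
    intro f c hf x j
    have e : bs.coord j ∘ₗ f.1.1.toLinearMap = c j • bs.coord j := bs.ext fun i => by
      rw [LinearMap.comp_apply, LinearEquiv.coe_coe, hf i, map_smul, LinearMap.smul_apply,
        Module.Basis.coord_apply, bs.repr_self, Finsupp.single_apply]
      by_cases hij : i = j
      · rw [hij]
      · rw [if_neg hij, smul_zero, smul_zero]
    exact LinearMap.congr_fun e x
  have heig : ∀ j, bs.repr y j ≠ 0 → d j = l := fun j hj => by
    have := congrArg (fun x => bs.repr x j) hly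
    simp only [hrep _ _ hd, map_smul, Finsupp.smul_apply, smul_eq_mul] at this
    exact mul_right_cancel₀ hj this
  obtain ⟨j, hj⟩ : ∃ j, bs.repr y j ≠ 0 := by
    by_contra! h0
    exact H.isom_ne_zero (g.1⁻¹).1 B.e_ne (bs.repr.injective (Finsupp.ext fun j => by
      rw [map_zero]; exact h0 j))
  have hky : k.1.1.1 y = e j • y := bs.repr.injective (Finsupp.ext fun i => by
    rw [hrep _ _ hk, map_smul, Finsupp.smul_apply, smul_eq_mul]
    by_cases hi : bs.repr y i = 0
    · rw [hi, mul_zero, mul_zero]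
    · rw [hinj ((heig i hi).trans (heig j hj).symm)])
  rw [← map_inv, ← map_mul, ← map_mul, hN]
  refine mem_stE.2 ⟨e j, ?_⟩
  show g.1.1.1 (k.1.1.1 ((g.1⁻¹).1.1 B.e)) = e j • B.e
  rw [← hy, hky, map_smul, hgy]

end Cfsg.Lib.Classical.SUThree.Heis
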