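import Cfsg.Agent.Classical.SUThree.HeisReflect

/-!
The elements of order three in the quotient by the scalars of an overgroup of the normaliser of a Heisenberg group.
-/

set_option autoImplicit false
set_option linter.unusedSectionVars false
set_option linter.unusedSimpArgs false
set_option linter.style.haveILetI false
set_option maxHeartbeats 1000000

namespace Cfsg.Lib.Classical.SUThree.Heis

open Cfsg.Lib.Classical Cfsg.Lib.Components.UnitaryThree Cfsg.Lib.Known.PSUThree
open Cfsg.Lib.Classical.ExtraThree (dA mB root_pow root_ne cube_cases)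
open scoped Matrix LinearAlgebra.Projectivization

universe u v

variable {F : Type u} [Field F] [Finite F] {V : Type v} [AddCommGroup V] [Module F V] [FiniteDimensional F V]
  {H : HermSpace F V} {K : Subgroup H.SIsom} {U : UFrame H (Fin 3)} {ω : F} {X Y W G : K} {p : ℕ}

/-- Monomial elements with signs fixing the first line. -/
def signGroup (U : UFrame H (Fin 3)) (K : Subgroup H.SIsom) : Subgroup K where
  carrier := {g | ∃ π : Equiv.Perm (Fin 3), π 0 = 0 ∧ ∀ i, ∃ e : F, e * e = 1 ∧ g.1.1.1 (U.b i) = e • U.b (π i)}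
  one_mem' := ⟨1, rfl, fun i => ⟨1, one_mul _, by rw [one_smul]; rfl⟩⟩
  mul_mem' := by
    rintro g k ⟨π, hπ, hg⟩ ⟨τ, hτ, hk⟩
    refine ⟨π * τ, by rw [Equiv.Perm.mul_apply, hτ, hπ], fun i => ?_⟩
    obtain ⟨e, he, hke⟩ := hk i
    obtain ⟨e', he', hge⟩ := hg (τ i)
    refine ⟨e * e', by linear_combination e' * e' * he + he', ?_⟩
    show (g.1 * k.1).1.1 _ = _
    rw [H.smul_mul_apply, hke, map_smul, hge, smul_smul]
    rfl
  inv_mem' := by
    rintro g ⟨π, hπ, hg⟩
    refine ⟨π⁻¹, by conv_lhs => rw [← hπ]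
                    simp, fun i => ?_⟩
    obtain ⟨j, rfl⟩ := π.surjective i
    obtain ⟨e, he, hge⟩ := hg j
    refine ⟨e, he, ?_⟩
    have h : U.b (π j) = e • g.1.1.1 (U.b j) := by rw [hge, smul_smul, he, one_smul]
    rw [show π⁻¹ (π j) = j by simp, h, map_smul, Subgroup.coe_inv,
      show (g.1⁻¹).1.1 (g.1.1.1 (U.b j)) = U.b j from H.inv_apply_self g.1.1 _]

theorem signGroup_four {g : K} (hg : g ∈ signGroup U K) : g ^ 4 = 1 := by
  obtain ⟨π, hπ, h⟩ := hg
  have key : ∀ π : Equiv.Perm (Fin 3), π 0 = 0 → ∀ i, π (π i) = i := by decide +kernel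
  choose e he hge using h
  have h2 : Dg U (g * g).1 (fun i => e i * e (π i)) := fun i => by
    show (g.1 * g.1).1.1 _ = _
    rw [H.smul_mul_apply, hge, map_smul, hge, key π hπ, smul_smul]
  refine Subtype.ext (Dg.ext (U := U) (d := fun _ => 1) (fun i => ?_) fun i => by rw [one_smul]; rfl)
  rw [show g ^ 4 = g * g * (g * g) by simp only [pow_succ, pow_zero, one_mul, mul_assoc], Subgroup.coe_mul,
    (h2.mul h2) i, Pi.mul_apply]
  congr 1
  linear_combination e (π i) * e (π i) * he i + he (π i)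

theorem dg_mem_signGroup {g : K} {d : Fin 3 → F} (h : Dg U g.1 d) (hd : ∀ i, d i * d i = 1) : g ∈ signGroup U K :=
  ⟨1, rfl, fun i => ⟨d i, hd i, h i⟩⟩

variable (A : Amb K p) (M : Model K U ω X Y W G)
include A M

theorem t_mem_signGroup : W * W ∈ signGroup U K := by
  obtain ⟨h0, h1, h2⟩ := M.t_apply
  refine ⟨Equiv.swap 1 2, by decide, fun i => ⟨-1, by ring, ?_⟩⟩
  fin_cases i
  · show (W * W).1.1.1 (U.b 0) = _; rw [h0, neg_one_smul]; rfl
  · show (W * W).1.1.1 (U.b 1) = _; rw [h1, neg_one_smul]; rfl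
  · show (W * W).1.1.1 (U.b 2) = _; rw [h2, neg_one_smul]; rfl

theorem t_ne_one : W * W ≠ 1 := fun e => by
  have h := M.t_apply.1
  rw [e] at h
  have : U.b 0 = -U.b 0 := h
  have h2 : (2 : F) • U.b 0 = 0 := by linear_combination (norm := module) this
  exact U.b.ne_zero 0 ((smul_eq_zero.1 h2).resolve_left A.two)

theorem t_pr_ne_one : pr K (W * W) ≠ 1 := fun e => t_ne_one A M (by
  obtain ⟨a, ha⟩ := (pr_eq_one A.dim).1 e
  have h1 := ha (U.b 1)
  rw [M.t_apply.2.1] at h1
  have := congrArg (fun x => U.co x 2) h1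
  simp [UFrame.co, H.neg_left, H.smul_left, U.b_ne, U.b_self] at this)

theorem orderOf_W : orderOf (pr K W) = 4 := by
  haveI : Fact (Nat.Prime 2) := ⟨Nat.prime_two⟩
  refine orderOf_eq_prime_pow (p := 2) (n := 1) ?_ ?_
  · rw [pow_one, pow_two, ← map_mul]; exact t_pr_ne_one A M
  · rw [← map_pow, show W ^ (2 ^ (1 + 1)) = W * W * (W * W) by simp [pow_succ, mul_assoc], M.t_sq, map_one]

/-- No involution centralises the diagonal element of order three. -/
theorem no_comm_X {s : K} (hs : s * s = 1) (h1 : s ≠ 1) (hc : s * X = X * s) : False := by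
  classical
  haveI : Fact (Nat.Prime 2) := ⟨Nat.prime_two⟩
  have hd := A.dim
  obtain ⟨d, hsd⟩ := M.X_dg.comm M.X_inj (g := s.1) (congrArg Subtype.val hc)
  obtain ⟨r0, r1, hr0, hr1⟩ := exists_signs A M hsd hs h1
  have hb0 : H.h (U.b 0) (U.b 0) ≠ 0 := by rw [U.b_self]; exact one_ne_zero
  have hb1 : H.h (U.b 1) (U.b 1) ≠ 0 := by rw [U.b_self]; exact one_ne_zero
  have hR0 : Refl (U.b 0) r0.1 := by
    refine ⟨hb0, by rw [hr0 0]; simp, fun x hx => U.ext_co fun j => ?_⟩
    rw [hr0.co, show U.co (-x) j = -U.co x j from H.neg_left _ _]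
    fin_cases j <;> simp [show U.co x 0 = 0 from hx]
  have hR1 : Refl (U.b 1) r1.1 := by
    refine ⟨hb1, by rw [hr1 1]; simp, fun x hx => U.ext_co fun j => ?_⟩
    rw [hr1.co, show U.co (-x) j = -U.co x j from H.neg_left _ _]
    fin_cases j <;> simp [show U.co x 1 = 0 from hx]
  have hr0sq : r0 ^ 2 = 1 := by rw [pow_two]; exact Subtype.ext hR0.sq
  have hr1sq : r1 ^ 2 = 1 := by rw [pow_two]; exact Subtype.ext hR1.sq
  have htsq : (W * W) ^ 2 = 1 := by rw [pow_two]; exact M.t_sq
  -- the elements commuting with `r0` modulo scalars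
  have hfix : ∀ g : K, pr K g * pr K r0 = pr K r0 * pr K g →
      ∃ a : F, g.1.1.1 (U.b 0) = a • U.b 0 := fun g hg =>
    (hR0.comm_iff A.two g.1).1 (congrArg Subtype.val (comm_coprime hd (n := 2) (by norm_num) hr0sq hg))
  have hfour : ∀ g : K, orderOf (pr K g) = 4 → pr K g * pr K r0 = pr K r0 * pr K g →
      ∃ b c : F, g.1.1.1 (U.b 1) = b • U.b 2 ∧ g.1.1.1 (U.b 2) = c • U.b 1 := by
    intro g h4 hg
    obtain ⟨a, ha⟩ := hfix g hg
    refine (monomial_fix A M hr1 ha).resolve_left fun ⟨d, hgd⟩ => ?_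
    have h6 := congrArg (pr K) (Dg.pow_six A M hgd)
    rw [map_pow, map_one] at h6
    have := orderOf_dvd_of_pow_eq_one h6
    rw [h4] at this
    norm_num at this
  -- a Sylow subgroup centralising `r0`
  set S := (signGroup U K).map (pr K)
  have hS : IsPGroup 2 S := by
    rintro ⟨_, g, hg, rfl⟩
    refine ⟨2, Subtype.ext ?_⟩
    show pr K g ^ 2 ^ 2 = 1
    rw [← map_pow, show (2 : ℕ) ^ 2 = 4 from rfl, signGroup_four hg, map_one]
  have hmem : ∀ g ∈ signGroup U K, pr K g ∈ S := fun g hg => ⟨g, hg, rfl⟩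
  obtain ⟨P, hP⟩ := hS.exists_le_sylow
  have hr0S : r0 ∈ signGroup U K := dg_mem_signGroup hr0 fun i => by fin_cases i <;> simp
  have hr1S : r1 ∈ signGroup U K := dg_mem_signGroup hr1 fun i => by fin_cases i <;> simp
  have hPr : ∀ a ∈ (P : Subgroup (Qt K)), a * pr K r0 = pr K r0 * a := by
    haveI : Nontrivial (P : Subgroup (Qt K)) :=
      ⟨⟨⟨_, hP (hmem _ (t_mem_signGroup A M))⟩, 1, fun e => t_pr_ne_one A M (congrArg Subtype.val e)⟩⟩
    haveI := P.2.center_nontrivial
    obtain ⟨z, hz⟩ := exists_prime_orderOf_dvd_card' (G := Subgroup.center (P : Subgroup (Qt K))) 2 (by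
      obtain ⟨k, hk, e⟩ := (P.2.to_subgroup (Subgroup.center _)).nontrivial_iff_card.1 inferInstance
      rw [e]
      exact dvd_pow_self 2 (by omega))
    rw [← Subgroup.orderOf_coe, ← Subgroup.orderOf_coe] at hz
    have hzc : ∀ a ∈ (P : Subgroup (Qt K)), z.1.1 * a = a * z.1.1 := fun a ha =>
      (congrArg Subtype.val (Subgroup.mem_center_iff.1 z.2 ⟨a, ha⟩)).symm
    suffices z.1.1 = pr K r0 from fun a ha => by rw [← this, hzc a ha]
    obtain ⟨e, he, hesq⟩ := lift_coprime hd z.1.1 (by rw [hz]; norm_num)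
    rw [hz] at hesq
    have hcom : ∀ g ∈ signGroup U K, g ^ 2 = 1 → e * g = g * e := fun g hg hg2 =>
      comm_coprime hd (n := 2) (by norm_num) hg2 (by rw [he]; exact hzc _ (hP (hmem g hg)))
    obtain ⟨a, ha⟩ := (hR0.comm_iff A.two e.1).1 (congrArg Subtype.val (hcom r0 hr0S hr0sq))
    obtain ⟨b, hb⟩ := (hR1.comm_iff A.two e.1).1 (congrArg Subtype.val (hcom r1 hr1S hr1sq))
    rcases monomial_fix A M hr1 ha with ⟨ed, hed⟩ | ⟨b', c', hb', -⟩
    swap
    · exfalso
      rw [hb] at hb'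
      have := congrArg (fun x => U.co x 1) hb'
      simp [U.co_smul, U.co_b] at this
      exact H.isom_ne_zero e.1.1 (U.b.ne_zero 1) (by rw [hb, this, zero_smul])
    have hee : e * e = 1 := by rw [← pow_two]; exact hesq
    have h12 : ed 1 = ed 2 := by
      have h := congrArg (fun g : K => g.1.1.1 (U.b 1)) (hcom _ (t_mem_signGroup A M) htsq)
      change e.1.1.1 ((W * W).1.1.1 (U.b 1)) = (W * W).1.1.1 (e.1.1.1 (U.b 1)) at h
      rw [M.t_apply.2.1, map_neg, hed 2, hed 1, map_smul, M.t_apply.2.1, smul_neg, neg_inj] at h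
      exact (smul_left_injective F (U.b.ne_zero 2) h).symm
    have hp := hed.prod
    have h0 : ed 0 = 1 := by
      rcases hed.signs hee 1 with e1 | e1 <;> rw [← h12, e1] at hp <;> linear_combination hp
    rcases hed.signs hee 1 with e1 | e1
    · exfalso
      have : e = 1 := Subtype.ext (Dg.ext hed fun i => by
        fin_cases i <;> simp [h0, e1, ← h12] <;> rfl)
      rw [this, map_one] at he
      rw [← he, orderOf_one] at hz
      omega
    · rw [← he, show e = r0 from Subtype.ext (Dg.ext hed fun i => by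
        rw [hr0 i]
        fin_cases i <;> simp [h0, e1, ← h12])]
  -- the fourth root of the central involution moves to it
  have hQ : IsPGroup 2 (Subgroup.zpowers (pr K W)) :=
    IsPGroup.of_card (n := 2) (by rw [Nat.card_zpowers, orderOf_W A M]; norm_num)
  obtain ⟨Q, hQ⟩ := hQ.exists_le_sylow
  obtain ⟨g, hg⟩ := MulAction.exists_smul_eq (Qt K) Q P
  obtain ⟨g, rfl⟩ := QuotientGroup.mk'_surjective (Zs K) g
  set W' := g * W * g⁻¹ with hW'
  set G' := g * G * g⁻¹ with hG'
  have hordc : ∀ k : K, orderOf (pr K (g * k * g⁻¹)) = orderOf (pr K k) := fun k => by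
    rw [map_mul, map_mul, map_inv, ← MulAut.conj_apply]
    exact orderOf_injective (MulAut.conj (pr K g)).toMonoidHom (MulAut.conj (pr K g)).injective _
  have hW'c : pr K W' * pr K r0 = pr K r0 * pr K W' := hPr _ (by
    rw [← hg, hW', map_mul, map_mul, map_inv]
    exact Subgroup.smul_mem_pointwise_smul (pr K W) (MulAut.conj (pr K g)) (Q : Subgroup (Qt K))
      (hQ (Subgroup.mem_zpowers _)))
  obtain ⟨b, c, hb, hc'⟩ := hfour W' ((hordc W).trans (orderOf_W A M)) hW'c
  obtain ⟨a, ha⟩ := hfix W' hW'c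
  have hsq : Dg U (W' * W').1 ![a * a, c * b, b * c] := fun i => by
    show (W'.1 * W'.1).1.1 _ = _
    rw [H.smul_mul_apply]
    fin_cases i
    · show W'.1.1.1 (W'.1.1.1 (U.b 0)) = _; rw [ha, map_smul, ha, smul_smul]; rfl
    · show W'.1.1.1 (W'.1.1.1 (U.b 1)) = _; rw [hb, map_smul, hc', smul_smul, mul_comm]; rfl
    · show W'.1.1.1 (W'.1.1.1 (U.b 2)) = _; rw [hc', map_smul, hb, smul_smul, mul_comm]; rfl
  have hWW : W' * W' = g * (W * W) * g⁻¹ := by rw [hW']; group
  have hsq1 : W' * W' * (W' * W') = 1 := by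
    rw [hWW, show g * (W * W) * g⁻¹ * (g * (W * W) * g⁻¹) = g * (W * W * (W * W)) * g⁻¹ by group, M.t_sq]
    group
  have hr : W' * W' = r0 := by
    refine Subtype.ext (Dg.ext hsq fun i => ?_)
    have hs1 := hsq.signs hsq1 1
    have hp := hsq.prod
    simp at hs1 hp
    rw [hr0 i]
    rcases hs1 with e | e
    · exfalso
      refine t_ne_one A M ?_
      have h1 : W' * W' = 1 := Subtype.ext (Dg.ext hsq fun j => by
        have e' : b * c = 1 := by rw [mul_comm]; exact e
        rw [e, e', mul_one, mul_one] at hp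
        fin_cases j <;> simp [e, e', hp] <;> rfl)
      rw [hWW] at h1
      calc W * W = g⁻¹ * (g * (W * W) * g⁻¹) * g := by group
        _ = 1 := by rw [h1]; group
    · have e' : b * c = -1 := by rw [mul_comm]; exact e
      rw [e, e'] at hp
      have e0 : a * a = 1 := by linear_combination hp
      fin_cases i <;> simp [e, e', e0]
  have hG'c : pr K G' * pr K r0 = pr K r0 * pr K G' := by
    rw [← hr, ← map_mul, ← map_mul, hWW, hG']
    congr 1
    calc g * G * g⁻¹ * (g * (W * W) * g⁻¹) = g * (G * (W * W)) * g⁻¹ := by group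
      _ = _ := by rw [M.G_comm_t]; group
  have hG4 : orderOf (pr K G') = 4 := by
    rw [hordc]
    haveI : Fact (Nat.Prime 2) := ⟨Nat.prime_two⟩
    refine orderOf_eq_prime_pow (p := 2) (n := 1) ?_ ?_
    · rw [pow_one, pow_two, ← map_mul, M.G_sq]; exact t_pr_ne_one A M
    · rw [← map_pow, show G ^ (2 ^ (1 + 1)) = G * G * (G * G) by simp [pow_succ, mul_assoc], M.G_sq, M.t_sq, map_one]
  obtain ⟨b', c'', hb', hc''⟩ := hfour G' hG4 hG'c
  obtain ⟨a', ha'⟩ := hfix G' hG'c
  have hprod : Dg U (W' * G').1 ![a' * a, b' * c, c'' * b] := fun i => by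
    show (W'.1 * G'.1).1.1 _ = _
    rw [H.smul_mul_apply]
    fin_cases i
    · show W'.1.1.1 (G'.1.1.1 (U.b 0)) = _; rw [ha', map_smul, ha, smul_smul]; rfl
    · show W'.1.1.1 (G'.1.1.1 (U.b 1)) = _; rw [hb', map_smul, hc', smul_smul]; rfl
    · show W'.1.1.1 (G'.1.1.1 (U.b 2)) = _; rw [hc'', map_smul, hb, smul_smul]; rfl
  have h6 := Dg.pow_six A M hprod
  refine t_ne_one A M ?_
  rw [show W' * G' = g * (W * G) * g⁻¹ by rw [hW', hG']; group, conj_pow, mul_inv_eq_one,
    mul_eq_left] at h6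
  calc W * W = W * W * (W * W * (W * W)) := by rw [M.t_sq, mul_one]
    _ = (W * G * (W * G)) * ((W * G * (W * G)) * (W * G * (W * G))) := by rw [M.WG_sq]
    _ = (W * G) ^ 6 := by simp only [pow_succ, pow_zero, one_mul, mul_assoc]
    _ = 1 := h6

end Cfsg.Lib.Classical.SUThree.Heis
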