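import Cfsg.Agent.Classical.SUThree.HeisRegular
import Cfsg.Agent.Classical.SUThree.HeisCount

/-!
There is no insoluble irreducible group without transvections over the normaliser of a Heisenberg group.
-/

set_option autoImplicit false
set_option linter.unusedSectionVars false
set_option linter.style.haveILetI false

namespace Cfsg.Lib.Classical.SUThree.Heis

open Cfsg.Lib.Classical Cfsg.Lib.Known.PSUThree
open scoped Matrix LinearAlgebra.Projectivization

universe u v

variable {F : Type u} [Field F] [Finite F] {V : Type v} [AddCommGroup V] [Module F V] [FiniteDimensional F V]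
  {H : HermSpace F V} {K : Subgroup H.SIsom} {U : UFrame H (Fin 3)} {ω : F} {X Y W G : K} {p : ℕ}

theorem no_overgroup (A : Amb K p) (M : Model K U ω X Y W G) : False := by
  classical
  obtain ⟨bs, q, q', S⟩ := exists_split A M
  have C := coset A M S
  obtain ⟨b, hb, hbt, hne, -⟩ := exists_other A M S
  refine HeisCount.no_group (p := p) (t := pr K (W * W)) (x := pr K X) (A := Tor bs K) (w := Nat.card C.chi.ker)
    { prime := A.prime
      five := A.eleven
      ord_t := orderOf_t A M S
      inv_class := fun _ hs => inv_class A M S hs
      ord_x := orderOf_X A M
      three_class := fun _ hy => three_class A M hy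
      card_x := card_X A M
      exp_x := fun _ hc => exp_X A M hc
      card_A := C.card_A hb hbt hne
      four := C.four_dvd hb hbt hne
      A_le := C.le_centralizer
      t_mem := t_mem A M S
      card_t := C.card_centralizer hb hbt hne
      A_inv := fun _ ha h => tor_inv A M S ha h
      A_cent := fun _ ha h1 ht => tor_cent A M S ha h1 ht
      A_ord := fun _ ha => ⟨tor_no_three A M S ha, tor_no_char A M S ha⟩
      out_ord := fun _ hc hcA => C.out_ord hb hbt hne hc hcA
      out_four := C.out_four hb hbt hne
      A_conj := fun _ hc _ ha => C.normal_in hc ha
      regular := fun u hu h5 hup => regular A M u hu h5 hup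
      p_small := fun P hP => p_small A M P hP
      p_cyclic := fun P hP => p_cyclic A M P hP
      p_A := fun P hP g h hh hA h5 a ha => p_abelian A M S P hP g h hh hA h5 a ha }

end Cfsg.Lib.Classical.SUThree.Heis
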