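import Cfsg.Agent.Classical.SUThree.HeisTwo

/-!
The abelian subgroup of index two in the centraliser of an involution, modulo scalars, in an overgroup of the
normaliser of a Heisenberg group.
-/

set_option autoImplicit false
set_option linter.unusedSectionVars false
set_option linter.unusedSimpArgs false
set_option linter.style.haveILetI false
set_option maxHeartbeats 1000000

namespace Cfsg.Lib.Classical.SUThree.Heis

open Cfsg.Lib.Classical Cfsg.Lib.Components.UnitaryThree Cfsg.Lib.Known.PSUThree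
open scoped Matrix LinearAlgebra.Projectivization

universe u v

variable {F : Type u} [Field F] [Finite F] {V : Type v} [AddCommGroup V] [Module F V] [FiniteDimensional F V]
  {H : HermSpace F V} {K : Subgroup H.SIsom} {U : UFrame H (Fin 3)} {ω : F} {X Y W G : K} {p : ℕ}
  {bs : Module.Basis (Fin 3) F V} {t q q' : K}

theorem Dv.mul {g k : H.SIsom} {d e : Fin 3 → F} (h : Dv bs g d) (h' : Dv bs k e) : Dv bs (g * k) (d * e) := fun i => by
  rw [H.smul_mul_apply, h' i, map_smul, h i, smul_smul, Pi.mul_apply, mul_comm]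

theorem Dv.ne_zero {g : H.SIsom} {d : Fin 3 → F} (h : Dv bs g d) (i : Fin 3) : d i ≠ 0 := fun e =>
  H.isom_ne_zero g.1 (bs.ne_zero i) (by rw [h i, e, zero_smul])

theorem Dv.pow {g : H.SIsom} {d : Fin 3 → F} (h : Dv bs g d) : ∀ n : ℕ, Dv bs (g ^ n) (d ^ n)
  | 0 => fun i => by simp
  | n + 1 => by rw [pow_succ, pow_succ]; exact (h.pow n).mul h

theorem Dv.prod {g : H.SIsom} {d : Fin 3 → F} (h : Dv bs g d) : d 0 * d 1 * d 2 = 1 := by
  refine eig_prod (by rw [Module.finrank_eq_card_basis bs, Fintype.card_fin]) g ?_ (h 0) (h 1) (h 2)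
  convert bs.linearIndependent using 1
  funext i
  fin_cases i <;> rfl

/-- An element that is a multiple of a diagonal one on a basis is equal to it modulo scalars. -/
theorem pr_eq_of_dv (hd : Module.finrank F V = 3) {g k : K} {d e : Fin 3 → F} (h : Dv bs g.1 d) (h' : Dv bs k.1 e)
    {a : F} (ha : ∀ i, d i = a * e i) : pr K g = pr K k :=
  (pr_eq hd).2 ⟨a, fun x => LinearMap.congr_fun
    (bs.ext (f₁ := g.1.1.1.toLinearMap) (f₂ := a • k.1.1.1.toLinearMap) fun i => by
      show g.1.1.1 (bs i) = a • k.1.1.1 (bs i)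
      rw [h, h', smul_smul, ha]) x⟩

/-- A diagonal element with one eigenvalue is scalar. -/
theorem pr_one_of_dv (hd : Module.finrank F V = 3) {g : K} {d : Fin 3 → F} (h : Dv bs g.1 d) {a : F}
    (ha : ∀ i, d i = a) : pr K g = 1 := by
  rw [← map_one (pr K)]
  refine pr_eq_of_dv hd h (k := 1) (e := fun _ => 1) (fun i => ?_) (a := a) fun i => by rw [mul_one, ha]
  rw [one_smul]; rfl

/-- The diagonal elements. -/
def Dgrp (bs : Module.Basis (Fin 3) F V) (K : Subgroup H.SIsom) : Subgroup K where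
  carrier := {g | ∃ d, Dv bs g.1 d}
  one_mem' := ⟨fun _ => 1, fun i => by rw [one_smul]; rfl⟩
  mul_mem' := fun ⟨d, h⟩ ⟨e, h'⟩ => ⟨d * e, h.mul h'⟩
  inv_mem' := by
    rintro g ⟨d, h⟩
    refine ⟨fun i => (d i)⁻¹, fun i => ?_⟩
    rw [Subgroup.coe_inv]
    conv_lhs => rw [show bs i = (d i)⁻¹ • g.1.1.1 (bs i) by rw [h, smul_smul, inv_mul_cancel₀ (h.ne_zero i), one_smul]]
    rw [map_smul, show (g.1⁻¹).1.1 (g.1.1.1 (bs i)) = bs i from H.inv_apply_self g.1.1 _]

/-- The abelian part of the centraliser. -/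
noncomputable def Tor (bs : Module.Basis (Fin 3) F V) (K : Subgroup H.SIsom) : Subgroup (Qt K) :=
  (Dgrp bs K).map (pr K)

theorem mem_Tor (hd : Module.finrank F V = 3) {g : K} : pr K g ∈ Tor bs K ↔ ∃ d, Dv bs g.1 d := by
  refine ⟨fun ⟨k, ⟨d, hk⟩, e⟩ => ?_, fun h => ⟨g, h, rfl⟩⟩
  obtain ⟨a, ha⟩ := (pr_eq hd).1 e.symm
  exact ⟨fun i => a * d i, fun i => by rw [ha, hk, smul_smul]⟩

theorem tor_comm {a b : Qt K} (ha : a ∈ Tor bs K) (hb : b ∈ Tor bs K) : a * b = b * a := by
  obtain ⟨g, ⟨d, hg⟩, rfl⟩ := ha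
  obtain ⟨k, ⟨e, hk⟩, rfl⟩ := hb
  rw [← map_mul, ← map_mul, show g * k = k * g from Subtype.ext (hg.commute hk)]

variable (A : Amb K p) (M : Model K U ω X Y W G) (S : Split K bs t q q')
include A M S

theorem t_sq' : t * t = 1 := Subtype.ext S.refl.sq

theorem t_dv : Dv bs t.1 ![1, -1, -1] := fun i => by
  fin_cases i
  · show t.1.1.1 (bs 0) = (1 : F) • bs 0; rw [one_smul, S.refl.2.1]
  · show t.1.1.1 (bs 1) = (-1 : F) • bs 1; rw [neg_one_smul, S.refl.2.2 _ S.perp.1]
  · show t.1.1.1 (bs 2) = (-1 : F) • bs 2; rw [neg_one_smul, S.refl.2.2 _ S.perp.2]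

theorem t_mem : pr K t ∈ Tor bs K := (mem_Tor A.dim).2 ⟨_, t_dv A M S⟩

theorem q_mem : pr K q ∈ Tor bs K := (mem_Tor A.dim).2 S.q_diag

theorem orderOf_t : orderOf (pr K t) = 2 := by
  haveI : Fact (Nat.Prime 2) := ⟨Nat.prime_two⟩
  exact orderOf_eq_prime (by rw [pow_two, ← map_mul, t_sq' A M S, map_one]) S.t_ne

theorem orderOf_q : orderOf (pr K q) = 4 := by
  haveI : Fact (Nat.Prime 2) := ⟨Nat.prime_two⟩
  refine orderOf_eq_prime_pow (p := 2) (n := 1) ?_ ?_
  · rw [pow_one, pow_two, ← map_mul, S.q_sq]; exact S.t_ne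
  · rw [← map_pow, show q ^ (2 ^ (1 + 1)) = q * q * (q * q) by simp [pow_succ, mul_assoc], S.q_sq, t_sq' A M S,
      map_one]

theorem comm_t {g : K} : pr K g * pr K t = pr K t * pr K g ↔ g * t = t * g :=
  ⟨fun h => comm_coprime A.dim (n := 2) (by norm_num) (by rw [pow_two]; exact t_sq' A M S) h,
    fun h => by rw [← map_mul, h, map_mul]⟩

theorem tor_le {a : Qt K} (ha : a ∈ Tor bs K) : a * pr K t = pr K t * a := tor_comm ha (t_mem A M S)

theorem q'_not_mem : pr K q' ∉ Tor bs K := by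
  rw [mem_Tor A.dim]
  rintro ⟨d, hd⟩
  obtain ⟨b, c, hb, -⟩ := S.q'_swap
  rw [hd 1] at hb
  have := congrArg (fun x => bs.repr x 1) hb
  simp at this
  exact hd.ne_zero 1 this

theorem q'_comm : pr K q' * pr K t = pr K t * pr K q' := by
  rw [← map_mul, ← map_mul, ← S.q'_sq, mul_assoc]

/-- The centraliser of the involution is the abelian part and one further coset. -/
theorem cent_cases {c : Qt K} (hc : c * pr K t = pr K t * c) :
    c ∈ Tor bs K ∨ (pr K q')⁻¹ * c ∈ Tor bs K := by
  obtain ⟨g, rfl⟩ := QuotientGroup.mk'_surjective (Zs K) c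
  rcases S.dichotomy g ((comm_t A M S).1 hc) with h | h
  · exact Or.inl ((mem_Tor A.dim).2 h)
  · right
    rw [← map_inv, ← map_mul, mem_Tor A.dim]
    have hk : q'⁻¹ * g * t = t * (q'⁻¹ * g) := by
      rw [mul_assoc, (comm_t A M S).1 hc, ← mul_assoc, ← mul_assoc]
      congr 1
      rw [← S.q'_sq]
      group
    refine (S.dichotomy (q'⁻¹ * g) hk).resolve_right fun h' => ?_
    obtain ⟨b, c, hb, -⟩ := h
    obtain ⟨b', c', hb', -⟩ := h'
    obtain ⟨b'', c'', hb'', hc''⟩ := S.q'_swap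
    have e : g.1.1.1 (bs 1) = q'.1.1.1 ((q'⁻¹ * g).1.1.1 (bs 1)) := by
      show _ = q'.1.1.1 ((q'.1⁻¹).1.1 (g.1.1.1 (bs 1)))
      rw [show q'.1.1.1 ((q'.1⁻¹).1.1 (g.1.1.1 (bs 1))) = g.1.1.1 (bs 1) from H.apply_inv_self _ _]
    rw [hb', map_smul, hc'', hb, smul_smul] at e
    have := congrArg (fun x => bs.repr x 2) e
    simp at this
    rw [this, zero_smul] at hb
    exact H.isom_ne_zero g.1.1 (bs.ne_zero 1) hb

/-- The twist of a diagonal element is a homology, trivial or the involution modulo scalars. -/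
theorem twist_cases {g : K} {d : Fin 3 → F} (h : Dv bs g.1 d) :
    (d 0 ^ 3 = 1 ∨ d 0 ^ 3 = -1) ∧ (pr K (q' * g * q'⁻¹ * g) = 1 ∨ pr K (q' * g * q'⁻¹ * g) = pr K t) := by
  obtain ⟨b, c, hb, hc⟩ := S.q'_swap
  obtain ⟨e, he⟩ := (S.refl.comm_iff A.two q'.1).1 (congrArg Subtype.val (show q' * t = t * q' by
    rw [← S.q'_sq, mul_assoc]))
  have hb0 : b ≠ 0 := fun h0 => H.isom_ne_zero q'.1.1 (bs.ne_zero 1) (by rw [hb, h0, zero_smul])
  have hc0 : c ≠ 0 := fun h0 => H.isom_ne_zero q'.1.1 (bs.ne_zero 2) (by rw [hc, h0, zero_smul])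
  have he0 : e ≠ 0 := fun h0 => H.isom_ne_zero q'.1.1 (bs.ne_zero 0) (by rw [he, h0, zero_smul])
  have hinv : ∀ (x y : V) (s : F), s ≠ 0 → q'.1.1.1 x = s • y → (q'.1⁻¹).1.1 y = s⁻¹ • x := by
    intro x y s hs hx
    rw [show y = s⁻¹ • q'.1.1.1 x by rw [hx, smul_smul, inv_mul_cancel₀ hs, one_smul], map_smul,
      show (q'.1⁻¹).1.1 (q'.1.1.1 x) = x from H.inv_apply_self _ _]
  have hh : Dv bs (q' * g * q'⁻¹ * g).1 ![d 0 * d 0, d 2 * d 1, d 1 * d 2] := by
    intro i
    show q'.1.1.1 (g.1.1.1 ((q'.1⁻¹).1.1 (g.1.1.1 (bs i)))) = _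
    rw [h i, map_smul, map_smul, map_smul]
    fin_cases i
    · show d 0 • q'.1.1.1 (g.1.1.1 ((q'.1⁻¹).1.1 (bs 0))) = (d 0 * d 0) • bs 0
      rw [hinv _ _ _ he0 he, map_smul, h 0, smul_smul, map_smul, he, smul_smul, smul_smul]
      congr 1
      field_simp
    · show d 1 • q'.1.1.1 (g.1.1.1 ((q'.1⁻¹).1.1 (bs 1))) = (d 2 * d 1) • bs 1
      rw [hinv _ _ _ hc0 hc, map_smul, h 2, smul_smul, map_smul, hc, smul_smul, smul_smul]
      congr 1
      field_simp
    · show d 2 • q'.1.1.1 (g.1.1.1 ((q'.1⁻¹).1.1 (bs 2))) = (d 1 * d 2) • bs 2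
      rw [hinv _ _ _ hb0 hb, map_smul, h 1, smul_smul, map_smul, hb, smul_smul, smul_smul]
      congr 1
      field_simp
  have hl : d 1 * d 2 ≠ 0 := mul_ne_zero (h.ne_zero 1) (h.ne_zero 2)
  have hr := A.ratio (K := K) (z := bs 0) (r := d 0 * d 0 / (d 1 * d 2))
    ⟨S.refl.1, (q' * g * q'⁻¹ * g).1, (q' * g * q'⁻¹ * g).2, d 1 * d 2,
      by rw [div_mul_cancel₀ _ hl]; exact hh 0, fun x hx => by
        have e := bs.sum_repr x
        rw [Fin.sum_univ_three] at e
        have h0 : bs.repr x 0 = 0 := by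
          rw [← e, H.add_left, H.add_left, H.smul_left, H.smul_left, H.smul_left, S.perp.1, S.perp.2, mul_zero,
            mul_zero, add_zero, add_zero] at hx
          exact (mul_eq_zero.1 hx).resolve_right S.refl.1
        rw [h0, zero_smul, zero_add] at e
        conv_lhs => rw [← e]
        conv_rhs => rw [← e]
        rw [map_add, map_smul, map_smul, hh 1, hh 2]
        simp only [smul_add, smul_smul]
        congr 1 <;> congr 1
        · show _ * (d 2 * d 1) = _; ring
        · show _ * (d 1 * d 2) = _; ring⟩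
  have hp := h.prod
  rcases mul_self_eq_one_iff.1 ((pow_two _).symm.trans hr) with e1 | e1 <;> rw [div_eq_iff hl] at e1
  · refine ⟨Or.inl (by linear_combination d 0 * e1 + hp), Or.inl (pr_one_of_dv A.dim hh (a := d 1 * d 2) fun i => ?_)⟩
    fin_cases i
    · show d 0 * d 0 = _; linear_combination e1
    · show d 2 * d 1 = _; ring
    · rfl
  · refine ⟨Or.inr (by linear_combination d 0 * e1 - hp),
      Or.inr (pr_eq_of_dv A.dim hh (t_dv A M S) (a := -(d 1 * d 2)) fun i => ?_)⟩
    fin_cases i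
    · show d 0 * d 0 = _ * 1; linear_combination e1
    · show d 2 * d 1 = _ * -1; ring
    · show d 1 * d 2 = _ * -1; ring

theorem twist_mem {a : Qt K} (ha : a ∈ Tor bs K) :
    pr K q' * a * (pr K q')⁻¹ * a = 1 ∨ pr K q' * a * (pr K q')⁻¹ * a = pr K t := by
  obtain ⟨g, ⟨d, hg⟩, rfl⟩ := ha
  rw [← map_inv, ← map_mul, ← map_mul, ← map_mul]
  exact (twist_cases A M S hg).2

theorem conj_mem {a : Qt K} (ha : a ∈ Tor bs K) : pr K q' * a * (pr K q')⁻¹ ∈ Tor bs K := by
  rcases twist_mem A M S ha with h | h <;> rw [eq_mul_inv_of_mul_eq h]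
  · exact Subgroup.mul_mem _ (one_mem _) (inv_mem ha)
  · exact Subgroup.mul_mem _ (t_mem A M S) (inv_mem ha)

/-- The only involution of the abelian part. -/
theorem tor_inv {a : Qt K} (ha : a ∈ Tor bs K) (h2 : orderOf a = 2) : a = pr K t := by
  obtain ⟨s, hs, hs2⟩ := lift_coprime A.dim a (by rw [h2]; norm_num)
  rw [h2, pow_two] at hs2
  rw [← hs, mem_Tor A.dim] at ha
  obtain ⟨d, hsd⟩ := ha
  have hsg : ∀ i, d i = 1 ∨ d i = -1 := fun i => mul_self_eq_one_iff.1 (smul_left_injective F (bs.ne_zero i) (by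
    show (d i * d i) • bs i = (1 : F) • bs i
    rw [← smul_smul, ← hsd i, ← map_smul, ← hsd i, one_smul, ← H.smul_mul_apply, ← Subgroup.coe_mul, hs2]
    rfl))
  obtain ⟨e, hqd⟩ := S.q_diag
  have hqq : ∀ i, e i * e i = ![1, -1, -1] i := fun i => smul_left_injective F (bs.ne_zero i) (by
    show (e * e) i • bs i = ![1, -1, -1] i • bs i
    rw [← (hqd.mul hqd) i, ← Subgroup.coe_mul, S.q_sq, t_dv A M S i])
  have hq0 : e 0 * e 0 = 1 := hqq 0
  have hq1 : e 1 * e 1 = -1 := hqq 1
  have hq2 : e 2 * e 2 = -1 := hqq 2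
  -- no element of the group acts as a scalar on the line and with square ratio minus one
  have hbad : ∀ (g : K) (f : Fin 3 → F), Dv bs g.1 f → f 0 * f 0 = 1 → f 1 * f 1 = -1 → f 1 = f 2 → False := by
    intro g f hg h0 h1 h12
    have hf1 := hg.ne_zero 1
    have hr := A.ratio (K := K) (z := bs 0) (r := f 0 / f 1)
      ⟨S.refl.1, g.1, g.2, f 1, by rw [div_mul_cancel₀ _ hf1]; exact hg 0, fun x hx => by
        have e := bs.sum_repr x
        rw [Fin.sum_univ_three] at e
        have hx0 : bs.repr x 0 = 0 := by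
          rw [← e, H.add_left, H.add_left, H.smul_left, H.smul_left, H.smul_left, S.perp.1, S.perp.2, mul_zero,
            mul_zero, add_zero, add_zero] at hx
          exact (mul_eq_zero.1 hx).resolve_right S.refl.1
        rw [hx0, zero_smul, zero_add] at e
        conv_lhs => rw [← e]
        conv_rhs => rw [← e]
        rw [map_add, map_smul, map_smul, hg 1, hg 2, ← h12]
        simp only [smul_add, smul_smul, mul_comm]⟩
    rw [div_pow, div_eq_one_iff_eq (pow_ne_zero _ hf1), pow_two, pow_two, h0, h1] at hr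
    exact A.two (by linear_combination hr)
  have he12 : e 2 = -e 1 := by
    rcases mul_self_eq_mul_self_iff.1 (hq2.trans hq1.symm) with h | h
    · exact (hbad q e hqd hq0 hq1 h.symm).elim
    · exact h
  have hp := hsd.prod
  rw [← hs]
  rcases hsg 1 with e1 | e1 <;> rcases hsg 2 with e2 | e2 <;> rw [e1, e2] at hp
  · exfalso
    have : pr K s = 1 := pr_one_of_dv A.dim hsd (a := 1) fun i => by
      fin_cases i
      · show d 0 = 1; linear_combination hp
      · exact e1
      · exact e2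
    rw [← hs, this, orderOf_one] at h2
    omega
  · exfalso
    refine hbad (s * q) _ (hsd.mul hqd) ?_ ?_ ?_ <;> simp only [Pi.mul_apply, e1, e2, he12]
    · have : d 0 = -1 := by linear_combination -hp
      rw [this]; linear_combination hq0
    · linear_combination hq1
    · ring
  · exfalso
    refine hbad (s * q) _ (hsd.mul hqd) ?_ ?_ ?_ <;> simp only [Pi.mul_apply, e1, e2, he12]
    · have : d 0 = -1 := by linear_combination -hp
      rw [this]; linear_combination hq0
    · linear_combination hq1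
    · ring
  · exact pr_eq_of_dv A.dim hsd (t_dv A M S) (a := 1) fun i => by
      fin_cases i
      · show d 0 = 1 * 1; linear_combination hp
      · show d 1 = 1 * -1; rw [e1, one_mul]
      · show d 2 = 1 * -1; rw [e2, one_mul]

theorem tor_no_three {a : Qt K} (ha : a ∈ Tor bs K) : orderOf a ≠ 3 := fun h3 =>
  no_comm A M (orderOf_t A M S) h3 (tor_le A M S ha).symm

theorem tor_no_char {a : Qt K} (ha : a ∈ Tor bs K) : orderOf a ≠ p := by
  intro hap
  obtain ⟨g, ⟨d, hg⟩, rfl⟩ := ha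
  have h1 : pr K (g ^ p) = 1 := by rw [map_pow, ← hap, pow_orderOf_eq_one]
  obtain ⟨a, ha⟩ := (pr_eq_one A.dim).1 h1
  haveI := A.chr
  haveI : Fact p.Prime := ⟨A.prime⟩
  have hdp : ∀ i, d i ^ p = a := fun i => smul_left_injective F (bs.ne_zero i)
    (by
      show d i ^ p • bs i = a • bs i
      rw [← Pi.pow_apply, ← hg.pow p i, ← Subgroup.coe_pow, ha])
  have : pr K g = 1 := pr_one_of_dv A.dim hg (a := d 0) fun i =>
    frobenius_inj F p (by rw [frobenius_def, frobenius_def, hdp, hdp])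
  rw [this, orderOf_one] at hap
  exact A.prime.one_lt.ne hap

/-- A further element of the abelian part is regular. -/
theorem tor_regular {g : K} {d : Fin 3 → F} (hg : Dv bs g.1 d) (h1 : pr K g ≠ 1) (ht : pr K g ≠ pr K t) :
    Function.Injective d := by
  classical
  have hat : pr K g ∈ Tor bs K := (mem_Tor A.dim).2 ⟨d, hg⟩
  obtain ⟨hd3, -⟩ := twist_cases A M S hg
  have hsmall : ∀ {b : Qt K}, b ∈ Tor bs K → b ^ 2 = 1 → b = 1 ∨ b = pr K t := fun {b} hb hb2 => by
    haveI : Fact (Nat.Prime 2) := ⟨Nat.prime_two⟩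
    by_cases hb1 : b = 1
    · exact Or.inl hb1
    · exact Or.inr (tor_inv A M S hb (orderOf_eq_prime hb2 hb1))
  -- distinct eigenvalues
  have hsix : d 0 = d 1 ∨ d 0 = d 2 → False := fun h => by
    have hp := hg.prod
    have hd6 : ∀ i, d i ^ 6 = 1 := by
      have h06 : d 0 ^ 6 = 1 := by
        rcases hd3 with e | e
        · linear_combination (d 0 ^ 3) * e + e
        · linear_combination (d 0 ^ 3) * e - e
      rcases h with h | h
      · intro i; fin_cases i
        · exact h06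
        · show d 1 ^ 6 = 1; rw [← h]; exact h06
        · show d 2 ^ 6 = 1
          rw [← h] at hp
          have : (d 0 * d 0 * d 2) ^ 6 = 1 := by rw [hp, one_pow]
          rwa [mul_pow, mul_pow, h06, one_mul, one_mul] at this
      · intro i; fin_cases i
        · exact h06
        · show d 1 ^ 6 = 1
          rw [← h] at hp
          have : (d 0 * d 1 * d 0) ^ 6 = 1 := by rw [hp, one_pow]
          rwa [mul_pow, mul_pow, h06, mul_one, one_mul] at this
        · show d 2 ^ 6 = 1; rw [← h]; exact h06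
    have h6 : pr K g ^ 6 = 1 := by
      rw [← map_pow]
      exact pr_one_of_dv A.dim (g := g ^ 6) (d := d ^ 6) (by rw [Subgroup.coe_pow]; exact hg.pow 6) (a := 1) fun i => hd6 i
    have h2 : pr K g ^ 2 = 1 := by
      by_contra hne
      haveI : Fact (Nat.Prime 3) := ⟨Nat.prime_three⟩
      exact tor_no_three A M S (pow_mem hat 2) (orderOf_eq_prime (by rw [← pow_mul]; exact h6) hne)
    rcases hsmall hat h2 with e | e
    exacts [h1 e, ht e]
  have h12 : d 1 ≠ d 2 := fun h => by
    have hd0 := hg.ne_zero 1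
    have hr := A.ratio (K := K) (z := bs 0) (r := d 0 / d 1)
      ⟨S.refl.1, g.1, g.2, d 1, by rw [div_mul_cancel₀ _ hd0]; exact hg 0, fun x hx => by
        have e := bs.sum_repr x
        rw [Fin.sum_univ_three] at e
        have hx0 : bs.repr x 0 = 0 := by
          rw [← e, H.add_left, H.add_left, H.smul_left, H.smul_left, H.smul_left, S.perp.1, S.perp.2, mul_zero,
            mul_zero, add_zero, add_zero] at hx
          exact (mul_eq_zero.1 hx).resolve_right S.refl.1
        rw [hx0, zero_smul, zero_add] at e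
        conv_lhs => rw [← e]
        conv_rhs => rw [← e]
        rw [map_add, map_smul, map_smul, hg 1, hg 2, ← h]
        simp only [smul_add, smul_smul, mul_comm]⟩
    rw [pow_two] at hr
    rcases mul_self_eq_one_iff.1 hr with e | e <;> rw [div_eq_iff hd0] at e
    · exact hsix (Or.inl (by linear_combination e))
    · refine ht (pr_eq_of_dv A.dim hg (t_dv A M S) (a := -d 1) fun i => ?_)
      fin_cases i
      · show d 0 = -d 1 * 1; linear_combination e
      · show d 1 = -d 1 * -1; ring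
      · show d 2 = -d 1 * -1; rw [← h]; ring
  intro i j hij
  fin_cases i <;> fin_cases j <;> first
    | rfl
    | exact (hsix (Or.inl hij)).elim
    | exact (hsix (Or.inl hij.symm)).elim
    | exact (hsix (Or.inr hij)).elim
    | exact (hsix (Or.inr hij.symm)).elim
    | exact (h12 hij).elim
    | exact (h12 hij.symm).elim

/-- The centraliser of a further element of the abelian part. -/
theorem tor_cent {a : Qt K} (ha : a ∈ Tor bs K) (h1 : a ≠ 1) (ht : a ≠ pr K t) :
    Subgroup.centralizer ({a} : Set (Qt K)) = Tor bs K := by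
  classical
  refine le_antisymm (fun c hc => ?_) fun c hc => Subgroup.mem_centralizer_singleton_iff.2 (tor_comm hc ha)
  have hat := ha
  obtain ⟨g, ⟨d, hg⟩, rfl⟩ := ha
  have hinj : Function.Injective d := tor_regular A M S hg h1 ht
  obtain ⟨k, rfl⟩ := QuotientGroup.mk'_surjective (Zs K) c
  obtain ⟨z, hz⟩ := (pr_eq (g := k * g) (k := g * k) A.dim).1 (by
    rw [map_mul, map_mul]; exact Subgroup.mem_centralizer_singleton_iff.1 hc)
  have hrep : ∀ x j, bs.repr (g.1.1.1 x) j = d j * bs.repr x j := by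
    intro x j
    have e : bs.coord j ∘ₗ g.1.1.1.toLinearMap = d j • bs.coord j := bs.ext fun i => by
      rw [LinearMap.comp_apply, LinearEquiv.coe_coe, hg i, map_smul, LinearMap.smul_apply,
        Module.Basis.coord_apply, bs.repr_self, Finsupp.single_apply]
      by_cases hij : i = j
      · rw [hij]
      · rw [if_neg hij, smul_zero, smul_zero]
    exact LinearMap.congr_fun e x
  have hmove : ∀ i j, bs.repr (k.1.1.1 (bs i)) j ≠ 0 → d i = z * d j := by
    intro i j hne
    have h := congrArg (fun x => bs.repr x j) (hz (bs i))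
    change bs.repr (k.1.1.1 (g.1.1.1 (bs i))) j = bs.repr (z • g.1.1.1 (k.1.1.1 (bs i))) j at h
    rw [hg i, map_smul, map_smul, map_smul, Finsupp.smul_apply, Finsupp.smul_apply, hrep, smul_eq_mul,
      smul_eq_mul, ← mul_assoc] at h
    exact mul_right_cancel₀ hne h
  have hex : ∀ i, ∃ j, bs.repr (k.1.1.1 (bs i)) j ≠ 0 := fun i => by
    by_contra! h0
    exact H.isom_ne_zero k.1.1 (bs.ne_zero i) (bs.repr.injective (Finsupp.ext fun j => by rw [h0 j, map_zero]; rfl))
  choose π hπ using hex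
  have hzne : z ≠ 0 := fun h0 => hg.ne_zero 0 (by rw [hmove 0 _ (hπ 0), h0, zero_mul])
  have huniq : ∀ i j, bs.repr (k.1.1.1 (bs i)) j ≠ 0 → j = π i := fun i j h =>
    hinj (mul_left_cancel₀ hzne ((hmove i j h).symm.trans (hmove i _ (hπ i))))
  by_cases hz1 : z = 1
  · refine (mem_Tor A.dim).2 ⟨fun i => bs.repr (k.1.1.1 (bs i)) i, fun i => bs.repr.injective (Finsupp.ext fun j => ?_)⟩
    rw [map_smul, bs.repr_self, Finsupp.smul_apply, smul_eq_mul, Finsupp.single_apply]
    by_cases hij : i = j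
    · subst hij; simp
    · rw [if_neg hij, mul_zero]
      by_contra h
      refine hij (hinj ?_)
      rw [hmove i j h, hz1, one_mul]
  · exfalso
    have hz3 : z ^ 3 = 1 := by
      have hc' : (k * g * (g * k)⁻¹).1 ∈ Subgroup.center H.SIsom := (central_iff A.dim).2 ⟨z, fun x => by
        show (k * g).1.1.1 (((g * k).1⁻¹).1.1 x) = z • x
        rw [hz, show (g * k).1.1.1 (((g * k).1⁻¹).1.1 x) = x from H.apply_inv_self _ x]⟩
      have h3 := central_cube A.dim hc'
      have hzx : ∀ x, (k * g * (g * k)⁻¹).1.1.1 x = z • x := fun x => by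
        show (k * g).1.1.1 (((g * k).1⁻¹).1.1 x) = z • x
        rw [hz, show (g * k).1.1.1 (((g * k).1⁻¹).1.1 x) = x from H.apply_inv_self _ x]
      have := congrArg (fun g : H.SIsom => g.1.1 (bs 0)) h3
      simp only [pow_succ, pow_zero, one_mul, H.smul_mul_apply, hzx, map_smul, smul_smul] at this
      exact smul_left_injective F (bs.ne_zero 0) (show z ^ 3 • bs 0 = (1 : F) • bs 0 by
        rw [show z ^ 3 = z * (z * z) by ring]; exact this.trans (one_smul F _).symm)
    have hπne : ∀ i, π i ≠ i := fun i h => hz1 (mul_right_cancel₀ (hg.ne_zero i) (by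
      rw [one_mul]; have := hmove i _ (hπ i); rw [h] at this; exact this.symm))
    have hππ : ∀ i, π (π i) ≠ i := fun i h => hz1 (by
      have e1 := hmove i _ (hπ i)
      have e2 := hmove (π i) _ (hπ (π i))
      rw [h] at e2
      have : z ^ 2 = 1 := mul_right_cancel₀ (hg.ne_zero i) (by linear_combination -e1 - z * e2)
      linear_combination hz3 - z * this)
    have key : ∀ π : Fin 3 → Fin 3, (∀ i, π i ≠ i) → (∀ i, π (π i) ≠ i) →
        ∀ i, i = 0 ∨ i = π 0 ∨ i = π (π 0) := by decide +kernel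
    have hcube : ∀ i, d i ^ 3 = d 0 ^ 3 := by
      intro i
      have e1 := hmove 0 _ (hπ 0)
      have e2 := hmove (π 0) _ (hπ (π 0))
      rcases key π hπne hππ i with rfl | rfl | rfl
      · rfl
      · rw [e1, mul_pow, hz3, one_mul]
      · rw [e1, e2, mul_pow, mul_pow, hz3, one_mul, one_mul]
    have hd0 : d 0 ^ 3 = 1 := by
      have e1 := hmove 0 _ (hπ 0)
      have e2 := hmove (π 0) _ (hπ (π 0))
      have hp := hg.prod
      have hperm : d 0 * d 1 * d 2 = d 0 * d (π 0) * d (π (π 0)) := by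
        have key2 : ∀ π : Fin 3 → Fin 3, (∀ i, π i ≠ i) → (∀ i, π (π i) ≠ i) →
            (π 0 = 1 ∧ π (π 0) = 2) ∨ (π 0 = 2 ∧ π (π 0) = 1) := by decide +kernel
        rcases key2 π hπne hππ with ⟨h, h'⟩ | ⟨h, h'⟩ <;> rw [h', h]
        ring
      rw [hperm] at hp
      calc d 0 ^ 3 = d 0 * (z * d (π 0)) * (z * (z * d (π (π 0)))) := by rw [← e2, ← e1]; ring
        _ = z ^ 3 * (d 0 * d (π 0) * d (π (π 0))) := by ring
        _ = 1 := by rw [hz3, hp, one_mul]
    refine tor_no_three A M S hat ?_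
    haveI : Fact (Nat.Prime 3) := ⟨Nat.prime_three⟩
    refine orderOf_eq_prime ?_ h1
    rw [← map_pow]
    exact pr_one_of_dv A.dim (g := g ^ 3) (d := d ^ 3) (by rw [Subgroup.coe_pow]; exact hg.pow 3) (a := 1) fun i => by
      rw [Pi.pow_apply, hcube, hd0]

end Cfsg.Lib.Classical.SUThree.Heis
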