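import Cfsg.Agent.Classical.SUThree.HeisCentre

/-!
The centraliser of the central involution of the normaliser of a Heisenberg group permutes two points of the line
orthogonal to its fixed vector.
-/

set_option autoImplicit false
set_option linter.unusedSectionVars false
set_option linter.unusedSimpArgs false
set_option linter.style.haveILetI false
set_option maxHeartbeats 1000000

namespace Cfsg.Lib.Classical.SUThree.Heis

open Cfsg.Lib.Classical Cfsg.Lib.Components.UnitaryThree Cfsg.Lib.Known.PSUThree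
open scoped Matrix LinearAlgebra.Projectivization

universe u v

variable {F : Type u} [Field F] [Finite F] {V : Type v} [AddCommGroup V] [Module F V] [FiniteDimensional F V]
  {H : HermSpace F V} {K : Subgroup H.SIsom} {U : UFrame H (Fin 3)} {ω : F} {X Y W G : K} {p : ℕ}

/-- Diagonal for a basis. -/
def Dv (bs : Module.Basis (Fin 3) F V) (g : H.SIsom) (d : Fin 3 → F) : Prop := ∀ i, g.1.1 (bs i) = d i • bs i

/-- Exchanging the last two vectors of a basis up to factors. -/
def Sw (bs : Module.Basis (Fin 3) F V) (g : H.SIsom) : Prop :=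
  ∃ b c : F, g.1.1 (bs 1) = b • bs 2 ∧ g.1.1 (bs 2) = c • bs 1

/-- A central involution with two elements of order four over it, one fixing and one exchanging the two points. -/
structure Split (K : Subgroup H.SIsom) (bs : Module.Basis (Fin 3) F V) (t q q' : K) : Prop where
  refl : Refl (bs 0) t.1
  perp : H.h (bs 1) (bs 0) = 0 ∧ H.h (bs 2) (bs 0) = 0
  t_ne : pr K t ≠ 1
  q_sq : q * q = t
  q'_sq : q' * q' = t
  twist : q' * q * q'⁻¹ = t * q
  q_diag : ∃ d, Dv bs q.1 d
  q'_swap : Sw bs q'.1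
  dichotomy : ∀ g : K, g * t = t * g → (∃ d, Dv bs g.1 d) ∨ Sw bs g.1

theorem Dv.commute {bs : Module.Basis (Fin 3) F V} {g k : H.SIsom} {d e : Fin 3 → F} (h : Dv bs g d) (h' : Dv bs k e) :
    g * k = k * g :=
  H.sisom_ext fun x => LinearMap.congr_fun
    (bs.ext (f₁ := (g * k).1.1.toLinearMap) (f₂ := (k * g).1.1.toLinearMap) fun i => by
      show g.1.1 (k.1.1 (bs i)) = k.1.1 (g.1.1 (bs i))
      rw [h', h, map_smul, map_smul, h, h', smul_smul, smul_smul, mul_comm]) x

variable (A : Amb K p) (M : Model K U ω X Y W G)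
include A M

theorem t_refl : Refl (U.b 1 - U.b 2) (W * W).1 := by
  obtain ⟨h0, h1, h2⟩ := M.t_apply
  have hvv : H.h (U.b 1 - U.b 2) (U.b 1 - U.b 2) = 2 := by
    simp [H.sub_left, H.sub_right, U.b_self, U.b_ne]
    ring
  refine ⟨by rw [hvv]; exact A.two, by rw [map_sub, h1, h2]; abel, fun x hx => ?_⟩
  have hc : U.co x 1 = U.co x 2 := by
    rw [H.sub_right] at hx
    exact sub_eq_zero.1 hx
  conv_lhs => rw [← U.sum_co x]
  conv_rhs => rw [← U.sum_co x]
  simp only [Fin.sum_univ_three, map_add, map_smul, h0, h1, h2, hc, smul_neg, neg_add_rev]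
  abel

theorem exists_split : ∃ (bs : Module.Basis (Fin 3) F V) (q q' : K), Split K bs (W * W) q q' := by
  classical
  have hd := A.dim
  set t := W * W with ht
  have hR := t_refl A M
  rw [← ht] at hR
  set v := U.b 1 - U.b 2
  obtain ⟨B, c, hc, hw⟩ := exists_frame_pole hd hR.1
  have hmem : ∀ g : K, g * t = t * g → g.1 ∈ Mg K B := fun g hg => by
    obtain ⟨d, hd'⟩ := (hR.comm_iff A.two g.1).1 (congrArg Subtype.val hg)
    exact mem_Mg.2 ⟨g.2, d, by rw [hw, map_smul, hd', smul_comm]⟩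
  have hperp : ∀ x, H.h x v = 0 → H.h x B.w = 0 := fun x hx => by rw [hw, H.smul_right, hx, mul_zero]
  have hperp' : ∀ x, H.h x B.w = 0 → H.h x v = 0 := fun x hx => by
    rw [hw, H.smul_right] at hx
    exact (mul_eq_zero.1 hx).resolve_left ((map_ne_zero _).2 hc)
  -- no element of order three on the line
  have h3 : ¬ 3 ∣ Nat.card (rho K B).range := by
    intro h
    haveI : Fact (Nat.Prime 3) := ⟨Nat.prime_three⟩
    obtain ⟨⟨_, g, rfl⟩, hl⟩ := exists_prime_orderOf_dvd_card' 3 h
    rw [← Subgroup.orderOf_coe] at hl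
    set g' : K := ⟨g.1, g.2.1⟩
    have hgt : g' * t = t * g' := by
      obtain ⟨d, hd'⟩ := g.2.2
      refine Subtype.ext ((hR.comm_iff A.two g'.1).2 ⟨d, ?_⟩)
      rw [hw, map_smul, smul_comm] at hd'
      exact smul_right_injective V hc hd'
    set n := orderOf (pr K g')
    have hn : 3 ∣ n := by
      rw [← hl]
      refine orderOf_dvd_of_pow_eq_one ?_
      have h1 : pr K (g' ^ n) = 1 := by rw [map_pow]; exact pow_orderOf_eq_one _
      obtain ⟨a, ha⟩ := (pr_eq_one hd).1 h1
      show rho K B g ^ n = 1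
      rw [← map_pow, rho_congr hd K B (g := g ^ n) (k := 1) (a := a) (fun x _ => ha x), map_one]
    refine no_comm A M (a := pr K t) (b := pr K g' ^ (n / 3)) ?_ ?_ ?_
    · haveI : Fact (Nat.Prime 2) := ⟨Nat.prime_two⟩
      exact orderOf_eq_prime (by rw [pow_two, ← map_mul, M.t_sq, map_one]) (t_pr_ne_one A M)
    · exact orderOf_pow_orderOf_div (orderOf_pos _).ne' hn
    · exact (Commute.pow_right (show Commute (pr K t) (pr K g') by
        rw [Commute, SemiconjBy, ← map_mul, ← map_mul, hgt]) _).eq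
  obtain ⟨S, hS2, hSinv, -⟩ | h | h | h := TwoFix.cases (pairs_line hd A.pow A.noRoot B) (two_le_pl hd A.pow A.noRoot B)
  rotate_left
  all_goals first
    | exact absurd (show 3 ∣ Nat.card (rho K B).range by rw [h.1]; norm_num) h3
    | skip
  obtain ⟨P1, P2, hne, rfl⟩ := Set.ncard_eq_two.1 hS2
  induction P1 using pl_ind with | h a ha0 ha => ?_
  induction P2 using pl_ind with | h b hb0 hb => ?_
  have hav := hperp' a ha
  have hbv := hperp' b hb
  have hv0 : v ≠ 0 := fun e => hR.1 (by rw [e, H.zero_left])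
  have hnab : ∀ c : F, a ≠ c • b := fun c e => hne (plMk_eq_iff.2 ⟨c, e.symm⟩)
  have hli : LinearIndependent F ![v, a, b] := by
    rw [Fintype.linearIndependent_iff]
    intro c hc'
    simp [Fin.sum_univ_three] at hc'
    have h := congrArg (fun t => H.h t v) hc'
    simp [H.add_left, H.smul_left, hav, hbv, H.zero_left, hR.1] at h
    rw [h, zero_smul, zero_add] at hc'
    have hc1 : c 1 = 0 := by
      by_contra h0
      refine hnab (-(c 2 / c 1)) ?_
      have : a = (c 1)⁻¹ • (c 1 • a) := by rw [smul_smul, inv_mul_cancel₀ h0, one_smul]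
      rw [this, eq_neg_of_add_eq_zero_left hc', smul_neg, smul_smul, neg_smul]
      congr 2
      field_simp
    rw [hc1, zero_smul, zero_add] at hc'
    intro i
    fin_cases i
    · exact h
    · exact hc1
    · exact (smul_eq_zero.1 hc').resolve_right hb0
  let bs := basisOfLinearIndependentOfCardEqFinrank hli (by rw [Fintype.card_fin, hd])
  have hbs : ∀ i, bs i = ![v, a, b] i := fun i => by simp [bs]
  -- the dichotomy
  have hdich : ∀ g : K, g * t = t * g → (∃ d, Dv bs g.1 d) ∨ Sw bs g.1 := by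
    intro g hg
    obtain ⟨e, he⟩ := (hR.comm_iff A.two g.1).1 (congrArg Subtype.val hg)
    set gM : Mg K B := ⟨g.1, hmem g hg⟩
    have hcase : ∀ x hx0 hx, plMk B x hx0 hx ∈ ({plMk B a ha0 ha, plMk B b hb0 hb} : Set (Pl B)) →
        (∃ s : F, g.1.1.1 x = s • a) ∨ ∃ s : F, g.1.1.1 x = s • b := by
      intro x hx0 hx hin
      have := hSinv ⟨rho K B gM, gM, rfl⟩ _ hin
      change gM • _ ∈ ({plMk B a ha0 ha, plMk B b hb0 hb} : Set (Pl B)) at this
      rw [smul_plMk] at this
      rcases this with e | e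
      · obtain ⟨s, hs⟩ := plMk_eq_iff.1 e
        exact Or.inl ⟨s, hs.symm⟩
      · obtain ⟨s, hs⟩ := plMk_eq_iff.1 (Set.mem_singleton_iff.1 e)
        exact Or.inr ⟨s, hs.symm⟩
    have hinj : ∀ (y : V) {s r : F}, g.1.1.1 a = s • y → g.1.1.1 b = r • y → False := by
      intro y s r hs hr
      have hs0 : s ≠ 0 := fun h => H.isom_ne_zero g.1.1 ha0 (by rw [hs, h, zero_smul])
      have hr0 : r ≠ 0 := fun h => H.isom_ne_zero g.1.1 hb0 (by rw [hr, h, zero_smul])
      refine hnab (s / r) (g.1.1.1.injective ?_)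
      rw [map_smul, hs, hr, smul_smul, div_mul_cancel₀ _ hr0]
    rcases hcase a ha0 ha (Or.inl rfl) with ⟨s, hs⟩ | ⟨s, hs⟩ <;>
      rcases hcase b hb0 hb (Or.inr rfl) with ⟨r, hr⟩ | ⟨r, hr⟩
    · exact (hinj a hs hr).elim
    · refine Or.inl ⟨![e, s, r], fun i => ?_⟩
      rw [hbs]
      fin_cases i <;> assumption
    · exact Or.inr ⟨s, r, by rw [hbs, hbs]; exact hs, by rw [hbs, hbs]; exact hr⟩
    · exact (hinj b hs hr).elim
  have hWt : W * t = t * W := M.W_comm_t
  have hGt : G * t = t * G := M.G_comm_t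
  have hnot : ∀ {g k : K}, (∃ d, Dv bs g.1 d) → (∃ d, Dv bs k.1 d) → g * k ≠ k * g → False :=
    fun ⟨_, h⟩ ⟨_, h'⟩ hne => hne (Subtype.ext (h.commute h'))
  have hGW : G * W ≠ W * G := fun e => t_ne_one A M (by
    have h := M.G_W
    rw [e] at h
    exact mul_eq_right.1 h.symm)
  have hperps : H.h (bs 1) (bs 0) = 0 ∧ H.h (bs 2) (bs 0) = 0 := by
    rw [hbs, hbs, hbs]; exact ⟨hav, hbv⟩
  have hrefl : Refl (bs 0) t.1 := by rw [hbs]; exact hR
  have hGW' : G * W * G⁻¹ = t * W := by rw [M.G_W, ← mul_assoc, mul_inv_cancel_right]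
  have hWG' : W * G * W⁻¹ = t * G := by
    have h : W * G = t * (G * W) := by rw [M.G_W, ← mul_assoc t, ht, M.t_sq, one_mul]
    rw [h, ← mul_assoc, mul_inv_cancel_right]
  rcases hdich W hWt with hWd | hWs
  · rcases hdich G hGt with hGd | hGs
    · exact (hnot hGd hWd hGW).elim
    · exact ⟨bs, W, G, hrefl, hperps, t_pr_ne_one A M, rfl, M.G_sq, hGW', hWd, hGs, hdich⟩
  · rcases hdich G hGt with hGd | hGs
    · exact ⟨bs, G, W, hrefl, hperps, t_pr_ne_one A M, M.G_sq, rfl, hWG', hGd, hWs, hdich⟩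
    · refine ⟨bs, W * G, W, hrefl, hperps, t_pr_ne_one A M, M.WG_sq, rfl, ?_, ?_, hWs, hdich⟩
      · calc W * (W * G) * W⁻¹ = W * (W * G * W⁻¹) := by group
          _ = W * (t * G) := by rw [hWG']
          _ = t * (W * G) := by rw [← mul_assoc, hWt, mul_assoc]
      · obtain ⟨b1, c1, hb1, hc1⟩ := hWs
        obtain ⟨b2, c2, hb2, hc2⟩ := hGs
        obtain ⟨e1, he1⟩ := (hR.comm_iff A.two W.1).1 (congrArg Subtype.val hWt)
        obtain ⟨e2, he2⟩ := (hR.comm_iff A.two G.1).1 (congrArg Subtype.val hGt)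
        refine ⟨![e2 * e1, b2 * c1, c2 * b1], fun i => ?_⟩
        show (W.1 * G.1).1.1 _ = _
        rw [H.smul_mul_apply]
        fin_cases i
        · show W.1.1.1 (G.1.1.1 (bs 0)) = _; simp only [hbs]
          show W.1.1.1 (G.1.1.1 v) = _; rw [he2, map_smul, he1, smul_smul]; rfl
        · show W.1.1.1 (G.1.1.1 (bs 1)) = _; rw [hb2, map_smul, hc1, smul_smul]; rfl
        · show W.1.1.1 (G.1.1.1 (bs 2)) = _; rw [hc2, map_smul, hb1, smul_smul]; rfl

end Cfsg.Lib.Classical.SUThree.Heis
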