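import Mathlib
import Cfsg.Agent.Classical.Misc.SLTwoGen
import Cfsg.Agent.RootSub.DicksonGen

/-!
Subgroups of `SL₂` containing two opposite unipotent elements: the translations form a line over a subfield and the
fixed points of unipotent elements form a projective line over it, with one exception in characteristic three.
-/

set_option autoImplicit false
set_option linter.unusedSectionVars false
set_option linter.style.haveILetI false

namespace Cfsg.Lib.Classical.SUThree.SLTwo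

open Matrix Cfsg.Lib.RootSub
open scoped MatrixGroups
open Cfsg.Lib.Classical.PSLFour (sl ext_four sl00 sl01 sl10 sl11)

universe u

variable {k : Type u} [Field k] (L : Subgroup SL(2, k))

/-- The translations at infinity. -/
def upSet : AddSubgroup k where
  carrier := {x | upEl x ∈ L}
  zero_mem' := by show upEl (0 : k) ∈ L; rw [upEl_zero]; exact one_mem _
  add_mem' := by
    intro a b ha hb
    show upEl (a + b) ∈ L
    rw [← upEl_mul]; exact mul_mem ha hb
  neg_mem' := by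
    intro a ha
    show upEl (-a) ∈ L
    rw [← upEl_inv]; exact inv_mem ha

/-- The translations at zero. -/
def loSet : AddSubgroup k where
  carrier := {x | loEl x ∈ L}
  zero_mem' := by show loEl (0 : k) ∈ L; rw [loEl_zero]; exact one_mem _
  add_mem' := by
    intro a b ha hb
    show loEl (a + b) ∈ L
    rw [← loEl_mul]; exact mul_mem ha hb
  neg_mem' := by
    intro a ha
    show loEl (-a) ∈ L
    rw [← loEl_inv]; exact inv_mem ha

theorem mem_upSet {x : k} : x ∈ upSet L ↔ upEl x ∈ L := Iff.rfl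

theorem mem_loSet {x : k} : x ∈ loSet L ↔ loEl x ∈ L := Iff.rfl

/-- The diagonal element. -/
def dg (μ : k) (h : μ ≠ 0) : SL(2, k) := sl μ 0 0 μ⁻¹ (by rw [mul_zero, sub_zero, mul_inv_cancel₀ h])

theorem dg_up (μ : k) (h : μ ≠ 0) (x : k) : dg μ h * upEl x * (dg μ h)⁻¹ = upEl (μ * μ * x) := by
  rw [mul_inv_eq_iff_eq_mul]
  refine ext_four ?_ ?_ ?_ ?_ <;>
    simp [dg, upEl_coe, Matrix.SpecialLinearGroup.coe_mul, Matrix.mul_apply, Fin.sum_univ_two, sl00, sl01, sl10,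
      sl11] <;> field_simp

variable [Finite k]

theorem eq_one_or_neg {M : SL(2, k)} (h2 : (2 : k) ≠ 0) (h : M * M = 1) : M = 1 ∨ M = -1 := by
  haveI := Fintype.ofFinite k
  exact Cfsg.Lib.Classical.PSLFour.eq_or_neg (Nat.odd_iff.2 (FiniteField.odd_card_of_char_ne_two fun e => by
    haveI : CharP k 2 := e ▸ ringChar.charP k
    exact h2 (by exact_mod_cast CharP.cast_eq_zero k 2))) h

/-- The group generated inside a subfield, and its consequences. -/
theorem gen_facts (h2 : (2 : k) ≠ 0) {l : k} (hl : l ≠ 0) (h1 : loEl (1 : k) ∈ L) (hu : upEl l ∈ L) :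
    (-1 : SL(2, k)) ∈ L ∧ (((3 : k) ≠ 0 ∨ l ^ 2 ≠ -1) →
      ∀ μ ∈ Subfield.closure ({l} : Set k), ∀ hμ : μ ≠ 0, dg μ hμ ∈ L) := by
  classical
  set k₁ := Subfield.closure ({l} : Set k) with hk₁
  haveI : Finite k₁ := Finite.of_injective _ Subtype.val_injective
  haveI : Fintype k₁ := Fintype.ofFinite _
  set l₁ : k₁ := ⟨l, Subfield.subset_closure rfl⟩ with hl₁
  have hl0 : l₁ ≠ 0 := fun e => hl (congrArg Subtype.val e)
  have h2' : (2 : k₁) ≠ 0 := fun e => h2 (by
    have h := congrArg (fun x : k₁ => (x : k)) e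
    exact h)
  have hgen : Subfield.closure ({l₁} : Set k₁) = ⊤ := by
    rw [eq_top_iff]
    rintro ⟨x, hx⟩ -
    have : k₁ ≤ (Subfield.closure ({l₁} : Set k₁)).map k₁.subtype := by
      refine Subfield.closure_le.2 ?_
      rintro _ rfl
      exact ⟨l₁, Subfield.subset_closure rfl, rfl⟩
    obtain ⟨y, hy, e⟩ := this hx
    obtain rfl : y = ⟨x, hx⟩ := Subtype.ext e
    exact hy
  let ψ : SL(2, k₁) →* SL(2, k) := Matrix.SpecialLinearGroup.map (k₁.subtype : k₁ →+* k)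
  have hψ : ∀ (M : SL(2, k₁)) (i j : Fin 2), (ψ M).1 i j = ((M.1 i j : k₁) : k) := fun M i j => rfl
  have hψinj : Function.Injective ψ := fun M N h =>
    ext_four (Subtype.ext (by rw [← hψ, ← hψ, h])) (Subtype.ext (by rw [← hψ, ← hψ, h]))
      (Subtype.ext (by rw [← hψ, ← hψ, h])) (Subtype.ext (by rw [← hψ, ← hψ, h]))
  have hle : SLTwoGen.gen l₁ ≤ L.comap ψ := by
    rw [SLTwoGen.gen, Subgroup.closure_le]
    rintro g (rfl | rfl)
    · show ψ _ ∈ L
      convert h1 using 1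
      refine ext_four ?_ ?_ ?_ ?_ <;> simp [hψ, SLTwoGen.gl1, loEl_coe, sl00, sl01, sl10, sl11]
    · show ψ _ ∈ L
      convert hu using 1
      refine ext_four ?_ ?_ ?_ ?_ <;> simp [hψ, SLTwoGen.gu, hl₁, upEl_coe, sl00, sl01, sl10, sl11]
  have hd := SLTwoGen.dickson_gen h2' l₁ hl0 hgen
  have heven : 2 ∣ Nat.card (SLTwoGen.gen l₁) := by
    rcases hd with ⟨e, -⟩ | ⟨-, -, e⟩
    · rw [e]
      have hm1 : (-1 : SL(2, k₁)) ≠ 1 := fun e => by
        have h := congrArg (fun M : SL(2, k₁) => M.1 0 0) e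
        simp at h
        exact h2' (by linear_combination (norm := ring) -h)
      rw [Nat.card_congr Subgroup.topEquiv.toEquiv]
      have ho : orderOf (-1 : SL(2, k₁)) = 2 := orderOf_eq_prime (by simp) hm1
      have := orderOf_dvd_natCard (-1 : SL(2, k₁))
      rwa [ho] at this
    · rw [e]; norm_num
  refine ⟨?_, fun hex μ hμm hμ => ?_⟩
  · obtain ⟨t, ht⟩ := exists_prime_orderOf_dvd_card' 2 heven
    have htt : (t : SL(2, k₁)) * t = 1 := by
      have := pow_orderOf_eq_one t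
      rw [ht, pow_two] at this
      exact congrArg Subtype.val this
    have hmem : ψ t ∈ L := hle t.2
    rcases eq_one_or_neg h2 (M := ψ t) (by rw [← map_mul, htt, map_one]) with e | e
    · exfalso
      have : t = 1 := Subtype.ext (hψinj (e.trans (map_one ψ).symm))
      rw [this, orderOf_one] at ht
      omega
    · rwa [e] at hmem
  · rcases hd with ⟨e, -⟩ | ⟨h9, hsq, -⟩
    · have hμ1 : (⟨μ, hμm⟩ : k₁) ≠ 0 := fun e => hμ (congrArg Subtype.val e)
      have hmem : ψ (dg _ hμ1) ∈ L := hle (e ▸ Subgroup.mem_top _)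
      have e' : ψ (dg _ hμ1) = dg μ hμ := by
        refine ext_four ?_ ?_ ?_ ?_ <;> simp [hψ, dg, sl00, sl01, sl10, sl11]
      rwa [e'] at hmem
    · exfalso
      rcases hex with h3 | h3
      · have h : ((9 : ℕ) : k₁) = 0 := by rw [← h9]; exact FiniteField.cast_card_eq_zero k₁
        have h' := congrArg k₁.subtype h
        rw [map_natCast, map_zero] at h'
        exact h3 (pow_eq_zero_iff (n := 2) two_ne_zero |>.1 (by rw [← h']; norm_num))
      · exact h3 (by simpa [hl₁] using congrArg (fun x : k₁ => (x : k)) hsq)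

/-- Scaling. -/
theorem gen_facts' (h2 : (2 : k) ≠ 0) {x y : k} (hx : x ≠ 0) (hy : y ≠ 0) (hux : upEl x ∈ L) (hly : loEl y ∈ L) :
    (-1 : SL(2, k)) ∈ L ∧ (((3 : k) ≠ 0 ∨ (x * y) ^ 2 ≠ -1) →
      ∀ μ ∈ Subfield.closure ({x * y} : Set k), ∀ hμ : μ ≠ 0, dg μ hμ ∈ L) := by
  set σ : SL(2, k) →* SL(2, k) := Cfsg.Lib.RootSub.scaleHom y⁻¹ (inv_ne_zero hy) with hσ
  have hlo : σ (loEl (1 : k)) ∈ L := by rwa [hσ, scaleHom_lo, one_div, inv_inv]
  have hup : σ (upEl (x * y)) ∈ L := by rwa [hσ, scaleHom_up, mul_comm x y, inv_mul_cancel_left₀ hy]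
  obtain ⟨h1, h3⟩ := gen_facts (L.comap σ) h2 (mul_ne_zero hx hy) hlo hup
  refine ⟨?_, fun hex μ hμm hμ => ?_⟩
  · have hm : σ (-1) ∈ L := h1
    have e : σ (-1) = -1 := by
      refine ext_four ?_ ?_ ?_ ?_ <;> simp [hσ, scaleHom_coe, scaleMat]
    rwa [e] at hm
  · have hm : σ (dg μ hμ) ∈ L := h3 hex μ hμm hμ
    have e : σ (dg μ hμ) = dg μ hμ := by
      refine ext_four ?_ ?_ ?_ ?_ <;> simp [hσ, scaleHom_coe, scaleMat, dg, sl00, sl01, sl10, sl11]
    rwa [e] at hm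

theorem neg_one_mem (h2 : (2 : k) ≠ 0) (hX : upSet L ≠ ⊥) (hY : loSet L ≠ ⊥) : (-1 : SL(2, k)) ∈ L := by
  obtain ⟨x, hx, hx0⟩ := (AddSubgroup.bot_or_exists_ne_zero _).resolve_left hX
  obtain ⟨y, hy, hy0⟩ := (AddSubgroup.bot_or_exists_ne_zero _).resolve_left hY
  exact (gen_facts' L h2 hx0 hy0 hx hy).1

/-- The multipliers of the translations. -/
def multField {X : AddSubgroup k} (hX : X ≠ ⊥) : Subfield k :=
  let R : Subring k :=
    { carrier := {r | ∀ x ∈ X, r * x ∈ X}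
      zero_mem' := fun x _ => by rw [zero_mul]; exact X.zero_mem
      one_mem' := fun x hx => by rwa [one_mul]
      add_mem' := fun ha hb x hx => by rw [add_mul]; exact X.add_mem (ha x hx) (hb x hx)
      mul_mem' := fun ha hb x hx => by rw [mul_assoc]; exact ha _ (hb x hx)
      neg_mem' := fun ha x hx => by rw [neg_mul]; exact X.neg_mem (ha x hx) }
  { R with
    inv_mem' := fun a ha x hx => by
      rcases eq_or_ne a 0 with rfl | ha0
      · rw [_root_.inv_zero, zero_mul]; exact X.zero_mem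
      · obtain ⟨y, hy⟩ := Finite.surjective_of_injective
          (f := fun z : X => (⟨a * z.1, ha z.1 z.2⟩ : X))
          (fun z w e => Subtype.ext (mul_left_cancel₀ ha0 (congrArg Subtype.val e))) ⟨x, hx⟩
        have e : a * y.1 = x := congrArg Subtype.val hy
        rw [← e, inv_mul_cancel_left₀ ha0]
        exact y.2 }

theorem mem_multField {X : AddSubgroup k} (hX : X ≠ ⊥) {r : k} :
    r ∈ multField hX ↔ ∀ x ∈ X, r * x ∈ X := Iff.rfl

theorem closure_mul_mem (h2 : (2 : k) ≠ 0) {x y : k} (hx : x ≠ 0) (hy : y ≠ 0) (hux : upEl x ∈ L)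
    (hly : loEl y ∈ L) (hex : (3 : k) ≠ 0 ∨ (x * y) ^ 2 ≠ -1) :
    ∀ x' ∈ upSet L, ∀ r ∈ Subfield.closure ({x * y} : Set k), r * x' ∈ upSet L := by
  intro x' hx' r hr
  have hsq : ∀ μ ∈ Subfield.closure ({x * y} : Set k), μ * μ * x' ∈ upSet L := by
    intro μ hμ
    rcases eq_or_ne μ 0 with rfl | hμ0
    · simp only [zero_mul]; exact (upSet L).zero_mem
    · rw [mem_upSet, ← dg_up μ hμ0 x']
      have := (gen_facts' L h2 hx hy hux hly).2 hex μ hμ hμ0
      exact mul_mem (mul_mem this hx') (inv_mem this)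
  have h2m : (2 : k) ∈ Subfield.closure ({x * y} : Set k) := by
    rw [show (2 : k) = 1 + 1 by norm_num]; exact add_mem (one_mem _) (one_mem _)
  have h := (upSet L).sub_mem (hsq ((r + 1) / 2) (div_mem (add_mem hr (one_mem _)) h2m))
    (hsq ((r - 1) / 2) (div_mem (sub_mem hr (one_mem _)) h2m))
  convert h using 1
  field_simp
  ring

theorem mul_mem_mult (h2 : (2 : k) ≠ 0) {x y : k} (hux : x ∈ upSet L) (hly : y ∈ loSet L) (hX : upSet L ≠ ⊥)
    (hex : (3 : k) ≠ 0 ∨ (x * y) ^ 2 ≠ -1) : x * y ∈ multField hX := by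
  rcases eq_or_ne x 0 with rfl | hx
  · rw [zero_mul]; exact zero_mem _
  rcases eq_or_ne y 0 with rfl | hy
  · rw [mul_zero]; exact zero_mem _
  exact (mem_multField hX).2 fun x' hx' =>
    closure_mul_mem L h2 hx hy hux hly hex x' hx' _ (Subfield.subset_closure rfl)

theorem dg_mem (h2 : (2 : k) ≠ 0) {x y : k} (hx : x ≠ 0) (hy : y ≠ 0) (hux : x ∈ upSet L) (hly : y ∈ loSet L)
    (hex : (3 : k) ≠ 0 ∨ (x * y) ^ 2 ≠ -1) {μ : k} (hμ : μ ∈ Subfield.closure ({x * y} : Set k)) (hμ0 : μ ≠ 0) :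
    dg μ hμ0 ∈ L :=
  (gen_facts' L h2 hx hy hux hly).2 hex μ hμ hμ0

/-- The translations form a line over the multipliers. -/
theorem structure_up (h2 : (2 : k) ≠ 0) (hX : upSet L ≠ ⊥) (hY : loSet L ≠ ⊥) :
    (∀ x₀ ∈ upSet L, x₀ ≠ 0 → ∀ x, x ∈ upSet L ↔ x / x₀ ∈ multField hX) ∧
      ((Nat.card (upSet L) = 3 ∧ (3 : k) = 0 ∧
          ∀ x ∈ upSet L, ∀ y ∈ loSet L, x ≠ 0 → y ≠ 0 → (x * y) ^ 4 = 1) ∨
        ∀ x ∈ upSet L, ∀ y ∈ loSet L, x * y ∈ multField hX) := by
  classical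
  set X := upSet L
  set Y := loSet L
  have hline : ∀ y ∈ Y, y ≠ 0 → (∀ x ∈ X, x * y ∈ multField hX) →
      ∀ x₀ ∈ X, x₀ ≠ 0 → ∀ x, x ∈ X ↔ x / x₀ ∈ multField hX := by
    intro y hy hy0 h x₀ hx₀ h0 x
    refine ⟨fun hx => ?_, fun hx => ?_⟩
    · have := div_mem (h x hx) (h x₀ hx₀)
      rwa [mul_div_mul_right _ _ hy0] at this
    · have := (mem_multField hX).1 hx x₀ hx₀
      rwa [div_mul_cancel₀ _ h0] at this
  obtain ⟨x₀, hx₀, hx₀0⟩ := (AddSubgroup.bot_or_exists_ne_zero _).resolve_left hX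
  obtain ⟨y₀, hy₀, hy₀0⟩ := (AddSubgroup.bot_or_exists_ne_zero _).resolve_left hY
  -- a row of products with one regular member is regular
  have hrow : ∀ y ∈ Y, (∃ x ∈ X, x * y ≠ 0 ∧ ((3 : k) ≠ 0 ∨ (x * y) ^ 2 ≠ -1)) →
      ∀ x' ∈ X, x' * y ∈ multField hX := by
    rintro y hy ⟨x, hx, hxy0, hex⟩ x' hx'
    by_cases hex' : (3 : k) ≠ 0 ∨ (x' * y) ^ 2 ≠ -1
    · exact mul_mem_mult L h2 hx' hy hX hex'
    push Not at hex'
    obtain ⟨h3, hsq'⟩ := hex'
    have hsq : (x * y) ^ 2 ≠ -1 := hex.resolve_left (not_not.2 h3)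
    have h := mul_mem_mult L h2 hx hy hX (Or.inr hsq)
    have hex2 : ((x + x') * y) ^ 2 ≠ -1 := by
      intro e
      have hz : (x * y) * (x * y - x' * y) = 0 := by
        linear_combination e - hsq' - (x * y * (x' * y)) * h3
      rcases mul_eq_zero.1 hz with e' | e'
      · exact hxy0 e'
      · exact hsq (by rw [sub_eq_zero.1 e']; exact hsq')
    have := sub_mem (mul_mem_mult L h2 (X.add_mem hx hx') hy hX (Or.inr hex2)) h
    convert this using 1
    ring
  by_cases hall : ∀ y ∈ Y, y ≠ 0 → ∃ x ∈ X, x * y ≠ 0 ∧ ((3 : k) ≠ 0 ∨ (x * y) ^ 2 ≠ -1)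
  · refine ⟨hline y₀ hy₀ hy₀0 (hrow y₀ hy₀ (hall y₀ hy₀ hy₀0)), Or.inr fun x hx y hy => ?_⟩
    rcases eq_or_ne y 0 with rfl | hy0
    · rw [mul_zero]; exact zero_mem _
    · exact hrow y hy (hall y hy hy0) x hx
  -- every product of one row squares to minus one
  push Not at hall
  obtain ⟨y, hy, hy0, hbad⟩ := hall
  have hsq : ∀ x ∈ X, x ≠ 0 → (3 : k) = 0 ∧ (x * y) ^ 2 = -1 := fun x hx h0 => hbad x hx (mul_ne_zero h0 hy0)
  have h3 : (3 : k) = 0 := (hsq x₀ hx₀ hx₀0).1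
  have hXset : ∀ x, x ∈ X ↔ x = 0 ∨ x = x₀ ∨ x = -x₀ := by
    intro x
    refine ⟨fun hx => ?_, ?_⟩
    · rcases eq_or_ne x 0 with h | h
      · exact Or.inl h
      · right
        refine sq_eq_sq_iff_eq_or_eq_neg.1 (mul_right_cancel₀ (pow_ne_zero 2 hy0) ?_)
        rw [← mul_pow, ← mul_pow, (hsq x hx h).2, (hsq x₀ hx₀ hx₀0).2]
    · rintro (rfl | rfl | rfl)
      exacts [X.zero_mem, hx₀, X.neg_mem hx₀]
  have hX3 : Nat.card X = 3 := by
    rw [← SetLike.coe_sort_coe, Nat.card_coe_set_eq]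
    have e : (X : Set k) = {0, x₀, -x₀} := Set.ext fun x => by simpa using hXset x
    rw [e, Set.ncard_eq_three]
    exact ⟨0, x₀, -x₀, hx₀0.symm, (neg_ne_zero.2 hx₀0).symm,
      fun h => hx₀0 ((mul_eq_zero.1 (show 2 * x₀ = 0 by linear_combination h)).resolve_left h2), rfl⟩
  have hk : ∀ r, r ∈ multField hX ↔ r = 0 ∨ r = 1 ∨ r = -1 := by
    intro r
    refine ⟨fun hr => ?_, ?_⟩
    · rcases (hXset _).1 ((mem_multField hX).1 hr x₀ hx₀) with e | e | e
      · exact Or.inl ((mul_eq_zero.1 e).resolve_right hx₀0)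
      · exact Or.inr (Or.inl (mul_right_cancel₀ hx₀0 (by rw [e, one_mul])))
      · exact Or.inr (Or.inr (mul_right_cancel₀ hx₀0 (by rw [e, neg_one_mul])))
    · rintro (rfl | rfl | rfl)
      exacts [zero_mem _, one_mem _, neg_mem (one_mem _)]
  refine ⟨fun x₁ hx₁ h1 x => ?_, Or.inl ⟨hX3, h3, fun x hx y' hy' hx0 hy'0 => ?_⟩⟩
  · rw [hk, hXset]
    have hx₁' : x₁ = x₀ ∨ x₁ = -x₀ := ((hXset x₁).1 hx₁).resolve_left h1
    rcases hx₁' with rfl | rfl <;>
      simp only [div_eq_iff h1, zero_mul, one_mul, neg_mul, neg_neg] <;> tauto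
  · by_cases hex : (3 : k) ≠ 0 ∨ (x * y') ^ 2 ≠ -1
    · rcases (hk _).1 (mul_mem_mult L h2 hx hy' hX hex) with e | e | e
      · exact absurd e (mul_ne_zero hx0 hy'0)
      all_goals rw [e]; ring
    · push Not at hex
      linear_combination ((x * y') ^ 2 - 1) * hex.2

/-- A fixed point `z` of a unipotent element. -/
def Cz (z : k) : Prop := ∃ s ≠ 0, upEl z * loEl s * upEl (-z) ∈ L

theorem Cz.up {z r : k} (hz : Cz L z) (hr : r ∈ upSet L) : Cz L (z + r) := by
  obtain ⟨s, hs, h⟩ := hz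
  refine ⟨s, hs, ?_⟩
  have := mul_mem (mul_mem (mem_upSet L |>.1 hr) h) (inv_mem (mem_upSet L |>.1 hr))
  rw [upEl_inv, ← mul_assoc, ← mul_assoc, upEl_mul, mul_assoc _ (upEl (-z)), upEl_mul] at this
  convert this using 3 <;> ring_nf

theorem cz_move {z y : k} (hy : y ∈ loSet L) (hz : Cz L z) (h0 : y * z + 1 ≠ 0) : Cz L (z / (y * z + 1)) := by
  obtain ⟨s, hs, h⟩ := hz
  refine ⟨s * (y * z + 1) ^ 2, mul_ne_zero hs (pow_ne_zero 2 h0), ?_⟩
  have hv : z / (y * z + 1) * (y * z + 1) = z := div_mul_cancel₀ _ h0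
  generalize z / (y * z + 1) = v at hv ⊢
  convert mul_mem (mul_mem (mem_loSet L |>.1 hy) h) (inv_mem (mem_loSet L |>.1 hy)) using 1
  rw [loEl_inv]
  refine ext_four ?_ ?_ ?_ ?_ <;>
    simp [upEl_coe, loEl_coe, Matrix.SpecialLinearGroup.coe_mul, Matrix.mul_apply, Fin.sum_univ_two] <;>
    first
      | ring1
      | linear_combination (s * (y * z + 1)) * hv
      | linear_combination -(s * (y * z + 1)) * hv
      | linear_combination (s * (v * (y * z + 1) + z)) * hv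
      | linear_combination -(s * (v * (y * z + 1) + z)) * hv

theorem cz_infty {x y : k} (hx : x ∈ upSet L) (hx0 : x ≠ 0) (hy : y ∈ loSet L) (hy0 : y ≠ 0) : Cz L (1 / y) := by
  refine ⟨-(x * y ^ 2), neg_ne_zero.2 (mul_ne_zero hx0 (pow_ne_zero 2 hy0)), ?_⟩
  convert mul_mem (mul_mem (mem_loSet L |>.1 hy) (mem_upSet L |>.1 hx)) (inv_mem (mem_loSet L |>.1 hy)) using 1
  rw [loEl_inv]
  refine ext_four ?_ ?_ ?_ ?_ <;>
    simp [upEl_coe, loEl_coe, Matrix.SpecialLinearGroup.coe_mul, Matrix.mul_apply, Fin.sum_univ_two] <;>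
    field_simp <;> ring

/-- The group seen from the opposite point. -/
def flip : Subgroup SL(2, k) := L.comap (swapHom 1 one_ne_zero)

theorem mem_upSet_flip {x : k} : x ∈ upSet (flip L) ↔ x ∈ loSet L := by
  rw [mem_upSet, flip, Subgroup.mem_comap, swapHom_up, neg_one_mul, ← mem_loSet, neg_mem_iff]

theorem mem_loSet_flip {x : k} : x ∈ loSet (flip L) ↔ x ∈ upSet L := by
  rw [mem_loSet, flip, Subgroup.mem_comap, swapHom_lo, div_one, ← mem_upSet, neg_mem_iff]

theorem upSet_flip : upSet (flip L) = loSet L := AddSubgroup.ext fun _ => mem_upSet_flip L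

theorem loSet_flip : loSet (flip L) = upSet L := AddSubgroup.ext fun _ => mem_loSet_flip L

theorem card_upSet (h2 : (2 : k) ≠ 0) (hX : upSet L ≠ ⊥) (hY : loSet L ≠ ⊥) :
    Nat.card (upSet L) = Nat.card (multField hX) := by
  obtain ⟨x₀, hx₀, h0⟩ := (AddSubgroup.bot_or_exists_ne_zero _).resolve_left hX
  have hlin := (structure_up L h2 hX hY).1 x₀ hx₀ h0
  exact Nat.card_congr
    ⟨fun x => ⟨x.1 / x₀, (hlin x.1).1 x.2⟩, fun r => ⟨r.1 * x₀, (mem_multField hX).1 r.2 x₀ hx₀⟩,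
      fun x => Subtype.ext (div_mul_cancel₀ _ h0), fun r => Subtype.ext (mul_div_cancel_right₀ _ h0)⟩

/-- Outside the exception the translations at zero are dual to those at infinity. -/
theorem dual (h2 : (2 : k) ≠ 0) (hX : upSet L ≠ ⊥) (hY : loSet L ≠ ⊥)
    (h3X : ¬ (Nat.card (upSet L) = 3 ∧ (3 : k) = 0)) {x₀ : k} (hx₀ : x₀ ∈ upSet L) (h0 : x₀ ≠ 0) :
    (∀ y, y ∈ loSet L ↔ x₀ * y ∈ multField hX) ∧ Nat.card (loSet L) = Nat.card (upSet L) := by
  obtain ⟨hlin, hprod⟩ := structure_up L h2 hX hY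
  have hp : ∀ x ∈ upSet L, ∀ y ∈ loSet L, x * y ∈ multField hX :=
    hprod.resolve_left fun h => h3X ⟨h.1, h.2.1⟩
  obtain ⟨y₀, hy₀, hy0⟩ := (AddSubgroup.bot_or_exists_ne_zero _).resolve_left hY
  have hX' : upSet (flip L) ≠ ⊥ := by rw [upSet_flip]; exact hY
  have hY' : loSet (flip L) ≠ ⊥ := by rw [loSet_flip]; exact hX
  obtain ⟨hlin', hprod'⟩ := structure_up (flip L) h2 hX' hY'
  have hline : ∀ y, y ∈ loSet L ↔ y / y₀ ∈ multField hX' := fun y => by
    rw [← mem_upSet_flip]; exact hlin' y₀ ((mem_upSet_flip L).2 hy₀) hy0 y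
  have hxy : x₀ * y₀ ≠ 0 := mul_ne_zero h0 hy0
  have hp' : ∀ x ∈ upSet L, ∀ y ∈ loSet L, x * y ∈ multField hX' := by
    rcases hprod' with ⟨-, h3, h4⟩ | h
    · exfalso
      refine h3X ⟨?_, h3⟩
      have hr : ∀ r ∈ multField hX, r = 0 ∨ r = 1 ∨ r = -1 := by
        intro r hr
        have hpow : ∀ r ∈ multField hX, r ≠ 0 → r ^ 4 = 1 := fun r hr hr0 => by
          have e := h4 y₀ ((mem_upSet_flip L).2 hy₀) (r * x₀)
            ((mem_loSet_flip L).2 ((mem_multField hX).1 hr x₀ hx₀)) hy0 (mul_ne_zero hr0 h0)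
          have e' := h4 y₀ ((mem_upSet_flip L).2 hy₀) x₀ ((mem_loSet_flip L).2 hx₀) hy0 h0
          linear_combination e - r ^ 4 * e'
        rcases eq_or_ne r 0 with h | hr0
        · exact Or.inl h
        have e4 := hpow r hr hr0
        rcases mul_eq_zero.1 (show (r ^ 2 - 1) * (r ^ 2 + 1) = 0 by linear_combination e4) with e | e
        · exact Or.inr (sq_eq_one_iff.1 (by linear_combination e))
        · exfalso
          have hr1 : r + 1 ≠ 0 := fun e' => h2 (by linear_combination e - (r - 1) * e')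
          have e5 := hpow (r + 1) (add_mem hr (one_mem _)) hr1
          exact h2 (by linear_combination (r ^ 2 + 4 * r + 5) * e - e5 - h3)
      have e : (upSet L : Set k) = {0, x₀, -x₀} := by
        refine Set.ext fun x => ⟨fun hx => ?_, ?_⟩
        · rcases hr _ ((hlin x₀ hx₀ h0 x).1 hx) with e | e | e <;> rw [div_eq_iff h0] at e
          · left; rw [e, zero_mul]
          · right; left; rw [e, one_mul]
          · right; right; rw [Set.mem_singleton_iff, e, neg_one_mul]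
        · rintro (rfl | rfl | rfl)
          exacts [(upSet L).zero_mem, hx₀, (upSet L).neg_mem hx₀]
      rw [← SetLike.coe_sort_coe, Nat.card_coe_set_eq, e, Set.ncard_eq_three]
      exact ⟨0, x₀, -x₀, h0.symm, (neg_ne_zero.2 h0).symm,
        fun h => h0 ((mul_eq_zero.1 (show 2 * x₀ = 0 by linear_combination h)).resolve_left h2), rfl⟩
    · intro x hx y hy
      rw [mul_comm]
      exact h y ((mem_upSet_flip L).2 hy) x ((mem_loSet_flip L).2 hx)
  have hsub : ∀ r ∈ multField hX, r ∈ multField hX' := fun r hr => by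
    have := div_mem (hp' _ ((mem_multField hX).1 hr x₀ hx₀) y₀ hy₀) (hp' x₀ hx₀ y₀ hy₀)
    rwa [mul_assoc, mul_div_cancel_right₀ _ hxy] at this
  have hiff : ∀ y, y ∈ loSet L ↔ x₀ * y ∈ multField hX := fun y =>
    ⟨fun hy => hp x₀ hx₀ y hy, fun h => (hline y).2 (by
      have := div_mem (hsub _ h) (hp' x₀ hx₀ y₀ hy₀)
      rwa [mul_div_mul_left _ _ h0] at this)⟩
  refine ⟨hiff, ?_⟩
  rw [card_upSet L h2 hX hY]
  exact Nat.card_congr
    ⟨fun y => ⟨x₀ * y.1, (hiff y.1).1 y.2⟩,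
      fun r => ⟨r.1 / x₀, (hiff _).2 (by rw [mul_div_cancel₀ _ h0]; exact r.2)⟩,
      fun y => Subtype.ext (mul_div_cancel_left₀ _ h0), fun r => Subtype.ext (mul_div_cancel₀ _ h0)⟩

/-- In the exception all products are fourth roots of one. -/
theorem four (h2 : (2 : k) ≠ 0) {x y : k} (hx : x ∈ upSet L) (hy : y ∈ loSet L) (hx0 : x ≠ 0) (hy0 : y ≠ 0)
    (h : Nat.card (upSet L) = 3) : (x * y) ^ 4 = 1 := by
  have hX : upSet L ≠ ⊥ := fun e => hx0 ((AddSubgroup.eq_bot_iff_forall _).1 e x hx)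
  have hY : loSet L ≠ ⊥ := fun e => hy0 ((AddSubgroup.eq_bot_iff_forall _).1 e y hy)
  obtain ⟨-, h' | h'⟩ := structure_up L h2 hX hY
  · exact h'.2.2 x hx y hy hx0 hy0
  haveI : Fintype (multField hX) := Fintype.ofFinite _
  have hc : Fintype.card (multField hX) = 3 := by
    rw [← Nat.card_eq_fintype_card, ← card_upSet L h2 hX hY, h]
  have e := FiniteField.pow_card_sub_one_eq_one (⟨x * y, h' x hx y hy⟩ : multField hX)
    (fun e => mul_ne_zero hx0 hy0 (congrArg Subtype.val e))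
  rw [hc] at e
  have e' : (x * y) ^ 2 = 1 := congrArg Subtype.val e
  linear_combination ((x * y) ^ 2 + 1) * e'

/-- A fixed point gives two groups sharing one line of translations with the first. -/
theorem exists_conj_pair {z s : k} (hz : z ≠ 0) (h : upEl z * loEl s * upEl (-z) ∈ L) :
    ∃ L₁ L₂ : Subgroup SL(2, k), upSet L₁ = upSet L ∧ s ∈ loSet L₁ ∧
      loSet L₂ = loSet L ∧ -(z ^ 2 * s) ∈ upSet L₂ := by
  refine ⟨L.comap (MulAut.conj (upEl z)).toMonoidHom, L.comap (MulAut.conj (loEl (1 / z))).toMonoidHom,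
    ?_, ?_, ?_, ?_⟩
  · ext x
    rw [mem_upSet, mem_upSet, Subgroup.mem_comap]
    have e : (MulAut.conj (upEl z)).toMonoidHom (upEl x) = upEl x := by
      simp only [MulEquiv.coe_toMonoidHom, MulAut.conj_apply, upEl_inv, upEl_mul]
      congr 1; ring
    rw [e]
  · rw [mem_loSet, Subgroup.mem_comap]
    simpa [MulAut.conj_apply, upEl_inv] using h
  · ext x
    rw [mem_loSet, mem_loSet, Subgroup.mem_comap]
    have e : (MulAut.conj (loEl (1 / z))).toMonoidHom (loEl x) = loEl x := by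
      simp only [MulEquiv.coe_toMonoidHom, MulAut.conj_apply, loEl_inv, loEl_mul]
      congr 1; ring
    rw [e]
  · rw [mem_upSet, Subgroup.mem_comap]
    convert h using 1
    simp only [MulEquiv.coe_toMonoidHom, MulAut.conj_apply, loEl_inv]
    refine ext_four ?_ ?_ ?_ ?_ <;>
      simp [upEl_coe, loEl_coe, Matrix.SpecialLinearGroup.coe_mul, Matrix.mul_apply, Fin.sum_univ_two] <;>
      field_simp <;> ring

/-- The translations at zero determine those at infinity outside the exception. -/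
theorem upSet_eq (h2 : (2 : k) ≠ 0) (M : Subgroup SL(2, k)) (hlo : loSet M = loSet L) (hX : upSet L ≠ ⊥)
    (hY : loSet L ≠ ⊥) (hXM : upSet M ≠ ⊥) (h3 : ¬ (Nat.card (loSet L) = 3 ∧ (3 : k) = 0)) :
    upSet M = upSet L := by
  obtain ⟨y₀, hy₀, hy0⟩ := (AddSubgroup.bot_or_exists_ne_zero _).resolve_left hY
  have a1 : upSet (flip L) ≠ ⊥ := by rw [upSet_flip]; exact hY
  have a2 : upSet (flip M) ≠ ⊥ := by rw [upSet_flip, hlo]; exact hY
  have b1 := (dual (flip L) h2 a1 (by rw [loSet_flip]; exact hX) (by rwa [upSet_flip])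
    ((mem_upSet_flip L).2 hy₀) hy0).1
  have b2 := (dual (flip M) h2 a2 (by rw [loSet_flip]; exact hXM) (by rwa [upSet_flip, hlo])
    ((mem_upSet_flip M).2 (by rwa [hlo])) hy0).1
  ext x
  rw [← mem_loSet_flip M, ← mem_loSet_flip L, b1, b2, mem_multField, mem_multField, upSet_flip, upSet_flip, hlo]

theorem cz_zero (hY : loSet L ≠ ⊥) : Cz L 0 := by
  obtain ⟨y₀, hy₀, hy0⟩ := (AddSubgroup.bot_or_exists_ne_zero _).resolve_left hY
  exact ⟨y₀, hy0, by rw [neg_zero, upEl_zero, one_mul, mul_one]; exact hy₀⟩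

theorem points_regular (h2 : (2 : k) ≠ 0) (hX : upSet L ≠ ⊥) (hY : loSet L ≠ ⊥)
    (h3X : ¬ (Nat.card (upSet L) = 3 ∧ (3 : k) = 0)) (z : k) : Cz L z ↔ z ∈ upSet L := by
  obtain ⟨x₀, hx₀, h0⟩ := (AddSubgroup.bot_or_exists_ne_zero _).resolve_left hX
  have hcz0 := cz_zero L hY
  refine ⟨fun hz => ?_, fun hz => by simpa using Cz.up L hcz0 hz⟩
  obtain ⟨hlin, -⟩ := structure_up L h2 hX hY
  have hcard := (dual L h2 hX hY h3X hx₀ h0).2
  have key : ∀ w, Cz L w → (w / x₀) ^ 2 ∈ multField hX := by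
    intro w hw
    rcases eq_or_ne w 0 with rfl | hw0
    · rw [zero_div, zero_pow two_ne_zero]; exact zero_mem _
    obtain ⟨s, hs, h⟩ := hw
    obtain ⟨L₁, L₂, h1, h1s, h2l, h2s⟩ := exists_conj_pair L hw0 h
    have hX₁ : upSet L₁ ≠ ⊥ := by rw [h1]; exact hX
    have hY₁ : loSet L₁ ≠ ⊥ := fun e => hs ((AddSubgroup.eq_bot_iff_forall _).1 e s h1s)
    have hp₁ : x₀ * s ∈ multField hX := by
      have := ((dual L₁ h2 hX₁ hY₁ (by rwa [h1]) (by rwa [h1]) h0).1 s).1 h1s
      rw [mem_multField] at this ⊢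
      rwa [h1] at this
    have hX₂ : upSet L₂ ≠ ⊥ := fun e => neg_ne_zero.2 (mul_ne_zero (pow_ne_zero 2 hw0) hs)
      ((AddSubgroup.eq_bot_iff_forall _).1 e _ h2s)
    rw [upSet_eq L h2 L₂ h2l hX hY hX₂ (by rwa [hcard]), neg_mem_iff] at h2s
    have := div_mem ((hlin x₀ hx₀ h0 _).1 h2s) hp₁
    convert this using 1
    field_simp
  have ha := key z hz
  have hb := key _ (Cz.up L hz ((upSet L).neg_mem hx₀))
  have h2m : (2 : k) ∈ multField hX := by
    rw [show (2 : k) = 1 + 1 by norm_num]; exact add_mem (one_mem _) (one_mem _)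
  have := div_mem (sub_mem (add_mem ha (one_mem _)) hb) h2m
  refine (hlin x₀ hx₀ h0 z).2 ?_
  convert this using 1
  field_simp
  ring

theorem points_three (h2 : (2 : k) ≠ 0) (h3 : (3 : k) = 0) (hX : upSet L ≠ ⊥) (hY : loSet L ≠ ⊥)
    (h3X : Nat.card (upSet L) = 3) : (∀ z, Cz L z ↔ z ∈ upSet L) ∨ {z | Cz L z}.ncard = 9 := by
  classical
  obtain ⟨x₀, hx₀, h0⟩ := (AddSubgroup.bot_or_exists_ne_zero _).resolve_left hX
  obtain ⟨y₀, hy₀, hy0⟩ := (AddSubgroup.bot_or_exists_ne_zero _).resolve_left hY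
  have hY' : Nat.card (loSet L) = 3 := by
    by_contra hne
    have := (dual (flip L) h2 (by rw [upSet_flip]; exact hY) (by rw [loSet_flip]; exact hX)
      (by rw [upSet_flip]; exact fun h => hne h.1) ((mem_upSet_flip L).2 hy₀) hy0).2
    rw [upSet_flip, loSet_flip, h3X] at this
    exact hne this.symm
  have hc := four L h2 hx₀ hy₀ h0 hy0 h3X
  have hcz0 := cz_zero L hY
  have hin : ∀ z ∈ upSet L, Cz L z := fun z hz => by simpa using Cz.up L hcz0 hz
  have eight : ∀ z, Cz L z → z ≠ 0 → (z / x₀) ^ 8 = 1 := by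
    rintro z ⟨s, hs, h⟩ hz
    obtain ⟨L₁, L₂, h1, h1s, h2l, h2s⟩ := exists_conj_pair L hz h
    have e1 := four L₁ h2 (show x₀ ∈ upSet L₁ by rwa [h1]) h1s h0 hs (by rwa [h1])
    have e2 := four (flip L₂) h2 (show y₀ ∈ upSet (flip L₂) by rwa [mem_upSet_flip, h2l])
      ((mem_loSet_flip L₂).2 h2s) hy0 (neg_ne_zero.2 (mul_ne_zero (pow_ne_zero 2 hz) hs))
      (by rwa [upSet_flip, h2l])
    have hne : x₀ ^ 8 * (s ^ 4 * y₀ ^ 4) ≠ 0 :=
      mul_ne_zero (pow_ne_zero 8 h0) (mul_ne_zero (pow_ne_zero 4 hs) (pow_ne_zero 4 hy0))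
    rw [div_pow, div_eq_one_iff_eq (pow_ne_zero 8 h0)]
    refine mul_right_cancel₀ (mul_ne_zero (pow_ne_zero 4 hs) (pow_ne_zero 4 hy0)) ?_
    linear_combination e2 - (x₀ * y₀) ^ 4 * e1 - hc
  by_cases hall : ∀ z, Cz L z → z ∈ upSet L
  · exact Or.inl fun z => ⟨hall z, hin z⟩
  push Not at hall
  obtain ⟨z, hz, hzX⟩ := hall
  right
  have hXmem : ∀ a : k, a = 0 ∨ a = 1 ∨ a = -1 → a * x₀ ∈ upSet L := by
    rintro a (rfl | rfl | rfl)
    · rw [zero_mul]; exact (upSet L).zero_mem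
    · rwa [one_mul]
    · rw [neg_one_mul]; exact (upSet L).neg_mem hx₀
  have hshift : ∀ w a : k, Cz L (w * x₀) → a = 0 ∨ a = 1 ∨ a = -1 → Cz L ((w + a) * x₀) := fun w a h ha => by
    rw [add_mul]; exact Cz.up L h (hXmem a ha)
  -- one of the three translates of a point squares to minus one
  have root : ∀ w : k, (w ^ 8 = 1 ∨ w = 0) →
      (w = 0 ∨ w = 1 ∨ w = -1) ∨ ∃ a : k, (a = 0 ∨ a = 1 ∨ a = -1) ∧ (w + a) ^ 2 = -1 := by
    rintro w (h8 | rfl)
    swap
    · exact Or.inl (Or.inl rfl)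
    rcases mul_eq_zero.1 (show (w ^ 4 - 1) * (w ^ 4 + 1) = 0 by linear_combination h8) with e | e
    · rcases mul_eq_zero.1 (show (w ^ 2 - 1) * (w ^ 2 + 1) = 0 by linear_combination e) with e | e
      · exact Or.inl (Or.inr (sq_eq_one_iff.1 (by linear_combination e)))
      · exact Or.inr ⟨0, Or.inl rfl, by linear_combination e⟩
    · rcases mul_eq_zero.1
          (show (w ^ 2 + w - 1) * (w ^ 2 - w - 1) = 0 by linear_combination e - w ^ 2 * h3) with e | e
      · exact Or.inr ⟨-1, Or.inr (Or.inr rfl), by linear_combination e - (w - 1) * h3⟩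
      · exact Or.inr ⟨1, Or.inr (Or.inl rfl), by linear_combination e + (w + 1) * h3⟩
  have hnorm : ∀ w, Cz L w → (w / x₀) ^ 8 = 1 ∨ w / x₀ = 0 := fun w hw => by
    rcases eq_or_ne w 0 with rfl | hw0
    · exact Or.inr (zero_div _)
    · exact Or.inl (eight w hw hw0)
  have hu : ∃ u : k, u ^ 2 = -1 ∧ Cz L (u * x₀) ∧ Cz L (-u * x₀) := by
    set c := x₀ * y₀ with hcdef
    have hc0 : c ≠ 0 := mul_ne_zero h0 hy0
    rcases mul_eq_zero.1 (show (c ^ 2 - 1) * (c ^ 2 + 1) = 0 by linear_combination hc) with e | e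
    · -- the point is moved to its negative
      have hw : z / x₀ * x₀ = z := div_mul_cancel₀ _ h0
      obtain h | ⟨a, ha, hsq⟩ := root _ (hnorm z hz)
      · exact absurd (hw ▸ hXmem _ h) hzX
      set u := z / x₀ + a
      have hcu : Cz L (u * x₀) := hshift _ a (by rwa [hw]) ha
      refine ⟨u, hsq, hcu, ?_⟩
      have hu1 : u + 1 ≠ 0 := fun e' => h2 (by linear_combination hsq - (u - 1) * e')
      obtain ⟨y, hy, hyx⟩ : ∃ y ∈ loSet L, y * x₀ = 1 := by
        rcases sq_eq_one_iff.1 (show c ^ 2 = 1 by linear_combination e) with e' | e'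
        · exact ⟨y₀, hy₀, by rw [← e', hcdef]; ring⟩
        · exact ⟨-y₀, (loSet L).neg_mem hy₀, by rw [← neg_eq_iff_eq_neg.2 e', hcdef]; ring⟩
      have hmul : y * (u * x₀) + 1 = u + 1 := by linear_combination u * hyx
      have hm := cz_move L hy hcu (by rw [hmul]; exact hu1)
      rw [hmul] at hm
      have e1 : u * x₀ / (u + 1) = (-u - 1) * x₀ := by
        rw [div_eq_iff hu1]; linear_combination x₀ * hsq + (x₀ * u) * h3
      rw [e1] at hm
      have := hshift _ 1 hm (Or.inr (Or.inl rfl))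
      rwa [sub_add_cancel] at this
    · refine ⟨1 / c, ?_, ?_, ?_⟩
      · field_simp; linear_combination e
      · convert cz_infty L hx₀ h0 hy₀ hy0 using 1
        rw [hcdef]; field_simp
      · convert cz_infty L hx₀ h0 ((loSet L).neg_mem hy₀) (neg_ne_zero.2 hy0) using 1
        rw [hcdef]; field_simp
  obtain ⟨u, hu2, hup, hum⟩ := hu
  set T : Finset k := {0, 1, -1}
  have hT : ∀ a, a ∈ T ↔ a = 0 ∨ a = 1 ∨ a = -1 := fun a => by simp [T]
  have h11 : (1 : k) ≠ -1 := fun e => h2 (by linear_combination e)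
  have hT3 : T.card = 3 := by
    rw [Finset.card_eq_three]
    exact ⟨0, 1, -1, zero_ne_one, (neg_ne_zero.2 one_ne_zero).symm, h11, rfl⟩
  have heq : {w | Cz L w} = ((T ×ˢ T).image fun p => (p.2 * u + p.1) * x₀ : Finset k) := by
    ext w
    simp only [Set.mem_setOf_eq, Finset.coe_image, Set.mem_image, SetLike.mem_coe, Finset.mem_product, hT,
      Prod.exists]
    constructor
    · intro hw
      have hwe : w / x₀ * x₀ = w := div_mul_cancel₀ _ h0
      obtain h | ⟨a, ha, hsq⟩ := root _ (hnorm w hw)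
      · exact ⟨w / x₀, 0, ⟨h, Or.inl rfl⟩, by rw [zero_mul, zero_add, hwe]⟩
      have hs := sq_eq_sq_iff_eq_or_eq_neg.1 (hsq.trans hu2.symm)
      have hna : -a = 0 ∨ -a = 1 ∨ -a = -1 := by rcases ha with rfl | rfl | rfl <;> simp
      rcases hs with e | e
      · exact ⟨-a, 1, ⟨hna, by simp⟩, by rw [one_mul, ← e]; linear_combination hwe⟩
      · exact ⟨-a, -1, ⟨hna, by simp⟩, by rw [neg_one_mul, ← e]; linear_combination hwe⟩
    · rintro ⟨a, b, ⟨ha, hb⟩, rfl⟩
      refine hshift _ a ?_ ha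
      rcases hb with rfl | rfl | rfl
      · rw [zero_mul, zero_mul]; exact hcz0
      · rwa [one_mul]
      · rwa [neg_one_mul]
  rw [heq, Set.ncard_coe_finset, Finset.card_image_of_injOn, Finset.card_product, hT3]
  intro p hp p' hp' e
  rw [SetLike.mem_coe, Finset.mem_product, hT, hT] at hp hp'
  have e' := mul_right_cancel₀ h0 e
  have hb : p.2 = p'.2 := by
    by_contra hne
    have hd := sub_ne_zero.2 hne
    have hu3 : u = (p'.1 - p.1) / (p.2 - p'.2) := by rw [eq_div_iff hd]; linear_combination e'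
    have hT' : ∀ a : k, (a = 0 ∨ a = 1 ∨ a = -1) → a ^ 3 = a := by rintro a (rfl | rfl | rfl) <;> ring
    have hfr : ∀ a b : k, (a = 0 ∨ a = 1 ∨ a = -1) → (b = 0 ∨ b = 1 ∨ b = -1) → (a - b) ^ 3 = a - b :=
      fun a b ha hb => by linear_combination hT' a ha - hT' b hb + (a * b ^ 2 - a ^ 2 * b) * h3
    have hu3' : u ^ 3 = u := by rw [hu3, div_pow, hfr _ _ hp'.1 hp.1, hfr _ _ hp.2 hp'.2]
    have hu0 : u = 0 := by
      have : 2 * u = 0 := by linear_combination u * hu2 - hu3'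
      exact (mul_eq_zero.1 this).resolve_left h2
    exact one_ne_zero (α := k) (by linear_combination hu2 - u * hu0)
  refine Prod.ext ?_ hb
  linear_combination e' - u * hb

/-- The fixed points form the line of translations, or there are nine in characteristic three. -/
theorem points (h2 : (2 : k) ≠ 0) (hX : upSet L ≠ ⊥) (hY : loSet L ≠ ⊥) :
    (∀ z, Cz L z ↔ z ∈ upSet L) ∨ (Nat.card (upSet L) = 3 ∧ (3 : k) = 0 ∧ {z | Cz L z}.ncard = 9) := by
  by_cases h : Nat.card (upSet L) = 3 ∧ (3 : k) = 0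
  · exact (points_three L h2 h.2 hX hY h.1).imp id fun h' => ⟨h.1, h.2, h'⟩
  · exact Or.inl (points_regular L h2 hX hY h)

end Cfsg.Lib.Classical.SUThree.SLTwo
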