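import Cfsg.Agent.Classical.SUThree.Full
import Cfsg.Agent.Classical.SUThree.SLTwo
import Cfsg.Agent.Known.PSUThree.Orbit

/-!
The special linear group over the fixed field acting on a hyperbolic line of a three-dimensional hermitian space.
-/

set_option autoImplicit false
set_option linter.unusedSectionVars false
set_option linter.style.haveILetI false
set_option maxHeartbeats 1000000

namespace Cfsg.Lib.Classical.SUThree

open Cfsg.Lib.Classical Cfsg.Lib.Components.UnitaryThree Cfsg.Lib.Known.PSUThree Cfsg.Lib.RootSub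
open scoped MatrixGroups

universe u v

variable {F : Type u} [Field F] [Finite F] {V : Type v} [AddCommGroup V] [Module F V]
  [FiniteDimensional F V] {H : HermSpace F V}

/-- The linear map of a matrix on the line of a frame. -/
def lineMap (B : Frame H) (δ : F) (M : Matrix (Fin 2) (Fin 2) (fixedField H.σ)) : V →ₗ[F] V :=
  (H.lin B.f).smulRight ((M 0 0 : F) • B.e + ((M 1 0 : F) / δ) • B.f) + (H.lin B.w).smulRight B.w +
    (H.lin B.e).smulRight (((M 0 1 : F) * δ) • B.e + (M 1 1 : F) • B.f)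

theorem lineMap_apply (B : Frame H) (δ : F) (M : Matrix (Fin 2) (Fin 2) (fixedField H.σ)) (z : V) :
    lineMap B δ M z = H.h z B.f • ((M 0 0 : F) • B.e + ((M 1 0 : F) / δ) • B.f) + H.h z B.w • B.w +
      H.h z B.e • (((M 0 1 : F) * δ) • B.e + (M 1 1 : F) • B.f) := rfl

theorem det_coe (M : SL(2, fixedField H.σ)) :
    (M.1 0 0 : F) * (M.1 1 1 : F) - (M.1 0 1 : F) * (M.1 1 0 : F) = 1 := by
  have h := M.2
  rw [Matrix.det_fin_two] at h
  exact congrArg Subtype.val h

variable (hd : Module.finrank F V = 3) (B : Frame H) {δ : F} (hδ : δ + H.σ δ = 0) (hδ0 : δ ≠ 0)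
include hd hδ hδ0

theorem lineMap_form (M : SL(2, fixedField H.σ)) (z z' : V) :
    H.h (lineMap B δ M.1 z) (lineMap B δ M.1 z') = H.h z z' := by
  have hσ : H.σ δ = -δ := by linear_combination hδ
  have hdet := det_coe M
  have hf : ∀ i j, H.σ (M.1 i j : F) = (M.1 i j : F) := fun i j => (M.1 i j).2
  conv_rhs => rw [decomp hd B z, decomp hd B z']
  simp [lineMap_apply, H.add_left, H.add_right, H.smul_left, H.smul_right, B.ee, B.ew, B.ef, B.we, B.ww,
    B.wf, B.fe, B.fw, B.ff, hf, hσ, map_div₀, map_mul]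
  field_simp
  linear_combination δ * (H.h z B.f * H.σ (H.h z' B.e) + H.h z B.e * H.σ (H.h z' B.f)) * hdet

theorem lineMap_injective (M : SL(2, fixedField H.σ)) : Function.Injective (lineMap B δ M.1) := by
  intro z z' h
  refine sub_eq_zero.1 (H.nondeg _ fun t => ?_)
  rw [← lineMap_form hd B hδ hδ0 M t (z - z'), map_sub, h, sub_self, H.zero_right]

theorem lineMap_det (M : SL(2, fixedField H.σ)) : LinearMap.det (lineMap B δ M.1) = 1 := by
  rw [det_frame hd B, Matrix.det_fin_three]
  simp [lineMap_apply, H.add_left, H.smul_left, B.ee, B.ew, B.ef, B.we, B.ww, B.wf, B.fe, B.fw, B.ff]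
  field_simp
  linear_combination det_coe M

/-- The element of a matrix. -/
noncomputable def lineEl (M : SL(2, fixedField H.σ)) : H.SIsom :=
  ⟨⟨LinearEquiv.ofInjectiveEndo _ (lineMap_injective hd B hδ hδ0 M), lineMap_form hd B hδ hδ0 M⟩,
    HermSpace.mem_SIsom H |>.2 (Units.ext (by
      rw [LinearEquiv.coe_det]
      exact lineMap_det hd B hδ hδ0 M))⟩

theorem lineEl_apply (M : SL(2, fixedField H.σ)) (z : V) :
    (lineEl hd B hδ hδ0 M).1.1 z = lineMap B δ M.1 z := rfl

/-- The embedding of the special linear group of the line. -/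
noncomputable def emb : SL(2, fixedField H.σ) →* H.SIsom where
  toFun := lineEl hd B hδ hδ0
  map_one' := H.sisom_ext fun z => by
    rw [lineEl_apply, lineMap_apply]
    conv_rhs => rw [show (1 : H.SIsom).1.1 z = z from rfl, decomp hd B z]
    simp
  map_mul' M N := H.sisom_ext fun z => by
    rw [H.smul_mul_apply, lineEl_apply, lineEl_apply, lineEl_apply]
    simp [lineMap_apply, Matrix.SpecialLinearGroup.coe_mul, Matrix.mul_apply, Fin.sum_univ_two, H.add_left,
      H.smul_left, B.ee, B.ew, B.ef, B.we, B.ww, B.wf, B.fe, B.fw, B.ff]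
    match_scalars <;> field_simp <;> ring

theorem emb_apply (M : SL(2, fixedField H.σ)) (z : V) :
    (emb hd B hδ hδ0 M).1.1 z = lineMap B δ M.1 z := rfl

theorem emb_e (M : SL(2, fixedField H.σ)) :
    (emb hd B hδ hδ0 M).1.1 B.e = (M.1 0 0 : F) • B.e + ((M.1 1 0 : F) / δ) • B.f := by
  simp [emb_apply, lineMap_apply, B.ef, B.ew, B.ee]

theorem emb_f (M : SL(2, fixedField H.σ)) :
    (emb hd B hδ hδ0 M).1.1 B.f = ((M.1 0 1 : F) * δ) • B.e + (M.1 1 1 : F) • B.f := by
  simp [emb_apply, lineMap_apply, B.fe, B.fw, B.ff]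

theorem emb_w (M : SL(2, fixedField H.σ)) : (emb hd B hδ hδ0 M).1.1 B.w = B.w := by
  simp [emb_apply, lineMap_apply, B.we, B.ww, B.wf]

theorem emb_injective : Function.Injective (emb hd B hδ hδ0) := by
  intro M N h
  have h1 := emb_e hd B hδ hδ0 M
  rw [h, emb_e] at h1
  have h2 := emb_f hd B hδ hδ0 M
  rw [h, emb_f] at h2
  have a1 := congrArg (fun z => H.h z B.f) h1
  have a2 := congrArg (fun z => H.h z B.e) h1
  have a3 := congrArg (fun z => H.h z B.f) h2
  have a4 := congrArg (fun z => H.h z B.e) h2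
  simp [H.add_left, H.smul_left, B.ee, B.fe, B.ef, B.ff] at a1 a2 a3 a4
  refine Cfsg.Lib.Classical.PSLFour.ext_four ?_ ?_ ?_ ?_
  · exact a1.symm
  · exact (a3.resolve_right hδ0).symm
  · rw [div_left_inj' hδ0] at a2; exact Subtype.ext a2.symm
  · exact a4.symm

omit hd hδ0 in
theorem skew_mul (x : fixedField H.σ) : (x : F) * δ + H.σ ((x : F) * δ) = 0 := by
  rw [map_mul, show H.σ (x : F) = x from x.2, ← mul_add, hδ, mul_zero]

omit hd hδ0 in
theorem skew_div (x : fixedField H.σ) : (x : F) / δ + H.σ ((x : F) / δ) = 0 := by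
  rw [map_div₀, show H.σ (x : F) = x from x.2, show H.σ δ = -δ by linear_combination hδ, div_neg, add_neg_cancel]

theorem emb_up (x : fixedField H.σ) : emb hd B hδ hδ0 (upEl x) = H.sT B.ee (skew_mul hδ x) := by
  refine H.sisom_ext fun z => ?_
  rw [H.sT_apply, emb_apply, lineMap_apply]
  conv_rhs => arg 1; rw [decomp hd B z]
  simp [upEl_coe]
  module

theorem emb_lo (x : fixedField H.σ) : emb hd B hδ hδ0 (loEl x) = H.sT B.ff (skew_div hδ x) := by
  refine H.sisom_ext fun z => ?_
  rw [H.sT_apply, emb_apply, lineMap_apply]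
  conv_rhs => arg 1; rw [decomp hd B z]
  simp [loEl_coe]
  module

omit hd hδ0 in
/-- The point of the line with given coordinate. -/
theorem P_iso (z : fixedField H.σ) :
    H.h (((z : F) * δ) • B.e + B.f) (((z : F) * δ) • B.e + B.f) = 0 := by
  have := skew_mul hδ z
  simp [H.add_left, H.add_right, H.smul_left, H.smul_right, B.ee, B.ff, B.ef, B.fe, map_mul] at this ⊢
  linear_combination this

theorem emb_conj (z s : fixedField H.σ) :
    emb hd B hδ hδ0 (upEl z * loEl s * upEl (-z)) = H.sT (P_iso B hδ z) (skew_div hδ s) := by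
  have e : (emb hd B hδ hδ0 (upEl z)).1.1 B.f = ((z : F) * δ) • B.e + B.f := by
    rw [emb_f]; simp [upEl_coe]
  rw [map_mul, map_mul, show upEl (-z) = (upEl z)⁻¹ from (upEl_inv z).symm, map_inv, emb_lo, H.sT_conj]
  exact H.sT_congr _ _ _ _ e rfl

omit hd in
/-- Every skew element is a fixed multiple of the given one. -/
theorem exists_coe {c : F} (hc : c + H.σ c = 0) :
    (∃ x : fixedField H.σ, c = (x : F) * δ) ∧ ∃ y : fixedField H.σ, c = (y : F) / δ := by
  have h1 : H.σ δ = -δ := by linear_combination hδ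
  have h2 : H.σ c = -c := by linear_combination hc
  refine ⟨⟨⟨c / δ, ?_⟩, (div_mul_cancel₀ _ hδ0).symm⟩, ⟨⟨c * δ, ?_⟩, (mul_div_cancel_right₀ _ hδ0).symm⟩⟩
  · rw [mem_fixedField, map_div₀, h1, h2, neg_div_neg_eq]
  · rw [mem_fixedField, map_mul, h1, h2, neg_mul_neg]

end Cfsg.Lib.Classical.SUThree
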