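import Cfsg.Prelude.Def_GeometricClasses
import Cfsg.Agent.Classical.Unitary.MaxMatrix
import Cfsg.Agent.Classical.Unitary.FrameMain
import Cfsg.Agent.Classical.SUThree.FrameTop
import Cfsg.Agent.Known.PSUThree.Main

/-!
The stabiliser of an orthogonal decomposition into three lines is maximal in `SU_3(q)`, `q ≠ 5`, up to the soluble
overgroups.
-/

set_option autoImplicit false
set_option linter.unusedVariables false
set_option linter.unusedSectionVars false
set_option linter.style.haveILetI false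

namespace Cfsg.Lib.Classical.SUThree

open Cfsg.Lib.Classical Cfsg.Lib.Known.PSUThree

theorem isMaximalIn_decomposition_of {F : Type*} [Field F] [Fintype F] {q : ℕ} (hF : Fintype.card F = q ^ 2)
    (hq : 3 ≤ q) (hq5 : q ≠ 5) (D : Fin 3 → Submodule F (Fin 3 → F))
    (hD : Cfsg.Geo.IsNondegenerateMDecomposition (Cfsg.hermForm 3 F q) 1 D)
    (hsol : ∀ K : Subgroup (Matrix.GeneralLinearGroup (Fin 3) F),
      Cfsg.Geo.decompositionStabilizer D ⊓ (Cfsg.GU 3 F q ⊓ Cfsg.Geo.specialLinear (Fin 3) F) ≤ K →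
      K ≤ Cfsg.GU 3 F q ⊓ Cfsg.Geo.specialLinear (Fin 3) F → Group.IsSolvable K →
      K ≤ Cfsg.Geo.decompositionStabilizer D) :
    Cfsg.Geo.IsMaximalIn (Cfsg.GU 3 F q ⊓ Cfsg.Geo.specialLinear (Fin 3) F)
      (Cfsg.Geo.decompositionStabilizer D ⊓ (Cfsg.GU 3 F q ⊓ Cfsg.Geo.specialLinear (Fin 3) F)) := by
  classical
  set H := stdHerm 3 hF with hH
  have hS := setup_std hF hq
  have hWD : ∀ i, H.NondegOn (D i) := fun i => stdHerm_nondegOn hF (hD.nondegenerate i)
  have hvec : ∀ i, ∃ x : Fin 3 → F, x ∈ D i ∧ H.h x x = 1 := fun i => by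
    haveI : Nontrivial (D i) := Module.nontrivial_of_finrank_pos (R := F) (by rw [hD.decomp.finrank_eq]; norm_num)
    obtain ⟨x, hx⟩ := (H.restrict _ (hWD i)).exists_norm_one
    exact ⟨x, x.2, hx⟩
  choose x hxD hxx using hvec
  have horth : ∀ i j, H.h (x i) (x j) = if i = j then 1 else 0 := fun i j => by
    split_ifs with h
    · subst h; exact hxx i
    · rw [stdHerm_h]
      exact hD.orthogonal _ _ h _ (hxD i) _ (hxD j)
  have hli : LinearIndependent F x := by
    rw [Fintype.linearIndependent_iff]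
    intro a ha i
    have h := congrArg (fun v => H.h v (x i)) ha
    simp only [H.sum_left, H.smul_left, horth, mul_ite, mul_one, mul_zero, Finset.sum_ite_eq', Finset.mem_univ,
      if_true, H.zero_left] at h
    exact h
  let bs := basisOfLinearIndependentOfCardEqFinrank hli (by simp)
  have hbs : ∀ i, bs i = x i := fun i => by simp [bs]
  let U : UFrame H (Fin 3) := ⟨bs, fun i j => by rw [hbs, hbs]; exact horth i j⟩
  have hUb : ∀ i, U.b i = x i := hbs
  have hline : ∀ i, D i = Submodule.span F {U.b i} := fun i => by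
    refine (Submodule.eq_of_le_of_finrank_le ((Submodule.span_singleton_le_iff_mem _ _).2 (hUb i ▸ hxD i)) ?_).symm
    rw [hD.decomp.finrank_eq, finrank_span_singleton (U.b.ne_zero i)]
  set M := (Cfsg.Geo.decompositionStabilizer D).comap (sunitToGL hF) with hMdef
  have hiff : ∀ g : H.SIsom, g ∈ M ↔ U.Mono1 g.1 := by
    intro g
    rw [hMdef, show g ∈ (Cfsg.Geo.decompositionStabilizer D).comap (sunitToGL hF) ↔
      ∃ σ : Equiv.Perm (Fin 3), ∀ i, (D i).map g.1.1.toLinearMap = D (σ i) from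
        mem_decompositionStabilizer_iff D g.1.1, U.mono1_iff]
    constructor
    · rintro ⟨σ, hσ⟩
      have h : ∀ i, ∃ c : F, g.1.1 (U.b i) = c • U.b (σ i) ∧ c ≠ 0 := fun i => by
        have hm : g.1.1 (U.b i) ∈ D (σ i) := hσ i ▸ Submodule.mem_map_of_mem (hUb i ▸ hxD i)
        rw [hline, Submodule.mem_span_singleton] at hm
        obtain ⟨c, hc⟩ := hm
        refine ⟨c, hc.symm, fun e => H.isom_ne_zero g.1 (U.b.ne_zero i) ?_⟩
        rw [← hc, e, zero_smul]
      choose c hc using h
      exact ⟨σ, c, hc⟩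
    · rintro ⟨π, c, h⟩
      refine ⟨π, fun i => ?_⟩
      rw [hline, hline, Submodule.map_span, Set.image_singleton]
      show Submodule.span F {g.1.1 (U.b i)} = _
      rw [(h i).1, Submodule.span_singleton_smul_eq (IsUnit.mk0 _ (h i).2)]
  refine isMaximalIn_of_isCoatom_comap (sunitToGL hF) (range_sunitToGL hF) ⟨fun htop => ?_, fun K hlt => ?_⟩
  · obtain ⟨c, hc⟩ := H.conj.norm_surjective (a := (-1 : F)) (by rw [map_neg, map_one])
    have hc0 : c ≠ 0 := fun e => by rw [e, zero_mul] at hc; exact neg_ne_zero.2 one_ne_zero hc.symm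
    obtain ⟨δ, hδ, hδ0, hδ1⟩ : ∃ δ : F, δ + H.σ δ = 0 ∧ δ ≠ 0 ∧ δ ≠ -1 := by
      by_contra! h
      have hle : Nat.card {d : F // d + H.σ d = 0} ≤ 2 := by
        change Nat.card ({d : F | d + H.σ d = 0} : Set F) ≤ 2
        rw [Nat.card_coe_set_eq]
        refine (Set.ncard_le_ncard (t := {0, -1}) (fun d hd => ?_) (Set.toFinite _)).trans
          ((Set.ncard_insert_le _ _).trans (by rw [Set.ncard_singleton]))
        by_cases h0 : d = 0
        · exact Or.inl h0
        · exact Or.inr (h d hd h0)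
      rw [card_skew] at hle
      have : 3 ≤ H.q := hS.three
      omega
    set v := U.b 0 + c • U.b 1
    have h01 : H.h (U.b 0) (U.b 1) = 0 := U.b_ne (by decide)
    have hv : H.h v v = 0 := by
      simp only [v, H.add_left, H.add_right, H.smul_left, H.smul_right, U.b_self, h01, H.eq_zero_symm h01]
      linear_combination hc
    have hmono : U.Mono1 (H.sT hv hδ).1 := (hiff _).1 (by rw [hMdef, htop]; exact Subgroup.mem_top _)
    have h0v : H.h (U.b 0) v = 1 := by
      simp only [v, H.add_right, H.smul_right, U.b_self, h01]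
      ring
    have hsup : ∀ l, l = 0 ∨ l = 1 → l ∈ U.supp ((H.sT hv hδ).1.1 (U.b 0)) := by
      intro l hl
      rw [U.mem_supp, H.sT_apply, h0v, U.co_add, U.co_smul, U.co_add, U.co_smul, U.co_b, U.co_b]
      rcases hl with rfl | rfl
      · simp only [if_true, show (1 : Fin 3) ≠ 0 by decide, if_false]
        intro h
        exact hδ1 (by linear_combination h)
      · simp only [if_true, show (0 : Fin 3) ≠ 1 by decide, if_false]
        intro h
        exact mul_ne_zero hδ0 hc0 (by linear_combination h)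
    exact absurd (Finset.card_le_one.1 (hmono 0) 0 (hsup 0 (Or.inl rfl)) 1 (hsup 1 (Or.inr rfl))) (by decide)
  obtain ⟨g, hg, hgM⟩ := SetLike.exists_of_lt hlt
  refine frame_top U (fun g hg => hlt.le ((hiff g).2 hg)) hS.dim hS.three hS.pow
    (by rw [stdHerm_q hF]; exact hq5) hg (fun h => hgM ((hiff g).2 h)) fun hK => ?_
  have hKsol : Group.IsSolvable (K.map (sunitToGL hF)) :=
    Group.isSolvable_of_surjective ((sunitToGL hF).subgroupMap_surjective K)
  have hle : K.map (sunitToGL hF) ≤ Cfsg.GU 3 F q ⊓ Cfsg.Geo.specialLinear (Fin 3) F := by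
    rw [← range_sunitToGL hF]; exact Subgroup.map_le_range _ _
  have hMK : Cfsg.Geo.decompositionStabilizer D ⊓ (Cfsg.GU 3 F q ⊓ Cfsg.Geo.specialLinear (Fin 3) F) ≤
      K.map (sunitToGL hF) := by
    rw [← range_sunitToGL hF, inf_comm]
    rintro _ ⟨⟨m, rfl⟩, hm⟩
    exact ⟨m, hlt.le hm, rfl⟩
  exact hgM (hsol _ hMK hle hKsol ⟨g, hg, rfl⟩)

end Cfsg.Lib.Classical.SUThree
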