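import Cfsg.Agent.Classical.SUThree.SolvableFrame
import Cfsg.Agent.Classical.Misc.ExtraThreeApply

/-!
Solvable overgroups in `SU₃(p)` of the normaliser of a Heisenberg group of order twenty-seven.
-/

set_option autoImplicit false
set_option linter.unusedSimpArgs false
set_option linter.unusedSectionVars false
set_option linter.style.haveILetI false
set_option linter.unusedTactic false
set_option linter.unreachableTactic false

namespace Cfsg.Lib.Classical.SUThree.Solv

open Matrix Cfsg.Geo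
open scoped MatrixGroups
open Cfsg.Lib.Classical.PrimeDim
open Cfsg.Lib.Classical.ExtraThree (dA mB root_pow root_ne)

universe u

variable {F : Type u} [Field F]

local notation "MM" => Matrix (Fin 3) (Fin 3) F
local notation "GG" => GL (Fin 3) F

/-- The generators of a frame generate in the sense of `Gen`. -/
theorem gen_of_frame {R : Subgroup GG} {ω : F} {Pm c a b : GG} (h3 : (3 : F) ≠ 0)
    (S : Cfsg.Lib.Classical.ExtraThree.Frame R ω Pm c a b) (hcube : ∀ g ∈ R, g ^ 3 = 1)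
    (hai : ActsAbsolutelyIrreducibly (matrixSet R)) : Gen R a b ω := by
  have hw3 := root_pow S.root
  have hprim : IsPrimitiveRoot ω 3 := by
    haveI : Fact (Nat.Prime 3) := ⟨Nat.prime_three⟩
    rw [← orderOf_eq_prime hw3 (root_ne h3 S.root)]
    exact IsPrimitiveRoot.orderOf ω
  have hstd : dA ω * (mB : MM) = ω • (mB * dA ω) := by
    ext i j
    fin_cases i <;> fin_cases j <;> simp [mB, dA, Matrix.diagonal_mul, Matrix.mul_diagonal, Matrix.vecMul_diagonal] <;>
      first | linear_combination (0 : F) | linear_combination hw3 | linear_combination -hw3 |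
        linear_combination ω * hw3 | linear_combination -ω * hw3
  have htw : (a : MM) * (b : MM) = ω • ((b : MM) * (a : MM)) := by
    refine Pm.isUnit.mul_right_cancel ?_
    rw [Matrix.smul_mul, mul_assoc, S.eqb, ← mul_assoc, S.eqa, mul_assoc, hstd, Matrix.mul_smul, mul_assoc (b : MM),
      S.eqa, ← mul_assoc (b : MM), S.eqb, mul_assoc]
  refine ⟨S.mem_a, S.mem_b, hprim, hcube a S.mem_a, hcube b S.mem_b, htw, ?_, hai⟩
  have hc : Commute (proj a) (proj b) := by
    rw [Commute, SemiconjBy, ← map_mul, ← map_mul, proj_eq_iff]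
    refine ⟨Units.mk0 _ (inv_ne_zero (hprim.ne_zero (by norm_num))), ?_⟩
    rw [Units.val_mul, Units.val_mul, htw, smul_smul, Units.val_mk0, inv_mul_cancel₀ (hprim.ne_zero (by norm_num)),
      one_smul]
  have ha3 : proj a ^ 3 = 1 := by rw [← map_pow, hcube a S.mem_a, map_one]
  have hb3 : proj b ^ 3 = 1 := by rw [← map_pow, hcube b S.mem_b, map_one]
  intro g hg
  suffices ∃ i j : ℕ, proj g = proj a ^ i * proj b ^ j by
    obtain ⟨i, j, e⟩ := this
    refine ⟨![(i : ZMod 3), (j : ZMod 3)], ?_⟩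
    rw [e, pt]
    simp only [Matrix.cons_val_zero, Matrix.cons_val_one, ZMod.val_natCast]
    rw [← pow_eq_pow_mod i ha3, ← pow_eq_pow_mod j hb3]
  rw [← S.gen] at hg
  induction hg using Subgroup.closure_induction with
  | mem z hz =>
    rcases hz with rfl | rfl
    · exact ⟨1, 0, by simp⟩
    · exact ⟨0, 1, by simp⟩
  | one => exact ⟨0, 0, by simp⟩
  | mul y z _ _ hy hz =>
    obtain ⟨i, j, e⟩ := hy
    obtain ⟨k, l, e'⟩ := hz
    refine ⟨i + k, j + l, ?_⟩
    rw [map_mul, e, e', pow_add, pow_add]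
    exact (hc.symm.pow_pow j k).mul_mul_mul_comm _ _
  | inv y _ hy =>
    obtain ⟨i, j, e⟩ := hy
    refine ⟨2 * i, 2 * j, ?_⟩
    rw [map_inv, e, inv_eq_iff_mul_eq_one, (hc.symm.pow_pow j (2 * i)).mul_mul_mul_comm, ← pow_add, ← pow_add,
      show i + 2 * i = 3 * i by ring, show j + 2 * j = 3 * j by ring, pow_mul, pow_mul, ha3, hb3, one_pow, one_pow,
      one_mul]

variable [Fintype F] {p : ℕ}

/-- The Fourier matrix as an element of the special unitary group, with its value. -/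
theorem exists_fourier_val (hF : Fintype.card F = p ^ 2) (hp3 : p % 3 = 2) {ω : F} (hw : ω ^ 2 + ω + 1 = 0)
    (h3 : (3 : F) ≠ 0) :
    ∃ f ∈ suGL 3 F p, (f : MM) = (1 + 2 * ω)⁻¹ • !![1, 1, 1; 1, ω, ω ^ 2; 1, ω ^ 2, ω] ∧
      (f : MM) * dA ω = mB ^ 2 * (f : MM) ∧ (f : MM) * mB = dA ω * (f : MM) := by
  classical
  have hw3 := root_pow hw
  set θ : F := 1 + 2 * ω with hθ
  have hθ2 : θ ^ 2 = -3 := by rw [hθ]; linear_combination 4 * hw
  have hθ0 : θ ≠ 0 := fun e => h3 (by linear_combination hθ2 - θ * e)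
  set A : MM := !![1, 1, 1; 1, ω, ω ^ 2; 1, ω ^ 2, ω] with hA
  set t : MM := !![-1, 0, 0; 0, 0, -1; 0, -1, 0] with ht
  have hAA : A * A = (-3 : F) • t := by
    rw [hA, ht]
    ext i j
    fin_cases i <;> fin_cases j <;> simp [Matrix.mul_apply, Fin.sum_univ_three] <;>
      first | linear_combination (0 : F) | linear_combination hw | linear_combination (hw + ω * hw3) |
        linear_combination 2 * hw3
  have htt : t * t = 1 := by
    rw [ht]
    ext i j
    fin_cases i <;> fin_cases j <;> simp [Matrix.mul_apply, Fin.sum_univ_three]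
  set M : MM := θ⁻¹ • A with hM
  have hM2 : M * M = t := by
    rw [hM, smul_mul_smul_comm, hAA, smul_smul, ← hθ2, ← mul_inv, ← pow_two, inv_mul_cancel₀ (pow_ne_zero 2 hθ0),
      one_smul]
  have hM4 : M * (M * M * M) = 1 := by
    rw [← mul_assoc, ← mul_assoc, hM2, mul_assoc, hM2, htt]
  have hM4' : M * M * M * M = 1 := by rw [mul_assoc, hM2, htt]
  let f : GG := ⟨M, M * M * M, hM4, hM4'⟩
  refine ⟨f, ⟨mem_GU_iff.mpr fun v y => ?_, ?_⟩, rfl, ?_, ?_⟩
  · set σ := frob hF with hσ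
    have hσω : σ ω = ω ^ 2 := by
      rw [hσ, frob_apply, pow_eq_pow_mod p hw3, hp3]
    have hσθ : σ θ = -θ := by
      rw [hθ, map_add, map_mul, map_one, map_ofNat, hσω]
      linear_combination 2 * hw
    rw [hermForm_eq hF]
    simp only [PrimeDim.stdHerm, Units.val_one, Matrix.one_mulVec]
    show (∑ i, (M *ᵥ v) i * σ ((M *ᵥ y) i)) = ∑ i, v i * σ (y i)
    simp only [hM, hA, Matrix.smul_mulVec, Fin.sum_univ_three]
    simp [Matrix.mulVec, dotProduct, Fin.sum_univ_three, map_add, map_mul, map_inv₀, map_pow, hσω, hσθ]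
    field_simp
    linear_combination (-(v 0 * σ (y 1) + v 0 * σ (y 2) + v 1 * σ (y 0) + v 2 * σ (y 0) + v 1 * σ (y 2) +
      v 2 * σ (y 1))) * hw - (2 * (v 1 * σ (y 1) + v 2 * σ (y 2)) + ω * (v 1 * σ (y 2) + v 2 * σ (y 1)) +
      ω ^ 3 * (v 2 * σ (y 2)) - v 2 * σ (y 2) * ω ^ 3) * hw3 -
      (v 0 * σ (y 0) + v 1 * σ (y 1) + v 2 * σ (y 2)) * hθ2 +
      (-(ω * (v 0 * σ (y 1) + v 0 * σ (y 2))) - ω ^ 3 * (v 1 * σ (y 1) + v 2 * σ (y 2)) -
        ω ^ 2 * (v 1 * σ (y 2) + v 2 * σ (y 1))) * hw3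
  · show Matrix.GeneralLinearGroup.det f = 1
    refine Units.ext ?_
    rw [Matrix.GeneralLinearGroup.val_det_apply, Units.val_one]
    show M.det = 1
    rw [hM, Matrix.det_smul, Fintype.card_fin, hA, Matrix.det_fin_three]
    simp
    field_simp
    rw [hθ]
    linear_combination (-1 - 6 * ω - 4 * ω ^ 2 + 2) * hw + (2 - ω + 4 * ω) * hw3
  · show M * dA ω = mB ^ 2 * M
    rw [hM, smul_mul_assoc, mul_smul_comm]
    congr 1
    rw [hA]
    ext i j
    fin_cases i <;> fin_cases j <;> simp [dA, mB, pow_two, Matrix.mul_apply, Fin.sum_univ_three, Matrix.diagonal] <;>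
      first | linear_combination (0 : F) | linear_combination hw3 | linear_combination -hw3 |
        linear_combination ω * hw3 | linear_combination -ω * hw3
  · show M * mB = dA ω * M
    rw [hM, smul_mul_assoc, mul_smul_comm]
    congr 1
    rw [hA]
    ext i j
    fin_cases i <;> fin_cases j <;> simp [dA, mB, pow_two, Matrix.mul_apply, Fin.sum_univ_three, Matrix.diagonal] <;>
      first | linear_combination (0 : F) | linear_combination hw3 | linear_combination -hw3 |
        linear_combination ω * hw3 | linear_combination -ω * hw3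

/-- The Fourier matrix as an element of the special unitary group. -/
theorem exists_fourier (hF : Fintype.card F = p ^ 2) (hp3 : p % 3 = 2) {ω : F} (hw : ω ^ 2 + ω + 1 = 0)
    (h3 : (3 : F) ≠ 0) :
    ∃ f ∈ suGL 3 F p, (f : MM) * dA ω = mB ^ 2 * (f : MM) ∧ (f : MM) * mB = dA ω * (f : MM) := by
  obtain ⟨f, hf, -, h⟩ := exists_fourier_val hF hp3 hw h3
  exact ⟨f, hf, h⟩

/-- A group of similitudes of exponent three consists of isometries if `q ≡ 2 (mod 3)`. -/
theorem similitude_isometry (hF : Fintype.card F = p ^ 2) (hp3 : p % 3 = 2) {g : GG} (hg : g ^ 3 = 1)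
    (hgs : g ∈ similarityGroup (Cfsg.hermForm 3 F p)) : g ∈ Cfsg.GU 3 F p := by
  obtain ⟨c, hc⟩ := hgs
  set e : Fin 3 → F := Pi.single 0 1 with he
  have hee : Cfsg.hermForm 3 F p e e = 1 := by
    have hp0 : p ≠ 0 := by omega
    simp [he, Cfsg.hermForm, Fin.sum_univ_three, hp0]
  have hfix : frob hF (c : F) = c := by
    have h1 := (herm_isUnitary hF).herm ((g : MM) *ᵥ e) ((g : MM) *ᵥ e)
    rw [hc, hee, mul_one] at h1
    exact h1.symm
  have hc3 : (c : F) ^ 3 = 1 := by
    have h1 : Cfsg.hermForm 3 F p (((g * g * g : GG) : MM) *ᵥ e) (((g * g * g : GG) : MM) *ᵥ e) =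
        (c : F) * ((c : F) * ((c : F) * 1)) := by
      simp only [Units.val_mul, ← Matrix.mulVec_mulVec, hc, hee]
    rw [show g * g * g = 1 by rw [← hg, pow_succ, pow_two], Units.val_one, Matrix.one_mulVec, hee] at h1
    linear_combination -h1
  have hc1 : (c : F) = 1 := by
    rw [frob_apply, pow_eq_pow_mod p hc3, hp3, pow_two] at hfix
    exact (mul_eq_right₀ c.ne_zero).mp hfix
  exact mem_GU_iff.mpr fun u v => by rw [hc, hc1, one_mul]

theorem fixed_of_ker {H : Subgroup GG} {D : Fin 3 → Submodule F (Fin 3 → F)} (hD : IsMDecomposition 1 D)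
    (hle : H ≤ decompositionStabilizer D) {y : H}
    (hy : ((permHom hD).comp (Subgroup.inclusion hle)) y = 1) :
    ∀ i, ∀ v ∈ D i, ((y : GG) : MM) *ᵥ v ∈ D i := fun i v hv => by
  rw [MonoidHom.comp_apply] at hy
  have h := mem_of_permHom_eq_one hD hy hv
  rw [Subgroup.coe_inclusion] at h
  exact h

/-- No frame is preserved. -/
theorem heis_no_frame {R H N : Subgroup GG} {f : GG} (h27 : Nat.card R = 27) (hRH : R ≤ H) (hfH : f ∈ H)
    (hfR : ∀ g ∈ R, f * g * f⁻¹ ∈ R)
    (hsmall : ∀ A : Subgroup GG, A ≤ R → (∀ y ∈ A, ∀ z ∈ A, y * z = z * y) → (∀ y ∈ A, f * y * f⁻¹ ∈ A) →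
      Nat.card A ≤ 3)
    {D : Fin 3 → Submodule F (Fin 3 → F)} (hD : IsWeightFrame N H D) : False := by
  let φ : H →* Equiv.Perm (Fin 3) := (permHom hD.decomp).comp (Subgroup.inclusion hD.le_stab)
  let A : Subgroup GG := R ⊓ φ.ker.map H.subtype
  have hAc : ∀ y ∈ A, ∀ z ∈ A, y * z = z * y := by
    intro y hy z hz
    obtain ⟨y', hy', rfl⟩ := Subgroup.mem_map.mp (Subgroup.mem_inf.mp hy).2
    obtain ⟨z', hz', rfl⟩ := Subgroup.mem_map.mp (Subgroup.mem_inf.mp hz).2
    exact commute_of_fixed hD.decomp (fixed_of_ker hD.decomp hD.le_stab (MonoidHom.mem_ker.mp hy'))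
      (fixed_of_ker hD.decomp hD.le_stab (MonoidHom.mem_ker.mp hz'))
  have hAf : ∀ y ∈ A, f * y * f⁻¹ ∈ A := by
    intro y hy
    obtain ⟨hyR, hyK⟩ := Subgroup.mem_inf.mp hy
    obtain ⟨y', hy', rfl⟩ := Subgroup.mem_map.mp hyK
    refine Subgroup.mem_inf.mpr ⟨hfR _ hyR, Subgroup.mem_map.mpr ⟨⟨f, hfH⟩ * y' * ⟨f, hfH⟩⁻¹, ?_, ?_⟩⟩
    · exact φ.normal_ker.conj_mem y' hy' _
    · rw [map_mul, map_mul, map_inv]
      rfl
  have hA := hsmall A inf_le_left hAc hAf
  let χ : R →* Equiv.Perm (Fin 3) := φ.comp (Subgroup.inclusion hRH)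
  have h1 : Nat.card χ.ker ≤ Nat.card A := Nat.card_le_card_of_injective
    (fun g => (⟨((g : R) : GG), (g : R).2, Subgroup.inclusion hRH g, g.2, rfl⟩ : A))
    fun y z e => Subtype.ext (Subtype.ext (congrArg (fun w : A => (w : GG)) e))
  have h2 := χ.ker.card_mul_index
  rw [Subgroup.index_ker, h27] at h2
  have h6 : Nat.card χ.range ∣ 6 := by
    have := χ.range.card_subgroup_dvd_card
    rwa [Nat.card_eq_fintype_card (α := Equiv.Perm (Fin 3)), Fintype.card_perm, Fintype.card_fin] at this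
  have := Nat.le_of_dvd (by norm_num) h6
  interval_cases hk : Nat.card χ.range <;> omega

set_option maxHeartbeats 800000 in
theorem heis_no_core {q : ℕ} (hF : Fintype.card F = q ^ 2) (hp : p.Prime) (hqp : q = p) (hp3 : p % 3 = 2)
    (hp11 : 11 ≤ p) {R : Subgroup GG} (hR : IsSymplecticTypeGroup 3 R)
    (hai : ActsAbsolutelyIrreducibly (matrixSet R)) (hsim : R ≤ similarityGroup (Cfsg.hermForm 3 F q))
    (h27 : Nat.card R = 27) (hZ : Nat.card (Subgroup.center R) = 3)
    (H : Subgroup GG) (hle : subgroupNormalizer R ⊓ suGL 3 F q ≤ H) (hH : H ≤ suGL 3 F q)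
    (hcore : ∀ P, ¬ IsPreCore H P) : H ≤ subgroupNormalizer R := by
  classical
  subst hqp
  have h3 : (3 : F) ≠ 0 := by
    intro e
    have h0 : ((q : ℕ) : F) = 0 := by
      have := FiniteField.cast_card_eq_zero F
      rw [hF, Nat.cast_pow] at this
      exact eq_zero_of_pow_eq_zero this
    have h1 : (q : F) = 3 * ((q / 3 : ℕ) : F) + 2 := by
      conv_lhs => rw [← Nat.div_add_mod q 3, hp3]
      push_cast
      ring
    rw [h0, e, zero_mul, zero_add] at h1
    exact one_ne_zero (show (1 : F) = 0 by linear_combination e + h1)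
  have hRe : Monoid.exponent R = 3 := by rw [hR.exponent_eq]; norm_num
  have hcube : ∀ g ∈ R, g ^ 3 = 1 := fun g hg => by
    have h := Monoid.pow_exponent_eq_one (⟨g, hg⟩ : R)
    rw [hRe] at h
    exact congrArg Subtype.val h
  have hRna : ¬ IsMulCommutative R := fun hcm => by
    rw [@Subgroup.center_eq_top R _ hcm, Subgroup.card_top, h27] at hZ
    norm_num at hZ
  have hRU : R ≤ Cfsg.GU 3 F q := fun g hg => similitude_isometry hF hp3 (hcube g hg) (hsim hg)
  obtain ⟨ω₀, hω₀⟩ := Cfsg.Lib.Classical.ExtraThree.exists_omega (F := F) (by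
    rw [hF, ← one_pow 2, Nat.sq_sub_sq]
    exact Dvd.dvd.mul_right (by omega) _)
  obtain ⟨ω, Pm, c, a, b, S₀⟩ := Cfsg.Lib.Classical.ExtraThree.exists_frame h3 hω₀ R h27 hRe hRna
  obtain ⟨Q, hQ, S⟩ := Cfsg.Lib.Classical.ExtraThree.exists_unitary_frame hF h3 (by omega) hRU S₀
  have G := gen_of_frame h3 S hcube hai
  have hRS : R ≤ suGL 3 F q := le_inf hRU (by
    rw [← S.gen, Subgroup.closure_le]
    rintro z (rfl | rfl)
    exacts [(Cfsg.Lib.Classical.ExtraThree.det_eq_one_iff _).2 S.det_one.1,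
      (Cfsg.Lib.Classical.ExtraThree.det_eq_one_iff _).2 S.det_one.2])
  have hRH : R ≤ H := fun g hg => hle ⟨Subgroup.le_normalizer hg, hRS hg⟩
  have hdet : H ≤ specialLinear (Fin 3) F := hH.trans inf_le_right
  have hirr : ActsIrreducibly (matrixSet H) := fun W hW =>
    hai.1 W fun s hs => hW s (by obtain ⟨g, hg, rfl⟩ := hs; exact ⟨g, hRH hg, rfl⟩)
  -- an element acting without fixed lines on the central quotient
  obtain ⟨f₀, hf₀, hfA, hfB⟩ := exists_fourier hF hp3 S.root h3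
  set f := Q * f₀ * Q⁻¹ with hf
  have hfQ : (f : MM) * (Q : MM) = (Q : MM) * (f₀ : MM) := by
    rw [← Units.val_mul, hf, inv_mul_cancel_right, Units.val_mul]
  have hfN : f ∈ subgroupNormalizer R := S.mem_normalizer hfQ
    ⟨0, 0, 2, by simpa using hfA⟩ ⟨0, 1, 0, by simpa using hfB⟩
  have hfH : f ∈ H := hle ⟨hfN, conj_suGL hQ hf₀⟩
  have hfR : ∀ g ∈ R, f * g * f⁻¹ ∈ R := fun g hg => (Subgroup.mem_set_normalizer_iff.mp hfN g).mp hg
  have himg : f * a * f⁻¹ = b ^ 2 ∧ f * b * f⁻¹ = a := by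
    refine ⟨mul_inv_eq_iff_eq_mul.mpr ?_, mul_inv_eq_iff_eq_mul.mpr ?_⟩ <;>
      refine mul_right_cancel (b := Q) (Units.ext ?_) <;>
      simp only [Units.val_mul, Units.val_pow_eq_pow_val, mul_assoc, S.eqa, S.eqb, hfQ]
    · rw [← mul_assoc (f : MM), hfQ, mul_assoc, hfA, ← mul_assoc, pow_two (b : MM), mul_assoc (b : MM), ← mul_assoc,
        pow_two mB, ← mul_assoc, ← S.eqb, mul_assoc (b : MM), ← S.eqb]
      simp only [mul_assoc]
    · rw [← mul_assoc (f : MM), hfQ, mul_assoc, hfB, ← mul_assoc, ← S.eqa, ← mul_assoc]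
  set Mf : Matrix (Fin 2) (Fin 2) (ZMod 3) := !![0, 1; 2, 0] with hMf
  have hconj : IsConjMat a b f Mf :=
    G.conjMat_of_images (c₀ := ![0, 2]) (c₁ := ![1, 0])
      (by rw [himg.1, pt]; simp [show (2 : ZMod 3).val = 2 from rfl])
      (by rw [himg.2, pt]; simp [show (1 : ZMod 3).val = 1 from rfl])
  have hfree : ∀ v : Fin 2 → ZMod 3, v 0 * (Mf *ᵥ v) 1 - v 1 * (Mf *ᵥ v) 0 = 0 → v = 0 := by
    rw [hMf]
    decide +kernel
  have hsq : ∀ w : Fin 2 → ZMod 3, (Mf * Mf) *ᵥ w = w + w := by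
    rw [hMf]
    decide +kernel
  have hsmall : ∀ A : Subgroup GG, A ≤ R → (∀ y ∈ A, ∀ z ∈ A, y * z = z * y) → (∀ y ∈ A, f * y * f⁻¹ ∈ A) →
      Nat.card A ≤ 3 := fun A h1 h2 h4 =>
    card_scalar_le (h1.trans (hRS.trans inf_le_right)) (G.fix_free hconj hfree h1 h2 h4)
  rcases core_cases (n := 3) (Fintype.card_fin 3) Nat.prime_three (by decide) hdet hirr with
    ⟨N, -, -, D, hD⟩ | ⟨N, -, hNn, hL⟩ | ⟨R', hR'H, hR'n, hR'⟩ | ⟨P, hP⟩
  · exact (heis_no_frame h27 hRH hfH hfR hsmall hD).elim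
  · exfalso
    have hHL := le_subalgebraNormalizer_comm hNn
    have hmem : ∀ g ∈ R, (g : MM) ∈ comm (matrixSet N) := by
      intro g hg
      refine fieldSub_centralizer (by simpa using hL) fun k hk => ?_
      have hcom := Cfsg.Lib.Classical.SLThree.commutator_centralizes hL (hHL (H.mul_mem hfH hfH)) (hHL (hRH hg)) hk
      set d := f * f * g * (f * f)⁻¹ * g⁻¹ with hd
      obtain ⟨v, hv⟩ := G.form g hg
      have e : proj d = proj g := by
        have h := (hconj.mul hconj) v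
        rw [hd, map_mul, map_mul, map_mul, map_inv, map_inv, map_mul, hv]
        rw [map_mul] at h
        rw [h, hsq, G.pt_add, mul_inv_cancel_right]
      obtain ⟨l, hl⟩ := proj_eq_iff.mp e
      rw [hl, Matrix.smul_mul, Matrix.mul_smul, hcom]
    have h1 := hL.comm _ (hmem a S.mem_a) _ (hmem b S.mem_b)
    have h2 : (1 : F) • ((b : MM) * (a : MM)) = ω • ((b : MM) * (a : MM)) := by rw [one_smul, ← G.twist, h1]
    exact root_ne h3 S.root (smul_left_injective F (by
      rw [← Units.val_mul]; exact Units.ne_zero _) h2).symm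
  · obtain ⟨x, y, ζ, hgen⟩ := exists_gen hR'
    by_cases hRR : R ≤ R'
    · have hEq : R = R' := Subgroup.eq_of_le_of_card_ge hRR (by rw [hR'.card, h27]; norm_num)
      intro h hh
      rw [hEq, subgroupNormalizer, Subgroup.mem_set_normalizer_iff]
      exact fun z => ⟨fun hz => hR'n h hh z hz, fun hz => by simpa [mul_assoc] using hR'n.inv hh hz⟩
    exfalso
    let A : Subgroup GG := R ⊓ R'
    have hdvd : Nat.card A ∣ 27 := h27 ▸ Subgroup.card_dvd_of_le inf_le_left
    have hne : Nat.card A ≠ 27 := fun e => hRR <| by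
      have : A = R := Subgroup.eq_of_le_of_card_ge inf_le_left (by rw [e, h27])
      exact this ▸ inf_le_right
    have hcases := Cfsg.Lib.Classical.ExtraThree.card_cases hdvd
    have hA := hsmall A inf_le_left (fun y hy z hz => congrArg Subtype.val
      (Cfsg.Lib.Classical.ExtraThree.comm_of_card (G := A) (by omega) ⟨y, hy⟩ ⟨z, hz⟩))
      fun y hy => ⟨hfR y hy.1, hR'n f hfH y hy.2⟩
    let χ : R →* Matrix.SpecialLinearGroup (Fin 2) (ZMod 3) := (hgen.rho hR'n).comp (Subgroup.inclusion hRH)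
    have h1 : Nat.card χ.ker ≤ Nat.card A := Nat.card_le_card_of_injective
      (fun g => (⟨((g : R) : GG), (g : R).2, hgen.mem_of_rho_eq_one hR'n hdet hR'H g.2⟩ : A))
      fun y z e => Subtype.ext (Subtype.ext (congrArg (fun w : A => (w : GG)) e))
    have h2 := χ.ker.card_mul_index
    rw [Subgroup.index_ker, h27] at h2
    have h24 : Nat.card χ.range ∣ 24 := card_SL_two_three ▸ χ.range.card_subgroup_dvd_card
    have := Nat.le_of_dvd (by norm_num) h24
    interval_cases hk : Nat.card χ.range <;> omega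
  · exact absurd hP (hcore P)

end Cfsg.Lib.Classical.SUThree.Solv
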