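import Cfsg.Agent.Classical.SUThree.SolvableBase
import Mathlib.Algebra.Algebra.Subalgebra.IsSimpleOrder

/-!
Solvable overgroups in `SU₃(q)` of the normaliser of a field of degree three.
-/

set_option autoImplicit false
set_option linter.unusedSimpArgs false
set_option linter.unusedSectionVars false
set_option linter.style.haveILetI false

namespace Cfsg.Lib.Classical.SUThree.Solv

open Matrix Cfsg.Geo
open scoped MatrixGroups
open Cfsg.Lib.Classical.PrimeDim

universe u

variable {F : Type u} [Field F] [Fintype F] {q : ℕ}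

local notation "MM" => Matrix (Fin 3) (Fin 3) F
local notation "GG" => GL (Fin 3) F

/-- The units of a field of matrices. -/
def fieldUnits {K : Subalgebra F MM} (hK : IsFieldSubalgebra 3 K) : Subgroup GG where
  carrier := {g | (g : MM) ∈ K}
  mul_mem' {a b} ha hb := show ((a * b : GG) : MM) ∈ K by
    rw [Units.val_mul]; exact mul_mem ha hb
  one_mem' := one_mem K
  inv_mem' {g} hg := by
    obtain ⟨y, hy, he⟩ := hK.inv _ hg g.ne_zero
    show ((g⁻¹ : GG) : MM) ∈ K
    rw [show ((g⁻¹ : GG) : MM) = y from Units.inv_eq_of_mul_eq_one_right he]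
    exact hy

theorem field_domain {K : Subalgebra F MM} (hK : IsFieldSubalgebra 3 K) : IsDomain K := by
  haveI : Nontrivial K := ⟨⟨0, 1, fun h => zero_ne_one (congrArg Subtype.val h)⟩⟩
  haveI : NoZeroDivisors K := by
    refine ⟨fun {a b} hab => ?_⟩
    by_contra hne
    push Not at hne
    obtain ⟨u, hu⟩ := fieldSub_isUnit hK a.2 (fun h => hne.1 (Subtype.ext h))
    refine hne.2 (Subtype.ext ?_)
    have := congrArg Subtype.val hab
    rw [MulMemClass.coe_mul, ← hu, ZeroMemClass.coe_zero] at this
    exact (Units.mul_right_eq_zero u).mp this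
  exact NoZeroDivisors.to_isDomain _

/-- A non-scalar element of a field of degree three generates it. -/
theorem field_generated {K : Subalgebra F MM} (hK : IsFieldSubalgebra 3 K) {y : MM} (hy : y ∈ K)
    (hns : ∀ c : F, y ≠ c • 1) (S : Subalgebra F K) (hS : (⟨y, hy⟩ : K) ∈ S) : S = ⊤ := by
  haveI := field_domain hK
  haveI := Subalgebra.isSimpleOrder_of_finrank_prime F K (by rw [hK.finrank_eq]; exact Nat.prime_three)
  refine (eq_bot_or_eq_top S).resolve_left fun h => ?_
  rw [h, Algebra.mem_bot] at hS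
  obtain ⟨c, hc⟩ := hS
  refine hns c ?_
  rw [← Algebra.algebraMap_eq_smul_one]
  exact (congrArg Subtype.val hc).symm

/-- Matrices commuting with a non-scalar element of a field of degree three lie in it. -/
theorem mem_field_of_commute {K : Subalgebra F MM} (hK : IsFieldSubalgebra 3 K) {y : MM} (hy : y ∈ K)
    (hns : ∀ c : F, y ≠ c • 1) {M : MM} (hM : M * y = y * M) : M ∈ K := by
  have htop := field_generated hK hy hns ((Subalgebra.centralizer F {M}).comap K.val)
    (Subalgebra.mem_centralizer_iff F |>.mpr fun g hg => by rw [Set.mem_singleton_iff.mp hg]; exact hM)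
  refine fieldSub_centralizer (by simpa using hK) fun k hk => ?_
  have : (⟨k, hk⟩ : K) ∈ (Subalgebra.centralizer F {M}).comap K.val := htop ▸ Algebra.mem_top
  exact (Subalgebra.mem_centralizer_iff F).mp this M rfl

theorem cube_add_one (q : ℕ) : (q + 1) * (q * q - q + 1) = q ^ 3 + 1 := by
  have : q ≤ q * q := Nat.le_mul_self q
  zify [this]
  ring

set_option maxHeartbeats 800000 in
/-- An isometry of order `q² - q + 1` in a field of degree three closed under adjoints. -/
theorem exists_singer (hF : Fintype.card F = q ^ 2) {K : Subalgebra F MM} (hK : IsFieldSubalgebra 3 K)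
    (hadj : IsAdjointClosedFor (Cfsg.hermForm 3 F q) K) :
    ∃ k : GG, k ∈ suGL 3 F q ∧ (k : MM) ∈ K ∧ orderOf k = q * q - q + 1 := by
  classical
  set σ := frob hF with hσ
  let st : MM → MM := fun M => (M.map σ)ᵀ
  have hmm : ∀ M, st (st M) = M := fun M => by ext i j; simp [st, hσ, frob_frob]
  have hstmul : ∀ A B, st (A * B) = st B * st A := fun A B => by
    simp [st, Matrix.map_mul, Matrix.transpose_mul]
  have hadjeq : ∀ (M : MM) u v, Cfsg.hermForm 3 F q (M *ᵥ u) v = Cfsg.hermForm 3 F q u (st M *ᵥ v) := fun M u v => by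
    rw [hermForm_eq hF]
    simp only [PrimeDim.stdHerm, Units.val_one, Matrix.one_mulVec]
    show (M *ᵥ u) ⬝ᵥ (⇑σ ∘ v) = u ⬝ᵥ (⇑σ ∘ (st M *ᵥ v))
    rw [comp_mulVec, show (st M).map σ = Mᵀ by ext i j; simp [st, hσ, frob_frob], Matrix.dotProduct_mulVec,
      Matrix.vecMul_transpose]
  have hstK : ∀ M ∈ K, st M ∈ K := by
    intro M hM
    obtain ⟨M', hM', he⟩ := hadj M hM
    suffices st M = M' by rwa [this]
    refine Matrix.toLin'.injective (LinearMap.ext fun v => ?_)
    rw [Matrix.toLin'_apply, Matrix.toLin'_apply]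
    by_contra hne
    obtain ⟨x, hx⟩ := ((herm_isSesq hF).nondegenerate _ (sub_ne_zero.mpr hne)).1
    apply hx
    have hs := herm_isSesq (n := 3) hF
    rw [sub_eq_add_neg, ← neg_one_smul F (M' *ᵥ v), hs.add_right, hs.smul_right, map_neg, map_one,
      ← hadjeq, he x v]
    ring
  let U := fieldUnits hK
  letI : CommRing K := { (inferInstance : Ring K) with mul_comm := fun a b => Subtype.ext (hK.comm a a.2 b b.2) }
  haveI : IsDomain K := field_domain hK
  haveI : IsCyclic U := isCyclic_of_injective_ringHom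
    ({ toFun := fun u => (⟨((u : GG) : MM), u.2⟩ : K), map_one' := rfl, map_mul' := fun _ _ => rfl } : U →* K)
    fun a b h => Subtype.ext (Units.ext (congrArg (fun z : K => (z : MM)) h))
  have hUcard : Nat.card U + 1 = (q ^ 2) ^ 3 := by
    let e : Option U → K := fun o => match o with
      | none => 0
      | some u => ⟨((u : GG) : MM), u.2⟩
    have he : Function.Bijective e := by
      constructor
      · rintro (_ | a) (_ | b) h
        · rfl
        · exact absurd (congrArg Subtype.val h).symm (Units.ne_zero _)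
        · exact absurd (congrArg Subtype.val h) (Units.ne_zero _)
        · exact congrArg some (Subtype.ext (Units.ext (congrArg (fun x : K => (x : MM)) h)))
      · rintro ⟨x, hx⟩
        by_cases h0 : x = 0
        · exact ⟨none, Subtype.ext h0.symm⟩
        · obtain ⟨u, hu⟩ := fieldSub_isUnit hK hx h0
          exact ⟨some ⟨u, show (u : MM) ∈ K by rw [hu]; exact hx⟩, Subtype.ext hu⟩
    have h1 := Nat.card_eq_of_bijective e he
    rw [Finite.card_option, Module.natCard_eq_pow_finrank (K := F) (V := K), hK.finrank_eq,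
      Nat.card_eq_fintype_card (α := F), hF] at h1
    omega
  let stU : U → GG := fun u =>
    ⟨st ((u : GG) : MM), st (((u : GG)⁻¹ : GG) : MM),
      by rw [← hstmul, val_inv_mul]; simp [st],
      by rw [← hstmul, val_mul_inv]; simp [st]⟩
  have hcommU : ∀ a ∈ U, ∀ b ∈ U, a * b = b * a := fun a ha b hb =>
    Units.ext (by rw [Units.val_mul, Units.val_mul]; exact hK.comm _ ha _ hb)
  have hstU : ∀ u : U, stU u ∈ U := fun u => hstK _ u.2
  let Nh : U →* U := MonoidHom.mk' (fun u => ⟨stU u * u, U.mul_mem (hstU u) u.2⟩) (fun a b => by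
    refine Subtype.ext ?_
    show stU (a * b) * ((a : GG) * b) = stU a * a * (stU b * b)
    have e : stU (a * b) = stU a * stU b := Units.ext (by
      rw [Units.val_mul]
      show st (((a : GG) : MM) * ((b : GG) : MM)) = _
      rw [hstmul]
      exact hK.comm _ (hstU b) _ (hstU a))
    rw [e, mul_assoc, mul_assoc]
    congr 1
    rw [← mul_assoc, hcommU _ (hstU b) _ a.2, mul_assoc])
  let Ufix : Subgroup U :=
    { carrier := {u | stU u = u}
      mul_mem' := fun {a b} ha hb => by
        refine Units.ext ?_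
        show st (((a : GG) : MM) * ((b : GG) : MM)) = _
        rw [hstmul, show st ((a : GG) : MM) = _ from congrArg Units.val ha,
          show st ((b : GG) : MM) = _ from congrArg Units.val hb]
        exact hK.comm _ b.2 _ a.2
      one_mem' := Units.ext (by simp [stU, st])
      inv_mem' := fun {a} ha => Units.ext (by
        show st (((a : GG)⁻¹ : GG) : MM) = _
        exact congrArg (fun g : GG => ((g⁻¹ : GG) : MM)) ha) }
  obtain ⟨θ, hθ⟩ : ∃ θ, σ θ ≠ θ := by
    by_contra hc
    push Not at hc
    exact frob_ne_refl hF (RingEquiv.ext hc)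
  have hstadd : ∀ A B, st (A + B) = st A + st B := fun A B => by ext i j; simp [st]
  have hstsmul : ∀ (c : F) A, st (c • A) = σ c • st A := fun c A => by ext i j; simp [st]
  have hsub : ∀ A B, st (A - B) = st A - st B := fun A B => by ext i j; simp [st]
  have hfixcard : Nat.card Ufix + 1 = q ^ 3 := by
    let Fx := {x : K // st (x : MM) = x}
    let e : Fx × Fx → K := fun p => p.1.1 + θ • p.2.1
    have he : Function.Bijective e := by
      constructor
      · rintro ⟨a, b⟩ ⟨a', b'⟩ h
        have h1 := congrArg Subtype.val h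
        simp only [e, AddMemClass.coe_add, SetLike.val_smul] at h1
        have h2 := congrArg st h1
        rw [hstadd, hstadd, hstsmul, hstsmul, a.2, b.2, a'.2, b'.2] at h2
        have hb : (θ - σ θ) • ((b.1 : MM) - b'.1) = 0 := by
          have : ((a.1 : MM) + θ • b.1) - (a.1 + σ θ • b.1) = ((a'.1 : MM) + θ • b'.1) - (a'.1 + σ θ • b'.1) := by
            rw [h1, h2]
          rw [sub_smul, smul_sub, smul_sub, ← sub_eq_zero.mpr this]
          abel
        have hb' := sub_eq_zero.mp ((smul_eq_zero.mp hb).resolve_left (sub_ne_zero.mpr hθ.symm))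
        rw [hb'] at h1
        exact Prod.ext (Subtype.ext (Subtype.ext (add_right_cancel h1))) (Subtype.ext (Subtype.ext hb'))
      · intro x
        set b : K := (θ - σ θ)⁻¹ • (x - ⟨st x.1, hstK _ x.2⟩) with hb_def
        have hbv : (b : MM) = (θ - σ θ)⁻¹ • ((x : MM) - st x.1) := rfl
        have hbfix : st (b : MM) = b := by
          rw [hbv, hstsmul, hsub, hmm, map_inv₀, map_sub, hσ, frob_frob, ← neg_sub (x : MM),
            smul_neg, ← neg_smul, ← inv_neg, neg_sub]
        refine ⟨⟨⟨x - θ • b, ?_⟩, ⟨b, hbfix⟩⟩, by simp [e]⟩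
        show st ((x : MM) - θ • (b : MM)) = (x : MM) - θ • (b : MM)
        rw [hsub, hstsmul, hbfix]
        have h3 : (θ - σ θ) • (b : MM) = (x : MM) - st x.1 := by
          rw [hbv, smul_smul, mul_inv_cancel₀ (sub_ne_zero.mpr hθ.symm), one_smul]
        rw [sub_smul] at h3
        rw [← sub_eq_zero] at h3 ⊢
        rw [← h3]
        abel
    have h1 := Nat.card_eq_of_bijective e he
    rw [Nat.card_prod, Module.natCard_eq_pow_finrank (K := F) (V := K), hK.finrank_eq,
      Nat.card_eq_fintype_card (α := F), hF] at h1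
    have hFx : Nat.card Fx = q ^ 3 := by
      refine Nat.pow_left_injective (n := 2) two_ne_zero ?_
      show Nat.card Fx ^ 2 = (q ^ 3) ^ 2
      rw [pow_two, h1]; ring
    let e' : Option Ufix → Fx := fun o => match o with
      | none => ⟨0, by ext i j; simp [st]⟩
      | some u => ⟨⟨((u : U) : GG).1, (u : U).2⟩, congrArg Units.val u.2⟩
    have he' : Function.Bijective e' := by
      constructor
      · rintro (_ | a) (_ | b) h
        · rfl
        · exact absurd (congrArg (fun z : Fx => ((z.1 : K) : MM)) h).symm (Units.ne_zero _)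
        · exact absurd (congrArg (fun z : Fx => ((z.1 : K) : MM)) h) (Units.ne_zero _)
        · exact congrArg some (Subtype.ext (Subtype.ext (Units.ext
            (congrArg (fun z : Fx => ((z.1 : K) : MM)) h))))
      · rintro ⟨⟨x, hx⟩, hfx⟩
        by_cases h0 : x = 0
        · exact ⟨none, Subtype.ext (Subtype.ext h0.symm)⟩
        · obtain ⟨u, hu⟩ := fieldSub_isUnit hK hx h0
          have huU : u ∈ U := show (u : MM) ∈ K by rw [hu]; exact hx
          exact ⟨some ⟨⟨u, huU⟩, Units.ext (show st (u : MM) = u by rw [hu]; exact hfx)⟩,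
            Subtype.ext (Subtype.ext hu)⟩
    have h2 := Nat.card_eq_of_bijective e' he'
    rw [Finite.card_option, hFx] at h2
    omega
  have hrange : Nh.range ≤ Ufix := by
    rintro _ ⟨u, rfl⟩
    refine Units.ext ?_
    show st (st ((u : GG) : MM) * ((u : GG) : MM)) = _
    rw [hstmul, hmm]
    rfl
  obtain ⟨s, hs⟩ := Subgroup.card_dvd_of_le hrange
  have hkercard : Nat.card Nh.ker = (q ^ 3 + 1) * s := by
    have hm := Nh.ker.card_mul_index
    rw [Subgroup.index_ker] at hm
    have hq := two_le_q hF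
    have hU : Nat.card U = (q ^ 3 + 1) * s * Nat.card Nh.range := by
      have h6 : (q ^ 2) ^ 3 = q ^ 3 * q ^ 3 := by ring
      rw [h6, ← hfixcard] at hUcard
      have hc : (q ^ 3 + 1) * s * Nat.card Nh.range = (q ^ 3 + 1) * Nat.card Ufix := by rw [hs]; ring
      rw [hc, ← hfixcard]
      nlinarith
    exact Nat.eq_of_mul_eq_mul_right Nat.card_pos (hm.trans hU)
  have hs0 : s ≠ 0 := fun e => by rw [e, mul_zero] at hs; exact Nat.card_pos.ne' hs
  obtain ⟨g, hg⟩ := IsCyclic.exists_ofOrder_eq_natCard (α := Nh.ker)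
  rw [hkercard, ← cube_add_one] at hg
  have hiso : st (((g : U) : GG) : MM) * (((g : U) : GG) : MM) = 1 :=
    congrArg (fun z : U => ((z : GG) : MM)) g.2
  have hgS : ((g : U) : GG) ∈ Cfsg.GU 3 F q := mem_GU_iff.mpr fun u v => by
    rw [hadjeq, Matrix.mulVec_mulVec, hiso, Matrix.one_mulVec]
  refine ⟨((g : U) : GG) ^ ((q + 1) * s), ⟨Subgroup.pow_mem _ hgS _, ?_⟩, U.pow_mem (g : U).2 _, ?_⟩
  · show Matrix.GeneralLinearGroup.det (((g : U) : GG) ^ ((q + 1) * s)) = 1
    refine Units.ext ?_
    rw [Matrix.GeneralLinearGroup.val_det_apply, Units.val_one, Units.val_pow_eq_pow_val, Matrix.det_pow, pow_mul]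
    have h := congrArg Matrix.det hiso
    rw [Matrix.det_mul, Matrix.det_one, Matrix.det_transpose, show ((((g : U) : GG) : MM).map σ).det = σ _ from
      (σ.toRingHom.map_det _).symm, hσ, frob_apply] at h
    rw [pow_succ, h, one_pow]
  · rw [orderOf_pow_of_dvd (mul_ne_zero (by omega) hs0) (by
      rw [Subgroup.orderOf_coe, Subgroup.orderOf_coe, hg]; exact ⟨q * q - q + 1, by ring⟩),
      Subgroup.orderOf_coe, Subgroup.orderOf_coe, hg, mul_right_comm,
      Nat.mul_div_cancel_left _ (Nat.pos_of_ne_zero (mul_ne_zero (by omega) hs0))]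

theorem singer_arith {q : ℕ} (hq : 3 ≤ q) : ¬ q * q - q + 1 ∣ 648 := by
  intro h
  have h1 := Nat.le_of_dvd (by norm_num) h
  have h2 : q ≤ 26 := by
    by_contra hc
    push Not at hc
    have : 27 * q ≤ q * q := Nat.mul_le_mul_right q hc
    omega
  interval_cases q <;> norm_num at h

set_option maxHeartbeats 800000 in
theorem singer_solvable (hF : Fintype.card F = q ^ 2) (hq : 3 ≤ q) {K : Subalgebra F MM}
    (hK : IsFieldSubalgebra 3 K) (hadj : IsAdjointClosedFor (Cfsg.hermForm 3 F q) K)
    (H : Subgroup GG) (hle : subalgebraNormalizer K ⊓ suGL 3 F q ≤ H) (hH : H ≤ suGL 3 F q)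
    (hs : Group.IsSolvable H) : H ≤ subalgebraNormalizer K := by
  classical
  obtain ⟨x, hxS, hxK, hxo⟩ := exists_singer hF hK hadj
  have hpow : ∀ e : ℕ, e ∣ 648 → x ^ e ≠ 1 := fun e he h =>
    singer_arith hq (hxo ▸ (orderOf_dvd_of_pow_eq_one h).trans he)
  have hdet : H ≤ specialLinear (Fin 3) F := hH.trans inf_le_right
  have hxN : x ∈ subalgebraNormalizer K := fun k => by
    have hxi : ((x⁻¹ : GG) : MM) ∈ K := (fieldUnits hK).inv_mem hxK
    refine ⟨fun hk => mul_mem (mul_mem hxK hk) hxi, fun h => ?_⟩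
    simpa [mul_assoc] using mul_mem (mul_mem hxi h) hxK
  have hxH : x ∈ H := hle ⟨hxN, hxS⟩
  have hns : ∀ e : ℕ, (e * 3) ∣ 648 → ∀ c : F, ((x ^ e : GG) : MM) ≠ c • 1 := fun e he c hc => by
    refine hpow _ he ?_
    rw [pow_mul]
    exact (scalar_cube (det_eq_one hdet (H.pow_mem hxH e)) hc).2
  have hxns : ∀ c : F, (x : MM) ≠ c • 1 := by
    have := hns 1 (by norm_num)
    simpa using this
  have hirr : ActsIrreducibly (matrixSet H) := (irreducible_iff H).mpr fun W hW => by
    have hKirr := fieldSub_irreducible (ι := Fin 3) (by simpa using hK)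
    let S : Subalgebra F K :=
      { carrier := {k | ∀ w ∈ W, (k : MM) *ᵥ w ∈ W}
        mul_mem' := fun {a b} ha hb w hw => by
          rw [MulMemClass.coe_mul, ← Matrix.mulVec_mulVec]; exact ha _ (hb w hw)
        one_mem' := fun w hw => by simpa using hw
        add_mem' := fun {a b} ha hb w hw => by
          rw [AddMemClass.coe_add, Matrix.add_mulVec]; exact add_mem (ha w hw) (hb w hw)
        zero_mem' := fun w hw => by simp
        algebraMap_mem' := fun c w hw => by
          show (algebraMap F MM c) *ᵥ w ∈ W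
          rw [Algebra.algebraMap_eq_smul_one, Matrix.smul_mulVec, Matrix.one_mulVec]
          exact W.smul_mem c hw }
    have htop : S = ⊤ := field_generated hK hxK hxns S fun w hw => hW x hxH w hw
    refine hKirr W fun k hk => ?_
    rintro _ ⟨w, hw, rfl⟩
    rw [Matrix.toLin'_apply]
    exact (show (⟨k, hk⟩ : K) ∈ S from htop ▸ Algebra.mem_top) w hw
  rcases core_cases (n := 3) (Fintype.card_fin 3) Nat.prime_three (by decide) hdet hirr with
    ⟨N, -, -, D, hD⟩ | ⟨N, -, hNn, hL⟩ | ⟨R, hRH, hRn, hR⟩ | ⟨P, hP⟩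
  · exfalso
    have h6 : permHom hD.decomp (⟨x, hD.le_stab hxH⟩ ^ 6) = 1 := by
      have key : ∀ σ : Equiv.Perm (Fin 3), σ ^ 6 = 1 := by decide +kernel
      rw [map_pow]
      exact key _
    obtain ⟨⟨w, hw⟩, hw0, hspan⟩ := finrank_eq_one_iff'.mp (hD.decomp.finrank_eq 0)
    obtain ⟨s, hsw⟩ := hspan ⟨_, mem_of_permHom_eq_one hD.decomp h6 hw⟩
    have e : s • w = ((x ^ 6 : GG) : MM) *ᵥ w := congrArg Subtype.val hsw
    have hmem : ((x ^ 6 : GG) : MM) - s • 1 ∈ K := by
      rw [Units.val_pow_eq_pow_val]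
      exact sub_mem (pow_mem hxK 6) (K.smul_mem (one_mem K) s)
    refine hns 6 (by norm_num) s (sub_eq_zero.mp ?_)
    by_contra hne
    obtain ⟨u, hu⟩ := fieldSub_isUnit hK hmem hne
    refine gl_mulVec_ne_zero u (v := w) (fun h0 => hw0 (Subtype.ext h0)) ?_
    rw [hu, Matrix.sub_mulVec, ← e, Matrix.smul_mulVec, Matrix.one_mulVec, sub_self]
  · set L := comm (matrixSet N)
    have hHL := le_subalgebraNormalizer_comm hNn
    have h3L := cube_mem_field hL (hHL hxH)
    have h3K : ((x ^ 3 : GG) : MM) ∈ K := by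
      rw [Units.val_pow_eq_pow_val]; exact pow_mem hxK 3
    have hLK : L ≤ K := fun l hl =>
      mem_field_of_commute hK h3K (hns 3 (by norm_num)) (hL.comm l hl _ h3L)
    have hEq : L = K := Subalgebra.eq_of_le_of_finrank_eq hLK (by rw [hL.finrank_eq, hK.finrank_eq])
    exact hEq ▸ hHL
  · exfalso
    obtain ⟨a, b, ζ, hgen⟩ := exists_gen hR
    have h648 := hgen.card_dvd (by rw [hR.card]; norm_num) hRn hdet hRH
    refine singer_arith hq ?_
    rw [← hxo]
    exact (Subgroup.orderOf_dvd_natCard H hxH).trans h648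
  · exact (preCore_false hP hs).elim

end Cfsg.Lib.Classical.SUThree.Solv
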