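import Cfsg.Agent.Classical.SUThree.SolvableFrame
import Cfsg.Agent.Classical.SUThree.SolvableSinger
import Cfsg.Agent.Classical.SUThree.SolvableHeis

/-!
Solvable overgroups of three geometric members of `SU₃(q)`.
-/

set_option autoImplicit false

namespace Cfsg.Lib.Classical.SUThree

open Matrix Cfsg.Geo
open scoped MatrixGroups
open Cfsg.Lib.Classical.PrimeDim

universe u

variable {F : Type u} [Field F] [Fintype F] {q : ℕ}

/-- A solvable overgroup of a frame stabiliser lies in it. -/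
theorem frame_solvable (hF : Fintype.card F = q ^ 2) (hq : 3 ≤ q) (hq5 : q ≠ 5)
    {D : Fin 3 → Submodule F (Fin 3 → F)} (hD : IsNondegenerateMDecomposition (Cfsg.hermForm 3 F q) 1 D)
    (H : Subgroup (GL (Fin 3) F)) (hle : decompositionStabilizer D ⊓ suGL 3 F q ≤ H) (hH : H ≤ suGL 3 F q)
    (hs : Group.IsSolvable H) : H ≤ decompositionStabilizer D :=
  Solv.frame_solvable hF hq hq5 hD H hle hH hs

/-- A solvable overgroup of a field normaliser lies in it. -/
theorem singer_solvable (hF : Fintype.card F = q ^ 2) (hq : 3 ≤ q)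
    {K : Subalgebra F (Matrix (Fin 3) (Fin 3) F)} (hK : IsFieldSubalgebra 3 K)
    (hadj : IsAdjointClosedFor (Cfsg.hermForm 3 F q) K)
    (H : Subgroup (GL (Fin 3) F)) (hle : subalgebraNormalizer K ⊓ suGL 3 F q ≤ H) (hH : H ≤ suGL 3 F q)
    (hs : Group.IsSolvable H) : H ≤ subalgebraNormalizer K :=
  Solv.singer_solvable hF hq hK hadj H hle hH hs

/-- A solvable overgroup of a Heisenberg normaliser lies in it. -/
theorem heis_solvable (hF : Fintype.card F = q ^ 2) {p : ℕ} (hp : p.Prime) (hqp : q = p) (hp3 : p % 3 = 2)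
    (hp11 : 11 ≤ p) {R : Subgroup (GL (Fin 3) F)} (hR : IsSymplecticTypeGroup 3 R)
    (hai : ActsAbsolutelyIrreducibly (matrixSet R)) (hsim : R ≤ similarityGroup (Cfsg.hermForm 3 F q))
    (h27 : Nat.card R = 27) (hZ : Nat.card (Subgroup.center R) = 3)
    (H : Subgroup (GL (Fin 3) F)) (hle : subgroupNormalizer R ⊓ suGL 3 F q ≤ H) (hH : H ≤ suGL 3 F q)
    (hs : Group.IsSolvable H) : H ≤ subgroupNormalizer R :=
  Solv.heis_no_core hF hp hqp hp3 hp11 hR hai hsim h27 hZ H hle hH fun _ hP => Solv.preCore_false hP hs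

/-- An overgroup of a Heisenberg normaliser with a non-central solvable normal subgroup lies in it. -/
theorem heis_radical (hF : Fintype.card F = q ^ 2) {p : ℕ} (hp : p.Prime) (hqp : q = p) (hp3 : p % 3 = 2)
    (hp11 : 11 ≤ p) {R : Subgroup (GL (Fin 3) F)} (hR : IsSymplecticTypeGroup 3 R)
    (hai : ActsAbsolutelyIrreducibly (matrixSet R)) (hsim : R ≤ similarityGroup (Cfsg.hermForm 3 F q))
    (h27 : Nat.card R = 27) (hZ : Nat.card (Subgroup.center R) = 3)
    (H : Subgroup (GL (Fin 3) F)) (hle : subgroupNormalizer R ⊓ suGL 3 F q ≤ H) (hH : H ≤ suGL 3 F q)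
    {N : Subgroup (GL (Fin 3) F)} (hNH : N ≤ H) (hn : Normalises H N) (hs : Group.IsSolvable N)
    (hns : ¬ N ≤ scalars (Fin 3) F) : H ≤ subgroupNormalizer R :=
  Solv.heis_no_core hF hp hqp hp3 hp11 hR hai hsim h27 hZ H hle hH fun _ hP =>
    Solv.preCore_false_of_normal hP hNH hn hs hns

end Cfsg.Lib.Classical.SUThree
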