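import Cfsg.Agent.Classical.SUThree.HeisTop
import Cfsg.Agent.Classical.SUThree.Count
import Cfsg.Agent.Classical.SUThree.Solvable
import Cfsg.Agent.Classical.Unitary.MaxMatrix
import Cfsg.Agent.Known.PSUThree.Main

/-!
The normaliser of a Heisenberg group of order twenty-seven is maximal in `SU₃(p)`.
-/

set_option autoImplicit false
set_option linter.unusedSectionVars false
set_option linter.unusedSimpArgs false
set_option linter.style.haveILetI false
set_option linter.unusedTactic false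
set_option linter.unreachableTactic false
set_option maxHeartbeats 1000000

namespace Cfsg.Lib.Classical.SUThree

open Cfsg.Lib.Classical Cfsg.Lib.Components.UnitaryThree Cfsg.Lib.Known.PSUThree
open Cfsg.Lib.Classical.ExtraThree (dA mB root_pow root_ne)
open scoped Matrix LinearAlgebra.Projectivization MatrixGroups

universe u v

/-- Permutations of at most three letters form a soluble group. -/
theorem solvable_perm {S : Type*} [Finite S] (h : Nat.card S ≤ 3) : Group.IsSolvable (Equiv.Perm S) := by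
  haveI h3 : Group.IsSolvable (Equiv.Perm (Fin 3)) := by
    haveI : Group.IsSolvable (Equiv.Perm.sign : Equiv.Perm (Fin 3) →* ℤˣ).ker := Group.isSolvable_of_comm fun a b =>
      Subtype.ext ((show ∀ a b : Equiv.Perm (Fin 3), Equiv.Perm.sign a = 1 → Equiv.Perm.sign b = 1 → a * b = b * a by
        decide +kernel) a.1 b.1 a.2 b.2)
    exact Group.isSolvable_of_ker_le_range (Equiv.Perm.sign : Equiv.Perm (Fin 3) →* ℤˣ).ker.subtype
      (Equiv.Perm.sign : Equiv.Perm (Fin 3) →* ℤˣ) (by rw [Subgroup.range_subtype])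
  exact Group.isSolvable_of_isSolvable_injective (f := Equiv.Perm.viaEmbeddingHom
    ((Finite.equivFin S).toEmbedding.trans (Fin.castLEEmb h))) (Equiv.Perm.viaEmbeddingHom_injective _)

/-- An irreducible insoluble group moves every set of mutually orthogonal anisotropic points. -/
theorem exists_moved {F : Type u} [Field F] [Finite F] {V : Type v} [AddCommGroup V] [Module F V]
    [FiniteDimensional F V] {H : HermSpace F V} (hd : Module.finrank F V = 3) {K : Subgroup H.SIsom} (hI : Irr K)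
    (hns : ¬ Group.IsSolvable K) (S : Set (ℙ F V)) (hne : S.Nonempty) (hS : ∀ P ∈ S, H.h P.rep P.rep ≠ 0)
    (ho : ∀ P ∈ S, ∀ Q ∈ S, P ≠ Q → H.h P.rep Q.rep = 0) :
    ∃ k ∈ K, ∃ P ∈ S, Projectivization.mk F (k.1.1 P.rep) (H.isom_ne_zero k.1 P.rep_nonzero) ∉ S := by
  classical
  by_contra hc
  push Not at hc
  haveI : Finite V := Module.finite_of_finite F
  haveI : Fintype S := Fintype.ofFinite _
  let r : S → V := fun P => P.1.rep
  have hli : LinearIndependent F r := by
    rw [Fintype.linearIndependent_iff]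
    intro a ha P
    have h := congrArg (fun v => H.h v (r P)) ha
    simp only [H.sum_left, H.smul_left, H.zero_left] at h
    rw [Finset.sum_eq_single P (fun Q _ hQ => by rw [ho _ Q.2 _ P.2 (fun e => hQ (Subtype.ext e)), mul_zero])
      (by simp)] at h
    exact (mul_eq_zero.1 h).resolve_right (hS _ P.2)
  have hline : ∀ (k : H.SIsom), k ∈ K → ∀ P : S, ∃ (Q : S) (c : F), k.1.1 (r P) = c • r Q := fun k hk P => by
    refine ⟨⟨_, hc k hk P.1 P.2⟩, ?_⟩
    obtain ⟨c, hc'⟩ := Projectivization.exists_smul_eq_mk_rep F (k.1.1 P.1.rep) (H.isom_ne_zero k.1 P.1.rep_nonzero)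
    refine ⟨((c⁻¹ : Fˣ) : F), ?_⟩
    show k.1.1 P.1.rep = _ • (Projectivization.mk F (k.1.1 P.1.rep) _).rep
    rw [← hc', Units.smul_def, smul_smul, ← Units.val_mul, inv_mul_cancel, Units.val_one, one_smul]
  have htop : Submodule.span F (Set.range r) = ⊤ := by
    refine (hI _ fun k hk x hx => ?_).resolve_left fun e => ?_
    · have h1 : Submodule.span F (Set.range r) ≤ (Submodule.span F (Set.range r)).comap k.1.1.toLinearMap :=
        Submodule.span_le.2 (by
          rintro _ ⟨P, rfl⟩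
          obtain ⟨Q, c, e⟩ := hline k hk P
          show k.1.1 (r P) ∈ Submodule.span F (Set.range r)
          rw [e]
          exact Submodule.smul_mem _ _ (Submodule.subset_span ⟨Q, rfl⟩))
      exact h1 hx
    · obtain ⟨P, hP⟩ := hne
      exact Projectivization.rep_nonzero P
        ((Submodule.mem_bot F).1 (e ▸ Submodule.subset_span ⟨⟨P, hP⟩, rfl⟩))
  have hcard : Nat.card S ≤ 3 := by
    rw [Nat.card_eq_fintype_card, ← hd]
    exact hli.fintype_card_le_finrank
  let act : K → S → S := fun k P => ⟨_, hc k.1 k.2 P.1 P.2⟩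
  have act_one : ∀ P, act 1 P = P := fun P => Subtype.ext (Projectivization.mk_rep P.1)
  have act_mul : ∀ k l P, act (k * l) P = act k (act l P) := fun k l P => by
    refine Subtype.ext ((Projectivization.mk_eq_mk_iff' F _ _ _ _).2 ?_)
    obtain ⟨c, hc'⟩ := Projectivization.exists_smul_eq_mk_rep F (l.1.1.1 P.1.rep) (H.isom_ne_zero l.1.1 P.1.rep_nonzero)
    refine ⟨((c⁻¹ : Fˣ) : F), ?_⟩
    show ((c⁻¹ : Fˣ) : F) • k.1.1.1 (Projectivization.mk F (l.1.1.1 P.1.rep) _).rep = k.1.1.1 (l.1.1.1 P.1.rep)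
    rw [← map_smul, ← hc', Units.smul_def, smul_smul, ← Units.val_mul, inv_mul_cancel, Units.val_one, one_smul]
  let φ : K →* Equiv.Perm S := MonoidHom.mk'
    (fun k => ⟨act k, act k⁻¹, fun P => by rw [← act_mul, inv_mul_cancel, act_one],
      fun P => by rw [← act_mul, mul_inv_cancel, act_one]⟩) fun k l => Equiv.ext (act_mul k l)
  haveI := solvable_perm hcard
  haveI : Group.IsSolvable φ.ker := Group.isSolvable_of_comm fun k l => Subtype.ext (Subtype.ext (H.sisom_ext fun x => by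
    have hfix : ∀ (k : φ.ker) (P : S), ∃ c : F, k.1.1.1.1 (r P) = c • r P := fun k P => by
      have e : act k.1 P = P := congrArg (fun f : Equiv.Perm S => f P) (MonoidHom.mem_ker.1 k.2)
      have e' : Projectivization.mk F (k.1.1.1.1 P.1.rep) (H.isom_ne_zero k.1.1.1 P.1.rep_nonzero) =
          Projectivization.mk F P.1.rep P.1.rep_nonzero := by
        rw [Projectivization.mk_rep]; exact congrArg Subtype.val e
      obtain ⟨c, hc'⟩ := (Projectivization.mk_eq_mk_iff' F _ _ _ _).1 e'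
      exact ⟨c, hc'.symm⟩
    refine LinearMap.congr_fun (LinearMap.ext_on_range (f := (k.1 * l.1).1.1.1.toLinearMap)
      (g := (l.1 * k.1).1.1.1.toLinearMap) htop fun P => ?_) x
    obtain ⟨c, hck⟩ := hfix k P
    obtain ⟨d, hdl⟩ := hfix l P
    show k.1.1.1.1 (l.1.1.1.1 (r P)) = l.1.1.1.1 (k.1.1.1.1 (r P))
    rw [hdl, hck, map_smul, map_smul, hck, hdl, smul_smul, smul_smul, mul_comm]))
  exact hns (Group.isSolvable_of_ker_le_range φ.ker.subtype φ (by rw [Subgroup.range_subtype]))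

set_option maxHeartbeats 2000000 in
theorem isMaximalIn_heis {F : Type u} [Field F] [Fintype F] {q : ℕ} (hF : Fintype.card F = q ^ 2) {p : ℕ}
    (hp : p.Prime) (hqp : q = p) (hp3 : p % 3 = 2) (hp11 : 11 ≤ p) {R : Subgroup (GL (Fin 3) F)}
    (hR : Cfsg.Geo.IsSymplecticTypeGroup 3 R)
    (hai : Cfsg.Geo.ActsAbsolutelyIrreducibly (Cfsg.Geo.matrixSet R))
    (hsim : R ≤ Cfsg.Geo.similarityGroup (Cfsg.hermForm 3 F q))
    (h27 : Nat.card R = 27) (hZ : Nat.card (Subgroup.center R) = 3) :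
    Cfsg.Geo.IsMaximalIn (Cfsg.GU 3 F q ⊓ Cfsg.Geo.specialLinear (Fin 3) F)
      (Cfsg.Geo.subgroupNormalizer R ⊓ (Cfsg.GU 3 F q ⊓ Cfsg.Geo.specialLinear (Fin 3) F)) := by
  classical
  subst hqp
  have hq : 3 ≤ q := by omega
  have hS := setup_std hF hq
  haveI : Fact q.Prime := ⟨hp⟩
  haveI hchar : CharP F q := by
    obtain ⟨r, hr⟩ := CharP.exists F
    haveI := hr
    obtain ⟨k, hr', hk⟩ := FiniteField.card F r
    have : q ∣ r ^ (k : ℕ) := by rw [← hk, hF]; exact dvd_pow_self q two_ne_zero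
    rwa [(Nat.prime_dvd_prime_iff_eq hp hr').1 (hp.dvd_of_dvd_pow this)]
  have hcast : ∀ m : ℕ, 0 < m → m < q → (m : F) ≠ 0 := fun m h0 h1 e =>
    absurd (Nat.le_of_dvd h0 ((CharP.cast_eq_zero_iff F q m).1 e)) (by omega)
  have h2 : (2 : F) ≠ 0 := by exact_mod_cast hcast 2 (by norm_num) (by omega)
  have h3 : (3 : F) ≠ 0 := by exact_mod_cast hcast 3 (by norm_num) (by omega)
  -- the frame
  have hRe : Monoid.exponent R = 3 := by rw [hR.exponent_eq]; norm_num
  have hcube : ∀ g ∈ R, g ^ 3 = 1 := fun g hg => by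
    have h := Monoid.pow_exponent_eq_one (⟨g, hg⟩ : R)
    rw [hRe] at h
    exact congrArg Subtype.val h
  have hRna : ¬ IsMulCommutative R := fun hcm => by
    rw [@Subgroup.center_eq_top R _ hcm, Subgroup.card_top, h27] at hZ
    norm_num at hZ
  have hRU : R ≤ Cfsg.GU 3 F q := fun g hg => Solv.similitude_isometry hF hp3 (hcube g hg) (hsim hg)
  obtain ⟨ω₀, hω₀⟩ := Cfsg.Lib.Classical.ExtraThree.exists_omega (F := F) (by
    rw [hF, ← one_pow 2, Nat.sq_sub_sq]
    exact Dvd.dvd.mul_right (by omega) _)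
  obtain ⟨ω, Pm, c, a, b, S₀⟩ := Cfsg.Lib.Classical.ExtraThree.exists_frame h3 hω₀ R h27 hRe hRna
  obtain ⟨Q, hQ, S⟩ := Cfsg.Lib.Classical.ExtraThree.exists_unitary_frame hF h3 (by omega) hRU S₀
  have hw := S.root
  have hRS : R ≤ Cfsg.GU 3 F q ⊓ Cfsg.Geo.specialLinear (Fin 3) F := le_inf hRU (by
    rw [← S.gen, Subgroup.closure_le]
    rintro z (rfl | rfl)
    exacts [(Cfsg.Lib.Classical.ExtraThree.det_eq_one_iff _).2 S.det_one.1,
      (Cfsg.Lib.Classical.ExtraThree.det_eq_one_iff _).2 S.det_one.2])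
  -- the two elements of order four
  obtain ⟨f₀, hf₀, hfv, hfA, hfB⟩ := Solv.exists_fourier_val hF hp3 hw h3
  set f := Q * f₀ * Q⁻¹ with hf
  have hfQ : (f : Matrix (Fin 3) (Fin 3) F) * (Q : Matrix (Fin 3) (Fin 3) F) =
      (Q : Matrix (Fin 3) (Fin 3) F) * (f₀ : Matrix (Fin 3) (Fin 3) F) := by
    rw [← Units.val_mul, hf, inv_mul_cancel_right, Units.val_mul]
  have hfN : f ∈ Cfsg.Geo.subgroupNormalizer R := S.mem_normalizer hfQ
    ⟨0, 0, 2, by simpa using hfA⟩ ⟨0, 1, 0, by simpa using hfB⟩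
  have hfS : f ∈ Cfsg.GU 3 F q ⊓ Cfsg.Geo.specialLinear (Fin 3) F := Solv.conj_suGL hQ hf₀
  have hw3 := root_pow hw
  have hω0 : ω ≠ 0 := fun e => by rw [e] at hw3; norm_num at hw3
  set d : Fin 3 → F := ![1, ω, ω] with hddef
  have hd0 : ∀ i, d i ≠ 0 := fun i => by fin_cases i <;> simp [hddef, hω0]
  have hdc : ∀ i, d i ^ 3 = 1 := fun i => by fin_cases i <;> simp [hddef, hw3]
  let Sd : GL (Fin 3) F := ⟨Matrix.diagonal d, Matrix.diagonal (fun i => (d i)⁻¹),
    by rw [Matrix.diagonal_mul_diagonal, ← Matrix.diagonal_one]; congr 1; funext i; exact mul_inv_cancel₀ (hd0 i),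
    by rw [Matrix.diagonal_mul_diagonal, ← Matrix.diagonal_one]; congr 1; funext i; exact inv_mul_cancel₀ (hd0 i)⟩
  have hSdU : Sd ∈ Cfsg.GU 3 F q := fun x y => by
    have hcirc : ∀ i, d i * d i ^ q = 1 := fun i => by
      rw [← pow_succ', ← Nat.div_add_mod (q + 1) 3, show (q + 1) % 3 = 0 by omega, add_zero, pow_mul, hdc, one_pow]
    show Cfsg.hermForm 3 F q (Matrix.diagonal d *ᵥ x) (Matrix.diagonal d *ᵥ y) = Cfsg.hermForm 3 F q x y
    simp only [Cfsg.hermForm, Matrix.mulVec_diagonal, mul_pow]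
    refine Finset.sum_congr rfl fun i _ => ?_
    linear_combination (x i * y i ^ q) * hcirc i
  have hSdN : Q * Sd * Q⁻¹ ∈ Cfsg.Geo.subgroupNormalizer R :=
    S.diag_normalizes d (by rw [← Units.val_mul, inv_mul_cancel_right]; rfl) one_ne_zero hdc
  set g := Q * Sd * f₀ * (Q * Sd)⁻¹ with hg
  have hgN : g ∈ Cfsg.Geo.subgroupNormalizer R := by
    rw [show g = Q * Sd * Q⁻¹ * f * (Q * Sd * Q⁻¹)⁻¹ by rw [hg, hf]; group]
    exact mul_mem (mul_mem hSdN hfN) (inv_mem hSdN)
  have hgS : g ∈ Cfsg.GU 3 F q ⊓ Cfsg.Geo.specialLinear (Fin 3) F := Solv.conj_suGL (mul_mem hQ hSdU) hf₀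
  have hgQ : (g : Matrix (Fin 3) (Fin 3) F) * (Q : Matrix (Fin 3) (Fin 3) F) =
      (Q : Matrix (Fin 3) (Fin 3) F) * Heis.gA ω := by
    have e : Matrix.diagonal d * (f₀ : Matrix (Fin 3) (Fin 3) F) = Heis.gA ω * Matrix.diagonal d := by
      rw [hfv, Heis.gA, mul_smul_comm, smul_mul_assoc]
      congr 1
      ext i j
      rw [Matrix.diagonal_mul, Matrix.mul_diagonal]
      fin_cases i <;> fin_cases j <;> simp [hddef] <;> grind
    have e2 : g * (Q * Sd) = Q * (Sd * f₀) := by rw [hg]; group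
    have e3 := congrArg (fun x : GL (Fin 3) F => (x : Matrix (Fin 3) (Fin 3) F)) e2
    simp only [Units.val_mul] at e3
    rw [show (Sd : Matrix (Fin 3) (Fin 3) F) = Matrix.diagonal d from rfl, e, ← mul_assoc, ← mul_assoc] at e3
    exact Sd.isUnit.mul_right_cancel e3
  -- the basis
  set H := stdHerm 3 hF with hH
  set v : Fin 3 → Fin 3 → F := fun i => (Q : Matrix (Fin 3) (Fin 3) F) *ᵥ Pi.single i 1 with hv
  have hq0 : q ≠ 0 := by omega
  have horth : ∀ i j, H.h (v i) (v j) = if i = j then 1 else 0 := fun i j => by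
    rw [stdHerm_h, hv]
    rw [show Cfsg.hermForm 3 F q ((Q : Matrix (Fin 3) (Fin 3) F) *ᵥ Pi.single i 1)
      ((Q : Matrix (Fin 3) (Fin 3) F) *ᵥ Pi.single j 1) = Cfsg.hermForm 3 F q (Pi.single i 1) (Pi.single j 1) from
        hQ _ _]
    fin_cases i <;> fin_cases j <;> simp [Cfsg.hermForm, Fin.sum_univ_three, hq0]
  have hli : LinearIndependent F v := by
    rw [Fintype.linearIndependent_iff]
    intro c hc i
    have h := congrArg (fun x => H.h x (v i)) hc
    simp only [H.sum_left, H.smul_left, horth, mul_ite, mul_one, mul_zero, Finset.sum_ite_eq', Finset.mem_univ,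
      if_true, H.zero_left] at h
    exact h
  let bs := basisOfLinearIndependentOfCardEqFinrank hli (by simp)
  have hbs : ∀ i, bs i = v i := fun i => by simp [bs]
  let U : UFrame H (Fin 3) := ⟨bs, fun i j => by rw [hbs, hbs]; exact horth i j⟩
  have hhas : ∀ (m : H.SIsom) (z : GL (Fin 3) F) (N : Matrix (Fin 3) (Fin 3) F), sunitToGL hF m = z →
      (z : Matrix (Fin 3) (Fin 3) F) * (Q : Matrix (Fin 3) (Fin 3) F) = (Q : Matrix (Fin 3) (Fin 3) F) * N →
      Heis.Has U m N := by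
    intro m z N hm hz j
    show m.1.1 (bs j) = ∑ i, N i j • bs i
    simp only [hbs]
    rw [← sunitToGL_mulVec hF m, hm, hv, Matrix.mulVec_mulVec, hz, ← Matrix.mulVec_mulVec]
    simp only [← Matrix.mulVec_smul, Fin.sum_univ_three, ← Matrix.mulVec_add]
    congr 1
    funext o
    fin_cases o <;> fin_cases j <;> simp [Matrix.mulVec, dotProduct, Fin.sum_univ_three]
  set M₀ := (Cfsg.Geo.subgroupNormalizer R).comap (sunitToGL hF) with hM₀
  have hlift : ∀ z ∈ Cfsg.Geo.subgroupNormalizer R, z ∈ Cfsg.GU 3 F q ⊓ Cfsg.Geo.specialLinear (Fin 3) F →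
      ∃ m ∈ M₀, sunitToGL hF m = z := fun z hz hzS => by
    rw [← range_sunitToGL hF] at hzS
    obtain ⟨m, rfl⟩ := hzS
    exact ⟨m, hz, rfl⟩
  have hinj : Function.Injective (sunitToGL (n := 3) hF) :=
    (unitToGL_injective hF).comp (H.SIsom).subtype_injective
  refine isMaximalIn_of_isCoatom_comap (sunitToGL hF) (range_sunitToGL hF) ⟨fun htop => ?_, fun K hlt => ?_⟩
  · have hdvd : q ∣ Nat.card H.SIsom := by
      rw [hH, card_SIsom_std hF hq]
      exact Dvd.dvd.mul_right (dvd_pow_self q (by norm_num)) _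
    obtain ⟨y, hy⟩ := exists_prime_orderOf_dvd_card' q hdvd
    have hyN : sunitToGL hF y ∈ Cfsg.Geo.subgroupNormalizer R := htop.ge (Subgroup.mem_top y)
    have hyp : y ^ q = 1 := by rw [← hy]; exact pow_orderOf_eq_one y
    obtain ⟨l, hl⟩ := S.scalar_of_order h3 h27 (r := q) (by omega) hyN (by rw [← map_pow, hyp, map_one])
    have hyc : y ∈ Subgroup.center H.SIsom := (Heis.central_iff hS.dim).2 ⟨l, fun x => by
      rw [← sunitToGL_mulVec hF y, hl, Matrix.smul_mulVec, Matrix.one_mulVec]⟩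
    have hy3 := Heis.central_cube hS.dim hyc
    have := pow_gcd_eq_one.2 ⟨hyp, hy3⟩
    rw [(Nat.coprime_primes hp Nat.prime_three).2 (by omega), pow_one] at this
    rw [this, orderOf_one] at hy
    omega
  by_contra hK
  obtain ⟨g', hg', hg'M⟩ := SetLike.exists_of_lt hlt
  have hMK : M₀ ≤ K := hlt.le
  obtain ⟨mX, hmX, eX⟩ := hlift a (Subgroup.le_normalizer S.mem_a) (hRS S.mem_a)
  obtain ⟨mY, hmY, eY⟩ := hlift b (Subgroup.le_normalizer S.mem_b) (hRS S.mem_b)
  obtain ⟨mW, hmW, eW⟩ := hlift f hfN hfS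
  obtain ⟨mG, hmG, eG⟩ := hlift g hgN hgS
  have hI : Irr K := by
    intro W hW
    refine hai.1 W fun s hs => ?_
    obtain ⟨z, hz, rfl⟩ := hs
    rintro _ ⟨x, hx, rfl⟩
    obtain ⟨m, hm, rfl⟩ := hlift z (Subgroup.le_normalizer hz) (hRS hz)
    show (sunitToGL hF m : Matrix (Fin 3) (Fin 3) F).mulVec x ∈ W
    rw [sunitToGL_mulVec]
    exact hW m (hMK hm) x hx
  have hns : ¬ Group.IsSolvable K := fun hs => by
    haveI := hs
    have hKsol : Group.IsSolvable (K.map (sunitToGL hF)) :=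
      Group.isSolvable_of_surjective ((sunitToGL hF).subgroupMap_surjective K)
    have hle : K.map (sunitToGL hF) ≤ Cfsg.GU 3 F q ⊓ Cfsg.Geo.specialLinear (Fin 3) F := by
      rw [← range_sunitToGL hF]; exact Subgroup.map_le_range _ _
    have hMK' : Cfsg.Geo.subgroupNormalizer R ⊓ (Cfsg.GU 3 F q ⊓ Cfsg.Geo.specialLinear (Fin 3) F) ≤
        K.map (sunitToGL hF) := fun z ⟨hz, hzS⟩ => by
      obtain ⟨m, hm, rfl⟩ := hlift z hz hzS
      exact ⟨m, hMK hm, rfl⟩
    exact hg'M (heis_solvable hF hp rfl hp3 hp11 hR hai hsim h27 hZ _ hMK' hle hKsol ⟨g', hg', rfl⟩)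
  have hN : NoRoot K := fun B => by
    have hlt' := card_Ag_lt K hS.dim hS.three hI hK B
    rw [stdHerm_q hF] at hlt'
    obtain ⟨n, hn⟩ := IsPGroup.iff_card.1 ((Ng_pgroup K hS.dim B q).to_le (Ag_le_Ng K B))
    rw [← Subgroup.card_eq_one]
    rcases n with _ | n
    · simpa using hn
    · exfalso
      rw [hn] at hlt'
      exact absurd hlt' (not_lt.2 (Nat.le_self_pow (by omega) q))
  exact Heis.no_overgroup (K := K) (U := U) (p := q) (ω := ω) (X := ⟨mX, hMK hmX⟩) (Y := ⟨mY, hMK hmY⟩)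
    (W := ⟨mW, hMK hmW⟩) (G := ⟨mG, hMK hmG⟩)
    { dim := hS.dim
      pts := hS.pts
      pow := hS.pow
      prime := hp
      eleven := hp11
      qp := stdHerm_q hF
      chr := hchar
      two := h2
      irr := hI
      noRoot := hN
      nsol := hns
      inv := fun T hT h1 h2' => exists_moved hS.dim hI hns T hT h1 h2' }
    { root := hw
      two := h2
      three := h3
      hX := hhas _ _ _ eX S.eqa
      hY := hhas _ _ _ eY S.eqb
      hW := hhas _ _ _ eW (hfQ.trans (by rw [hfv]; rfl))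
      hG := hhas _ _ _ eG hgQ }

end Cfsg.Lib.Classical.SUThree
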