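import Mathlib
import Cfsg.Prelude.Def_GeometricClasses
import Cfsg.Agent.Classical.Unitary.MaxMatrix
import Cfsg.Agent.Classical.SUThree.Full
import Cfsg.Agent.Known.PSUThree.Main

/-!
Stabilisers of points are maximal in `SU_3(q)`.
-/

set_option autoImplicit false
set_option linter.unusedSectionVars false

namespace Cfsg.Lib.Classical.SUThree

open Cfsg.Lib.Classical Cfsg.Lib.Known.PSUThree

variable {F : Type*} [Field F] [Fintype F] {q : ℕ} (hF : Fintype.card F = q ^ 2) (hq : 3 ≤ q)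
include hF hq

theorem isMaximalIn_isotropic (W : Submodule F (Fin 3 → F)) (hW0 : W ≠ ⊥)
    (hW : Cfsg.Geo.IsTotallySingularFor (Cfsg.hermForm 3 F q) W) :
    Cfsg.Geo.IsMaximalIn (Cfsg.GU 3 F q ⊓ Cfsg.Geo.specialLinear (Fin 3) F)
      (Cfsg.Geo.subspaceStabilizer W ⊓ (Cfsg.GU 3 F q ⊓ Cfsg.Geo.specialLinear (Fin 3) F)) := by
  refine isMaximalIn_of_isCoatom_comap (sunitToGL hF) (range_sunitToGL hF) ?_
  rw [comap_subspaceStabilizer_sunitToGL hF W]
  exact (stdHerm 3 hF).isCoatom_sSubStab_isotropic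
    (Or.inr ⟨(setup_std hF hq).dim, (setup_std hF hq).three⟩) hW0 (stdHerm_le_orth hF hW)

theorem isMaximalIn_nondeg (W : Submodule F (Fin 3 → F)) (hW0 : W ≠ ⊥)
    (hW : Cfsg.Geo.IsNondegenerateOn (Cfsg.hermForm 3 F q) W) (hdim : 2 * Module.finrank F W < 3) :
    Cfsg.Geo.IsMaximalIn (Cfsg.GU 3 F q ⊓ Cfsg.Geo.specialLinear (Fin 3) F)
      (Cfsg.Geo.subspaceStabilizer W ⊓ (Cfsg.GU 3 F q ⊓ Cfsg.Geo.specialLinear (Fin 3) F)) := by
  refine isMaximalIn_of_isCoatom_comap (sunitToGL hF) (range_sunitToGL hF) ?_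
  rw [comap_subspaceStabilizer_sunitToGL hF W]
  have h1 : Module.finrank F W ≠ 0 := fun e => hW0 (Submodule.finrank_eq_zero.1 e)
  exact isCoatom_point (setup_std hF hq).dim (setup_std hF hq).three (stdHerm_nondegOn hF hW) (by omega)

end Cfsg.Lib.Classical.SUThree
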