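import Cfsg.Agent.Classical.SUThree.Full
import Cfsg.Agent.Known.PSUThree.Orbit

/-!
The group of a real frame in a three-dimensional special unitary group: the elements sending the vectors
with fixed coordinates to a common multiple of such vectors.
-/

set_option autoImplicit false
set_option linter.unusedSectionVars false
set_option linter.style.haveILetI false

namespace Cfsg.Lib.Classical.SUThree.Orth

open Cfsg.Lib.Classical Cfsg.Lib.Components.UnitaryThree Cfsg.Lib.Known.PSUThree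

universe u v

variable {F : Type u} [Field F] {V : Type v} [AddCommGroup V] [Module F V] {H : HermSpace F V}

/-- Fixed coordinates. -/
def Rl (B : Frame H) (x : V) : Prop :=
  H.σ (H.h x B.e) = H.h x B.e ∧ H.σ (H.h x B.w) = H.h x B.w ∧ H.σ (H.h x B.f) = H.h x B.f

/-- Fixed coordinates go to a common multiple of fixed coordinates. -/
def InRat (B : Frame H) (g : H.SIsom) : Prop :=
  ∃ a : F, a ≠ 0 ∧ ∀ x, Rl B x → ∃ y, Rl B y ∧ g.1.1 x = a • y

/-- The frame read from the other end. -/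
def sw (B : Frame H) : Frame H :=
  ⟨B.f, B.w, B.e, B.ff, B.ee, B.fe, B.ww, B.wf, B.we⟩

theorem Rl.add {B : Frame H} {x y : V} (hx : Rl B x) (hy : Rl B y) : Rl B (x + y) := by
  refine ⟨?_, ?_, ?_⟩ <;> rw [H.add_left, map_add]
  exacts [by rw [hx.1, hy.1], by rw [hx.2.1, hy.2.1], by rw [hx.2.2, hy.2.2]]

theorem Rl.smul {B : Frame H} {x : V} {s : F} (hs : H.σ s = s) (hx : Rl B x) : Rl B (s • x) := by
  refine ⟨?_, ?_, ?_⟩ <;> rw [H.smul_left, map_mul, hs]
  exacts [by rw [hx.1], by rw [hx.2.1], by rw [hx.2.2]]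

theorem rl_e (B : Frame H) : Rl B B.e := by simp [Rl, B.ee, B.ew, B.ef]
theorem rl_w (B : Frame H) : Rl B B.w := by simp [Rl, B.we, B.ww, B.wf]
theorem rl_f (B : Frame H) : Rl B B.f := by simp [Rl, B.fe, B.fw, B.ff]

theorem rl_coord (B : Frame H) {a b c : F} (ha : H.σ a = a) (hb : H.σ b = b) (hc : H.σ c = c) :
    Rl B (a • B.e + b • B.w + c • B.f) :=
  (((rl_e B).smul ha).add ((rl_w B).smul hb)).add ((rl_f B).smul hc)

variable [Finite F] [FiniteDimensional F V] (hd : Module.finrank F V = 3) (B : Frame H)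
include hd

theorem inRat_of {g : H.SIsom} (he : Rl B (g.1.1 B.e)) (hw : Rl B (g.1.1 B.w)) (hf : Rl B (g.1.1 B.f)) :
    InRat B g := by
  refine ⟨1, one_ne_zero, fun x hx => ⟨g.1.1 x, ?_, (one_smul F _).symm⟩⟩
  rw [decomp hd B x, map_add, map_add, map_smul, map_smul, map_smul]
  exact ((he.smul hx.2.2).add (hw.smul hx.2.1)).add (hf.smul hx.1)

omit hd in
theorem norm_one_of_scalar {d : F} (h : d * H.σ d = 1) (x y : V) : H.h (d • x) (d • y) = H.h x y := by
  rw [H.smul_left, H.smul_right, ← mul_assoc, h, one_mul]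

/-- The special isometry carrying a frame to a frame. -/
theorem exists_map (B' : Frame H)
    (hdet : Matrix.det !![H.h B'.e B.f, H.h B'.w B.f, H.h B'.f B.f;
      H.h B'.e B.w, H.h B'.w B.w, H.h B'.f B.w;
      H.h B'.e B.e, H.h B'.w B.e, H.h B'.f B.e] = 1) :
    ∃ g : H.SIsom, g.1.1 B.e = B'.e ∧ g.1.1 B.w = B'.w ∧ g.1.1 B.f = B'.f := by
  let L : V →ₗ[F] V :=
    (H.lin B.f).smulRight B'.e + (H.lin B.w).smulRight B'.w + (H.lin B.e).smulRight B'.f
  have hL : ∀ x, L x = H.h x B.f • B'.e + H.h x B.w • B'.w + H.h x B.e • B'.f := fun x => by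
    simp [L, HermSpace.lin_apply]
  have hinj : Function.Injective L := by
    rw [injective_iff_map_eq_zero]
    intro x hx
    rw [hL] at hx
    have h1 := congrArg (fun z => H.h z B'.e) hx
    have h2 := congrArg (fun z => H.h z B'.w) hx
    have h3 := congrArg (fun z => H.h z B'.f) hx
    simp [H.add_left, H.smul_left, H.zero_left, B'.ee, B'.we, B'.fe, B'.ew, B'.ww, B'.fw, B'.ef, B'.wf,
      B'.ff] at h1 h2 h3
    rw [decomp hd B x, h1, h2, h3, zero_smul, zero_smul, zero_smul, add_zero, add_zero]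
  let E : V ≃ₗ[F] V := LinearEquiv.ofInjectiveEndo L hinj
  have hE : ∀ x, E x = L x := fun x => rfl
  have hform : ∀ x y, H.h (E x) (E y) = H.h x y := by
    intro x y
    rw [hE, hE, hL, hL]
    conv_rhs => rw [decomp hd B x, decomp hd B y]
    simp [H.add_left, H.add_right, H.smul_left, H.smul_right, B.ee, B.we, B.fe, B.ew, B.ww, B.fw, B.ef,
      B.wf, B.ff, B'.ee, B'.we, B'.fe, B'.ew, B'.ww, B'.fw, B'.ef, B'.wf, B'.ff]
  have he : E B.e = B'.e := by simp [hE, hL, B.ef, B.ew, B.ee]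
  have hw : E B.w = B'.w := by simp [hE, hL, B.wf, B.ww, B.we]
  have hf : E B.f = B'.f := by simp [hE, hL, B.ff, B.fw, B.fe]
  refine ⟨⟨⟨E, hform⟩, H.mem_SIsom.2 (Units.ext ?_)⟩, he, hw, hf⟩
  rw [LinearEquiv.coe_det, Units.val_one, det_frame hd B]
  simp only [LinearEquiv.coe_coe]
  rw [he, hw, hf]
  exact hdet

/-- Torus. -/
theorem exists_torus {l : F} (hl : H.σ l = l) (hl0 : l ≠ 0) :
    ∃ g : H.SIsom, g.1.1 B.e = l • B.e ∧ g.1.1 B.w = B.w ∧ g.1.1 B.f = l⁻¹ • B.f := by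
  refine exists_map hd B ⟨l • B.e, B.w, l⁻¹ • B.f, ?_, ?_, ?_, B.ww, ?_, ?_⟩ ?_
  · rw [H.smul_left, H.smul_right, B.ee, mul_zero, mul_zero]
  · rw [H.smul_left, H.smul_right, B.ff, mul_zero, mul_zero]
  · rw [H.smul_left, H.smul_right, B.ef, map_inv₀, hl, mul_one, mul_inv_cancel₀ hl0]
  · rw [H.smul_right, B.we, mul_zero]
  · rw [H.smul_right, B.wf, mul_zero]
  · simp [Matrix.det_fin_three, H.smul_left, B.ee, B.we, B.fe, B.ew, B.ww, B.fw, B.ef, B.wf, B.ff, hl0]

include B in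
/-- Scalars. -/
theorem exists_scalar {d : F} (hd3 : d ^ 3 = 1) (hdd : d * H.σ d = 1) :
    ∃ g : H.SIsom, ∀ x, g.1.1 x = d • x := by
  have hn := norm_one_of_scalar (H := H) hdd
  obtain ⟨g, h1, h2, h3⟩ := exists_map hd B ⟨d • B.e, d • B.w, d • B.f, by rw [hn, B.ee], by rw [hn, B.ff],
    by rw [hn, B.ef], by rw [hn, B.ww], by rw [hn, B.we], by rw [hn, B.wf]⟩ (by
      simp [Matrix.det_fin_three, H.smul_left, B.ee, B.we, B.fe, B.ew, B.ww, B.fw, B.ef, B.wf, B.ff]
      linear_combination hd3)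
  refine ⟨g, fun x => ?_⟩
  conv_lhs => rw [decomp hd B x]
  conv_rhs => rw [decomp hd B x]
  rw [map_add, map_add, map_smul, map_smul, map_smul, h1, h2, h3]
  module

/-- Translations. -/
theorem exists_unip (h2 : (2 : F) ≠ 0) {s : F} (hs : H.σ s = s) :
    ∃ g : H.SIsom, g.1.1 B.e = B.e ∧ g.1.1 B.w = s • B.e + B.w ∧
      g.1.1 B.f = (-(s * s) / 2) • B.e + (-s) • B.w + B.f := by
  have hhalf : H.σ (-(s * s) / 2) = -(s * s) / 2 := by
    rw [map_div₀, map_neg, map_mul, hs, map_ofNat]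
  refine exists_map hd B ⟨B.e, s • B.e + B.w, (-(s * s) / 2) • B.e + (-s) • B.w + B.f, B.ee, ?_, ?_, ?_,
    ?_, ?_⟩ ?_
  · simp [H.add_left, H.add_right, H.smul_left, H.smul_right, H.neg_left, H.neg_right, B.ee, B.we, B.fe,
      B.ew, B.ww, B.fw, B.ef, B.wf, B.ff, hs, hhalf]
    field_simp
    ring
  · simp [H.add_right, H.smul_right, H.neg_right, B.ee, B.ew, B.ef]
  · simp [H.add_left, H.add_right, H.smul_left, H.smul_right, B.ee, B.we, B.ew, B.ww]
  · simp [H.add_left, H.smul_left, B.ee, B.we]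
  · simp [H.add_left, H.add_right, H.smul_left, H.smul_right, H.neg_right, B.ee, B.we, B.ew, B.ww, B.ef,
      B.wf, hs]
  · simp [Matrix.det_fin_three, H.add_left, H.smul_left, H.neg_left, B.ee, B.we, B.fe, B.ew, B.ww, B.fw,
      B.ef, B.wf, B.ff]

/-- The reflection of the two ends. -/
theorem exists_swap : ∃ g : H.SIsom, g.1.1 B.e = B.f ∧ g.1.1 B.w = -B.w ∧ g.1.1 B.f = B.e := by
  refine exists_map hd B ⟨B.f, -B.w, B.e, B.ff, B.ee, B.fe, ?_, ?_, ?_⟩ ?_
  · rw [H.neg_left, H.neg_right, neg_neg, B.ww]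
  · rw [H.neg_left, B.wf, neg_zero]
  · rw [H.neg_left, B.we, neg_zero]
  · simp [Matrix.det_fin_three, H.neg_left, B.ee, B.we, B.fe, B.ew, B.ww, B.fw, B.ef, B.wf, B.ff]

/-- An isotropic vector with fixed coordinates is a multiple of an end or of a translate of the other. -/
theorem rl_iso (h2 : (2 : F) ≠ 0) {x : V} (hx : Rl B x) (hxx : H.h x x = 0) :
    x = H.h x B.f • B.e ∨
      ∃ s, H.σ s = s ∧ x = H.h x B.e • ((-(s * s) / 2) • B.e + (-s) • B.w + B.f) := by
  by_cases hγ : H.h x B.e = 0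
  · exact Or.inl (iso_orth hd B hxx hγ)
  refine Or.inr ⟨-(H.h x B.w / H.h x B.e), by rw [map_neg, map_div₀, hx.2.1, hx.1], ?_⟩
  have h := hxx
  rw [decomp hd B x] at h
  simp [H.add_left, H.add_right, H.smul_left, H.smul_right, B.ee, B.we, B.fe, B.ew, B.ww, B.fw, B.ef,
    B.wf, B.ff, hx.1, hx.2.1, hx.2.2] at h
  conv_lhs => rw [decomp hd B x]
  match_scalars <;> field_simp
  linear_combination h

end Cfsg.Lib.Classical.SUThree.Orth
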