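import Cfsg.Agent.Classical.SUThree.OrthStab

/-!
Without root elements the orbit of an end of the frame under a larger group is all isotropic points.
-/

set_option autoImplicit false
set_option linter.unusedSectionVars false
set_option linter.style.haveILetI false

namespace Cfsg.Lib.Classical.SUThree.Orth

open Cfsg.Lib.Classical Cfsg.Lib.Components.UnitaryThree Cfsg.Lib.Known.PSUThree

universe u v

/-- If all stabilisers divide `k`, the order of the group divides `k` times the size of an invariant set. -/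
theorem card_dvd_of_stab {G X : Type*} [Group G] [Finite G] [MulAction G X] [Finite X] (s : SubMulAction G X)
    {k : ℕ} (h : ∀ x ∈ s, Nat.card (MulAction.stabilizer G x) ∣ k) : Nat.card G ∣ k * Nat.card s := by
  classical
  haveI : Finite (MulAction.orbitRel.Quotient G s) := Quotient.finite _
  haveI : Fintype (MulAction.orbitRel.Quotient G s) := Fintype.ofFinite _
  rw [Nat.card_congr (MulAction.selfEquivSigmaOrbits G s), Nat.card_sigma, Finset.mul_sum]
  refine Finset.dvd_sum fun o _ => ?_
  set x : s := o.out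
  rw [← (MulAction.stabilizer G x).card_mul_index, MulAction.index_stabilizer, ← Nat.card_coe_set_eq]
  refine Nat.mul_dvd_mul_right ?_ _
  rw [SubMulAction.stabilizer_of_subMul]
  exact h x.1 x.2

variable {F : Type u} [Field F] {V : Type v} [AddCommGroup V] [Module F V] {H : HermSpace F V}
  [Finite F] [FiniteDimensional F V] {B : Frame H} {K : Subgroup H.SIsom} (ho : Over B K)
  (hA : ∀ C : Frame H, ∀ a ∈ Ag K C, a = 1)
  {M : Subgroup H.SIsom} (hM : ∀ g, g ∈ M ↔ InRat B g)

/-- The units of the fixed field. -/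
noncomputable def fixUnits (H : HermSpace F V) : (fixedField H.σ)ˣ →* Fˣ :=
  Units.map (fixedField H.σ).subtype

theorem fixUnits_injective (H : HermSpace F V) : Function.Injective (fixUnits H) := fun a b h =>
  Units.ext (Subtype.ext (congrArg Units.val h))

theorem card_fixUnits (H : HermSpace F V) : Nat.card (fixedField H.σ)ˣ = H.q - 1 := by
  haveI : Finite (fixedField H.σ) := Finite.of_injective _ Subtype.val_injective
  rw [Nat.card_units]
  rfl

theorem mem_fixUnits {u : Fˣ} (hu : H.σ (u : F) = u) : ∃ a, fixUnits H a = u :=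
  ⟨Units.mk0 (⟨(u : F), hu⟩ : fixedField H.σ) (fun h => u.ne_zero (congrArg Subtype.val h)), Units.ext rfl⟩

include ho

theorem Over.fixUnits_le : (fixUnits H).range ≤ rng K ho.dim B := by
  rintro _ ⟨a, rfl⟩
  obtain ⟨t, htK, -, hte, -, -⟩ := ho.torus (l := ((a : fixedField H.σ) : F)) a.1.2
    (fun h => a.ne_zero (Subtype.ext h))
  refine ⟨⟨t, htK, mem_stE.2 ⟨_, hte⟩⟩, Units.ext ?_⟩
  rw [eaHom_apply, ea, hte, H.smul_left, B.ef, mul_one]
  rfl

include hA hM

theorem Over.lg_mem {g : H.SIsom} (hg : g ∈ Lg K B) : g ∈ M := by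
  obtain ⟨d, l, z, t, n, -, -, -, -, -, hz, ht, hn, rfl⟩ := ho.stab_decomp hA hg
  exact M.mul_mem ((hM _).2 hz) (M.mul_mem ((hM _).2 ht) ((hM _).2 hn))

omit hA in
theorem Over.card_M_orbit : Nat.card (MulAction.orbit M (pt B)) = H.q + 1 := by
  classical
  have hd := ho.dim
  have hex : ∀ s : {a : F // H.σ a = a}, ∃ p : MulAction.orbit M (pt B),
      ∃ x, ∃ hx0 : x ≠ 0, ∃ hxx : H.h x x = 0,
        p.1 = H.isoMk x hx0 hxx ∧ x = (-(s.1 * s.1) / 2) • B.e + (-s.1) • B.w + B.f := by
    intro s
    obtain ⟨t, -, htR, hte, -, -⟩ := ho.swap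
    obtain ⟨u, -, huR, -, huf⟩ := ho.unip s.2
    have he : (u * t).1.1 B.e = (-(s.1 * s.1) / 2) • B.e + (-s.1) • B.w + B.f := by
      rw [H.smul_mul_apply, hte, huf]
    exact ⟨⟨_, ⟨u * t, M.mul_mem ((hM _).2 huR) ((hM _).2 htR)⟩, rfl⟩, _, H.isom_ne_zero _ B.e_ne,
      by rw [H.map_form, B.ee], HermSpace.smul_isoMk _ _ _ _ _, he⟩
  choose P x hx0 hxx hP hx using hex
  let f : Option {a : F // H.σ a = a} → MulAction.orbit M (pt B) := fun o =>
    o.elim ⟨pt B, MulAction.mem_orbit_self _⟩ P
  have hcoe : ∀ s, H.h (x s) B.e = 1 ∧ H.h (x s) B.w = -s.1 := fun s => by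
    rw [hx s]
    simp [H.add_left, H.smul_left, H.neg_left, B.ee, B.we, B.fe, B.ew, B.ww, B.fw]
  have hf : Function.Bijective f := by
    have hne : ∀ s, pt B ≠ (P s).1 := fun s h => by
      rw [hP, pt, HermSpace.isoMk_eq_iff] at h
      obtain ⟨c, hc⟩ := h
      have h1 := congrArg (fun z => H.h z B.e) hc
      rw [H.smul_left, (hcoe s).1, B.ee, mul_one] at h1
      rw [h1, zero_smul] at hc
      exact B.e_ne hc.symm
    refine ⟨?_, fun p => ?_⟩
    · rintro (_ | s) (_ | s') h
      · rfl
      · exact absurd (congrArg Subtype.val h) (hne s')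
      · exact absurd (congrArg Subtype.val h).symm (hne s)
      · have h' : H.isoMk (x s) (hx0 s) (hxx s) = H.isoMk (x s') (hx0 s') (hxx s') := by
          rw [← hP, ← hP]; exact congrArg Subtype.val h
        rw [HermSpace.isoMk_eq_iff] at h'
        obtain ⟨c, hc⟩ := h'
        have h1 := congrArg (fun z => H.h z B.e) hc
        have h2 := congrArg (fun z => H.h z B.w) hc
        rw [H.smul_left, (hcoe s').1, (hcoe s).1, mul_one] at h1
        rw [H.smul_left, (hcoe s').2, (hcoe s).2, h1, one_mul, neg_inj] at h2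
        exact congrArg some (Subtype.ext h2.symm)
    · obtain ⟨m, hm⟩ := p.2
      obtain ⟨a, ha0, hrat⟩ := (hM _).1 m.2
      obtain ⟨y, hyR, hy⟩ := hrat B.e (rl_e B)
      have hy0 : y ≠ 0 := fun h => H.isom_ne_zero m.1.1 B.e_ne (by rw [hy, h, smul_zero])
      have hyy : H.h y y = 0 := by
        have h := H.map_form m.1.1 B.e B.e
        rw [hy, B.ee, H.smul_left, H.smul_right] at h
        exact ((mul_eq_zero.1 h).resolve_left ha0 |> mul_eq_zero.1).resolve_left ((map_ne_zero _).2 ha0)
      have hp : p.1 = H.isoMk y hy0 hyy := by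
        rw [← hm]
        show m.1 • pt B = _
        rw [pt, HermSpace.smul_isoMk, HermSpace.isoMk_eq_iff]
        exact ⟨a, hy.symm⟩
      rcases rl_iso hd B ho.two hyR hyy with e | ⟨s, hs, e⟩
      · refine ⟨none, Subtype.ext ?_⟩
        show pt B = p.1
        rw [hp, pt, HermSpace.isoMk_eq_iff]
        have h0 : H.h y B.f ≠ 0 := fun h => hy0 (by rw [e, h, zero_smul])
        obtain ⟨r, hr⟩ : ∃ r, r = H.h y B.f := ⟨_, rfl⟩
        rw [← hr] at e h0
        exact ⟨r⁻¹, by rw [e, inv_smul_smul₀ h0]⟩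
      · refine ⟨some ⟨s, hs⟩, Subtype.ext ?_⟩
        show (P ⟨s, hs⟩).1 = p.1
        rw [hp, hP, HermSpace.isoMk_eq_iff]
        have h0 : H.h y B.e ≠ 0 := fun h => hy0 (by rw [e, h, zero_smul])
        obtain ⟨r, hr⟩ : ∃ r, r = H.h y B.e := ⟨_, rfl⟩
        rw [← hr] at e h0
        exact ⟨r⁻¹, by rw [e, inv_smul_smul₀ h0, hx]⟩
  rw [← Nat.card_eq_of_bijective f hf, Finite.card_option, card_fixed]

omit hM in
theorem Over.card_L_dvd : H.q * (H.q - 1) ∣ Nat.card (Lg K B) := by
  rw [card_L K ho.dim B, ho.card_Ng hA]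
  refine Nat.mul_dvd_mul_left _ ?_
  rw [← card_fixUnits H, Nat.card_congr ((fixUnits H).ofInjective (fixUnits_injective H)).toEquiv]
  exact Subgroup.card_dvd_of_le ho.fixUnits_le

theorem Over.orbit_dvd : H.q + 1 ∣ Nat.card (MulAction.orbit K (pt B)) := by
  have h : Lg M B = Lg K B := le_antisymm (inf_le_inf_right _ fun g hg => ho.le g ((hM g).1 hg))
    (fun g hg => ⟨ho.lg_mem hA hM hg, hg.2⟩)
  have h1 := card_K_orbit M B
  rw [ho.card_M_orbit hM, h] at h1
  have h2 := Subgroup.card_dvd_of_le (show M ≤ K from fun g hg => ho.le g ((hM g).1 hg))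
  rw [h1, card_K_orbit K B] at h2
  exact Nat.dvd_of_mul_dvd_mul_right Nat.card_pos h2

omit hM in
theorem Over.orbit_mod_q :
    ∃ j, Nat.card (MulAction.orbit K (pt B)) = 1 + j * H.q := by
  classical
  set O := MulAction.orbit K (pt B)
  let s : SubMulAction (Ng K B) H.IsoPt :=
    { carrier := O \ {pt B}
      smul_mem' := fun n y hy => by
        refine ⟨?_, fun h => hy.2 ?_⟩
        · obtain ⟨k, hk⟩ := hy.1
          refine ⟨(⟨n.1, n.2.1⟩ : K) * k, ?_⟩
          show ((⟨n.1, n.2.1⟩ : K) * k) • pt B = n.1 • y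
          rw [mul_smul, show k • pt B = y from hk]
          rfl
        · have h' : n.1 • y = pt B := h
          rw [Set.mem_singleton_iff]
          have h0 : n.1 • pt B = pt B := fixE_le_stE B n.2.2
          exact MulAction.injective n.1 (h'.trans h0.symm) }
  have hdiv := card_dvd_of_stab s (k := 1) fun y hy => by
    rw [Nat.dvd_one, Subgroup.card_eq_one, eq_bot_iff]
    intro n hn
    rw [Subgroup.mem_bot]
    by_contra h1
    exact hy.2 (fix_pt ho.dim B n.2.2 (fun h => h1 (Subtype.ext h)) (MulAction.mem_stabilizer_iff.1 hn))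
  rw [one_mul, ho.card_Ng hA] at hdiv
  obtain ⟨j, hj⟩ := hdiv
  refine ⟨j, ?_⟩
  have hO : Nat.card O = 1 + Nat.card s := by
    show Nat.card O = 1 + Nat.card ↥(O \ {pt B} : Set H.IsoPt)
    rw [Nat.card_coe_set_eq, Nat.card_coe_set_eq,
      Set.ncard_sdiff_singleton_of_mem (MulAction.mem_orbit_self _)]
    have h0 : pt B ∈ O := MulAction.mem_orbit_self _
    have := (Set.ncard_pos (Set.toFinite O)).2 ⟨_, h0⟩
    exact (Nat.add_sub_cancel' this).symm
  rw [hO, hj, mul_comm]

omit hA hM in
/-- The torus on the orbit. -/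
theorem Over.orbit_mod_torus : ∃ j, 2 * Nat.card (MulAction.orbit K (pt B)) = 4 + j * (H.q - 1) := by
  classical
  have hd := ho.dim
  have h2 := ho.two
  choose t htK htR hte htw htf using fun a : (fixedField H.σ)ˣ =>
    ho.torus (l := ((a : fixedField H.σ) : F)) a.1.2 (fun h => a.ne_zero (Subtype.ext h))
  have hmul : ∀ a b, t (a * b) = t a * t b := fun a b => ext_lin hd B
    (by rw [H.smul_mul_apply, hte, hte, map_smul, hte, smul_smul, mul_comm]; rfl)
    (by rw [H.smul_mul_apply, htw, htw, htw])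
    (by rw [H.smul_mul_apply, htf, htf, map_smul, htf, smul_smul, ← mul_inv, mul_comm]; rfl)
  let τ : (fixedField H.σ)ˣ →* H.SIsom := MonoidHom.mk' t hmul
  letI : MulAction (fixedField H.σ)ˣ H.IsoPt := MulAction.compHom _ τ
  haveI : Finite (fixedField H.σ) := Finite.of_injective _ Subtype.val_injective
  set O := MulAction.orbit K (pt B)
  let pf : H.IsoPt := H.isoMk B.f (sw B).e_ne B.ff
  have hpf : pf ∈ O := by
    obtain ⟨g, hgK, -, hge, -, -⟩ := ho.swap
    refine ⟨⟨g, hgK⟩, ?_⟩
    show g • pt B = pf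
    simp only [pt, pf, HermSpace.smul_isoMk]
    exact (HermSpace.isoMk_eq_iff H).2 ⟨1, by rw [one_smul, hge]⟩
  have hne : pt B ≠ pf := fun h => by
    obtain ⟨c, hc⟩ := (HermSpace.isoMk_eq_iff H).1 h
    have := congrArg (fun z => H.h z B.f) hc
    simp [H.smul_left, B.ff, B.ef] at this
  have hfix : ∀ a, t a • pt B = pt B ∧ t a • pf = pf := fun a => by
    constructor
    · rw [pt, HermSpace.smul_isoMk, HermSpace.isoMk_eq_iff]; exact ⟨_, (hte a).symm⟩
    · refine (HermSpace.smul_isoMk H (t a) B.f (sw B).e_ne B.ff).trans ?_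
      exact (HermSpace.isoMk_eq_iff H).2 ⟨_, (htf a).symm⟩
  let s : SubMulAction (fixedField H.σ)ˣ H.IsoPt :=
    { carrier := O \ {pt B, pf}
      smul_mem' := fun a y hy => by
        refine ⟨?_, fun h => hy.2 ?_⟩
        · obtain ⟨k, hk⟩ := hy.1
          refine ⟨(⟨t a, htK a⟩ : K) * k, ?_⟩
          show ((⟨t a, htK a⟩ : K) * k) • pt B = t a • y
          rw [mul_smul, show k • pt B = y from hk]
          rfl
        · rcases h with h | h
          · exact Or.inl (MulAction.injective (t a) ((show t a • y = pt B from h).trans (hfix a).1.symm))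
          · exact Or.inr (MulAction.injective (t a) ((show t a • y = pf from h).trans (hfix a).2.symm)) }
  have hdiv := card_dvd_of_stab s (k := 2) fun y hy => by
    -- only the signs fix a third point
    let m1 : (fixedField H.σ)ˣ := -1
    have hle : (MulAction.stabilizer (fixedField H.σ)ˣ y : Set (fixedField H.σ)ˣ) ⊆ {1, m1} := by
      intro a ha
      have h' : t a • y = y := ha
      have hy' := hy.2
      revert h' hy'
      refine H.isoPt_ind (F := F) (P := fun y => t a • y = y → y ∉ ({pt B, pf} : Set H.IsoPt) → a ∈ ({1, m1} : Set _))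
        ?_ y
      intro x hx0 hxx h' hx
      rw [HermSpace.smul_isoMk, HermSpace.isoMk_eq_iff] at h'
      obtain ⟨c, hc⟩ := h'
      set l := ((a : fixedField H.σ) : F)
      have hl0 : l ≠ 0 := fun h => a.ne_zero (Subtype.ext h)
      have himg : (t a).1.1 x = (l * H.h x B.f) • B.e + H.h x B.w • B.w + (l⁻¹ * H.h x B.e) • B.f := by
        conv_lhs => rw [decomp hd B x]
        rw [map_add, map_add, map_smul, map_smul, map_smul, hte, htw, htf]
        module
      rw [himg] at hc
      have e1 := congrArg (fun z => H.h z B.f) hc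
      have e2 := congrArg (fun z => H.h z B.w) hc
      have e3 := congrArg (fun z => H.h z B.e) hc
      simp [H.add_left, H.smul_left, B.ee, B.we, B.fe, B.ew, B.ww, B.fw, B.ef, B.wf, B.ff] at e1 e2 e3
      have hα : H.h x B.f ≠ 0 := fun h => by
        have := iso_orth hd (sw B) hxx h
        refine hx (Or.inr ?_)
        refine (HermSpace.isoMk_eq_iff H).2 ?_
        exact ⟨H.h x B.e, this.symm⟩
      have hγ : H.h x B.e ≠ 0 := fun h => by
        have := iso_orth hd B hxx h
        refine hx (Or.inl ?_)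
        rw [pt, HermSpace.isoMk_eq_iff]
        exact ⟨H.h x B.f, this.symm⟩
      have hcl : c = l := e1.resolve_right hα
      have hll : l * l = 1 := by
        have e := e3.resolve_right hγ
        rw [hcl] at e
        conv_lhs => arg 2; rw [e]
        exact mul_inv_cancel₀ hl0
      rcases mul_self_eq_one_iff.1 hll with h | h
      · exact Or.inl (Units.ext (Subtype.ext h))
      · exact Or.inr (Units.ext (Subtype.ext h))
    have hcard : Nat.card (MulAction.stabilizer (fixedField H.σ)ˣ y) ≤ 2 := by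
      refine (Nat.card_coe_set_eq _).trans_le ((Set.ncard_le_ncard hle (Set.toFinite _)).trans ?_)
      exact (Set.ncard_insert_le _ _).trans (by rw [Set.ncard_singleton])
    have hpos : 0 < Nat.card (MulAction.stabilizer (fixedField H.σ)ˣ y) := Nat.card_pos
    interval_cases Nat.card (MulAction.stabilizer (fixedField H.σ)ˣ y) <;> norm_num
  rw [card_fixUnits] at hdiv
  obtain ⟨j, hj⟩ := hdiv
  refine ⟨j, ?_⟩
  have hO : Nat.card O = 2 + Nat.card s := by
    show Nat.card O = 2 + Nat.card ↥(O \ {pt B, pf})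
    rw [Nat.card_coe_set_eq, Nat.card_coe_set_eq, Set.ncard_sdiff (Set.insert_subset_iff.2
      ⟨MulAction.mem_orbit_self _, Set.singleton_subset_iff.2 hpf⟩) (Set.toFinite _), Set.ncard_pair hne]
    have : 2 ≤ O.ncard := by
      rw [← Set.ncard_pair hne]
      exact Set.ncard_le_ncard (Set.insert_subset_iff.2
        ⟨MulAction.mem_orbit_self _, Set.singleton_subset_iff.2 hpf⟩) (Set.toFinite _)
    exact (Nat.add_sub_cancel' this).symm
  rw [hO, mul_add, hj]
  ring

end Cfsg.Lib.Classical.SUThree.Orth
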