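import Cfsg.Agent.Classical.SUThree.OrthBasic
import Cfsg.Agent.Known.PSUThree.Plane

/-!
An overgroup of the group of a real frame either contains a root element, and then everything, or its
point stabiliser at an end of the frame is the one of the group of the frame.
-/

set_option autoImplicit false
set_option linter.unusedSectionVars false
set_option linter.style.haveILetI false

namespace Cfsg.Lib.Classical.SUThree.Orth

open Cfsg.Lib.Classical Cfsg.Lib.Components.UnitaryThree Cfsg.Lib.Known.PSUThree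

universe u v

variable {F : Type u} [Field F] {V : Type v} [AddCommGroup V] [Module F V] {H : HermSpace F V}

/-- The hypotheses on the overgroup. -/
structure Over (B : Frame H) (K : Subgroup H.SIsom) : Prop extends Setup H where
  two : (2 : F) ≠ 0
  le : ∀ g, InRat B g → g ∈ K

variable [Finite F] [FiniteDimensional F V] {B : Frame H} {K : Subgroup H.SIsom} (ho : Over B K)
include ho

theorem Over.torus {l : F} (hl : H.σ l = l) (hl0 : l ≠ 0) :
    ∃ g ∈ K, InRat B g ∧ g.1.1 B.e = l • B.e ∧ g.1.1 B.w = B.w ∧ g.1.1 B.f = l⁻¹ • B.f := by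
  obtain ⟨g, h1, h2, h3⟩ := exists_torus ho.dim B hl hl0
  have h := inRat_of ho.dim B (h1 ▸ (rl_e B).smul hl) (by rw [h2]; exact rl_w B)
    (h3 ▸ (rl_f B).smul (by rw [map_inv₀, hl]))
  exact ⟨g, ho.le g h, h, h1, h2, h3⟩

theorem Over.unip {s : F} (hs : H.σ s = s) :
    ∃ g ∈ Ng K B, InRat B g ∧ eb B g = s ∧
      g.1.1 B.f = (-(s * s) / 2) • B.e + (-s) • B.w + B.f := by
  obtain ⟨g, h1, h2, h3⟩ := exists_unip ho.dim B ho.two hs
  have h := inRat_of ho.dim B (h1 ▸ rl_e B) (h2 ▸ ((rl_e B).smul hs).add (rl_w B))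
    (h3 ▸ (((rl_e B).smul (by rw [map_div₀, map_neg, map_mul, hs, map_ofNat])).add
      ((rl_w B).smul (by rw [map_neg, hs]))).add (rl_f B))
  exact ⟨g, ⟨ho.le g h, h1⟩, h, by rw [eb, h2, H.add_left, H.smul_left, B.ef, B.wf, mul_one, add_zero], h3⟩

theorem Over.swap : ∃ g ∈ K, InRat B g ∧ g.1.1 B.e = B.f ∧ g.1.1 B.w = -B.w ∧ g.1.1 B.f = B.e := by
  obtain ⟨g, h1, h2, h3⟩ := exists_swap ho.dim B
  have h := inRat_of ho.dim B (h1 ▸ rl_f B)
    (by rw [h2, ← neg_one_smul F B.w]; exact (rl_w B).smul (by rw [map_neg, map_one])) (h3 ▸ rl_e B)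
  exact ⟨g, ho.le g h, h, h1, h2, h3⟩

theorem Over.scalar {d : F} (hd3 : d ^ 3 = 1) (hdd : d * H.σ d = 1) :
    ∃ g ∈ K, InRat B g ∧ ∀ x, g.1.1 x = d • x := by
  obtain ⟨g, hg⟩ := exists_scalar ho.dim B hd3 hdd
  have h : InRat B g := ⟨d, left_ne_zero_of_mul_eq_one hdd, fun x hx => ⟨x, hx, hg x⟩⟩
  exact ⟨g, ho.le g h, h, hg⟩

theorem Over.ng_ne : Ng K B ≠ ⊥ := by
  obtain ⟨g, hg, -, hb, -⟩ := ho.unip (s := 1) (map_one _)
  intro h
  rw [h, Subgroup.mem_bot] at hg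
  rw [hg, (eb_one B).1] at hb
  exact zero_ne_one hb

theorem Over.irr : Irr K := by
  intro W hW
  refine or_iff_not_imp_left.2 fun h0 => ?_
  obtain ⟨x, hxW, hx0⟩ := W.ne_bot_iff.1 h0
  obtain ⟨u, hu, -, hub, huf⟩ := ho.unip (s := 1) (map_one _)
  obtain ⟨huw, -, -⟩ := unipotent ho.dim B hu.2
  rw [hub, one_smul] at huw
  have hue : u.1.1 B.e = B.e := hu.2
  obtain ⟨t, htK, -, hte, -, -⟩ := ho.swap
  have hsub : ∀ y ∈ W, u.1.1 y - y ∈ W := fun y hy => W.sub_mem (hW u hu.1 y hy) hy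
  have hdiff : ∀ y, u.1.1 y - y = (H.h y B.w - H.h y B.e / 2) • B.e - H.h y B.e • B.w := by
    intro y
    have h2 := ho.two
    conv_lhs => rw [decomp ho.dim B y]
    rw [map_add, map_add, map_smul, map_smul, map_smul, hue, huw, huf]
    match_scalars <;> field_simp <;> ring
  have heW : B.e ∈ W := by
    have h1 := hsub x hxW
    rw [hdiff] at h1
    by_cases hγ : H.h x B.e = 0
    · by_cases hβ : H.h x B.w = 0
      · have hx : x = H.h x B.f • B.e := by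
          conv_lhs => rw [decomp ho.dim B x, hγ, hβ, zero_smul, zero_smul, add_zero, add_zero]
        have hα : H.h x B.f ≠ 0 := fun h => hx0 (by rw [hx, h, zero_smul])
        rw [hx] at hxW
        exact (W.smul_mem_iff hα).1 hxW
      · rw [hγ, zero_div, sub_zero, zero_smul, sub_zero] at h1
        exact (W.smul_mem_iff hβ).1 h1
    · have h2 := hsub _ h1
      rw [map_sub, map_smul, map_smul, hue, huw] at h2
      have h3 : (-H.h x B.e) • B.e ∈ W := by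
        convert h2 using 1
        module
      exact (W.smul_mem_iff (neg_ne_zero.2 hγ)).1 h3
  have hfW : B.f ∈ W := hte ▸ hW t htK _ heW
  have hwW : B.w ∈ W := by
    have h1 := hsub _ hfW
    rw [hdiff, B.fe, B.fw, one_smul] at h1
    have h2 := W.sub_mem (W.smul_mem (0 - (1 : F) / 2) heW) h1
    rwa [sub_sub_cancel] at h2
  rw [eq_top_iff]
  intro y _
  rw [decomp ho.dim B y]
  exact W.add_mem (W.add_mem (W.smul_mem _ heW) (W.smul_mem _ hwW)) (W.smul_mem _ hfW)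

/-- A root element forces everything. -/
theorem Over.top_of_root {C : Frame H} {a : H.SIsom} (ha : a ∈ Ag K C) (ha1 : a ≠ 1) : K = ⊤ := by
  have hd := ho.dim
  have h2 := ho.two
  obtain ⟨p, hp⟩ := CharP.exists F
  haveI : Fact p.Prime := ⟨CharP.char_is_prime F p⟩
  have hNC : Ng K C ≠ ⊥ := fun h => ha1 ((Subgroup.eq_bot_iff_forall _).1 h a ⟨ha.1, (root_le_fixE C).1 ha.2⟩)
  have hin : pt C ∈ MulAction.orbit K (pt B) := by
    by_contra hout
    have h0 := ((orbit_mod K hd C p hNC (pt B)).2 hout).symm.trans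
      ((orbit_mod K hd B p ho.ng_ne (pt B)).1 (MulAction.mem_orbit_self _))
    rw [Nat.modEq_iff_dvd' (Nat.zero_le 1)] at h0
    exact (Fact.out : p.Prime).one_lt.ne' (Nat.dvd_one.1 h0)
  obtain ⟨g, hg⟩ := hin
  have hgC : (g⁻¹ : K).1 • pt C = pt B := inv_smul_eq_iff.2 (show pt C = g.1 • pt B from hg.symm)
  set k : H.SIsom := (g⁻¹ : K).1
  have hkK : k ∈ K := (g⁻¹ : K).2
  have hb : k * a * k⁻¹ ∈ H.rootGroup B.ee := by
    rw [← root_congr (B := mapFrame k C) (B' := B) ((pt_mapFrame k C).trans hgC)]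
    obtain ⟨hc, hx⟩ := root_eq_sT C ha.2
    rw [hx, H.sT_conj]
    exact ⟨_, hc, rfl⟩
  set b : H.SIsom := k * a * k⁻¹ with hbdef
  have hbK : b ∈ K := K.mul_mem (K.mul_mem hkK ha.1) (K.inv_mem hkK)
  have hb1 : b ≠ 1 := fun h => ha1 (conj_eq_one_iff.1 h)
  obtain ⟨hb0fix, hb0eb⟩ := root_le_fixE B
  have hc0 : ec B b ≠ 0 := fun h => hb1 (ext_fixE hd B (hb0fix hb) (one_mem _)
    ((hb0eb _ hb).trans (eb_one B).1.symm) (h.trans (eb_one B).2.symm))
  have hskew : ec B b + H.σ (ec B b) = 0 := (root_eq_sT B hb).choose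
  -- the multiples by squares
  have hsq : ∀ l, H.σ l = l → ∃ x ∈ K, x ∈ H.rootGroup B.ee ∧ ec B x = l * l * ec B b := by
    intro l hl
    by_cases hl0 : l = 0
    · exact ⟨1, one_mem _, one_mem _, by rw [(eb_one B).2, hl0, zero_mul, zero_mul]⟩
    obtain ⟨t, htK, -, hte, -, -⟩ := ho.torus hl hl0
    have htS : t ∈ stE B := mem_stE.2 ⟨l, hte⟩
    obtain ⟨h1, h2⟩ := conj_ec hd B htS hb
    refine ⟨_, K.mul_mem (K.mul_mem htK hbK) (K.inv_mem htK), h1, ?_⟩
    rw [h2, ea, hte, H.smul_left, B.ef, mul_one, hl]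
  refine top_of_centre hd ho.three ho.irr B.e_ne ⟨B.ee, fun c hc => ?_⟩
  set s := c / ec B b with hs
  have hsσ : H.σ s = s := by
    rw [hs, map_div₀, eq_neg_of_add_eq_zero_right hc, eq_neg_of_add_eq_zero_right hskew, neg_div_neg_eq]
  obtain ⟨x₁, hx₁K, hx₁r, hx₁⟩ := hsq ((s + 1) / 2) (by rw [map_div₀, map_add, hsσ, map_one, map_ofNat])
  obtain ⟨x₂, hx₂K, hx₂r, hx₂⟩ := hsq ((s - 1) / 2) (by rw [map_div₀, map_sub, hsσ, map_one, map_ofNat])
  set y := H.sT B.ee hc with hy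
  have hyr : y ∈ H.rootGroup B.ee := ⟨c, hc, rfl⟩
  have hyc : ec B y = c := by
    rw [ec, hy, H.sT_apply, H.add_left, H.smul_left, B.ff, B.fe, B.ef]; ring
  have heq : y * x₂ = x₁ := by
    refine ext_fixE hd B (mul_mem (hb0fix hyr) (hb0fix hx₂r)) (hb0fix hx₁r) ?_ ?_
    · rw [(eb_mul hd B (hb0fix hyr) (hb0fix hx₂r)).1, hb0eb _ hyr, hb0eb _ hx₂r, hb0eb _ hx₁r, add_zero]
    · rw [(eb_mul hd B (hb0fix hyr) (hb0fix hx₂r)).2, hb0eb _ hyr, hx₁, hx₂, hyc, mul_zero, sub_zero]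
      have : c = s * ec B b := by rw [hs, div_mul_cancel₀ _ hc0]
      rw [this]
      field_simp
      ring
  show y ∈ K
  rw [eq_mul_inv_iff_mul_eq.2 heq]
  exact K.mul_mem hx₁K (K.inv_mem hx₂K)

variable (hA : ∀ C : Frame H, ∀ a ∈ Ag K C, a = 1)
include hA

omit ho in
theorem ng_ext (hd : Module.finrank F V = 3) {g k : H.SIsom} (hg : g ∈ Ng K B) (hk : k ∈ Ng K B)
    (h : eb B g = eb B k) : g = k := by
  have hmem : g * k⁻¹ ∈ Ng K B := mul_mem hg (inv_mem hk)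
  refine mul_inv_eq_one.1 (hA B _ ⟨hmem.1, mem_root_of_eb hd B hmem.2 ?_⟩)
  have h1 := (eb_mul hd B hmem.2 hk.2).1
  rw [inv_mul_cancel_right, h] at h1
  linear_combination -h1

theorem Over.ng_fixed {g : H.SIsom} (hg : g ∈ Ng K B) : H.σ (eb B g) = eb B g ∧ InRat B g := by
  have hd := ho.dim
  obtain ⟨u, hu, -, hub, -⟩ := ho.unip (s := 1) (map_one _)
  have hc := congrArg (ec B) (ng_ext (K := K) hA hd (mul_mem hg hu) (mul_mem hu hg) (by
    rw [(eb_mul hd B hg.2 hu.2).1, (eb_mul hd B hu.2 hg.2).1, add_comm]))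
  rw [(eb_mul hd B hg.2 hu.2).2, (eb_mul hd B hu.2 hg.2).2, hub, map_one] at hc
  have hfix : H.σ (eb B g) = eb B g := by linear_combination hc
  obtain ⟨k, hk, hkR, hkb, -⟩ := ho.unip hfix
  exact ⟨hfix, ng_ext (K := K) hA hd hg hk hkb.symm ▸ hkR⟩

theorem Over.card_Ng : Nat.card (Ng K B) = H.q := by
  rw [← card_fixed (H := H)]
  refine Nat.card_eq_of_bijective (fun g : Ng K B => (⟨eb B g.1, (ho.ng_fixed hA g.2).1⟩ : {a : F // H.σ a = a}))
    ⟨fun g k h => Subtype.ext (ng_ext (K := K) hA ho.dim g.2 k.2 (congrArg Subtype.val h)), fun s => ?_⟩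
  obtain ⟨g, hg, -, hb, -⟩ := ho.unip s.2
  exact ⟨⟨g, hg⟩, Subtype.ext hb⟩

/-- An element fixing the end is a scalar, a torus element and a translation. -/
theorem Over.stab_decomp {g : H.SIsom} (hg : g ∈ Lg K B) :
    ∃ (d l : F) (z t n : H.SIsom), d ^ 3 = 1 ∧ d * H.σ d = 1 ∧ H.σ l = l ∧ l ≠ 0 ∧ ea B g = d * l ∧
      InRat B z ∧ InRat B t ∧ InRat B n ∧ g = z * (t * n) := by
  have hd := ho.dim
  obtain ⟨he, ha0, -⟩ := coords hd B hg.2
  obtain ⟨-, hdd, -⟩ := relations hd B hg.2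
  have hed := ed_mul_ea hd B hg.2
  obtain ⟨u, hu, -, hub, -⟩ := ho.unip (s := 1) (map_one _)
  have hb := conj_eb hd B hg.2 hu.2
  have hmem : g * u * g⁻¹ ∈ Ng K B :=
    ⟨K.mul_mem (K.mul_mem hg.1 hu.1) (K.inv_mem hg.1), conj_mem_fixE hd B hg.2 hu.2⟩
  have hbf := (ho.ng_fixed hA hmem).1
  rw [hub, mul_one] at hb
  set d := ed B g
  set l := eb B (g * u * g⁻¹)
  have hl0 : l ≠ 0 := fun h => ha0 (by rw [← hb, h, mul_zero])
  rw [← hb, map_mul, hbf] at hed
  have hd2 : d * d = H.σ d := mul_right_cancel₀ hl0 (by linear_combination hed)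
  have hd3 : d ^ 3 = 1 := by linear_combination d * hd2 + hdd
  obtain ⟨z, hzK, hzR, hz⟩ := ho.scalar hd3 hdd
  obtain ⟨t, htK, htR, hte, -, -⟩ := ho.torus hbf hl0
  have hn : (z * t)⁻¹ * g ∈ Ng K B := by
    refine ⟨K.mul_mem (K.inv_mem (K.mul_mem hzK htK)) hg.1, ?_⟩
    show ((z * t)⁻¹ * g).1.1 B.e = B.e
    rw [H.smul_mul_apply, he, ← hb]
    have e : (z * t).1.1 B.e = (d * l) • B.e := by
      rw [H.smul_mul_apply, hte, hz, smul_smul]
    rw [← e]
    exact H.inv_apply_self (z * t).1 _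
  refine ⟨d, l, z, t, _, hd3, hdd, hbf, hl0, hb.symm, hzR, htR, (ho.ng_fixed hA hn).2, ?_⟩
  group

end Cfsg.Lib.Classical.SUThree.Orth
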