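import Cfsg.Agent.Classical.SUThree.OrthOrbit
import Cfsg.Agent.Known.PSUThree.Sylow

/-!
The group of a real frame is maximal among the subgroups of the special unitary group.
-/

set_option autoImplicit false
set_option linter.unusedSectionVars false
set_option linter.style.haveILetI false

namespace Cfsg.Lib.Classical.SUThree.Orth

open Cfsg.Lib.Classical Cfsg.Lib.Components.UnitaryThree Cfsg.Lib.Known.PSUThree

universe u v

theorem orbit_arith {q O L j j' : ℕ} (h7 : 7 ≤ q) (hj : O = 1 + j * q) (hdiv : q + 1 ∣ O)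
    (hle : O ≤ q ^ 3 + 1) (hL : q * (q - 1) ∣ L) (hG : O * L ∣ q ^ 3 * ((q ^ 3 + 1) * (q ^ 2 - 1)))
    (ht : 2 * O = 4 + j' * (q - 1)) : O = q + 1 ∨ O = q ^ 3 + 1 := by
  obtain ⟨p, rfl⟩ : ∃ p, q = p + 1 := ⟨q - 1, by omega⟩
  rw [Nat.add_sub_cancel] at hL ht
  obtain ⟨k, hk⟩ := hdiv
  have hkm : k % (p + 1) = 1 := by
    have h := congrArg (· % (p + 1)) (hk.symm.trans hj)
    rw [show (p + 1 + 1) * k = k + k * (p + 1) by ring] at h
    simpa only [Nat.add_mul_mod_self_right, Nat.mod_eq_of_lt (show 1 < p + 1 by omega)] using h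
  obtain ⟨i, hi⟩ : ∃ i, k = 1 + i * (p + 1) := ⟨k / (p + 1), by
    have := Nat.div_add_mod k (p + 1); rw [mul_comm]; omega⟩
  have hsq : (p + 1) ^ 2 - 1 = (p + 2) * p := by rw [show (p + 1) ^ 2 = (p + 2) * p + 1 by ring]; omega
  have hkd : k ∣ (p + 1) ^ 2 * ((p + 1) ^ 3 + 1) := by
    have h1 : O * ((p + 1) * p) ∣ (p + 1) ^ 3 * (((p + 1) ^ 3 + 1) * ((p + 1) ^ 2 - 1)) :=
      (Nat.mul_dvd_mul_left O hL).trans hG
    rw [hk, hsq, show (p + 1 + 1) * k * ((p + 1) * p) = (p + 2) * (p + 1) * p * k by ring,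
      show (p + 1) ^ 3 * (((p + 1) ^ 3 + 1) * ((p + 2) * p)) =
        (p + 2) * (p + 1) * p * ((p + 1) ^ 2 * ((p + 1) ^ 3 + 1)) by ring] at h1
    exact Nat.dvd_of_mul_dvd_mul_left (Nat.mul_pos (by positivity) (by omega)) h1
  have hco : Nat.Coprime k ((p + 1) ^ 2) := by
    refine Nat.Coprime.pow_right 2 ?_
    rw [hi, Nat.coprime_add_mul_right_left]
    exact Nat.coprime_one_left _
  obtain ⟨m, hm⟩ := hco.dvd_of_dvd_mul_left hkd
  have hmm : m % (p + 1) = 1 := by
    have h := congrArg (· % (p + 1)) hm.symm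
    simpa [hi, add_mul, mul_right_comm i (p + 1) m, Nat.add_mul_mod_self_right, Nat.pow_mod, Nat.add_mod,
      Nat.mul_mod, Nat.mod_eq_of_lt (show 1 < p + 1 by omega)] using h
  obtain ⟨l, hl⟩ : ∃ l, m = 1 + l * (p + 1) := ⟨m / (p + 1), by
    have := Nat.div_add_mod m (p + 1); rw [mul_comm]; omega⟩
  have hil : i + l + i * l * (p + 1) = (p + 1) ^ 2 := by
    refine Nat.eq_of_mul_eq_mul_right (Nat.succ_pos p) ?_
    rw [hi, hl] at hm
    nlinarith
  have hi1 : i ≤ p := by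
    by_contra! h
    have : (p + 2) * (1 + (p + 1) * (p + 1)) ≤ (p + 1) ^ 3 + 1 := by
      refine le_trans ?_ hle
      rw [hk, hi, show p + 2 = p + 1 + 1 by rfl]
      exact Nat.mul_le_mul_left _ (Nat.add_le_add_left (Nat.mul_le_mul_right _ (by omega)) _)
    nlinarith
  rcases Nat.eq_zero_or_pos i with rfl | hi0
  · left
    rw [hk, hi]
    ring
  have hr : (i + l) % (p + 1) = 0 := by
    have h := congrArg (· % (p + 1)) hil
    simpa [Nat.add_mul_mod_self_right, Nat.pow_mod] using h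
  obtain ⟨r, hr⟩ := Nat.dvd_of_mod_eq_zero hr
  have hril : r + i * l = p + 1 := by
    refine Nat.eq_of_mul_eq_mul_left (Nat.succ_pos p) ?_
    nlinarith
  have hl0 : 0 < l := by
    rcases Nat.eq_zero_or_pos l with rfl | h
    · nlinarith
    · exact h
  have hle' : i + l ≤ 1 + i * l := by nlinarith
  obtain rfl : r = 1 := by
    rcases r with _ | _ | r
    · omega
    · rfl
    · nlinarith
  rw [mul_one] at hr
  have h01 : i = 1 ∨ l = 1 := by
    by_contra! h
    have h1 : 2 ≤ i := by omega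
    have h2 : 2 ≤ l := by omega
    nlinarith
  rcases h01 with rfl | rfl
  · -- excluded by the torus
    exfalso
    rw [hk, hi] at ht
    have h : p ∣ 4 := by
      have h1 : p ∣ 2 * ((p + 1 + 1) * (1 + 1 * (p + 1))) - 4 := ⟨j', by rw [ht]; ring_nf; omega⟩
      have h2 : 2 * ((p + 1 + 1) * (1 + 1 * (p + 1))) - 4 = p * (2 * p + 8) + 4 := by
        rw [show 2 * ((p + 1 + 1) * (1 + 1 * (p + 1))) = p * (2 * p + 8) + 4 + 4 by ring]; omega
      rw [h2] at h1
      exact (Nat.dvd_add_right (dvd_mul_right _ _)).1 h1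
    have := Nat.le_of_dvd (by norm_num) h
    omega
  · right
    obtain rfl : i = p := by omega
    rw [hk, hi]
    ring

theorem chord_arith {q n a b : ℕ} (h7 : 7 ≤ q) (hodd : Odd q) (hn : 2 * n = (q + 1) * (q - 1))
    (ha : a ∣ n) (ha0 : 0 < a) (han : a < n) (hb : b ∣ n) (hb0 : 0 < b) (hbn : b < n)
    (e : n = a + b + (q - 1)) : q = 7 ∨ q = 11 := by
  obtain ⟨p, rfl⟩ : ∃ p, q = p + 1 := ⟨q - 1, by omega⟩
  rw [Nat.add_sub_cancel] at hn e
  obtain ⟨A, hA⟩ := ha
  obtain ⟨B, hB⟩ := hb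
  have hA2 : 2 ≤ A := by
    by_contra! h
    interval_cases A <;> omega
  have hB2 : 2 ≤ B := by
    by_contra! h
    interval_cases B <;> omega
  have key : p * (A * B) = (p + 2) * (A + B) := by
    have h1 : n * (A * B) = n * B + n * A + p * (A * B) := by
      conv_lhs => rw [e]
      rw [add_mul, add_mul]
      congr 2
      · rw [hA]; ring
      · rw [hB]; ring
    have h2 : p * (p * (A * B)) = p * ((p + 2) * (A + B)) := by
      have h3 : (p + 1 + 1) * p * (A * B) = (p + 1 + 1) * p * (A + B) + 2 * p * (A * B) := by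
        rw [← hn]; linear_combination 2 * h1
      linear_combination h3
    exact Nat.eq_of_mul_eq_mul_left (by omega) h2
  have hcase : A = 2 ∨ B = 2 := by
    by_contra! h
    have h3A : 3 ≤ A := by omega
    have h3B : 3 ≤ B := by omega
    have h4 : 3 * (A + B) ≤ 2 * (A * B) := by
      have := Nat.mul_le_mul_right B h3A
      have := Nat.mul_le_mul_left A h3B
      omega
    have h5 : p * (3 * (A + B)) ≤ p * (2 * (A * B)) := Nat.mul_le_mul_left p h4
    have h6 : (3 * p) * (A + B) ≤ (2 * (p + 2)) * (A + B) := by linarith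
    have := Nat.le_of_mul_le_mul_right h6 (by omega)
    omega
  obtain ⟨C, hC2, hC⟩ : ∃ C, 2 ≤ C ∧ p * (2 * C) = (p + 2) * (2 + C) := by
    rcases hcase with rfl | rfl
    · exact ⟨B, hB2, key⟩
    · exact ⟨A, hA2, by linarith⟩
  obtain ⟨r, rfl⟩ : ∃ r, p = r + 2 := ⟨p - 2, by omega⟩
  obtain ⟨D, rfl⟩ : ∃ D, C = D + 2 := ⟨C - 2, by omega⟩
  have h8 : r * D = 8 := by linarith
  have hr : r ∣ 8 := ⟨D, h8.symm⟩
  have : r ≤ 8 := Nat.le_of_dvd (by norm_num) hr
  obtain ⟨c, hc⟩ := hodd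
  interval_cases r <;> omega

variable {F : Type u} [Field F] {V : Type v} [AddCommGroup V] [Module F V] {H : HermSpace F V}
  [Finite F] [FiniteDimensional F V] {B : Frame H} {K : Subgroup H.SIsom} (ho : Over B K)
  (hA : ∀ C : Frame H, ∀ a ∈ Ag K C, a = 1)
  (htr : Nat.card (MulAction.orbit K (pt B)) = H.q ^ 3 + 1)
include ho hA htr

theorem Over.exists_chord_map {x : V} (hx0 : x ≠ 0) (hx : H.h x B.w = 0) (hxx : H.h x x = 0) :
    ∃ m ∈ Mg K B, ∃ t : F, t ≠ 0 ∧ m.1.1 B.e = t • x := by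
  classical
  have hd := ho.dim
  have h2 := ho.two
  have horb : MulAction.orbit K (pt B) = Set.univ :=
    Set.eq_of_subset_of_ncard_le (Set.subset_univ _)
      (by rw [Set.ncard_univ, ho.pts, ← Nat.card_coe_set_eq, htr]) (Set.toFinite _)
  obtain ⟨g, hg⟩ := horb.ge (Set.mem_univ (H.isoMk x hx0 hxx))
  obtain ⟨c, hc⟩ := (HermSpace.isoMk_eq_iff H).1 ((HermSpace.smul_isoMk H g.1 B.e B.e_ne B.ee).symm.trans hg)
  have hc0 : c ≠ 0 := fun h => H.isom_ne_zero g.1.1 B.e_ne (by rw [← hc, h, zero_smul])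
  obtain ⟨t, htK, -, hte, htw, htf⟩ := ho.torus (l := -1) (by rw [map_neg, map_one]) (neg_ne_zero.2 one_ne_zero)
  rw [inv_neg, inv_one, neg_smul, one_smul] at htf
  rw [neg_smul, one_smul] at hte
  have htt : t * t = 1 := ext_lin hd B
    (by rw [H.smul_mul_apply, hte, map_neg, hte, neg_neg]; rfl)
    (by rw [H.smul_mul_apply, htw, htw]; rfl)
    (by rw [H.smul_mul_apply, htf, map_neg, htf, neg_neg]; rfl)
  have htx : t.1.1 x = -x := by
    conv_lhs => rw [planar hd B hx]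
    conv_rhs => rw [planar hd B hx]
    rw [map_add, map_smul, map_smul, hte, htf]
    module
  set k : H.SIsom := g.1⁻¹ * t * g.1 with hk
  have hkK : k ∈ K := K.mul_mem (K.mul_mem (K.inv_mem g.2) htK) g.2
  have hke : k.1.1 B.e = -B.e := by
    rw [hk, H.smul_mul_apply, H.smul_mul_apply, ← hc, map_smul, htx, smul_neg, hc, map_neg]
    exact congrArg Neg.neg (H.inv_apply_self g.1.1 B.e)
  have hn : k * t ∈ Ng K B := ⟨K.mul_mem hkK htK, by
    show (k * t).1.1 B.e = B.e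
    rw [H.smul_mul_apply, hte, map_neg, hke, neg_neg]⟩
  obtain ⟨u, hu, -, hub, -⟩ := ho.unip (s := eb B (k * t) / 2)
    (by rw [map_div₀, (ho.ng_fixed hA hn).1, map_ofNat])
  have htS : t ∈ stE B := mem_stE.2 ⟨-1, by rw [hte, neg_smul, one_smul]⟩
  have htu : t * u⁻¹ * t⁻¹ ∈ Ng K B :=
    ⟨K.mul_mem (K.mul_mem htK (K.inv_mem hu.1)) (K.inv_mem htK), conj_mem_fixE hd B htS (inv_mem hu.2)⟩
  have hti : t⁻¹ = t := inv_eq_of_mul_eq_one_right htt
  have e : u * (t * u⁻¹ * t⁻¹) = k * t := by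
    refine ng_ext (K := K) hA hd (mul_mem hu htu) hn ?_
    rw [(eb_mul hd B hu.2 htu.2).1, hub]
    have h1 := conj_eb hd B htS (inv_mem hu.2)
    have hed : ed B t = 1 := by rw [ed, htw, B.ww]
    have hea : ea B t = -1 := by rw [ea, hte, H.neg_left, B.ef]
    have hui : eb B u⁻¹ = -eb B u := by
      have h3 := (eb_mul hd B hu.2 (inv_mem hu.2)).1
      rw [mul_inv_cancel, (eb_one B).1] at h3
      linear_combination -h3
    rw [hed, one_mul, hea, hui, hub] at h1
    rw [h1]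
    field_simp
    ring
  have hconj : u * t * u⁻¹ = k := by
    have h1 := congrArg (· * t) e
    rw [mul_assoc k, htt, mul_one, hti, show u * (t * u⁻¹ * t) * t = u * t * u⁻¹ * (t * t) by group,
      htt, mul_one] at h1
    exact h1
  have hcomm : g.1 * u * t = t * (g.1 * u) := by
    calc g.1 * u * t = g.1 * (u * t * u⁻¹) * u := by group
      _ = t * (g.1 * u) := by rw [hconj, hk]; group
  refine ⟨g.1 * u, mem_Mg.2 ⟨K.mul_mem g.2 hu.1, H.h ((g.1 * u).1.1 B.w) B.w, ?_⟩, c, hc0, ?_⟩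
  · set z := (g.1 * u).1.1 B.w
    have hz : t.1.1 z = z := by
      show t.1.1 ((g.1 * u).1.1 B.w) = (g.1 * u).1.1 B.w
      rw [← H.smul_mul_apply, ← hcomm, H.smul_mul_apply, htw]
    have hzd := decomp hd B z
    have himg : t.1.1 z = -(H.h z B.f) • B.e + H.h z B.w • B.w + -(H.h z B.e) • B.f := by
      conv_lhs => rw [hzd]
      rw [map_add, map_add, map_smul, map_smul, map_smul, hte, htw, htf]
      module
    rw [hz] at himg
    have e1 := congrArg (fun y => H.h y B.f) himg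
    have e3 := congrArg (fun y => H.h y B.e) himg
    simp [H.add_left, H.smul_left, H.neg_left, B.ee, B.we, B.fe, B.ew, B.ww, B.fw, B.ef, B.wf, B.ff]
      at e1 e3
    have ha : H.h z B.f = 0 :=
      (mul_eq_zero.1 (show (2 : F) * H.h z B.f = 0 by linear_combination e1)).resolve_left h2
    have hb : H.h z B.e = 0 :=
      (mul_eq_zero.1 (show (2 : F) * H.h z B.e = 0 by linear_combination e3)).resolve_left h2
    conv_lhs => rw [hzd, ha, hb, zero_smul, zero_smul, zero_add, add_zero]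
  · rw [H.smul_mul_apply, show u.1.1 B.e = B.e from hu.2, hc]

theorem Over.normHom_range :
    (normHom ho.dim K B).range = (powMonoidHom 2).range.map (fixUnits H) := by
  have hd := ho.dim
  apply le_antisymm
  · rintro _ ⟨g, rfl⟩
    obtain ⟨d, l, z, t, n, -, hdd, hl, hl0, hea, -, -, -, -⟩ :=
      ho.stab_decomp hA (g := g.1.1) ⟨g.1.2.1, St_mem g⟩
    refine Subgroup.mem_map.2 ⟨_, ⟨Units.mk0 (⟨l, hl⟩ : fixedField H.σ) (fun h => hl0 (congrArg Subtype.val h)),
      rfl⟩, Units.ext ?_⟩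
    rw [normHom_apply K B hd, hea, map_mul, hl]
    show l ^ 2 = d * l * (H.σ d * l)
    linear_combination (-(l * l)) * hdd
  · rintro _ ⟨_, ⟨a, rfl⟩, rfl⟩
    obtain ⟨t, htK, -, hte, htw, -⟩ := ho.torus (l := ((a : fixedField H.σ) : F)) a.1.2
      (fun h => a.ne_zero (Subtype.ext h))
    refine ⟨⟨⟨t, mem_Mg.2 ⟨htK, 1, by rw [htw, one_smul]⟩⟩, mem_stE.2 ⟨_, hte⟩⟩, Units.ext ?_⟩
    rw [normHom_apply K B hd]
    show ea B t * H.σ (ea B t) = ((a : fixedField H.σ) : F) ^ 2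
    rw [ea, hte, H.smul_left, B.ef, mul_one, show H.σ ((a : fixedField H.σ) : F) = ((a : fixedField H.σ) : F) from a.1.2, pow_two]

theorem Over.q_cases (hodd : Odd H.q) (h7 : 7 ≤ H.q) : H.q = 7 ∨ H.q = 11 := by
  have hd := ho.dim
  have htrans : ∀ x y : V, x ≠ 0 → y ≠ 0 → H.h x B.w = 0 → H.h y B.w = 0 → H.h x x = 0 → H.h y y = 0 →
      ∃ m ∈ Mg K B, ∃ t : F, m.1.1 x = t • y := by
    intro x y hx0 hy0 hx hy hxx hyy
    obtain ⟨m, hm, t, ht0, hme⟩ := ho.exists_chord_map hA htr hx0 hx hxx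
    obtain ⟨m', hm', t', -, hme'⟩ := ho.exists_chord_map hA htr hy0 hy hyy
    refine ⟨m' * m⁻¹, mul_mem hm' (inv_mem hm), t⁻¹ * t', ?_⟩
    have e : (m⁻¹).1.1 x = t⁻¹ • B.e := by
      have h1 : (m⁻¹).1.1 (m.1.1 B.e) = B.e := H.inv_apply_self m.1 _
      rw [hme, map_smul] at h1
      conv_rhs => rw [← h1, smul_smul, inv_mul_cancel₀ ht0, one_smul]
    rw [H.smul_mul_apply, e, map_smul, hme', smul_smul]
  obtain ⟨n, hn, l, hl, hsum⟩ := chord hd K B ho.pow htrans (A := 1) fun C _ => by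
    rw [Subgroup.card_eq_one, Subgroup.eq_bot_iff_forall]
    exact hA C
  haveI : Finite (fixedField H.σ) := Finite.of_injective _ Subtype.val_injective
  have he : Nat.card (normHom hd K B).range = (H.q - 1) / 2 := by
    rw [ho.normHom_range hA htr, Subgroup.card_map_of_injective (fixUnits_injective H),
      IsCyclic.card_powMonoidHom_range, card_fixUnits]
    obtain ⟨c, hc⟩ := hodd
    rw [Nat.gcd_eq_right (show 2 ∣ H.q - 1 from ⟨c, by omega⟩)]
  obtain ⟨c, hc⟩ := hodd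
  rw [he, hc, show (2 * c + 1 - 1) / 2 = c by omega, mul_one] at hn
  rw [Nat.sub_self, mul_zero, add_zero] at hsum
  have hc3 : 3 ≤ c := by omega
  have hbig : 2 * (H.q - 1) < n := by
    have : 8 * c ≤ (2 * c + 1 + 1) * c := Nat.mul_le_mul_right c (by omega)
    omega
  obtain ⟨a, b, ⟨ha, ha0, han⟩, ⟨hb, hb0, hbn⟩, hab⟩ := sum_two hl (by omega) (by omega)
  refine chord_arith h7 ⟨c, hc⟩ (n := n) ?_ ha ha0 han hb hb0 hbn (by omega)
  rw [hc, hn, show 2 * c + 1 - 1 = 2 * c by omega]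
  ring

theorem Over.not_seven (h7 : H.q = 7) : False := by
  classical
  have hd := ho.dim
  haveI : Fact (Nat.Prime 43) := ⟨by norm_num⟩
  have hL : Nat.card (Lg K B) = 42 := by
    rw [card_L K hd B, ho.card_Ng hA, h7]
    have h6 : Nat.card (fixUnits H).range = 6 := by
      rw [← Nat.card_congr ((fixUnits H).ofInjective (fixUnits_injective H)).toEquiv, card_fixUnits, h7]
    have : rng K hd B = (fixUnits H).range := by
      refine le_antisymm ?_ ho.fixUnits_le
      rintro _ ⟨g, rfl⟩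
      obtain ⟨d, l, z, t, n, hd3, hdd, hl, -, hea, -, -, -, -⟩ := ho.stab_decomp hA g.2
      rw [ho.pow, h7, ← pow_succ'] at hdd
      have hd1 : d = 1 := by linear_combination (d ^ 6 + d ^ 3 + 1) * hd3 - d * hdd
      refine mem_fixUnits ?_
      rw [eaHom_apply, hea, hd1, one_mul, hl]
    rw [this, h6]
  have hK : Nat.card K = 344 * 42 := by rw [card_K_orbit K B, htr, hL, h7]; norm_num
  obtain ⟨P⟩ : Nonempty (Sylow 43 K) := inferInstance
  have hP : Nat.card P = 43 := by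
    obtain ⟨i, hi⟩ := IsPGroup.iff_card.1 P.2
    have h1 : 43 ∣ Nat.card P := P.dvd_card_of_dvd_card (hK ▸ by norm_num)
    have h2 : Nat.card P ∣ Nat.card K := Subgroup.card_subgroup_dvd_card _
    rw [hi] at h1
    change Nat.card (P : Subgroup K) = 43
    rcases i with _ | _ | i
    · norm_num at h1
    · rw [hi, pow_one]
    · rw [hi, hK] at h2
      have := (pow_dvd_pow 43 (show 2 ≤ i + 1 + 1 by omega)).trans h2
      norm_num at this
  have hidx : (P : Subgroup K).index = 336 := by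
    have h := (P : Subgroup K).card_mul_index
    rw [hK] at h
    have hP' : Nat.card (P : Subgroup K) = 43 := hP
    rw [hP'] at h
    omega
  have hone : Nat.card (Sylow 43 K) = 1 := by
    have h1 := (P.card_dvd_index).trans (dvd_of_eq hidx)
    have h2 : Nat.card (Sylow 43 K) % 43 = 1 := card_sylow_modEq_one 43 K
    have h3 : ∀ n ∈ Nat.divisors 336, n % 43 = 1 → n = 1 := by decide
    exact h3 _ (Nat.mem_divisors.2 ⟨h1, by norm_num⟩) h2
  haveI := (Nat.card_eq_one_iff_unique.1 hone).1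
  haveI hPn : (P : Subgroup K).Normal := Sylow.normal_of_subsingleton P
  obtain ⟨x, hx⟩ := exists_prime_orderOf_dvd_card' (G := P) 43 (by rw [hP])
  have hxo : orderOf (x.1 : K) = 43 := by rw [Subgroup.orderOf_coe, hx]
  have hgen : Subgroup.zpowers (x.1 : K) = (P : Subgroup K) :=
    Subgroup.eq_of_le_of_card_ge (Subgroup.zpowers_le.2 x.2) (by rw [Nat.card_zpowers, hxo]; exact hP.le)
  have hpow : ∀ k : K, ∃ i : ℤ, k * x.1 * k⁻¹ = x.1 ^ i := fun k => by
    obtain ⟨i, hi⟩ := hgen.ge (hPn.conj_mem _ x.2 k)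
    exact ⟨i, hi.symm⟩
  -- commutators centralise the Sylow subgroup
  obtain ⟨u, hu, -, hub, -⟩ := ho.unip (s := 1) (map_one _)
  obtain ⟨t, htK, -, hte, htw, -⟩ := ho.torus (l := -1) (by rw [map_neg, map_one]) (neg_ne_zero.2 one_ne_zero)
  set T : K := ⟨t, htK⟩
  set U : K := ⟨u, hu.1⟩
  obtain ⟨i, hi⟩ := hpow T
  obtain ⟨j, hj⟩ := hpow U
  have hz : ∀ (k : K) (i l : ℤ), k * x.1 * k⁻¹ = x.1 ^ i → k * x.1 ^ l * k⁻¹ = x.1 ^ (i * l) :=
    fun k i l h => by rw [← conj_zpow, h, zpow_mul]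
  have hTU : T * U * x.1 * (T * U)⁻¹ = U * T * x.1 * (U * T)⁻¹ := by
    rw [show T * U * x.1 * (T * U)⁻¹ = T * (U * x.1 * U⁻¹) * T⁻¹ by group,
      show U * T * x.1 * (U * T)⁻¹ = U * (T * x.1 * T⁻¹) * U⁻¹ by group, hj, hi, hz T i j hi, hz U j i hj,
      mul_comm]
  set C : K := (U * T)⁻¹ * (T * U) with hC
  have hCx : C * x.1 = x.1 * C := by
    rw [hC]
    calc (U * T)⁻¹ * (T * U) * x.1 = (U * T)⁻¹ * (T * U * x.1 * (T * U)⁻¹) * (T * U) := by group
      _ = _ := by rw [hTU]; group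
  have htS : t ∈ stE B := mem_stE.2 ⟨-1, hte⟩
  have htinvS : t⁻¹ ∈ stE B := inv_mem htS
  have hCfix : C.1 ∈ fixE B := by
    show ((u * t)⁻¹ * (t * u)) ∈ fixE B
    rw [show (u * t)⁻¹ * (t * u) = t⁻¹ * u⁻¹ * t⁻¹⁻¹ * u by group]
    exact mul_mem (conj_mem_fixE hd B htinvS (inv_mem hu.2)) hu.2
  have hC1 : C.1 ≠ 1 := by
    intro h
    have h' : t * u = u * t := (inv_mul_eq_one.1 (show (u * t)⁻¹ * (t * u) = 1 from h)).symm
    have h1 := conj_eb hd B htS hu.2
    rw [h', mul_inv_cancel_right, hub, mul_one, ea, hte, ed, htw, B.ww, H.smul_left, B.ef] at h1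
    exact ho.two (by linear_combination h1)
  -- so the Sylow subgroup fixes the end
  have hfix : C.1 • (x.1.1 • pt B) = x.1.1 • pt B := by
    rw [← mul_smul, show C.1 * x.1.1 = x.1.1 * C.1 from congrArg Subtype.val hCx, mul_smul,
      show C.1 • pt B = pt B from fixE_le_stE B hCfix]
  have hxS : x.1.1 ∈ Lg K B := ⟨x.1.2, fix_pt hd B hCfix hC1 hfix⟩
  have h := orderOf_dvd_natCard (⟨x.1.1, hxS⟩ : Lg K B)
  rw [Subgroup.orderOf_mk, Subgroup.orderOf_coe, hxo, hL] at h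
  norm_num at h

theorem Over.top_eleven (h11 : H.q = 11) : K = ⊤ := by
  classical
  have hd := ho.dim
  haveI := Fintype.ofFinite F
  haveI : Fact (Nat.Prime 3) := ⟨Nat.prime_three⟩
  obtain ⟨w, hw⟩ := exists_prime_orderOf_dvd_card' (G := Fˣ) 3
    (by rw [Nat.card_units, H.card_field, h11]; norm_num)
  have hw3 : ((w : F)) ^ 3 = 1 := by
    rw [← Units.val_pow_eq_pow_val, ← hw, pow_orderOf_eq_one, Units.val_one]
  obtain ⟨z, hzK, -, hz⟩ := ho.scalar (d := (w : F)) hw3 (by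
    rw [ho.pow, h11, ← pow_succ', show (11 + 1) = 3 * 4 by norm_num, pow_mul, hw3, one_pow])
  have hw' : w ∈ rng K hd B := ⟨⟨z, hzK, mem_stE.2 ⟨_, hz B.e⟩⟩, Units.ext (by
    rw [eaHom_apply, ea, hz, H.smul_left, B.ef, mul_one])⟩
  have h3 : 3 ∣ Nat.card (rng K hd B) := by
    rw [← hw, ← Subgroup.orderOf_mk w hw']
    exact orderOf_dvd_natCard _
  have h10 : 10 ∣ Nat.card (rng K hd B) := by
    rw [show 10 = H.q - 1 by omega, ← card_fixUnits H,
      Nat.card_congr ((fixUnits H).ofInjective (fixUnits_injective H)).toEquiv]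
    exact Subgroup.card_dvd_of_le ho.fixUnits_le
  have h30 : 30 ≤ Nat.card (rng K hd B) :=
    Nat.le_of_dvd Nat.card_pos (Nat.Coprime.mul_dvd_of_dvd_of_dvd (by norm_num) h3 h10 : 3 * 10 ∣ _)
  have hb : Big K := { toSetup := ho.toSetup, card := (by
    rw [card_K_orbit K B, htr, card_L K hd B, ho.card_Ng hA, h11]
    refine Nat.mul_le_mul_left _ ?_
    exact le_trans (by norm_num : 11 ^ 2 - 1 ≤ 11 * 30) (Nat.mul_le_mul_left _ h30)) }
  refine top_of_big hb (by rw [h11]; norm_num) fun g hg => ?_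
  obtain ⟨a, ha0, -, hg'⟩ := (H.mem_center_SIsom_iff (by rw [hd]; norm_num)).1 hg
  refine ho.le g ⟨a, ?_, fun x hx => ⟨x, hx, hg' x⟩⟩
  intro h
  exact H.isom_ne_zero g.1 B.e_ne (by rw [hg', h, zero_smul])

omit hA htr in
/-- The group of a real frame is maximal. -/
theorem Over.top_of_lt {M : Subgroup H.SIsom} (hM : ∀ g, g ∈ M ↔ InRat B g) (h7 : 7 ≤ H.q) (hodd : Odd H.q)
    (hcard : Nat.card H.SIsom = H.q ^ 3 * ((H.q ^ 3 + 1) * (H.q ^ 2 - 1))) (hlt : M < K) : K = ⊤ := by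
  classical
  by_cases hroot : ∃ C : Frame H, ∃ a ∈ Ag K C, a ≠ 1
  · obtain ⟨C, a, ha, ha1⟩ := hroot
    exact ho.top_of_root ha ha1
  push Not at hroot
  obtain ⟨j, hj⟩ := ho.orbit_mod_q hroot
  obtain ⟨j', hj'⟩ := ho.orbit_mod_torus
  have hle : Nat.card (MulAction.orbit K (pt B)) ≤ H.q ^ 3 + 1 := by
    rw [← ho.pts]
    exact Nat.card_le_card_of_injective _ Subtype.val_injective
  have hG : Nat.card (MulAction.orbit K (pt B)) * Nat.card (Lg K B) ∣
      H.q ^ 3 * ((H.q ^ 3 + 1) * (H.q ^ 2 - 1)) := by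
    rw [← card_K_orbit, ← hcard]
    exact Subgroup.card_subgroup_dvd_card _
  rcases orbit_arith h7 hj (ho.orbit_dvd hroot hM) hle (ho.card_L_dvd hroot) hG hj' with h | h
  · exfalso
    obtain ⟨g, hgK, hgM⟩ := SetLike.exists_of_lt hlt
    have hMK : M ≤ K := hlt.le
    have hsub : MulAction.orbit M (pt B) ⊆ MulAction.orbit K (pt B) := by
      rintro _ ⟨m, rfl⟩
      exact ⟨⟨m.1, hMK m.2⟩, rfl⟩
    have heq := Set.eq_of_subset_of_ncard_le hsub (by
      rw [← Nat.card_coe_set_eq, ← Nat.card_coe_set_eq, h, ho.card_M_orbit hM]) (Set.toFinite _)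
    obtain ⟨m, hm⟩ := heq.ge (MulAction.mem_orbit (pt B) (⟨g, hgK⟩ : K))
    have hmg : m.1⁻¹ * g ∈ Lg K B := ⟨K.mul_mem (K.inv_mem (hMK m.2)) hgK, by
      show (m.1⁻¹ * g) • pt B = pt B
      rw [mul_smul, ← show m.1 • pt B = g • pt B from hm, inv_smul_smul]⟩
    have := M.mul_mem m.2 (ho.lg_mem hroot hM hmg)
    rw [mul_inv_cancel_left] at this
    exact hgM this
  · rcases ho.q_cases hroot h hodd h7 with e | e
    · exact (ho.not_seven hroot h e).elim
    · exact ho.top_eleven hroot h e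

end Cfsg.Lib.Classical.SUThree.Orth
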