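import Cfsg.Prelude.Def_GeometricClasses
import Cfsg.Agent.Classical.SUThree.OrthTrans
import Cfsg.Agent.Known.PSUThree.Main
import Cfsg.Agent.Classical.Unitary.OrthSub
import Cfsg.Agent.Classical.Unitary.SympSubMatrix

/-!
`O_3(q)` in `SU_3(q)` through matrices.
-/

set_option autoImplicit false
set_option linter.unusedSectionVars false
set_option linter.style.haveILetI false

namespace Cfsg.Lib.Classical.SUThree

open Cfsg.Lib.Classical Cfsg.Lib.Components.UnitaryThree Matrix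

universe u v w

namespace Orth

variable {F : Type u} [Field F] {V : Type v} [AddCommGroup V] [Module F V] {H : HermSpace F V}
  [Finite F] [FiniteDimensional F V] {F₀ : Subfield F} {V₀ : Type w} [AddCommGroup V₀] [Module F₀ V₀]
  [FiniteDimensional F₀ V₀] {ι : V₀ →+ V} {τ : F} (S : H.OrthStructure F₀ ι τ)
include S

/-- A rational structure with symmetric form is, up to a scalar, the real vectors of a frame. -/
theorem exists_real_frame (hd : Module.finrank F V = 3) (hd₀ : Module.finrank F₀ V₀ = 3) :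
    ∃ (B : Frame H) (c : F), c ≠ 0 ∧ ∀ x, Rl B x ↔ ∃ r, x = c • ι r := by
  obtain ⟨v, -, hv0, hvv⟩ := S.exists_iso_mem ⊤ (by rw [finrank_top, hd₀])
  obtain ⟨u', hu'⟩ : ∃ u, S.form u v = 1 := by
    obtain ⟨u, hu⟩ : ∃ u, S.form u v ≠ 0 := by
      by_contra! hc
      exact hv0 (S.form_nondegenerate.2 v hc)
    exact ⟨(S.form u v)⁻¹ • u, by rw [map_smul, LinearMap.smul_apply, smul_eq_mul, inv_mul_cancel₀ hu]⟩
  obtain ⟨u, huv, huu⟩ : ∃ u, S.form u v = 1 ∧ S.form u u = 0 := by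
    refine ⟨u' - (S.form u' u' / 2) • v, by simp [hu', hvv], ?_⟩
    have h2 := S.two_ne_zero'
    simp only [map_sub, map_smul, LinearMap.sub_apply, LinearMap.smul_apply, hu', hvv, S.form_symm v u',
      smul_eq_mul, mul_one, mul_zero, sub_zero]
    field_simp
    ring
  have hvu : S.form v u = 1 := by rw [S.form_symm, huv]
  obtain ⟨z, hz⟩ : ∃ z, z ∉ Submodule.span F₀ (Set.range ![v, u]) := by
    by_contra! h
    have h1 : Module.finrank F₀ (Submodule.span F₀ (Set.range ![v, u])) ≤ 2 :=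
      (finrank_range_le_card _).trans_eq (Fintype.card_fin 2)
    rw [(eq_top_iff.2 fun z _ => h z : Submodule.span F₀ (Set.range ![v, u]) = ⊤), finrank_top, hd₀] at h1
    omega
  obtain ⟨w₀, hw0, hwv, hwu⟩ : ∃ w₀ : V₀, w₀ ≠ 0 ∧ S.form w₀ v = 0 ∧ S.form w₀ u = 0 := by
    refine ⟨z - S.form z u • v - S.form z v • u, fun h => hz ?_, by simp [hvv, huv], by simp [hvu, huu]⟩
    rw [sub_sub, sub_eq_zero] at h
    rw [h]
    exact Submodule.add_mem _ (Submodule.smul_mem _ _ (Submodule.subset_span ⟨0, rfl⟩))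
      (Submodule.smul_mem _ _ (Submodule.subset_span ⟨1, rfl⟩))
  have hef : H.h (ι v) (ι u) = 1 := by rw [S.h_eq hvu]; rfl
  obtain ⟨w₁, hw11, hw1v, hw1u⟩ := H.exists_norm_one_orth_pair (by omega) (S.h_eq_zero hvv) hef
  let B₁ : Frame H := ⟨ι v, w₁, ι u, S.h_eq_zero hvv, S.h_eq_zero huu, hef, hw11, hw1v, hw1u⟩
  have hιw : ι w₀ = H.h (ι w₀) w₁ • w₁ := by
    conv_lhs => rw [decomp hd B₁ (ι w₀)]
    show H.h (ι w₀) (ι u) • ι v + H.h (ι w₀) w₁ • w₁ + H.h (ι w₀) (ι v) • ι u = _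
    rw [S.h_eq_zero hwu, S.h_eq_zero hwv, zero_smul, zero_smul, zero_add, add_zero]
  obtain ⟨b, hb⟩ : ∃ b, b = H.h (ι w₀) w₁ := ⟨_, rfl⟩
  rw [← hb] at hιw
  have hb0 : b ≠ 0 := fun h => hw0 (S.inj _ (by rw [hιw, h, zero_smul]))
  have hbσ : H.σ b ≠ 0 := (map_ne_zero _).2 hb0
  have hN : (S.form w₀ w₀ : F) = b * H.σ b := by
    rw [S.coe_form, hιw, H.smul_left, H.smul_right, hw11, mul_one]
  have hsc : ∀ r r', H.h (b⁻¹ • ι r) (b⁻¹ • ι r') = (b * H.σ b)⁻¹ * H.h (ι r) (ι r') := fun r r' => by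
    rw [H.smul_left, H.smul_right, map_inv₀, mul_inv]
    ring
  let B : Frame H := ⟨b⁻¹ • ι v, b⁻¹ • ι w₀, b⁻¹ • ι (S.form w₀ w₀ • u),
    by rw [hsc, S.h_eq_zero hvv, mul_zero],
    by rw [hsc, S.h_eq_zero (by simp [huu]), mul_zero],
    by rw [hsc, S.h_eq (show S.form v (S.form w₀ w₀ • u) = S.form w₀ w₀ by simp [hvu]), hN,
      inv_mul_cancel₀ (mul_ne_zero hb0 hbσ)],
    by rw [hsc, ← S.coe_form, hN, inv_mul_cancel₀ (mul_ne_zero hb0 hbσ)],
    by rw [hsc, S.h_eq_zero hwv, mul_zero],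
    by rw [hsc, S.h_eq_zero (by simp [hwu]), mul_zero]⟩
  refine ⟨B, b⁻¹, inv_ne_zero hb0, fun x => ⟨fun hx => ?_, ?_⟩⟩
  · refine ⟨(⟨_, S.fixed_mem _ hx.2.2⟩ : F₀) • v + (⟨_, S.fixed_mem _ hx.2.1⟩ : F₀) • w₀ +
      (⟨_, S.fixed_mem _ hx.1⟩ : F₀) • (S.form w₀ w₀ • u), ?_⟩
    rw [map_add, map_add, S.smul, S.smul, S.smul ⟨_, S.fixed_mem _ hx.1⟩]
    conv_lhs => rw [decomp hd B x]
    rw [smul_add, smul_add, smul_comm b⁻¹, smul_comm b⁻¹, smul_comm b⁻¹]
  · rintro ⟨r, rfl⟩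
    have key : ∀ r', H.σ (H.h (b⁻¹ • ι r) (b⁻¹ • ι r')) = H.h (b⁻¹ • ι r) (b⁻¹ • ι r') := fun r' => by
      rw [hsc, map_mul, map_inv₀, H.conj.norm_mem, show H.σ (H.h (ι r) (ι r')) = H.h (ι r) (ι r') from
        S.fixed ⟨_, S.real r r'⟩]
    exact ⟨key v, key w₀, key _⟩

theorem isCoatom_rat (hd₀ : Module.finrank F₀ V₀ = 3) (hS : Cfsg.Lib.Known.PSUThree.Setup H) (h7 : 7 ≤ H.q)
    (hodd : Odd H.q) (hcard : Nat.card H.SIsom = H.q ^ 3 * ((H.q ^ 3 + 1) * (H.q ^ 2 - 1)))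
    {M : Subgroup H.SIsom} (hM : ∀ g : H.SIsom, g ∈ M ↔ ∃ a : F, a ≠ 0 ∧ ∀ u, ∃ r, g.1.1 (ι u) = a • ι r) :
    IsCoatom M := by
  obtain ⟨B, c, hc, hB⟩ := exists_real_frame S hS.dim hd₀
  have hM' : ∀ g, g ∈ M ↔ InRat B g := by
    intro g
    rw [hM]
    refine exists_congr fun a => and_congr_right fun _ => ⟨fun h x hx => ?_, fun h r => ?_⟩
    · obtain ⟨r, rfl⟩ := (hB x).1 hx
      obtain ⟨r', hr'⟩ := h r
      exact ⟨c • ι r', (hB _).2 ⟨r', rfl⟩, by rw [map_smul, hr', smul_comm]⟩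
    · obtain ⟨y, hy, he⟩ := h (c • ι r) ((hB _).2 ⟨r, rfl⟩)
      obtain ⟨r', rfl⟩ := (hB y).1 hy
      rw [map_smul, smul_comm a c] at he
      exact ⟨r', smul_right_injective V hc he⟩
  refine ⟨fun htop => ?_, fun K hlt => ?_⟩
  · -- a root element is not rational
    have hmem : H.sT B.ee S.skew ∈ M := htop ▸ Subgroup.mem_top _
    obtain ⟨a, -, ha⟩ := (hM' _).1 hmem
    obtain ⟨y, hy, he⟩ := ha B.e (rl_e B)
    rw [H.sT_apply, B.ee, mul_zero, zero_smul, add_zero] at he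
    have h1 : H.h y B.f ≠ 0 ∧ a = (H.h y B.f)⁻¹ := by
      have := congrArg (fun z => H.h z B.f) he
      rw [B.ef, H.smul_left] at this
      exact ⟨fun h => one_ne_zero (this.trans (by rw [h, mul_zero])), eq_inv_of_mul_eq_one_left this.symm⟩
    have haσ : H.σ a = a := by rw [h1.2, map_inv₀, hy.2.2]
    obtain ⟨y', hy', he'⟩ := ha B.f (rl_f B)
    rw [H.sT_apply, B.fe, mul_one] at he'
    have hτ := congrArg (fun z => H.h z B.f) he'
    rw [H.add_left, H.smul_left, H.smul_left, B.ff, B.ef, zero_add, mul_one] at hτ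
    have hτσ : H.σ τ = τ := by rw [hτ, map_mul, haσ, hy'.2.2]
    have h3 := S.skew
    rw [hτσ, ← two_mul] at h3
    exact mul_ne_zero S.two S.ne_zero h3
  · exact (show Over B K from { toSetup := hS, two := S.two, le := fun g hg => hlt.le ((hM' g).2 hg) }).top_of_lt
      hM' h7 hodd hcard hlt

end Orth

open Cfsg.Lib.Known.PSUThree in
theorem isMaximalIn_orth_three {F : Type*} [Field F] [Fintype F] (q : ℕ) (hF : Fintype.card F = q ^ 2)
    (hodd : Odd q) (h7 : 7 ≤ q) (F₀ : Subfield F) (hcard : Fintype.card F = Nat.card F₀ ^ 2)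
    (P : Matrix.GeneralLinearGroup (Fin 3) F)
    (hP : Cfsg.Geo.IsFormRationalStructure (Cfsg.hermForm 3 F q) F₀ 1 P) :
    Cfsg.Geo.IsMaximalIn (Cfsg.GU 3 F q ⊓ Cfsg.Geo.specialLinear (Fin 3) F)
      (Cfsg.Geo.subfieldSubgroup F₀ P ⊓ (Cfsg.GU 3 F q ⊓ Cfsg.Geo.specialLinear (Fin 3) F)) := by
  classical
  refine isMaximalIn_of_isCoatom_comap (sunitToGL hF) (range_sunitToGL hF) ?_
  set H := stdHerm 3 hF
  have hq : Nat.card F₀ = q := Nat.pow_left_injective (by norm_num) (hcard.symm.trans hF)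
  haveI : Finite F₀ := Finite.of_injective _ Subtype.val_injective
  haveI : Fintype F₀ := Fintype.ofFinite _
  have hfix : ∀ a : F₀, H.σ (a : F) = a := fun a => by
    change powConj hF (a : F) = a
    have := FiniteField.pow_card a
    rw [← Nat.card_eq_fintype_card, hq] at this
    rw [powConj_apply, ← SubmonoidClass.coe_pow, this]
  have hfixmem : ∀ c, H.σ c = c → c ∈ F₀ := by
    haveI : Finite (fixedField H.σ) := Finite.of_injective _ Subtype.val_injective
    have hle : (F₀ : Set F) ⊆ (fixedField H.σ : Set F) := fun x hx => hfix ⟨x, hx⟩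
    have he := Set.eq_of_subset_of_ncard_le hle (by
      rw [← Nat.card_coe_set_eq, ← Nat.card_coe_set_eq]
      change Nat.card (fixedField H.σ) ≤ Nat.card F₀
      rw [hq]; exact (stdHerm_q hF).le)
    exact fun c hc => Set.ext_iff.mp he c |>.mpr hc
  have h2 : (2 : F) ≠ 0 := fun h => by
    haveI : CharP F 2 := CharTwo.of_one_ne_zero_of_two_eq_zero one_ne_zero h
    obtain ⟨m, -, hm⟩ := FiniteField.card F 2
    have : Odd (q ^ 2) := hodd.pow
    rw [← hF, hm] at this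
    exact absurd this (by simp [Nat.even_pow, m.ne_zero])
  obtain ⟨τ, hτ0, hτs⟩ := H.conj.exists_skew
  let ι : (Fin 3 → F₀) →+ (Fin 3 → F) :=
    { toFun := fun u => P.val *ᵥ fun i => (u i : F)
      map_zero' := Matrix.mulVec_zero _
      map_add' := fun u v => Matrix.mulVec_add _ _ _ }
  have hιs : ∀ (a : F₀) (u : Fin 3 → F₀), ι (a • u) = (a : F) • ι u := fun a u =>
    Matrix.mulVec_smul P.val (a : F) fun i => (u i : F)
  have S : H.OrthStructure F₀ ι τ :=
    { smul := hιs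
      fixed := hfix
      fixed_mem := hfixmem
      real := fun u v => by
        have := hP _ _ (fun i => (u i).2) (fun i => (v i).2)
        rw [one_mul, ← stdHerm_h hF] at this
        exact this
      skew := hτs
      ne_zero := hτ0
      two := h2
      inj := fun u hu => by
        have := congrArg ((P⁻¹ : Matrix.GeneralLinearGroup (Fin 3) F).val *ᵥ ·) hu
        simp only [ι, AddMonoidHom.coe_mk, ZeroHom.coe_mk, Matrix.mulVec_mulVec, ← Units.val_mul,
          inv_mul_cancel, Units.val_one, Matrix.one_mulVec, Matrix.mulVec_zero] at this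
        funext i
        exact Subtype.ext (congrFun this i)
      span := fun x => by
        set y := (P⁻¹ : Matrix.GeneralLinearGroup (Fin 3) F).val *ᵥ x with hy
        have hmem : ∀ c : F, (c + H.σ c) / 2 ∈ F₀ ∧ (c - H.σ c) / (2 * τ) ∈ F₀ := fun c => by
          constructor <;> refine hfixmem _ ?_
          · rw [map_div₀, H.conj.trace_mem, map_ofNat]
          · rw [map_div₀, map_sub, H.conj.invol, map_mul, map_ofNat, eq_neg_of_add_eq_zero_right hτs, mul_neg,
              div_neg, ← neg_div, neg_sub]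
        refine ⟨fun i => ⟨_, (hmem (y i)).1⟩, fun i => ⟨_, (hmem (y i)).2⟩, ?_⟩
        simp only [ι, AddMonoidHom.coe_mk, ZeroHom.coe_mk]
        rw [← Matrix.mulVec_smul, ← Matrix.mulVec_add]
        conv_lhs => rw [← Matrix.one_mulVec x, ← Units.val_one, ← mul_inv_cancel P, Units.val_mul,
          ← Matrix.mulVec_mulVec, ← hy]
        congr 1
        funext i
        simp only [Pi.add_apply, Pi.smul_apply, smul_eq_mul]
        field_simp
        ring }
  have hHq : H.q = q := stdHerm_q hF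
  refine Orth.isCoatom_rat S (by rw [Module.finrank_fin_fun]) (setup_std hF (by omega)) (by omega)
    (by rw [hHq]; exact hodd) (by rw [hHq]; exact card_SIsom_std hF (by omega)) fun g => ?_
  rw [Subgroup.mem_comap, mem_subfieldSubgroup_iff]
  refine exists_congr fun a => and_congr_right fun _ => ⟨fun h u => ?_, fun h u hu => ?_⟩
  · obtain ⟨r, hr, he⟩ := h _ fun i => (u i).2
    rw [sunitToGL_mulVec] at he
    exact ⟨fun i => ⟨r i, hr i⟩, he⟩
  · obtain ⟨r, hr⟩ := h fun i => ⟨u i, hu i⟩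
    exact ⟨fun i => (r i : F), fun i => (r i).2, by rw [sunitToGL_mulVec]; exact hr⟩

end Cfsg.Lib.Classical.SUThree
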