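import Cfsg.Agent.Classical.SUThree.OrthBasic
import Cfsg.Agent.Classical.SUThree.CountOdd
import Cfsg.Agent.Classical.SUThree.CountEven
import Cfsg.Agent.Classical.Subfield.Core

/-!
The group of a frame over a subfield in a three-dimensional special unitary group: elements and root groups of an
overgroup.
-/

set_option autoImplicit false
set_option linter.unusedSectionVars false
set_option linter.style.haveILetI false

namespace Cfsg.Lib.Classical.SUThree.Rational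

open Cfsg.Lib.Classical Cfsg.Lib.Components.UnitaryThree Cfsg.Lib.Known.PSUThree Cfsg.Lib.RootSub

universe u v

variable {F : Type u} [Field F] {V : Type v} [AddCommGroup V] [Module F V] {H : HermSpace F V}

/-- Coordinates in the subfield. -/
def Rat (B : Frame H) (F₀ : Subfield F) (x : V) : Prop :=
  H.h x B.e ∈ F₀ ∧ H.h x B.w ∈ F₀ ∧ H.h x B.f ∈ F₀

/-- Coordinates in the subfield go to a common multiple of such coordinates. -/
def InRat (B : Frame H) (F₀ : Subfield F) (g : H.SIsom) : Prop :=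
  ∃ a : F, a ≠ 0 ∧ ∀ x, Rat B F₀ x → ∃ y, Rat B F₀ y ∧ g.1.1 x = a • y

theorem Rat.add {B : Frame H} {F₀ : Subfield F} {x y : V} (hx : Rat B F₀ x) (hy : Rat B F₀ y) :
    Rat B F₀ (x + y) := by
  refine ⟨?_, ?_, ?_⟩ <;> rw [H.add_left]
  exacts [F₀.add_mem hx.1 hy.1, F₀.add_mem hx.2.1 hy.2.1, F₀.add_mem hx.2.2 hy.2.2]

theorem Rat.smul {B : Frame H} {F₀ : Subfield F} {x : V} {s : F} (hs : s ∈ F₀) (hx : Rat B F₀ x) :
    Rat B F₀ (s • x) := by
  refine ⟨?_, ?_, ?_⟩ <;> rw [H.smul_left]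
  exacts [F₀.mul_mem hs hx.1, F₀.mul_mem hs hx.2.1, F₀.mul_mem hs hx.2.2]

theorem rat_e (B : Frame H) (F₀ : Subfield F) : Rat B F₀ B.e := by
  simp [Rat, B.ee, B.ew, B.ef, zero_mem, one_mem]
theorem rat_w (B : Frame H) (F₀ : Subfield F) : Rat B F₀ B.w := by
  simp [Rat, B.we, B.ww, B.wf, zero_mem, one_mem]
theorem rat_f (B : Frame H) (F₀ : Subfield F) : Rat B F₀ B.f := by
  simp [Rat, B.fe, B.fw, B.ff, zero_mem, one_mem]

/-- The hypotheses on the overgroup. -/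
structure ROver (B : Frame H) (F₀ : Subfield F) (K : Subgroup H.SIsom) : Prop where
  dim : Module.finrank F V = 3
  three : 3 ≤ H.q
  stable : ∀ a ∈ F₀, H.σ a ∈ F₀
  ne : ∃ a ∈ F₀, H.σ a ≠ a
  le : ∀ g, InRat B F₀ g → g ∈ K

variable [Finite F] [FiniteDimensional F V]

/-- Images of the frame with coordinates in the subfield, after a scaling, make an element of the group. -/
theorem inRat_of (hd : Module.finrank F V = 3) (B : Frame H) {F₀ : Subfield F} {g : H.SIsom} {a : F}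
    (ha : a ≠ 0) (he : Rat B F₀ (a⁻¹ • g.1.1 B.e)) (hw : Rat B F₀ (a⁻¹ • g.1.1 B.w))
    (hf : Rat B F₀ (a⁻¹ • g.1.1 B.f)) : InRat B F₀ g := by
  refine ⟨a, ha, fun x hx => ⟨a⁻¹ • g.1.1 x, ?_, (smul_inv_smul₀ ha _).symm⟩⟩
  rw [decomp hd B x, map_add, map_add, map_smul, map_smul, map_smul, smul_add, smul_add,
    smul_comm a⁻¹, smul_comm a⁻¹ (H.h x B.w), smul_comm a⁻¹ (H.h x B.e)]
  exact ((he.smul hx.2.2).add (hw.smul hx.2.1)).add (hf.smul hx.1)

theorem inRat_of_one (hd : Module.finrank F V = 3) (B : Frame H) {F₀ : Subfield F} {g : H.SIsom}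
    (he : Rat B F₀ (g.1.1 B.e)) (hw : Rat B F₀ (g.1.1 B.w)) (hf : Rat B F₀ (g.1.1 B.f)) : InRat B F₀ g :=
  inRat_of hd B one_ne_zero (by rwa [inv_one, one_smul]) (by rwa [inv_one, one_smul]) (by rwa [inv_one, one_smul])

variable {B : Frame H} {F₀ : Subfield F} {K : Subgroup H.SIsom} (ho : ROver B F₀ K)
include ho

theorem ROver.exists_delta : ∃ δ ∈ F₀, δ ≠ 0 ∧ δ + H.σ δ = 0 := by
  obtain ⟨a, ha, hne⟩ := ho.ne
  refine ⟨a - H.σ a, F₀.sub_mem ha (ho.stable a ha), sub_ne_zero.2 (Ne.symm hne), ?_⟩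
  rw [map_sub, H.conj.invol]
  ring

theorem ROver.exists_theta : ∃ θ ∈ F₀, θ + H.σ θ = 1 := by
  obtain ⟨a, ha, hne⟩ := ho.ne
  by_cases htr : a + H.σ a = 0
  · have h2 : (2 : F) ≠ 0 := fun h => hne (by linear_combination htr - a * h)
    refine ⟨(1 + 1)⁻¹, F₀.inv_mem (F₀.add_mem F₀.one_mem F₀.one_mem), ?_⟩
    rw [map_inv₀, map_add, map_one, one_add_one_eq_two]
    field_simp
    norm_num
  · refine ⟨a / (a + H.σ a), F₀.div_mem ha (F₀.add_mem ha (ho.stable a ha)), ?_⟩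
    rw [map_div₀, map_add, H.conj.invol, add_comm (H.σ a) a, ← add_div, div_self htr]

theorem ROver.unip {s c : F} (hs : s ∈ F₀) (hc : c ∈ F₀) (h : c + H.σ c + s * H.σ s = 0) :
    ∃ g : H.SIsom, InRat B F₀ g ∧ g ∈ Ng K B ∧ eb B g = s ∧ ec B g = c ∧ g.1.1 B.w = s • B.e + B.w ∧
      g.1.1 B.f = c • B.e + (-H.σ s) • B.w + B.f := by
  obtain ⟨g, h1, h2, h3⟩ := Orth.exists_map ho.dim B
    ⟨B.e, s • B.e + B.w, c • B.e + (-H.σ s) • B.w + B.f, B.ee,
      by simp [H.add_left, H.add_right, H.smul_left, H.smul_right, H.neg_left, H.neg_right, B.ee, B.we, B.fe,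
          B.ew, B.ww, B.fw, B.ef, B.wf, B.ff, H.conj.invol]
         linear_combination h,
      by simp [H.add_right, H.smul_right, H.neg_right, B.ee, B.ew, B.ef],
      by simp [H.add_left, H.add_right, H.smul_left, H.smul_right, B.ee, B.we, B.ew, B.ww],
      by simp [H.add_left, H.smul_left, B.ee, B.we],
      by simp [H.add_left, H.add_right, H.smul_left, H.smul_right, H.neg_right, B.ee, B.we, B.ew, B.ww, B.ef,
          B.wf, H.conj.invol]⟩
    (by simp [Matrix.det_fin_three, H.add_left, H.smul_left, H.neg_left, B.ee, B.we, B.fe, B.ew, B.ww, B.fw,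
      B.ef, B.wf, B.ff])
  have hR : InRat B F₀ g := inRat_of_one ho.dim B (by rw [h1]; exact rat_e B F₀)
    (by rw [h2]; exact ((rat_e B F₀).smul hs).add (rat_w B F₀))
    (by rw [h3]; exact (((rat_e B F₀).smul hc).add ((rat_w B F₀).smul (F₀.neg_mem (ho.stable s hs)))).add (rat_f B F₀))
  refine ⟨g, hR, ⟨ho.le g hR, h1⟩, ?_, ?_, h2, h3⟩
  · rw [eb, h2, H.add_left, H.smul_left, B.ef, B.wf, mul_one, add_zero]
  · rw [ec, h3, H.add_left, H.add_left, H.smul_left, H.smul_left, B.ef, B.wf, B.ff]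
    ring

theorem ROver.unip' {s : F} (hs : s ∈ F₀) :
    ∃ c ∈ F₀, ∃ g : H.SIsom, InRat B F₀ g ∧ g ∈ Ng K B ∧ eb B g = s ∧
      g.1.1 B.w = s • B.e + B.w ∧ g.1.1 B.f = c • B.e + (-H.σ s) • B.w + B.f ∧ (s ≠ 0 → c ≠ 0) := by
  obtain ⟨θ, hθ, hθ1⟩ := ho.exists_theta
  have hc : -θ * (s * H.σ s) ∈ F₀ := F₀.mul_mem (F₀.neg_mem hθ) (F₀.mul_mem hs (ho.stable s hs))
  have hN : -θ * (s * H.σ s) + H.σ (-θ * (s * H.σ s)) + s * H.σ s = 0 := by
    rw [map_mul, map_neg, H.conj.norm_mem]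
    linear_combination (-(s * H.σ s)) * hθ1
  obtain ⟨g, h1, h2, h3, -, h4, h5⟩ := ho.unip hs hc hN
  refine ⟨_, hc, g, h1, h2, h3, h4, h5, fun hs0 hc0 => ?_⟩
  rw [hc0, map_zero, zero_add, zero_add] at hN
  exact mul_ne_zero hs0 ((map_ne_zero _).2 hs0) hN

theorem ROver.root {c : F} (hc : c ∈ F₀) (h : c + H.σ c = 0) : InRat B F₀ (H.sT B.ee h) :=
  inRat_of_one ho.dim B (by rw [H.sT_apply, B.ee, mul_zero, zero_smul, add_zero]; exact rat_e B F₀)
    (by rw [H.sT_apply, B.we, mul_zero, zero_smul, add_zero]; exact rat_w B F₀)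
    (by rw [H.sT_apply, B.fe, mul_one]; exact (rat_f B F₀).add ((rat_e B F₀).smul hc))

theorem ROver.root' {c : F} (hc : c ∈ F₀) (h : c + H.σ c = 0) : InRat B F₀ (H.sT B.ff h) :=
  inRat_of_one ho.dim B (by rw [H.sT_apply, B.ef, mul_one]; exact (rat_e B F₀).add ((rat_f B F₀).smul hc))
    (by rw [H.sT_apply, B.wf, mul_zero, zero_smul, add_zero]; exact rat_w B F₀)
    (by rw [H.sT_apply, B.ff, mul_zero, zero_smul, add_zero]; exact rat_f B F₀)

/-- A diagonal element. -/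
theorem ROver.diag {a : F} (ha : a ≠ 0) (h1 : a * H.σ a ∈ F₀) (h2 : H.σ a * H.σ a / a ∈ F₀) :
    ∃ g : H.SIsom, InRat B F₀ g ∧ g ∈ K ∧ g.1.1 B.e = a • B.e := by
  have hσ : H.σ a ≠ 0 := (map_ne_zero _).2 ha
  have hdd : H.σ a / a * H.σ (H.σ a / a) = 1 := by
    rw [map_div₀, H.conj.invol]; field_simp
  obtain ⟨g, e1, e2, e3⟩ := Orth.exists_map ho.dim B
    ⟨a • B.e, (H.σ a / a) • B.w, (H.σ a)⁻¹ • B.f, by rw [H.smul_left, H.smul_right, B.ee, mul_zero, mul_zero],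
      by rw [H.smul_left, H.smul_right, B.ff, mul_zero, mul_zero],
      by rw [H.smul_left, H.smul_right, B.ef, map_inv₀, H.conj.invol, mul_one, mul_inv_cancel₀ ha],
      by rw [H.smul_left, H.smul_right, B.ww, mul_one, hdd],
      by rw [H.smul_left, H.smul_right, B.we, mul_zero, mul_zero],
      by rw [H.smul_left, H.smul_right, B.wf, mul_zero, mul_zero]⟩
    (by simp [Matrix.det_fin_three, H.smul_left, B.ee, B.we, B.fe, B.ew, B.ww, B.fw, B.ef, B.wf, B.ff]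
        field_simp)
  have hR : InRat B F₀ g := by
    refine inRat_of ho.dim B (inv_ne_zero hσ) ?_ ?_ ?_
    · rw [e1, inv_inv, smul_smul, mul_comm]; exact (rat_e B F₀).smul h1
    · rw [e2, inv_inv, smul_smul, ← mul_div_assoc]; exact (rat_w B F₀).smul h2
    · rw [e3, inv_inv, smul_inv_smul₀ hσ]; exact rat_f B F₀
  exact ⟨g, hR, ho.le g hR, e1⟩

/-- Scalars. -/
theorem ROver.scalar {d : F} (hd3 : d ^ 3 = 1) (hdd : d * H.σ d = 1) :
    ∃ g : H.SIsom, InRat B F₀ g ∧ g ∈ K ∧ ∀ x, g.1.1 x = d • x := by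
  obtain ⟨g, hg⟩ := Orth.exists_scalar ho.dim B hd3 hdd
  have h : InRat B F₀ g := ⟨d, left_ne_zero_of_mul_eq_one hdd, fun x hx => ⟨x, hx, hg x⟩⟩
  exact ⟨g, h, ho.le g h, hg⟩

theorem ROver.swap : ∃ g : H.SIsom, InRat B F₀ g ∧ g ∈ K ∧ g.1.1 B.e = B.f ∧ g.1.1 B.w = -B.w ∧ g.1.1 B.f = B.e := by
  obtain ⟨g, h1, h2, h3⟩ := Orth.exists_swap ho.dim B
  have hR : InRat B F₀ g := inRat_of_one ho.dim B (h1 ▸ rat_f B F₀)
    (by rw [h2, ← neg_one_smul F B.w]; exact (rat_w B F₀).smul (F₀.neg_mem F₀.one_mem)) (h3 ▸ rat_e B F₀)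
  exact ⟨g, hR, ho.le g hR, h1, h2, h3⟩

theorem ROver.irr : Irr K := by
  intro W hW
  refine or_iff_not_imp_left.2 fun h0 => ?_
  obtain ⟨x, hxW, hx0⟩ := W.ne_bot_iff.1 h0
  obtain ⟨c, -, u, -, hu, -, huw, huf, -⟩ := ho.unip' F₀.one_mem
  rw [one_smul] at huw
  rw [map_one] at huf
  have hue : u.1.1 B.e = B.e := hu.2
  obtain ⟨t, -, htK, hte, -, -⟩ := ho.swap
  have hsub : ∀ y ∈ W, u.1.1 y - y ∈ W := fun y hy => W.sub_mem (hW u hu.1 y hy) hy
  have hdiff : ∀ y, u.1.1 y - y = (H.h y B.w + c * H.h y B.e) • B.e - H.h y B.e • B.w := by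
    intro y
    conv_lhs => rw [decomp ho.dim B y]
    rw [map_add, map_add, map_smul, map_smul, map_smul, hue, huw, huf]
    module
  have heW : B.e ∈ W := by
    have h1 := hsub x hxW
    rw [hdiff] at h1
    by_cases hγ : H.h x B.e = 0
    · by_cases hβ : H.h x B.w = 0
      · have hx : x = H.h x B.f • B.e := by
          conv_lhs => rw [decomp ho.dim B x, hγ, hβ, zero_smul, zero_smul, add_zero, add_zero]
        have hα : H.h x B.f ≠ 0 := fun h => hx0 (by rw [hx, h, zero_smul])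
        rw [hx] at hxW
        exact (W.smul_mem_iff hα).1 hxW
      · rw [hγ, mul_zero, add_zero, zero_smul, sub_zero] at h1
        exact (W.smul_mem_iff hβ).1 h1
    · have h2 := hsub _ h1
      rw [map_sub, map_smul, map_smul, hue, huw] at h2
      have h3 : (-H.h x B.e) • B.e ∈ W := by
        convert h2 using 1
        module
      exact (W.smul_mem_iff (neg_ne_zero.2 hγ)).1 h3
  have hfW : B.f ∈ W := hte ▸ hW t htK _ heW
  have hwW : B.w ∈ W := by
    have h1 := hsub _ hfW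
    rw [hdiff, B.fe, B.fw, one_smul] at h1
    have h2 := W.sub_mem (W.smul_mem (0 + c * 1) heW) h1
    rwa [sub_sub_cancel] at h2
  rw [eq_top_iff]
  intro y _
  rw [decomp ho.dim B y]
  exact W.add_mem (W.add_mem (W.smul_mem _ heW) (W.smul_mem _ hwW)) (W.smul_mem _ hfW)

theorem ROver.ends_mem : pt B ∈ Cn K ∧ ptf B ∈ Cn K := by
  obtain ⟨δ, hδm, hδ0, hδ⟩ := ho.exists_delta
  constructor
  · refine ⟨H.sT B.ee hδ, ho.le _ (ho.root hδm hδ), sT_ne_one _ B.e_ne _ hδ0, ?_⟩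
    rw [root_pt]
    exact ⟨δ, hδ, rfl⟩
  · refine ⟨H.sT B.ff hδ, ho.le _ (ho.root' hδm hδ), sT_ne_one _ (ptf_ne B) _ hδ0, ?_⟩
    obtain ⟨a, ha⟩ := Projectivization.exists_smul_eq_mk_rep F B.f (ptf_ne B)
    rw [H.rootGroup_eq_of_smul B.ff (ptf B).2 a.ne_zero (by rw [← Units.smul_def, ha]; rfl)]
    exact ⟨δ, hδ, rfl⟩

/-- A translation set closed under products gives a root group in the subfield or a full one. -/
theorem ROver.top_or_small {r : ℕ} (hr : r.Prime) (hcard : Nat.card F = Nat.card F₀ ^ r) :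
    K = ⊤ ∨ ∀ (c : F) (hc : c + H.σ c = 0), H.sT B.ee hc ∈ K → c ∈ F₀ := by
  classical
  have hd := ho.dim
  obtain ⟨δ, hδm, hδ0, hδ⟩ := ho.exists_delta
  set L := Lsl K hd B hδ hδ0
  set X := SLTwo.upSet L with hXdef
  obtain ⟨hB, hf⟩ := ho.ends_mem
  have hX0 : ∀ x : fixedField H.σ, (x : F) ∈ F₀ → x ∈ X := fun x hx =>
    (mem_up K hd B hδ hδ0).2 ⟨ho.le _ (ho.root (F₀.mul_mem hx hδm) _), _, skew_mul hδ x, rfl⟩
  have h1X : (1 : fixedField H.σ) ∈ X := hX0 1 F₀.one_mem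
  have hmul : ∀ x ∈ X, ∀ y ∈ X, x * y ∈ X := by
    by_cases h2 : (2 : F) = 0
    · -- the translations are the squares of the rotations
      choose d hdK h1 hw h3 using fun μ : Rot K B => μ.2
      let sq : Rot K B → fixedField H.σ := fun μ =>
        ⟨(μ.1 : F) * μ.1, by rw [mem_fixedField, map_mul, (rot_data hd (h1 μ) (hw μ)).2.2.2]⟩
      have hsq : ∀ μ, sq μ ∈ X := fun μ => by
        obtain ⟨hs, hea, -, hσ⟩ := rot_data hd (h1 μ) (hw μ)
        have hr : H.sT B.ee hδ ∈ H.rootGroup B.ee := ⟨δ, hδ, rfl⟩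
        obtain ⟨hc1, hc2⟩ := conj_ec hd B hs hr
        obtain ⟨hc, e⟩ := root_eq_sT B hc1
        rw [hea, hσ, show ec B (H.sT B.ee hδ) = δ by
          rw [ec, H.sT_apply, H.add_left, H.smul_left, B.ff, B.fe, B.ef]; ring] at hc2
        refine (mem_up K hd B hδ hδ0).2 ⟨?_, _, skew_mul hδ (sq μ), rfl⟩
        rw [← H.sT_congr B.ee B.ee hc (skew_mul hδ (sq μ)) rfl hc2, ← e]
        exact K.mul_mem (K.mul_mem (hdK μ) (ho.le _ (ho.root hδm hδ))) (K.inv_mem (hdK μ))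
      let f : Option (Rot K B) → X := fun o => o.elim 0 fun μ => ⟨sq μ, hsq μ⟩
      have hne : ∀ μ, sq μ ≠ 0 := fun μ h =>
        mul_ne_zero μ.1.ne_zero μ.1.ne_zero (congrArg Subtype.val h)
      have hf' : Function.Injective f := by
        rintro (_ | μ) (_ | ν) h
        · rfl
        · exact absurd (congrArg Subtype.val h).symm (hne ν)
        · exact absurd (congrArg Subtype.val h) (hne μ)
        · have e : (μ.1 : F) * μ.1 = (ν.1 : F) * ν.1 := congrArg (fun x : X => ((x.1 : fixedField H.σ) : F)) h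
          exact congrArg some (Subtype.ext (Units.ext (sq_inj h2 e)))
      have hbij := hf'.bijective_of_nat_card_le (by
        rw [Finite.card_option, card_rot K hd h2 B hB rfl hf, hXdef]
        refine Nat.card_le_card_of_injective (fun t : X => (⟨_, (mem_up K hd B hδ hδ0).1 t.2⟩ : Ag K B))
          fun t t' e => ?_
        have e' : emb hd B hδ hδ0 (upEl t.1) = emb hd B hδ hδ0 (upEl t'.1) := by
          rw [emb_up, emb_up]; exact congrArg Subtype.val e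
        refine Subtype.ext ?_
        have e2 := congrArg (fun M : (Matrix.SpecialLinearGroup (Fin 2) (fixedField H.σ)) => M.1 0 1)
          (emb_injective hd B hδ hδ0 e')
        simpa [upEl_coe] using e2)
      intro x hx y hy
      obtain ⟨o, ho'⟩ := hbij.2 ⟨x, hx⟩
      obtain ⟨o', ho''⟩ := hbij.2 ⟨y, hy⟩
      rcases o with _ | μ
      · rw [show x = 0 from (congrArg Subtype.val ho').symm, zero_mul]; exact X.zero_mem
      rcases o' with _ | ν
      · rw [show y = 0 from (congrArg Subtype.val ho'').symm, mul_zero]; exact X.zero_mem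
      rw [← show sq μ = x from congrArg Subtype.val ho', ← show sq ν = y from congrArg Subtype.val ho'']
      convert hsq (μ * ν) using 1
      refine Subtype.ext ?_
      show (μ.1 : F) * μ.1 * ((ν.1 : F) * ν.1) = ((μ.1 * ν.1 : Fˣ) : F) * (μ.1 * ν.1 : Fˣ)
      push_cast
      ring
    · obtain ⟨hX, hY⟩ := lineSets_ne K hd B hδ hδ0 hB hf
      have hlin := (SLTwo.structure_up L (two_fix h2) hX hY).1 1 h1X one_ne_zero
      intro x hx y hy
      have := mul_mem ((hlin x).1 hx) ((hlin y).1 hy)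
      rw [div_one, div_one] at this
      exact (hlin _).2 (by rwa [div_one])
  by_cases hsmall : ∀ x ∈ X, (x : F) ∈ F₀
  · right
    intro c hc hcK
    obtain ⟨⟨x, hx⟩, -⟩ := exists_coe (H := H) hδ hδ0 hc
    have hxX : x ∈ X := (mem_up K hd B hδ hδ0).2 ⟨by rw [← H.sT_congr B.ee B.ee hc _ rfl hx]; exact hcK, _, skew_mul hδ x, rfl⟩
    rw [hx]
    exact F₀.mul_mem (hsmall x hxX) hδm
  left
  push Not at hsmall
  obtain ⟨z, hzX, hz⟩ := hsmall
  obtain ⟨a, ha, hne⟩ := ho.ne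
  have hane : a - H.σ a ≠ 0 := sub_ne_zero.2 (Ne.symm hne)
  let Lset : Set F := {w | ∃ x ∈ X, ∃ y ∈ X, w = (x : F) + y * a}
  have hco : ∀ w ∈ F₀, ∀ v : F, v = (w - H.σ w) / (a - H.σ a) → H.σ v = v ∧ v ∈ F₀ := by
    rintro w hw v rfl
    refine ⟨?_, F₀.div_mem (F₀.sub_mem hw (ho.stable w hw)) (F₀.sub_mem ha (ho.stable a ha))⟩
    rw [map_div₀, map_sub, map_sub, H.conj.invol, H.conj.invol, ← neg_div_neg_eq, neg_sub, neg_sub]
  have hsub : ∀ w ∈ F₀, w ∈ Lset := by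
    intro w hw
    obtain ⟨h1, h2⟩ := hco w hw _ rfl
    set y := (w - H.σ w) / (a - H.σ a) with hy
    have hy' : y * (a - H.σ a) = w - H.σ w := div_mul_cancel₀ _ hane
    have hx : H.σ (w - y * a) = w - y * a := by
      rw [map_sub, map_mul, h1]
      linear_combination hy'
    exact ⟨⟨_, hx⟩, hX0 _ (F₀.sub_mem hw (F₀.mul_mem h2 ha)), ⟨_, h1⟩, hX0 _ h2, by ring⟩
  have hadd : ∀ w ∈ Lset, ∀ w' ∈ Lset, w + w' ∈ Lset := by
    rintro _ ⟨x, hx, y, hy, rfl⟩ _ ⟨x', hx', y', hy', rfl⟩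
    exact ⟨x + x', X.add_mem hx hx', y + y', X.add_mem hy hy', by push_cast; ring⟩
  have hmulL : ∀ w ∈ Lset, ∀ w' ∈ Lset, w * w' ∈ Lset := by
    rintro _ ⟨x, hx, y, hy, rfl⟩ _ ⟨x', hx', y', hy', rfl⟩
    set T : fixedField H.σ := ⟨a + H.σ a, H.conj.trace_mem a⟩
    set N : fixedField H.σ := ⟨a * H.σ a, H.conj.norm_mem a⟩
    have hT : T ∈ X := hX0 T (F₀.add_mem ha (ho.stable a ha))
    have hN : N ∈ X := hX0 N (F₀.mul_mem ha (ho.stable a ha))
    refine ⟨x * x' - y * y' * N, X.sub_mem (hmul _ hx _ hx') (hmul _ (hmul _ hy _ hy') _ hN),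
      x * y' + x' * y + y * y' * T, X.add_mem (X.add_mem (hmul _ hx _ hy') (hmul _ hx' _ hy))
        (hmul _ (hmul _ hy _ hy') _ hT), ?_⟩
    simp only [T, N]
    push_cast
    ring
  have hall := eq_univ_of_mul_closed (L := Lset) hr hcard hsub hadd hmulL
    (show (z : F) ∈ Lset from ⟨z, hzX, 0, X.zero_mem, by simp⟩) hz
  refine top_of_centre hd ho.three ho.irr B.e_ne ⟨B.ee, fun c hc => ?_⟩
  obtain ⟨⟨x, hx⟩, -⟩ := exists_coe (H := H) hδ hδ0 hc
  obtain ⟨x', hx', y', -, e⟩ := hall (x : F)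
  have hy0 : (y' : F) = 0 := by
    have h' := congrArg H.σ e
    rw [map_add, map_mul, show H.σ (x : F) = x from x.2, show H.σ (x' : F) = x' from x'.2,
      show H.σ (y' : F) = y' from y'.2] at h'
    exact (mul_eq_zero.1 (show (y' : F) * (a - H.σ a) = 0 by linear_combination h' - e)).resolve_right hane
  rw [hy0, zero_mul, add_zero] at e
  have hxX : x ∈ X := (Subtype.ext e : x = x') ▸ hx'
  have h := ((mem_up K hd B hδ hδ0).1 hxX).1
  show H.sT B.ee hc ∈ K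
  rwa [H.sT_congr B.ee B.ee hc (skew_mul hδ x) rfl hx]

end Cfsg.Lib.Classical.SUThree.Rational
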