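import Cfsg.Agent.Classical.SUThree.RationalBasic

/-!
With root elements in the subfield only, the stabiliser of an end of the frame is the one of the group of
the frame over the subfield.
-/

set_option autoImplicit false
set_option linter.unusedSectionVars false
set_option linter.style.haveILetI false

namespace Cfsg.Lib.Classical.SUThree.Rational

open Cfsg.Lib.Classical Cfsg.Lib.Components.UnitaryThree Cfsg.Lib.Known.PSUThree

universe u v

variable {F : Type u} [Field F] {V : Type v} [AddCommGroup V] [Module F V] {H : HermSpace F V}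
  [Finite F] [FiniteDimensional F V]

/-- The root elements of a group are in the subfield. -/
def Small (B : Frame H) (F₀ : Subfield F) (K : Subgroup H.SIsom) : Prop :=
  ∀ (c : F) (hc : c + H.σ c = 0), H.sT B.ee hc ∈ K → c ∈ F₀

variable {B : Frame H} {F₀ : Subfield F} {K : Subgroup H.SIsom} (ho : ROver B F₀ K) (hs : Small B F₀ K)
include ho hs

theorem ROver.ag_rat {x : H.SIsom} (hx : x ∈ Ag K B) : InRat B F₀ x ∧ ec B x ∈ F₀ := by
  obtain ⟨hc, e⟩ := root_eq_sT B hx.2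
  have h : ec B x ∈ F₀ := hs _ hc (e ▸ hx.1)
  exact ⟨e ▸ ho.root h hc, h⟩

theorem ROver.ng_rat {M : Subgroup H.SIsom} (hM : ∀ g, g ∈ M ↔ InRat B F₀ g) {x : H.SIsom}
    (hx : x ∈ Ng K B) : x ∈ M ∧ eb B x ∈ F₀ := by
  have hd := ho.dim
  have hcomm : ∀ s ∈ F₀, H.σ (eb B x) * s - H.σ s * eb B x ∈ F₀ := by
    intro s hs'
    obtain ⟨-, -, u, -, hu, hub, -⟩ := ho.unip' hs'
    obtain ⟨c, hc, hce⟩ := comm_mem K hd B hx hu
    rw [← hub, ← hce]
    exact (ho.ag_rat hs hc).2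
  obtain ⟨a, ha, hne⟩ := ho.ne
  have hv : eb B x ∈ F₀ := by
    have h1 := hcomm 1 F₀.one_mem
    rw [map_one, mul_one, one_mul] at h1
    have h2 := hcomm a ha
    have e : eb B x = ((H.σ (eb B x) * a - H.σ a * eb B x) - a * (H.σ (eb B x) - eb B x)) / (a - H.σ a) := by
      rw [eq_div_iff (sub_ne_zero.2 (Ne.symm hne))]
      ring
    rw [e]
    exact F₀.div_mem (F₀.sub_mem h2 (F₀.mul_mem ha h1)) (F₀.sub_mem ha (ho.stable a ha))
  obtain ⟨-, -, u, huR, hu, hub, -⟩ := ho.unip' hv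
  refine ⟨?_, hv⟩
  have hxu : x * u⁻¹ ∈ Ng K B := mul_mem hx (inv_mem hu)
  have h0 : eb B (x * u⁻¹) = 0 := by
    have h := (eb_mul hd B hxu.2 hu.2).1
    rw [inv_mul_cancel_right, hub] at h
    linear_combination -h
  have := M.mul_mem ((hM _).2 (ho.ag_rat hs ⟨hxu.1, mem_root_of_eb hd B hxu.2 h0⟩).1) ((hM _).2 huR)
  rwa [inv_mul_cancel_right] at this

theorem ROver.lg_rat {M : Subgroup H.SIsom} (hM : ∀ g, g ∈ M ↔ InRat B F₀ g) {g : H.SIsom}
    (hg : g ∈ Lg K B) : g ∈ M := by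
  have hd := ho.dim
  obtain ⟨he, ha0, -⟩ := coords hd B hg.2
  obtain ⟨δ, hδm, hδ0, hδ⟩ := ho.exists_delta
  have hn : ea B g * H.σ (ea B g) ∈ F₀ := by
    obtain ⟨hc1, hc2⟩ := conj_ec hd B hg.2 (k := H.sT B.ee hδ) ⟨δ, hδ, rfl⟩
    have hecδ : ec B (H.sT B.ee hδ) = δ := by
      rw [ec, H.sT_apply, H.add_left, H.smul_left, B.ff, B.fe, B.ef]; ring
    rw [hecδ] at hc2
    have h := (ho.ag_rat hs ⟨K.mul_mem (K.mul_mem hg.1 (ho.le _ (ho.root hδm hδ))) (K.inv_mem hg.1), hc1⟩).2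
    rw [hc2] at h
    have := F₀.div_mem h hδm
    rwa [mul_div_cancel_right₀ _ hδ0] at this
  have hdiag : H.σ (ea B g) * H.σ (ea B g) / ea B g ∈ F₀ := by
    obtain ⟨-, -, u, -, hu, hub, -⟩ := ho.unip' F₀.one_mem
    have hu' : g * u * g⁻¹ ∈ Ng K B :=
      ⟨K.mul_mem (K.mul_mem hg.1 hu.1) (K.inv_mem hg.1), conj_mem_fixE hd B hg.2 hu.2⟩
    have h1 := conj_eb hd B hg.2 hu.2
    rw [hub, mul_one] at h1
    have hb := (ho.ng_rat hs hM hu').2
    have hσ : H.σ (ea B g) ≠ 0 := (map_ne_zero _).2 ha0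
    have hde := ed_mul_ea hd B hg.2
    have e : eb B (g * u * g⁻¹) = ea B g * ea B g / H.σ (ea B g) := by
      rw [eq_div_iff hσ]
      linear_combination (ea B g) * h1 - (eb B (g * u * g⁻¹)) * hde
    rw [e] at hb
    have := ho.stable _ hb
    rwa [map_div₀, map_mul, H.conj.invol] at this
  obtain ⟨t, htR, htK, hte⟩ := ho.diag ha0 hn hdiag
  have hm : t⁻¹ * g ∈ Ng K B := by
    refine ⟨K.mul_mem (K.inv_mem htK) hg.1, ?_⟩
    show (t⁻¹ * g).1.1 B.e = B.e
    rw [H.smul_mul_apply, he, ← hte]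
    exact H.inv_apply_self t.1 _
  have := M.mul_mem ((hM _).2 htR) (ho.ng_rat hs hM hm).1
  rwa [mul_inv_cancel_left] at this

/-- The order of the root group and of the unipotent part. -/
theorem ROver.card_field {M : Subgroup H.SIsom} (hM : ∀ g, g ∈ M ↔ InRat B F₀ g) :
    Nat.card F₀ = Nat.card (Ag K B) ^ 2 ∧ Nat.card (Ng K B) = Nat.card (Ag K B) * Nat.card F₀ := by
  classical
  have hd := ho.dim
  obtain ⟨δ, hδm, hδ0, hδ⟩ := ho.exists_delta
  obtain ⟨θ, hθm, hθ⟩ := ho.exists_theta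
  have hσδ : H.σ δ = -δ := by linear_combination hδ
  have hec : ∀ x : Ag K B, ec B x.1 + H.σ (ec B x.1) = 0 := fun x => (root_eq_sT B x.2.2).1
  constructor
  · rw [pow_two, ← Nat.card_prod]
    symm
    refine Nat.card_eq_of_bijective (fun p : Ag K B × Ag K B =>
      (⟨ec B p.1.1 + ec B p.2.1 / δ * θ, F₀.add_mem (ho.ag_rat hs p.1.2).2
        (F₀.mul_mem (F₀.div_mem (ho.ag_rat hs p.2.2).2 hδm) hθm)⟩ : F₀)) ⟨?_, ?_⟩
    · rintro ⟨x, y⟩ ⟨x', y'⟩ h
      have h' : ec B x.1 + ec B y.1 / δ * θ = ec B x'.1 + ec B y'.1 / δ * θ := congrArg Subtype.val h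
      have hfix : ∀ z : Ag K B, H.σ (ec B z.1 / δ) = ec B z.1 / δ := fun z => by
        rw [map_div₀, eq_neg_of_add_eq_zero_right (hec z), hσδ, neg_div_neg_eq]
      have hh := congrArg H.σ h'
      rw [map_add, map_add, map_mul, map_mul, hfix, hfix] at hh
      have e2 : ec B y.1 / δ = ec B y'.1 / δ := by
        linear_combination h' + hh - hec x + hec x' + (ec B y'.1 / δ - ec B y.1 / δ) * hθ
      have e2' : ec B y.1 = ec B y'.1 := (div_left_inj' hδ0).1 e2
      have e1 : ec B x.1 = ec B x'.1 := by rw [e2'] at h'; linear_combination h'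
      have hinj : ∀ z z' : Ag K B, ec B z.1 = ec B z'.1 → z = z' := fun z z' e =>
        Subtype.ext (ext_fixE hd B ((root_le_fixE B).1 z.2.2) ((root_le_fixE B).1 z'.2.2)
          (((root_le_fixE B).2 _ z.2.2).trans ((root_le_fixE B).2 _ z'.2.2).symm) e)
      rw [hinj _ _ e1, hinj _ _ e2']
    · rintro ⟨w, hw⟩
      have htm : w + H.σ w ∈ F₀ := F₀.add_mem hw (ho.stable w hw)
      have hts : H.σ (w + H.σ w) = w + H.σ w := H.conj.trace_mem w
      have h1 : (w - (w + H.σ w) * θ) + H.σ (w - (w + H.σ w) * θ) = 0 := by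
        rw [map_sub, map_mul, hts]
        linear_combination (-(w + H.σ w)) * hθ
      have h2 : (w + H.σ w) * δ + H.σ ((w + H.σ w) * δ) = 0 := by
        rw [map_mul, hts]
        linear_combination (w + H.σ w) * hδ
      have hval : ∀ {c : F} (hc : c + H.σ c = 0), ec B (H.sT B.ee hc) = c := fun hc => by
        rw [ec, H.sT_apply, H.add_left, H.smul_left, B.ff, B.fe, B.ef]; ring
      refine ⟨(⟨_, ho.le _ (ho.root (F₀.sub_mem hw (F₀.mul_mem htm hθm)) h1), _, h1, rfl⟩,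
        ⟨_, ho.le _ (ho.root (F₀.mul_mem htm hδm) h2), _, h2, rfl⟩), Subtype.ext ?_⟩
      show ec B (H.sT B.ee h1) + ec B (H.sT B.ee h2) / δ * θ = w
      rw [hval, hval, mul_div_cancel_right₀ _ hδ0]
      ring
  · rw [card_Ng K hd B]
    congr 1
    refine Nat.card_eq_of_bijective (fun v : (ebHom K hd B).range =>
      (⟨Multiplicative.toAdd v.1, by
        obtain ⟨x, hx⟩ := v.2
        rw [← hx]
        exact (ho.ng_rat hs hM x.2).2⟩ : F₀)) ⟨fun v w h => ?_, fun w => ?_⟩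
    · have h' : Multiplicative.toAdd v.1 = Multiplicative.toAdd w.1 := congrArg (fun z : F₀ => (z : F)) h
      exact Subtype.ext (Multiplicative.toAdd.injective h')
    · obtain ⟨-, -, u, -, hu, hub, -⟩ := ho.unip' w.2
      exact ⟨⟨Multiplicative.ofAdd (w : F), ⟨⟨u, hu⟩, congrArg Multiplicative.ofAdd hub⟩⟩, Subtype.ext rfl⟩

end Cfsg.Lib.Classical.SUThree.Rational
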