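import Cfsg.Agent.Classical.SUThree.RationalTwo
import Cfsg.Agent.Classical.SUThree.OrthOrbit

/-!
The group of a frame over a subfield of odd prime index is maximal.
-/

set_option autoImplicit false
set_option linter.unusedSectionVars false
set_option linter.style.haveILetI false

namespace Cfsg.Lib.Classical.SUThree.Rational

open Cfsg.Lib.Classical Cfsg.Lib.Components.UnitaryThree Cfsg.Lib.Known.PSUThree

universe u v

variable {F : Type u} [Field F] {V : Type v} [AddCommGroup V] [Module F V] {H : HermSpace F V}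
  [Finite F] [FiniteDimensional F V] {B : Frame H} {F₀ : Subfield F} {K : Subgroup H.SIsom} (ho : ROver B F₀ K)
  (hs : Small B F₀ K) {M : Subgroup H.SIsom} (hM : ∀ g, g ∈ M ↔ InRat B F₀ g)
include ho hs hM

theorem ROver.M_orbit_ge : Nat.card (Ng K B) + 1 ≤ Nat.card (MulAction.orbit M (pt B)) := by
  classical
  have hd := ho.dim
  obtain ⟨s, hsR, -, hse, -, -⟩ := ho.swap
  have hsp : s • pt B = ptf B := by
    rw [pt, ptf, HermSpace.smul_isoMk, HermSpace.isoMk_eq_iff]
    exact ⟨1, by rw [one_smul, hse]⟩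
  have hne : ptf B ≠ pt B := fun h => by
    rw [ptf, pt, HermSpace.isoMk_eq_iff] at h
    obtain ⟨c, hc⟩ := h
    have := congrArg (fun z => H.h z B.e) hc
    simp [H.smul_left, B.ee, B.fe] at this
  let f : Option (Ng K B) → MulAction.orbit M (pt B) := fun o => o.elim ⟨pt B, MulAction.mem_orbit_self _⟩
    fun n => ⟨n.1 • ptf B, ⟨⟨n.1 * s, M.mul_mem (ho.ng_rat hs hM n.2).1 ((hM _).2 hsR)⟩, by
      show (n.1 * s) • pt B = n.1 • ptf B
      rw [mul_smul, hsp]⟩⟩
  rw [← Finite.card_option]
  refine Nat.card_le_card_of_injective f ?_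
  have hn : ∀ n : Ng K B, pt B ≠ n.1 • ptf B := fun n h => hne (MulAction.injective n.1
    (h.symm.trans (MulAction.mem_stabilizer_iff.1 (fixE_le_stE B n.2.2)).symm))
  rintro (_ | n) (_ | n') h
  · rfl
  · exact absurd (congrArg Subtype.val h) (hn n')
  · exact absurd (congrArg Subtype.val h).symm (hn n)
  · refine congrArg some (Subtype.ext ?_)
    have h' : n.1 • ptf B = n'.1 • ptf B := congrArg Subtype.val h
    have := semiregular K hd B (mul_mem (inv_mem n'.2) n.2) hne (by rw [mul_smul, h', inv_smul_smul])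
    exact (inv_mul_eq_one.1 this).symm

theorem ROver.M_orbit_mod : Nat.card (Ng K B) ∣ Nat.card (MulAction.orbit M (pt B)) - 1 := by
  classical
  set O := MulAction.orbit M (pt B)
  let s : SubMulAction (Ng K B) H.IsoPt :=
    { carrier := O \ {pt B}
      smul_mem' := fun n y hy => by
        refine ⟨?_, fun h => hy.2 ?_⟩
        · obtain ⟨k, hk⟩ := hy.1
          refine ⟨(⟨n.1, (ho.ng_rat hs hM n.2).1⟩ : M) * k, ?_⟩
          show ((⟨n.1, _⟩ : M) * k) • pt B = n.1 • y
          rw [mul_smul, show k • pt B = y from hk]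
          rfl
        · have h' : n.1 • y = pt B := h
          rw [Set.mem_singleton_iff]
          have h0 : n.1 • pt B = pt B := fixE_le_stE B n.2.2
          exact MulAction.injective n.1 (h'.trans h0.symm) }
  have hdiv := Orth.card_dvd_of_stab s (k := 1) fun y hy => by
    rw [Nat.dvd_one, Subgroup.card_eq_one, eq_bot_iff]
    intro n hn
    rw [Subgroup.mem_bot]
    exact Subtype.ext (semiregular K ho.dim B n.2 hy.2 (MulAction.mem_stabilizer_iff.1 hn))
  rw [one_mul] at hdiv
  convert hdiv using 1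
  show Nat.card O - 1 = Nat.card ↥(O \ {pt B} : Set H.IsoPt)
  rw [Nat.card_coe_set_eq, Nat.card_coe_set_eq,
    Set.ncard_sdiff_singleton_of_mem (MulAction.mem_orbit_self _)]

theorem ROver.orbit_le : Nat.card (MulAction.orbit K (pt B)) ≤ Nat.card (MulAction.orbit M (pt B)) := by
  classical
  have hd := ho.dim
  obtain ⟨hB, hf⟩ := ho.ends_mem
  have hO : MulAction.orbit K (pt B) = Cn K := by
    refine Set.Subset.antisymm ?_ fun P hP => ?_
    · rintro _ ⟨g, rfl⟩
      exact smul_mem_Cn K hB g.2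
    · obtain ⟨g, hg, h⟩ := Cn_trans K hd hB hP
      exact ⟨⟨g, hg⟩, h⟩
  have hcard : Nat.card (MulAction.orbit K (pt B)) = Nat.card (Others K B) + 1 := by
    rw [hO, card_others K hd B hB]
  have hge := ho.M_orbit_ge hs hM
  obtain ⟨hF, hN⟩ := ho.card_field hs hM
  have h1F : 1 < Nat.card F₀ := by
    haveI : Finite F₀ := Finite.of_injective _ Subtype.val_injective
    exact Finite.one_lt_card
  rcases lt_or_ge (Nat.card (Ag K B)) 3 with hA | hA
  · have hA2 : Nat.card (Ag K B) = 2 := by
      rcases (show Nat.card (Ag K B) = 0 ∨ Nat.card (Ag K B) = 1 ∨ Nat.card (Ag K B) = 2 by omega) with h | h | h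
      · rw [h] at hF; omega
      · rw [h] at hF; omega
      · exact h
    have h9 := ho.orbit_le_nine hs hA2 hM
    rw [hN, hF, hA2] at hge
    omega
  by_cases h2 : (2 : F) = 0
  · rw [hcard, count_even K hd h2 hB hf hA]
    exact hge
  rcases count_odd K hd B h2 hB hf with h | ⟨-, h3, h⟩
  · rw [hcard, h]
    exact hge
  have hN27 : Nat.card (Ng K B) = 27 := by rw [hN, hF, h3]; norm_num
  rw [hN27] at h hge
  rw [h] at hcard
  have hmod := ho.M_orbit_mod hs hM
  rw [hN27] at hmod
  have hle : M ≤ K := fun g hg => ho.le g ((hM g).1 hg)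
  have hL : Lg M B = Lg K B := le_antisymm (inf_le_inf_right _ hle) fun g hg => ⟨ho.lg_rat hs hM hg, hg.2⟩
  have hdvd : Nat.card (MulAction.orbit M (pt B)) ∣ 82 := by
    have h1 := Subgroup.card_dvd_of_le hle
    rw [card_K_orbit M B, card_K_orbit K B, hL, hcard] at h1
    exact Nat.dvd_of_mul_dvd_mul_right Nat.card_pos h1
  rw [hcard]
  have : ∀ n ∈ Nat.divisors 82, 27 + 1 ≤ n → 27 ∣ n - 1 → 82 ≤ n := by decide
  exact this _ (Nat.mem_divisors.2 ⟨hdvd, by norm_num⟩) hge hmod

/-- An overgroup with root elements in the subfield only is the group of the frame over the subfield. -/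
theorem ROver.le_M : K ≤ M := by
  intro g hg
  have hsub : MulAction.orbit M (pt B) ⊆ MulAction.orbit K (pt B) := by
    rintro _ ⟨m, rfl⟩
    exact ⟨⟨m.1, ho.le _ ((hM _).1 m.2)⟩, rfl⟩
  have heq := Set.eq_of_subset_of_ncard_le hsub (by
    rw [← Nat.card_coe_set_eq, ← Nat.card_coe_set_eq]; exact ho.orbit_le hs hM) (Set.toFinite _)
  obtain ⟨m, hm⟩ := heq.ge (MulAction.mem_orbit (pt B) (⟨g, hg⟩ : K))
  have hmg : m.1⁻¹ * g ∈ Lg K B := ⟨K.mul_mem (K.inv_mem (ho.le _ ((hM _).1 m.2))) hg, by
    show (m.1⁻¹ * g) • pt B = pt B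
    rw [mul_smul, ← show m.1 • pt B = g • pt B from hm, inv_smul_smul]⟩
  have := M.mul_mem m.2 (ho.lg_rat hs hM hmg)
  rwa [mul_inv_cancel_left] at this

omit ho hs in
/-- The group of a frame over a subfield of odd prime index is maximal. -/
theorem isCoatom_rat (hd : Module.finrank F V = 3) (h3 : 3 ≤ H.q) (hst : ∀ a ∈ F₀, H.σ a ∈ F₀)
    (hne : ∃ a ∈ F₀, H.σ a ≠ a) {r : ℕ} (hr : r.Prime) (hcard : Nat.card F = Nat.card F₀ ^ r) : IsCoatom M := by
  have hoM : ROver B F₀ M := ⟨hd, h3, hst, hne, fun g hg => (hM g).2 hg⟩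
  refine ⟨fun htop => ?_, fun K hlt => ?_⟩
  · -- a root element outside the subfield
    obtain ⟨δ, hδm, hδ0, hδ⟩ := hoM.exists_delta
    obtain ⟨θ, hθm, hθ⟩ := hoM.exists_theta
    have hskew : ∀ c : F, c + H.σ c = 0 → c ∈ F₀ := by
      intro c hc
      obtain ⟨a, -, ha⟩ := (hM _).1 (htop ▸ Subgroup.mem_top (H.sT B.ee hc))
      obtain ⟨y, hy, he⟩ := ha B.e (rat_e B F₀)
      rw [H.sT_apply, B.ee, mul_zero, zero_smul, add_zero] at he
      have h1 : a ∈ F₀ := by
        have := congrArg (fun z => H.h z B.f) he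
        rw [B.ef, H.smul_left] at this
        rw [eq_inv_of_mul_eq_one_left this.symm]
        exact F₀.inv_mem hy.2.2
      obtain ⟨y', hy', he'⟩ := ha B.f (rat_f B F₀)
      rw [H.sT_apply, B.fe, mul_one] at he'
      have := congrArg (fun z => H.h z B.f) he'
      rw [H.add_left, H.smul_left, H.smul_left, B.ff, B.ef, zero_add, mul_one] at this
      exact this ▸ F₀.mul_mem h1 hy'.2.2
    have hall : ∀ w : F, w ∈ F₀ := fun w => by
      have hts : H.σ (w + H.σ w) = w + H.σ w := H.conj.trace_mem w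
      have h1 : (w - (w + H.σ w) * θ) + H.σ (w - (w + H.σ w) * θ) = 0 := by
        rw [map_sub, map_mul, hts]
        linear_combination (-(w + H.σ w)) * hθ
      have h2 : (w + H.σ w) * δ + H.σ ((w + H.σ w) * δ) = 0 := by
        rw [map_mul, hts]
        linear_combination (w + H.σ w) * hδ
      have ht := F₀.div_mem (hskew _ h2) hδm
      rw [mul_div_cancel_right₀ _ hδ0] at ht
      have := F₀.add_mem (hskew _ h1) (F₀.mul_mem ht hθm)
      rwa [sub_add_cancel] at this
    haveI : Finite F₀ := Finite.of_injective _ Subtype.val_injective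
    have h := Nat.card_le_card_of_surjective (fun a : F₀ => (a : F)) fun w => ⟨⟨w, hall w⟩, rfl⟩
    rw [hcard] at h
    exact absurd h (not_le.2 (lt_self_pow₀ Finite.one_lt_card hr.one_lt))
  · have ho : ROver B F₀ K := ⟨hd, h3, hst, hne, fun g hg => hlt.le ((hM g).2 hg)⟩
    rcases ho.top_or_small hr hcard with h | h
    · exact h
    · exact absurd (ho.le_M h hM) (not_le_of_gt hlt)

end Cfsg.Lib.Classical.SUThree.Rational
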