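import Cfsg.Prelude.Def_GeometricClasses
import Cfsg.Agent.Classical.SUThree.RationalTop
import Cfsg.Agent.Known.PSUThree.Main
import Cfsg.Agent.Classical.Unitary.RationalSmall
import Cfsg.Agent.Classical.Unitary.MaxMatrix
import Cfsg.Agent.Classical.Unitary.SympSubMatrix

/-!
Subfield subgroups of odd prime index in `SU_3(q)` through matrices.
-/

set_option autoImplicit false
set_option linter.unusedSectionVars false
set_option linter.style.haveILetI false

namespace Cfsg.Lib.Classical.SUThree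

open Cfsg.Lib.Classical Cfsg.Lib.Components.UnitaryThree Matrix

theorem isMaximalIn_subfield_three {F : Type*} [Field F] [Fintype F] (q : ℕ) (hF : Fintype.card F = q ^ 2)
    (hq : 3 ≤ q) (F₀ : Subfield F) (r : ℕ) (P : Matrix.GeneralLinearGroup (Fin 3) F) (hr : r.Prime)
    (hro : Odd r) (hcard : Fintype.card F = Nat.card F₀ ^ r)
    (hP : Cfsg.Geo.IsFormRationalStructure (Cfsg.hermForm 3 F q) F₀ 1 P) :
    Cfsg.Geo.IsMaximalIn (Cfsg.GU 3 F q ⊓ Cfsg.Geo.specialLinear (Fin 3) F)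
      (Cfsg.Geo.subfieldSubgroup F₀ P ⊓ (Cfsg.GU 3 F q ⊓ Cfsg.Geo.specialLinear (Fin 3) F)) := by
  classical
  refine isMaximalIn_of_isCoatom_comap (sunitToGL hF) (range_sunitToGL hF) ?_
  haveI : Finite F₀ := Finite.of_injective _ Subtype.val_injective
  haveI : Fintype F₀ := Fintype.ofFinite _
  set H := stdHerm 3 hF with hH
  have hncard : Nat.card F = Nat.card F₀ ^ r := by rw [Nat.card_eq_fintype_card]; exact hcard
  have hσmem : ∀ a : F₀, H.σ a ∈ F₀ := fun a => by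
    change powConj hF a ∈ F₀
    rw [powConj_apply]; exact F₀.pow_mem a.2 q
  have hσne : ∃ a : F₀, H.σ a ≠ a := by
    by_contra hc
    push Not at hc
    have hle : F₀ ≤ fixedField H.σ := fun x hx => hc ⟨x, hx⟩
    haveI : Finite (fixedField H.σ) := Finite.of_injective _ Subtype.val_injective
    letI : Algebra F₀ (fixedField H.σ) := (Subfield.inclusion hle).toAlgebra
    haveI : Module.Finite F₀ (fixedField H.σ) := Module.Finite.of_finite
    have h1 := Module.natCard_eq_pow_finrank (K := F₀) (V := fixedField H.σ)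
    have h2 : Nat.card (fixedField H.σ) = q := stdHerm_q hF
    rw [h2] at h1
    have h3 : Nat.card F₀ ^ r = Nat.card F₀ ^ (Module.finrank F₀ (fixedField H.σ) * 2) := by
      rw [pow_mul, ← h1, ← hF, hcard]
    have h4 := (Nat.pow_right_injective (Finite.one_lt_card : 2 ≤ Nat.card F₀)) h3
    rw [h4] at hro
    exact absurd hro (by simp)
  have S : H.UStd F₀ := ⟨fun x y => rfl, hσmem, hσne⟩
  have hmem : ∀ u v : Fin 3 → F₀, H.h (P.val *ᵥ ratVec F₀ u) (P.val *ᵥ ratVec F₀ v) ∈ F₀ := fun u v => by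
    have := hP _ _ (fun i => (u i).2) (fun i => (v i).2)
    rwa [one_mul, ← stdHerm_h hF] at this
  let Pl : (Fin 3 → F) →ₗ[F] (Fin 3 → F) := Matrix.toLin' P.val
  have hinv' : ∀ x, P.val *ᵥ ((P⁻¹ : Matrix.GeneralLinearGroup (Fin 3) F).val *ᵥ x) = x := fun x => by
    rw [Matrix.mulVec_mulVec, ← Units.val_mul, mul_inv_cancel, Units.val_one, Matrix.one_mulVec]
  have hinv : ∀ x, (P⁻¹ : Matrix.GeneralLinearGroup (Fin 3) F).val *ᵥ (P.val *ᵥ x) = x := fun x => by
    rw [Matrix.mulVec_mulVec, ← Units.val_mul, inv_mul_cancel, Units.val_one, Matrix.one_mulVec]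
  let H₁ : HermSpace F₀ (Fin 3 → F₀) :=
    { σ := S.rat.σ
      h := fun u v => ⟨_, hmem u v⟩
      conj := S.rat.conj
      add_left := fun x y z => Subtype.ext (by
        change H.h (Pl (ratVec F₀ (x + y))) (Pl (ratVec F₀ z)) = _
        rw [ratVec_add, map_add, H.add_left]; rfl)
      smul_left := fun c x z => Subtype.ext (by
        change H.h (Pl (ratVec F₀ (c • x))) (Pl (ratVec F₀ z)) = _
        rw [ratVec_smul, map_smul, H.smul_left]; rfl)
      symm := fun x y => Subtype.ext (H.symm _ _)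
      nondeg := fun v hv => by
        have hz : Pl (ratVec F₀ v) = 0 := by
          refine H.nondeg _ fun x => ?_
          rw [← hinv' x]
          refine LinearMap.congr_fun (ext_on_ratVec (F₀ := F₀) (f := H.lin (Pl (ratVec F₀ v)) ∘ₗ Pl) (g := 0)
            fun u => ?_) _
          exact congrArg Subtype.val (hv u)
        refine ratVec_injective ?_
        rw [← hinv (ratVec F₀ v)]
        change (P⁻¹ : Matrix.GeneralLinearGroup (Fin 3) F).val *ᵥ Pl (ratVec F₀ v) = _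
        rw [hz, Matrix.mulVec_zero]; rfl }
  have hd₁ : Module.finrank F₀ (Fin 3 → F₀) = 3 := by rw [Module.finrank_fin_fun]
  obtain ⟨x₀, hx0, hxx⟩ := H₁.exists_isotropic_of_two_le (by rw [hd₁]; norm_num)
  obtain ⟨B₁, -⟩ := exists_frame (H := H₁) hd₁ hx0 hxx
  let B : Frame H := ⟨P.val *ᵥ ratVec F₀ B₁.e, P.val *ᵥ ratVec F₀ B₁.w, P.val *ᵥ ratVec F₀ B₁.f,
    congrArg Subtype.val B₁.ee, congrArg Subtype.val B₁.ff, congrArg Subtype.val B₁.ef,
    congrArg Subtype.val B₁.ww, congrArg Subtype.val B₁.we, congrArg Subtype.val B₁.wf⟩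
  have hd : Module.finrank F (Fin 3 → F) = 3 := by rw [Module.finrank_fin_fun]
  have hB : ∀ x, Rational.Rat B F₀ x ↔ ∃ u : Fin 3 → F₀, x = P.val *ᵥ ratVec F₀ u := by
    intro x
    refine ⟨fun hx => ⟨(⟨_, hx.2.2⟩ : F₀) • B₁.e + (⟨_, hx.2.1⟩ : F₀) • B₁.w + (⟨_, hx.1⟩ : F₀) • B₁.f, ?_⟩, ?_⟩
    · rw [ratVec_add, ratVec_add, ratVec_smul, ratVec_smul, ratVec_smul, Matrix.mulVec_add, Matrix.mulVec_add,
        Matrix.mulVec_smul, Matrix.mulVec_smul, Matrix.mulVec_smul]
      exact decomp hd B x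
    · rintro ⟨u, rfl⟩
      exact ⟨hmem u B₁.e, hmem u B₁.w, hmem u B₁.f⟩
  obtain ⟨a₀, ha₀⟩ := hσne
  refine Rational.isCoatom_rat (B := B) (F₀ := F₀) (M := _) (fun g => ?_) hd (by rw [stdHerm_q hF]; exact hq)
    (fun a ha => hσmem ⟨a, ha⟩) ⟨a₀, a₀.2, ha₀⟩ hr hncard
  rw [Subgroup.mem_comap, mem_subfieldSubgroup_iff]
  refine exists_congr fun a => and_congr_right fun _ => ⟨fun h x hx => ?_, fun h u hu => ?_⟩
  · obtain ⟨u, rfl⟩ := (hB x).1 hx
    obtain ⟨t, ht, he⟩ := h _ fun i => (u i).2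
    rw [sunitToGL_mulVec] at he
    exact ⟨_, (hB _).2 ⟨fun i => ⟨t i, ht i⟩, rfl⟩, he⟩
  · obtain ⟨y, hy, he⟩ := h _ ((hB _).2 ⟨fun i => ⟨u i, hu i⟩, rfl⟩)
    obtain ⟨t, rfl⟩ := (hB y).1 hy
    exact ⟨ratVec F₀ t, fun i => (t i).2, by rw [sunitToGL_mulVec]; exact he⟩

end Cfsg.Lib.Classical.SUThree
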