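import Cfsg.Agent.Classical.SUThree.RationalStab
import Cfsg.Agent.InvolCalc.ZStarApps

/-!
With root groups of two elements there are at most nine centres.
-/

set_option autoImplicit false
set_option linter.unusedSectionVars false
set_option linter.style.haveILetI false

namespace Cfsg.Lib.Classical.SUThree.Rational

open Cfsg.Lib.Classical Cfsg.Lib.Components.UnitaryThree Cfsg.Lib.Known.PSUThree

universe u v

variable {F : Type u} [Field F] {V : Type v} [AddCommGroup V] [Module F V] {H : HermSpace F V}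

/-- The element is a scalar of order dividing three. -/
def Sc {K : Subgroup H.SIsom} (z : K) : Prop := ∃ a : F, a ^ 3 = 1 ∧ ∀ v, z.1.1.1 v = a • v

variable {K : Subgroup H.SIsom}

theorem Sc.comm {z : K} (h : Sc z) (g : K) : z * g = g * z := by
  obtain ⟨a, -, ha⟩ := h
  refine Subtype.ext (H.sisom_ext fun v => ?_)
  show (z.1 * g.1).1.1 v = (g.1 * z.1).1.1 v
  rw [H.smul_mul_apply, H.smul_mul_apply, ha, ha, map_smul]

theorem Sc.mul {z z' : K} (h : Sc z) (h' : Sc z') : Sc (z * z') := by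
  obtain ⟨a, ha3, ha⟩ := h
  obtain ⟨b, hb3, hb⟩ := h'
  refine ⟨a * b, by rw [mul_pow, ha3, hb3, one_mul], fun v => ?_⟩
  show (z.1 * z'.1).1.1 v = _
  rw [H.smul_mul_apply, hb, map_smul, ha, smul_smul, mul_comm]

theorem Sc.inv {z : K} (h : Sc z) : Sc z⁻¹ := by
  obtain ⟨a, ha3, ha⟩ := h
  refine ⟨a⁻¹, by rw [inv_pow, ha3, inv_one], fun v => ?_⟩
  have e : z.1.1.1 (a⁻¹ • v) = v := by
    rw [ha, smul_smul, mul_inv_cancel₀ (fun h0 => by rw [h0] at ha3; simp at ha3), one_smul]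
  show (z.1⁻¹).1.1 v = _
  conv_lhs => rw [← e]
  exact H.inv_apply_self z.1.1 _

variable [Finite F] [FiniteDimensional F V] {B : Frame H} {F₀ : Subfield F} (ho : ROver B F₀ K)
  (hs : Small B F₀ K) (hA : Nat.card (Ag K B) = 2)
include ho hs hA

/-- Root groups of two elements give at most nine centres. -/
theorem ROver.orbit_le_nine {M : Subgroup H.SIsom} (hM : ∀ g, g ∈ M ↔ InRat B F₀ g) :
    Nat.card (MulAction.orbit K (pt B)) ≤ 9 := by
  classical
  have hd := ho.dim
  obtain ⟨δ, hδm, hδ0, hδ⟩ := ho.exists_delta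
  set a := H.sT B.ee hδ
  have haA : a ∈ Ag K B := ⟨ho.le _ (ho.root hδm hδ), δ, hδ, rfl⟩
  have ha1' : a ≠ 1 := sT_ne_one _ B.e_ne _ hδ0
  have huniv : ∀ b ∈ Ag K B, b = 1 ∨ b = a := by
    intro b hb
    obtain ⟨x, y, hne, huniv⟩ := Nat.card_eq_two_iff.1 hA
    by_contra! hc
    have hm : ∀ z : Ag K B, z = x ∨ z = y := fun z => by simpa using huniv.ge (Set.mem_univ z)
    have hne1 : (⟨a, haA⟩ : Ag K B) ≠ 1 := fun h => ha1' (congrArg Subtype.val h)
    have hne2 : (⟨b, hb⟩ : Ag K B) ≠ 1 := fun h => hc.1 (congrArg Subtype.val h)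
    have hne3 : (⟨b, hb⟩ : Ag K B) ≠ ⟨a, haA⟩ := fun h => hc.2 (congrArg Subtype.val h)
    rcases hm 1 with e | e <;> rcases hm ⟨a, haA⟩ with e' | e' <;> rcases hm ⟨b, hb⟩ with e'' | e'' <;>
      first
        | exact hne1 (e'.trans e.symm)
        | exact hne2 (e''.trans e.symm)
        | exact hne3 (e''.trans e'.symm)
  have haf : a ∈ fixE B := (root_le_fixE B).1 haA.2
  have hfix : ∀ x : H.SIsom, x * a = a * x → x • pt B = pt B := fun x hx => by
    refine fix_pt hd B haf ha1' ?_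
    rw [← mul_smul, ← hx, mul_smul]
    congr 1
    exact MulAction.mem_stabilizer_iff.1 (fixE_le_stE B haf)
  set t : K := ⟨a, haA.1⟩ with ht_def
  have ha2 : a * a = 1 := by
    rcases huniv _ (mul_mem haA haA) with h | h
    · exact h
    · exact absurd (mul_eq_left.1 h) ha1'
  have ht1 : t ≠ 1 := fun h => ha1' (congrArg Subtype.val h)
  have htt : t * t = 1 := Subtype.ext ha2
  have hti : t⁻¹ = t := inv_eq_of_mul_eq_one_right htt
  have ht : Cfsg.IsIsolatedInvolution t := by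
    refine ⟨orderOf_eq_prime (by rw [pow_two]; exact htt) ht1, fun g hg => ?_⟩
    have hc : (g.1 * a * g.1⁻¹) * a = a * (g.1 * a * g.1⁻¹) := congrArg Subtype.val hg.eq.symm
    have h1 := hfix _ hc
    have hgB : g.1⁻¹ • pt B = pt B := by
      refine fix_pt hd B haf ha1' ?_
      conv_rhs => rw [← h1]
      rw [mul_smul, mul_smul, inv_smul_smul]
    have hgs : g.1 ∈ stE B := by rw [← inv_mem_iff]; exact MulAction.mem_stabilizer_iff.2 hgB
    rcases huniv _ ⟨K.mul_mem (K.mul_mem g.2 haA.1) (K.inv_mem g.2), (conj_ec hd B hgs haA.2).1⟩ with h | h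
    · exact absurd (conj_eq_one_iff.1 h) ha1'
    · exact Subtype.ext h
  set O := Cfsg.pPrimeCore 2 K
  have hodd : Odd (Nat.card O) := Cfsg.Lib.ZStarApps.odd_card_pPrimeCore
  haveI hOn : O.Normal := by infer_instance
  have hz := Cfsg.Lib.ZStarApps.zstarProp ht
  -- the unipotent part has eight elements
  have hN8 : Nat.card (Ng K B) = 8 := by
    obtain ⟨h1, h2⟩ := ho.card_field hs hM
    rw [h2, h1, hA]; norm_num
  have hcop : ∀ n : K, n ∈ O → n.1 ∈ Ng K B → n = 1 := by
    intro n hnO hnN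
    have h1 : orderOf n ∣ Nat.card O := by
      rw [← Subgroup.orderOf_mk n hnO]; exact orderOf_dvd_natCard _
    have h2 : orderOf n ∣ 8 := by
      rw [← hN8, ← Subgroup.orderOf_coe, ← Subgroup.orderOf_mk n.1 hnN]; exact orderOf_dvd_natCard _
    have hc : Nat.Coprime (2 ^ 3) (Nat.card O) := Nat.Coprime.pow_left 3 ((Nat.coprime_two_left).2 hodd)
    exact orderOf_eq_one_iff.1 (Nat.eq_one_of_dvd_coprimes hc h2 h1)
  -- what commutes with the involution is scalar
  have cent : ∀ n : K, n ∈ O → n * t = t * n → Sc n := by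
    intro n hnO hnt
    have hnt' : n.1 * a = a * n.1 := congrArg Subtype.val hnt
    have hnst : n.1 ∈ stE B := MulAction.mem_stabilizer_iff.2 (hfix _ hnt')
    have hcN : ∀ u : K, u.1 ∈ Ng K B → n * u = u * n := by
      intro u hu
      refine mul_inv_eq_one.1 (?_ : n * u * (u * n)⁻¹ = 1)
      refine hcop _ ?_ ?_
      · rw [show n * u * (u * n)⁻¹ = n * (u * n⁻¹ * u⁻¹) by group]
        exact O.mul_mem hnO (hOn.conj_mem _ (O.inv_mem hnO) u)
      · show n.1 * u.1 * (u.1 * n.1)⁻¹ ∈ Ng K B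
        rw [show n.1 * u.1 * (u.1 * n.1)⁻¹ = (n.1 * u.1 * n.1⁻¹) * u.1⁻¹ by group]
        exact mul_mem ⟨K.mul_mem (K.mul_mem n.2 hu.1) (K.inv_mem n.2), conj_mem_fixE hd B hnst hu.2⟩
          (inv_mem hu)
    obtain ⟨he, ha0, -⟩ := coords hd B hnst
    -- the eigenvalue
    have hn1 : ea B n.1 * H.σ (ea B n.1) = 1 := by
      have h := (conj_ec hd B hnst haA.2).2
      have hecδ : ec B a = δ := by
        rw [ec, H.sT_apply, H.add_left, H.smul_left, B.ff, B.fe, B.ef]; ring
      rw [show n.1 * a * n.1⁻¹ = a by rw [hnt', mul_inv_cancel_right], hecδ] at h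
      exact (mul_eq_right₀ hδ0).1 h.symm
    obtain ⟨-, -, u, -, hu, hub, -⟩ := ho.unip' F₀.one_mem
    have hda : ed B n.1 = ea B n.1 := by
      have h := conj_eb hd B hnst hu.2
      have e : n.1 * u = u * n.1 := congrArg Subtype.val (hcN ⟨u, hu.1⟩ hu)
      rwa [show n.1 * u * n.1⁻¹ = u by rw [e, mul_inv_cancel_right], hub, mul_one, mul_one] at h
    have ha3 : ea B n.1 ^ 3 = 1 := by
      have h := ed_mul_ea hd B hnst
      rw [hda] at h
      linear_combination (ea B n.1) * h + hn1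
    obtain ⟨z, -, hzK, hzs⟩ := ho.scalar ha3 hn1
    have hzSc : Sc (⟨z, hzK⟩ : K) := ⟨_, ha3, hzs⟩
    set m : K := (⟨z, hzK⟩ : K)⁻¹ * n with hm
    have hmN : m.1 ∈ Ng K B := by
      refine ⟨m.2, ?_⟩
      show (z⁻¹ * n.1).1.1 B.e = B.e
      rw [H.smul_mul_apply, he, ← hzs]
      exact H.inv_apply_self z.1 _
    have hmc : ∀ x : K, x.1 ∈ Ng K B → m * x = x * m := fun x hx => by
      rw [hm, mul_assoc, hcN x hx, ← mul_assoc, hzSc.inv.comm x, mul_assoc]
    have hb0 : eb B m.1 = 0 := by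
      have hc0 : ∀ s ∈ F₀, H.σ (eb B m.1) * s - H.σ s * eb B m.1 = 0 := by
        intro s hs'
        obtain ⟨-, -, w, -, hw, hwb, -⟩ := ho.unip' hs'
        have e : m.1 * w = w * m.1 := congrArg Subtype.val (hmc ⟨w, hw.1⟩ hw)
        have h1 := (eb_mul hd B hmN.2 hw.2).2
        have h2 := (eb_mul hd B hw.2 hmN.2).2
        rw [e] at h1
        rw [hwb] at h1 h2
        linear_combination h2 - h1
      obtain ⟨a', ha', hne'⟩ := ho.ne
      have h1 := hc0 1 F₀.one_mem
      rw [map_one, mul_one, one_mul] at h1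
      refine (mul_eq_zero.1 (show eb B m.1 * (a' - H.σ a') = 0 by
        linear_combination hc0 a' ha' - a' * h1)).resolve_right (sub_ne_zero.2 (Ne.symm hne'))
    have hnm : n = ⟨z, hzK⟩ * m := by rw [hm, mul_inv_cancel_left]
    rcases huniv m.1 ⟨m.2, mem_root_of_eb hd B hmN.2 hb0⟩ with h | h
    · rw [hnm, show m = 1 from Subtype.ext h, mul_one]
      exact hzSc
    · exfalso
      have hz3 : (⟨z, hzK⟩ : K) ^ 3 = 1 := by
        refine Subtype.ext (H.sisom_ext fun v => ?_)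
        show (z ^ 3).1.1 v = v
        rw [pow_succ, pow_two, H.smul_mul_apply, H.smul_mul_apply]
        simp only [hzs, smul_smul]
        rw [show ea B n.1 * (ea B n.1 * ea B n.1) = 1 by linear_combination ha3, one_smul]
      have hn3 : n ^ 3 = t := by
        rw [hnm, show m = t from Subtype.ext h, (show Commute (⟨z, hzK⟩ : K) t from hzSc.comm t).mul_pow, hz3,
          one_mul, pow_succ, pow_two, htt, one_mul]
      have htO : t ∈ O := hn3 ▸ O.pow_mem hnO 3
      exact ht1 (hcop t htO ⟨haA.1, haf⟩)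
  -- elements inverted by the involution
  have hX : ∀ g : K, g * t * g⁻¹ * t ∈ O := fun g => by
    have := inv_mem (hz g)
    rwa [mul_inv_rev, mul_inv_rev, mul_inv_rev, inv_inv, inv_inv, hti, ← mul_assoc, ← mul_assoc] at this
  have hroot : ∀ g : K, ∃ y ∈ O, t * y * t = y⁻¹ ∧ y * t * y⁻¹ = g * t * g⁻¹ := by
    intro g
    set x := g * t * g⁻¹ * t with hx
    have hinv : t * x * t = x⁻¹ := by
      rw [hx, mul_inv_rev, mul_inv_rev, mul_inv_rev, inv_inv, hti]
      calc t * (g * t * g⁻¹ * t) * t = t * (g * t * g⁻¹) * (t * t) := by group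
        _ = _ := by rw [htt, mul_one]; group
    obtain ⟨m, hm⟩ : Odd (orderOf x) :=
      hodd.of_dvd_nat (by rw [← Subgroup.orderOf_mk x (hX g)]; exact orderOf_dvd_natCard _)
    set y := x ^ (m + 1) with hy
    have hyy : y * y = x := by
      rw [hy, ← pow_add, show m + 1 + (m + 1) = orderOf x + 1 by omega, pow_succ, pow_orderOf_eq_one, one_mul]
    have hty : t * y * t = y⁻¹ := by
      rw [hy, ← inv_pow, ← hinv, show t * x * t = t * x * t⁻¹ by rw [hti], conj_pow, hti]
    refine ⟨y, pow_mem (hX g) _, hty, ?_⟩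
    have hty' : t * y⁻¹ * t = y := by
      rw [← hty]
      calc t * (t * y * t) * t = (t * t) * y * (t * t) := by group
        _ = y := by rw [htt, one_mul, mul_one]
    calc y * t * y⁻¹ = y * (t * y⁻¹ * t) * t⁻¹ := by group
      _ = g * t * g⁻¹ := by rw [hty', hyy, hx]; group
  -- commutators in the odd core are scalars
  have hinv : ∀ n ∈ O, Sc (n * (t * n * t)) := by
    intro n hn
    obtain ⟨y, hyO, hty, hy⟩ := hroot n
    have hzz : Sc (y⁻¹ * n) := by
      refine cent _ (O.mul_mem (O.inv_mem hyO) hn) ?_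
      calc y⁻¹ * n * t = y⁻¹ * (n * t * n⁻¹) * n := by group
        _ = t * (y⁻¹ * n) := by rw [← hy]; group
    have e : n * (t * n * t) = (y⁻¹ * n) * (y⁻¹ * n) := by
      set z := y⁻¹ * n with hz'
      have hn' : n = y * z := by rw [hz', mul_inv_cancel_left]
      rw [hn', show t * (y * z) * t = (t * y * t) * z by rw [mul_assoc t (y * z), mul_assoc y z t, hzz.comm t]; group,
        hty, show y * z * (y⁻¹ * z) = y * (z * y⁻¹) * z by group, hzz.comm y⁻¹]
      group
    rw [e]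
    exact hzz.mul hzz
  have hcom : ∀ n ∈ O, ∀ m ∈ O, Sc (n * m * n⁻¹ * m⁻¹) := by
    intro n hn m hm
    set α : K → K := fun x => t * x * t
    have hα : α (m * n) = α m * α n := by
      calc t * (m * n) * t = t * m * 1 * (n * t) := by group
        _ = (t * m * t) * (t * n * t) := by rw [← htt]; group
    obtain ⟨p, hp, hpe⟩ : ∃ p, Sc p ∧ α n = n⁻¹ * p :=
      ⟨_, hinv n hn, (inv_mul_cancel_left n _).symm⟩
    obtain ⟨r, hr, hre⟩ : ∃ r, Sc r ∧ α m = m⁻¹ * r :=
      ⟨_, hinv m hm, (inv_mul_cancel_left m _).symm⟩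
    obtain ⟨w, hw, hwe⟩ : ∃ w, Sc w ∧ α (m * n) = (m * n)⁻¹ * w :=
      ⟨_, hinv _ (O.mul_mem hm hn), (inv_mul_cancel_left (m * n) _).symm⟩
    rw [hwe, hre, hpe] at hα
    have e : n * m * n⁻¹ * m⁻¹ = r * p * w⁻¹ := by
      have h1 : m⁻¹ * r * (n⁻¹ * p) = m⁻¹ * n⁻¹ * (r * p) := by
        rw [mul_assoc, ← mul_assoc r, hr.comm n⁻¹]; group
      rw [h1] at hα
      calc n * m * n⁻¹ * m⁻¹ = n * m * ((m * n)⁻¹ * w) * w⁻¹ := by group
        _ = n * m * (m⁻¹ * n⁻¹ * (r * p)) * w⁻¹ := by rw [hα]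
        _ = r * p * w⁻¹ := by group
    rw [e]
    exact (hr.mul hp).mul hw.inv
  -- two elements of the odd core
  obtain ⟨s, -, hsK, hse, hsw, hsf⟩ := ho.swap
  obtain ⟨cu, -, u, -, hu, -, huw, -⟩ := ho.unip' F₀.one_mem
  set x : K := (⟨s, hsK⟩ : K) * t * (⟨s, hsK⟩ : K)⁻¹ * t with hxdef
  have hxO : x ∈ O := hX _
  set y : K := (⟨u, hu.1⟩ : K) * x * (⟨u, hu.1⟩ : K)⁻¹
  have hyO : y ∈ O := hOn.conj_mem x hxO _
  have hxe : x.1.1.1 B.e = B.e + δ • B.f ∧ x.1.1.1 B.w = B.w ∧ x.1.1.1 B.f = δ • B.e + (1 + δ * δ) • B.f := by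
    have e : x.1 = H.sT B.ff hδ * H.sT B.ee hδ := by
      show s * a * s⁻¹ * a = _
      rw [H.sT_conj, H.sT_congr _ B.ff hδ hδ hse rfl]
    rw [e]
    simp only [H.smul_mul_apply, H.sT_apply, B.ee, B.we, B.fe, B.ef, B.wf, B.ff, H.add_left, H.smul_left,
      mul_zero, mul_one, zero_smul, add_zero, zero_add]
    refine ⟨?_, ?_, ?_⟩ <;> first | trivial | module
  have hxfix : ∀ v, x.1.1.1 v = v → ∃ c : F, v = c • B.w := by
    intro v hv
    have hv' := decomp hd B v
    have himg : x.1.1.1 v = (H.h v B.f + H.h v B.e * δ) • B.e + H.h v B.w • B.w +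
        (H.h v B.f * δ + H.h v B.e * (1 + δ * δ)) • B.f := by
      conv_lhs => rw [hv']
      rw [map_add, map_add, map_smul, map_smul, map_smul, hxe.1, hxe.2.1, hxe.2.2]
      module
    rw [hv] at himg
    have e1 := congrArg (fun z => H.h z B.f) himg
    have e3 := congrArg (fun z => H.h z B.e) himg
    simp [H.add_left, H.smul_left, B.ee, B.we, B.fe, B.ef, B.wf, B.ff] at e1 e3
    have hγ : H.h v B.e = 0 := e1.resolve_right hδ0
    have hα : H.h v B.f = 0 := (mul_eq_zero.1 (show H.h v B.f * δ = 0 by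
      rw [hγ] at e3; linear_combination -e3)).resolve_right hδ0
    exact ⟨H.h v B.w, by conv_lhs => rw [hv', hγ, hα, zero_smul, zero_smul, zero_add, add_zero]⟩
  have hue : u.1.1 B.e = B.e := hu.2
  rw [one_smul] at huw
  have key : ∀ m : K, m * x = x * m → m * y = y * m → ∃ d : F, ∀ v, m.1.1.1 v = d • v := by
    intro m hmx hmy
    have hmx' : ∀ v, m.1.1.1 (x.1.1.1 v) = x.1.1.1 (m.1.1.1 v) := fun v => by
      rw [← H.smul_mul_apply, ← H.smul_mul_apply]; exact congrArg (fun g : K => g.1.1.1 v) hmx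
    obtain ⟨d, hdw⟩ := hxfix (m.1.1.1 B.w) (by rw [← hmx', hxe.2.1])
    have hd0 : d ≠ 0 := fun h => H.isom_ne_zero m.1.1 (x := B.w) (fun h0 => by
      have := B.ww; rw [h0, H.zero_left] at this; exact zero_ne_one this) (by rw [hdw, h, zero_smul])
    have hyew : y.1.1.1 (B.e + B.w) = B.e + B.w := by
      show (u * x.1 * u⁻¹).1.1 (B.e + B.w) = _
      rw [← huw, H.smul_mul_apply, show (u⁻¹).1.1 (u.1.1 B.w) = B.w from H.inv_apply_self u.1 _,
        H.smul_mul_apply, hxe.2.1]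
    set v := m.1.1.1 (B.e + B.w) with hv
    have hyv : y.1.1.1 v = v := by
      rw [hv]
      conv_rhs => rw [← hyew]
      rw [← H.smul_mul_apply, ← H.smul_mul_apply]
      exact congrArg (fun g : K => g.1.1.1 (B.e + B.w)) hmy.symm
    obtain ⟨d', hd'⟩ := hxfix ((u⁻¹).1.1 v) (by
      have h : (u * x.1 * u⁻¹).1.1 v = v := hyv
      rw [H.smul_mul_apply, H.smul_mul_apply] at h
      conv_rhs => rw [← h]
      exact (H.inv_apply_self u.1 _).symm)
    have hv2 : v = d' • (B.e + B.w) := by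
      rw [← huw, ← map_smul, ← hd']
      exact (H.apply_inv_self u.1 _).symm
    have hme : m.1.1.1 B.e = d' • B.e + (d' - d) • B.w := by
      rw [hv, map_add, hdw] at hv2
      rw [eq_sub_of_add_eq hv2]
      module
    have hdd : d' = d := by
      have h := H.map_form m.1.1 B.e B.w
      rw [hme, hdw, B.ew] at h
      simp [H.add_left, H.smul_left, H.smul_right, B.ew, B.ww] at h
      exact sub_eq_zero.1 (h.resolve_right hd0)
    rw [hdd, sub_self, zero_smul, add_zero] at hme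
    have hmf : m.1.1.1 B.f = d • B.f := by
      have h := hmx' B.e
      rw [hxe.1, map_add, map_smul, hme, map_smul, hxe.1, smul_add, smul_comm d δ] at h
      exact smul_right_injective V hδ0 (add_left_cancel h)
    refine ⟨d, fun v => ?_⟩
    conv_lhs => rw [decomp hd B v]
    conv_rhs => rw [decomp hd B v]
    rw [map_add, map_add, map_smul, map_smul, map_smul, hme, hdw, hmf]
    module
  -- the injection
  have hex : ∀ P : MulAction.orbit K (pt B), ∃ n ∈ O, n.1 • pt B = P.1 := by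
    rintro ⟨_, g, rfl⟩
    obtain ⟨n, hnO, -, hn⟩ := hroot g
    refine ⟨n, hnO, ?_⟩
    have h1 := hfix (g.1⁻¹ * n.1) (congrArg Subtype.val
      (show g⁻¹ * n * t = t * (g⁻¹ * n) by
        calc g⁻¹ * n * t = g⁻¹ * (n * t * n⁻¹) * n := by group
          _ = _ := by rw [hn]; group))
    rw [mul_smul] at h1
    exact inv_smul_eq_iff.1 h1
  choose n hnO hnP using hex
  choose c1 hc1 hc1' using fun P => hcom (n P) (hnO P) x hxO
  choose c2 hc2 hc2' using fun P => hcom (n P) (hnO P) y hyO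
  have h3 : Nat.card {d : F // d ^ 3 = 1} ≤ 3 := by
    calc Nat.card {d : F // d ^ 3 = 1} = Nat.card ((Polynomial.nthRoots 3 (1 : F)).toFinset : Set F) := by
          refine Nat.card_congr (Equiv.subtypeEquivRight fun d => ?_)
          simp [Polynomial.mem_nthRoots]
      _ ≤ 3 := by
          rw [Nat.card_coe_set_eq, Set.ncard_coe_finset]
          exact (Multiset.toFinset_card_le _).trans (Polynomial.card_nthRoots _ _)
  refine (Nat.card_le_card_of_injective
    (fun P => ((⟨c1 P, hc1 P⟩ : {d : F // d ^ 3 = 1}), (⟨c2 P, hc2 P⟩ : {d : F // d ^ 3 = 1}))) ?_).trans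
    (by rw [Nat.card_prod]; exact Nat.mul_le_mul h3 h3)
  intro P Q h
  have e1 : c1 P = c1 Q := congrArg (fun p : {d : F // d ^ 3 = 1} × {d : F // d ^ 3 = 1} => p.1.1) h
  have e2 : c2 P = c2 Q := congrArg (fun p : {d : F // d ^ 3 = 1} × {d : F // d ^ 3 = 1} => p.2.1) h
  have hcomm : ∀ w : K, n P * w * (n P)⁻¹ * w⁻¹ = n Q * w * (n Q)⁻¹ * w⁻¹ →
      ((n Q)⁻¹ * n P) * w = w * ((n Q)⁻¹ * n P) := fun w h => by
    have h' := mul_right_cancel h
    calc (n Q)⁻¹ * n P * w = (n Q)⁻¹ * (n P * w * (n P)⁻¹) * n P := by group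
      _ = _ := by rw [h']; group
  obtain ⟨d, hd'⟩ := key _
    (hcomm x (Subtype.ext (H.sisom_ext fun v => (hc1' P v).trans (by rw [e1]; exact (hc1' Q v).symm))))
    (hcomm y (Subtype.ext (H.sisom_ext fun v => (hc2' P v).trans (by rw [e2]; exact (hc2' Q v).symm))))
  have h0 : ((n Q).1⁻¹ * (n P).1) • pt B = pt B := MulAction.mem_stabilizer_iff.1 (mem_stE.2 ⟨d, hd' B.e⟩)
  rw [mul_smul, inv_smul_eq_iff, hnP, hnP] at h0
  exact Subtype.ext h0

end Cfsg.Lib.Classical.SUThree.Rational
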