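import Mathlib

/-!
The index of an overgroup of the normaliser of a cubic extension in a three-dimensional special unitary group.
-/

set_option autoImplicit false

namespace Cfsg.Lib.Classical.SUThree.Singer

/-- The finite part of the computation. -/
theorem index_small : ∀ q : Fin 75, ∀ d ∈ [1, 3], (q.val % 3 = 2 → d = 3) → (q.val % 3 ≠ 2 → d = 1) →
    (d = 1 → q.val ≤ 5) → ∀ k : Fin (q.val + 2), 6 ≤ q.val ∨ q.val = 4 → q.val ≠ 14 → q.val ≠ 35 →
    1 ≤ k.val → 3 * (1 + k.val * ((q.val * q.val - q.val + 1) / d)) < (q.val + 1) * (q.val + 1) * (q.val - 1) →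
    q.val * q.val * q.val * ((q.val + 1) * (q.val + 1) * (q.val - 1)) %
      (1 + k.val * ((q.val * q.val - q.val + 1) / d)) = 0 →
    q.val = 6 ∨ q.val = 8 ∧ 1 + k.val * ((q.val * q.val - q.val + 1) / d) = 96 := by
  decide +kernel

/-- The conductor-free bound. -/
theorem small_of_bound {q k d : ℕ} (hd : d = 1 ∧ 3 * k ≤ q + 1 ∨ d = 3 ∧ k ≤ q + 1) (hk : 1 ≤ k)
    (h : k * (q * q - q + 1) < d * ((d + k) * (3 * k + d + d * (q + 1)))) : d = 1 ∧ q ≤ 5 ∨ d = 3 ∧ q < 75 := by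
  obtain ⟨m, hm⟩ : ∃ m, q * q - q + 1 = m := ⟨_, rfl⟩
  rw [hm] at h
  have hq : q ≤ q * q := by rcases Nat.eq_zero_or_pos q with h | h <;> nlinarith
  have hm' : m + q = q * q + 1 := by omega
  rcases hd with ⟨rfl, h3⟩ | ⟨rfl, h3⟩
  · refine Or.inl ⟨rfl, ?_⟩
    by_contra! hc
    have h1 : k * m < k * (2 * (3 * k + 1 + 1 * (q + 1))) := by
      refine lt_of_lt_of_le h ?_
      rw [one_mul, ← mul_assoc k 2]
      exact Nat.mul_le_mul_right _ (by omega)
    have h2 := Nat.lt_of_mul_lt_mul_left h1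
    nlinarith
  · refine Or.inr ⟨rfl, ?_⟩
    by_contra! hc
    have h1 : k * m < k * (12 * (3 * k + 3 + 3 * (q + 1))) := by
      refine lt_of_lt_of_le h ?_
      rw [← mul_assoc k 12, ← mul_assoc 3]
      exact Nat.mul_le_mul_right _ (by omega)
    have h2 := Nat.lt_of_mul_lt_mul_left h1
    nlinarith

/-- A divisor with a prime power factor, a factor from `q - 1` and one from `(q + 1)²`. -/
theorem dvd_split {n x y z : ℕ} (h : n ∣ x * (y * z)) :
    ∃ a b c, a ∣ x ∧ b ∣ y ∧ c ∣ z ∧ n = a * (b * c) := by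
  obtain ⟨a, bc, ha, hbc, rfl⟩ := Nat.dvd_mul.1 h
  obtain ⟨b, c, hb, hc, rfl⟩ := Nat.dvd_mul.1 hbc
  exact ⟨a, b, c, ha, hb, hc, rfl⟩

theorem index_cases {q n k d : ℕ} (hq : 3 ≤ q) (hq3 : q ≠ 3) (hq5 : q ≠ 5) (hpp : IsPrimePow q)
    (hd : d = Nat.gcd 3 (q + 1)) (hn : n = 1 + k * ((q * q - q + 1) / d)) (hk : 1 ≤ k)
    (hlt : 3 * n < (q + 1) * (q + 1) * (q - 1))
    (hdvd : n ∣ q * q * q * ((q + 1) * (q + 1) * (q - 1))) : q = 8 ∧ n = 96 := by
  obtain ⟨p, e, hp, he, hpe⟩ := (isPrimePow_nat_iff _).1 hpp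
  have hqe : q = p ^ e := hpe.symm
  obtain ⟨m, hm⟩ : ∃ m, q * q - q + 1 = m := ⟨_, rfl⟩
  have hqq : q ≤ q * q := Nat.le_mul_self q
  have hm' : m + q = q * q + 1 := by omega
  have hdm : d ∣ m ∧ (q % 3 = 2 → d = 3) ∧ (q % 3 ≠ 2 → d = 1) := by
    by_cases h : q % 3 = 2
    · have hd3 : d = 3 := by rw [hd]; exact Nat.gcd_eq_left (by omega)
      refine ⟨?_, fun _ => hd3, fun h' => absurd h h'⟩
      rw [hd3, Nat.dvd_iff_mod_eq_zero]
      have := congrArg (· % 3) hm'
      simp [Nat.add_mod, Nat.mul_mod, h] at this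
      omega
    · have hd1 : d = 1 := by
        rw [hd]
        refine (Nat.Prime.coprime_iff_not_dvd Nat.prime_three).2 ?_
        omega
      exact ⟨hd1 ▸ one_dvd m, fun h' => absurd h' h, fun _ => hd1⟩
  obtain ⟨hdm, hd2, hd1⟩ := hdm
  rw [hm] at hn
  set N := d * n with hN
  have hNk : N = d + k * m := by
    rw [hN, hn, mul_add, mul_one, mul_left_comm, Nat.mul_div_cancel' hdm]
  -- the bound on the multiplier
  have hkd : d = 1 ∧ 3 * k ≤ q + 1 ∨ d = 3 ∧ k ≤ q + 1 := by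
    have h : 3 * (k * m) < d * ((q + 2) * m) := by
      have h1 : d * (3 * n) < d * ((q + 1) * (q + 1) * (q - 1)) :=
        Nat.mul_lt_mul_of_pos_left hlt (by rcases Decidable.em (q % 3 = 2) with h | h <;> simp [hd2, hd1, h])
      have h2 : (q + 1) * (q + 1) * (q - 1) + 3 = (q + 2) * m := by
        obtain ⟨r, rfl⟩ : ∃ r, q = r + 1 := ⟨q - 1, by omega⟩
        have : m = r * r + r + 1 := by nlinarith
        rw [Nat.add_sub_cancel, this]
        ring
      have h3 : d * (3 * n) = 3 * d + 3 * (k * m) := by rw [show d * (3 * n) = 3 * N by rw [hN]; ring, hNk]; ring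
      rw [h3] at h1
      rw [← h2, mul_add]
      omega
    rw [← mul_assoc, ← mul_assoc] at h
    have := Nat.lt_of_mul_lt_mul_right h
    rcases Decidable.em (q % 3 = 2) with h | h
    · rw [hd2 h] at this ⊢; right; exact ⟨rfl, by omega⟩
    · rw [hd1 h] at this ⊢; left; exact ⟨rfl, by omega⟩
  -- the factors
  obtain ⟨a, b, c, ha, hb, hc, habc⟩ := dvd_split (show n ∣ q * q * q * ((q - 1) * ((q + 1) * (q + 1))) by
    rw [mul_comm (q - 1)]; exact hdvd)
  have hbd : b ∣ d + k := by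
    have hbN : (b : ℤ) ∣ (N : ℤ) := Int.natCast_dvd_natCast.2 ⟨d * (a * c), by rw [hN, habc]; ring⟩
    have hbq : (b : ℤ) ∣ (q : ℤ) - 1 := by
      have := Int.natCast_dvd_natCast.2 hb
      rwa [Nat.cast_sub (by omega), Nat.cast_one] at this
    rw [← Int.natCast_dvd_natCast]
    have e : ((d + k : ℕ) : ℤ) = N - k * q * ((q : ℤ) - 1) := by
      have : (m : ℤ) = q * q - q + 1 := by
        have : (m : ℤ) + q = q * q + 1 := by exact_mod_cast hm'
        linarith
      rw [hNk]; push_cast; rw [this]; ring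
    rw [e]
    exact dvd_sub hbN (hbq.mul_left _)
  have hcd : c ∣ 3 * k + d + d * (q + 1) := by
    have hcN : (c : ℤ) ∣ (N : ℤ) := Int.natCast_dvd_natCast.2 ⟨d * (a * b), by rw [hN, habc]; ring⟩
    have hcu : (c : ℤ) ∣ ((q : ℤ) + 1) * (q + 1) := by exact_mod_cast hc
    rw [← Int.natCast_dvd_natCast]
    have e : ((3 * k + d + d * (q + 1) : ℕ) : ℤ) =
        ((q : ℤ) + 2) * N - (k * ((q : ℤ) + 2) - 3 * k) * (((q : ℤ) + 1) * (q + 1)) := by
      have : (m : ℤ) = q * q - q + 1 := by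
        have : (m : ℤ) + q = q * q + 1 := by exact_mod_cast hm'
        linarith
      rw [hNk]; push_cast; rw [this]; ring
    rw [e]
    exact dvd_sub (hcN.mul_left _) (hcu.mul_left _)
  have had : a ∣ d + k ∨ q ∣ d + k := by
    have haN : (a : ℤ) ∣ (N : ℤ) := Int.natCast_dvd_natCast.2 ⟨d * (b * c), by rw [hN, habc]; ring⟩
    have ee : ((d + k : ℕ) : ℤ) = N - k * ((q : ℤ) - 1) * q := by
      have : (m : ℤ) = q * q - q + 1 := by
        have : (m : ℤ) + q = q * q + 1 := by exact_mod_cast hm'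
        linarith
      rw [hNk]; push_cast; rw [this]; ring
    obtain ⟨j, -, rfl⟩ := (Nat.dvd_prime_pow hp).1 (show a ∣ p ^ (3 * e) by
      rw [mul_comm, pow_mul, ← hqe]
      exact ha.trans (dvd_of_eq (by ring)))
    rcases le_total j e with h | h
    · left
      rw [← Int.natCast_dvd_natCast, ee]
      exact dvd_sub haN ((Int.natCast_dvd_natCast.2 (hqe ▸ pow_dvd_pow p h)).mul_left _)
    · right
      rw [← Int.natCast_dvd_natCast, ee]
      exact dvd_sub ((Int.natCast_dvd_natCast.2 (hqe ▸ pow_dvd_pow p h)).trans haN) (dvd_mul_left _ _)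
  have hsmall : d = 1 ∧ q ≤ 5 ∨ d = 3 ∧ q < 75 := by
    by_cases haq : a ∣ d + k
    · refine small_of_bound hkd hk ?_
      rw [hm]
      have hcop : Nat.Coprime a b := by
        refine Nat.Coprime.coprime_dvd_left ha (Nat.Coprime.coprime_dvd_right hb ?_)
        have : Nat.Coprime q (q - 1) := by
          rw [Nat.coprime_comm]; exact Nat.coprime_self_sub_left (by omega) |>.2 (Nat.coprime_one_left q)
        exact ((this.mul_left this).mul_left this)
      have h1 : a * b ≤ d + k := Nat.le_of_dvd (by omega) (hcop.mul_dvd_of_dvd_of_dvd haq hbd)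
      have h2 : c ≤ 3 * k + d + d * (q + 1) := Nat.le_of_dvd (by omega) hcd
      calc k * m < N := by rw [hNk]; rcases hkd with ⟨h, -⟩ | ⟨h, -⟩ <;> omega
        _ = d * (a * b * c) := by rw [hN, habc]; ring
        _ ≤ _ := Nat.mul_le_mul_left _ (Nat.mul_le_mul h1 h2)
    -- the multiplier is `q - 3`
    have hqk : q ∣ d + k := had.resolve_left haq
    rcases hkd with ⟨hd', h3⟩ | ⟨hd', h3⟩
    · left
      refine ⟨hd', ?_⟩
      have := Nat.le_of_dvd (by omega) hqk
      omega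
    right
    refine ⟨hd', ?_⟩
    subst hd'
    obtain ⟨t, ht⟩ := hqk
    by_contra! hc75
    have ht1 : t = 1 := by
      rcases t with _ | _ | t
      · omega
      · rfl
      · exfalso; nlinarith
    rw [ht1, mul_one] at ht
    obtain ⟨w, rfl⟩ : ∃ w, q = w + 2 := ⟨q - 2, by omega⟩
    have hNw : 3 * n = (w + 2) * (w * w) := by
      obtain rfl : k = w - 1 := by omega
      obtain ⟨v, rfl⟩ : ∃ v, w = v + 1 := ⟨w - 1, by omega⟩
      rw [← hN, hNk]
      rw [show m = (v + 3) * (v + 2) + 1 by linarith [hm'], Nat.add_sub_cancel]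
      ring
    -- every common prime is 2 or 3
    have h3n : (w + 2) * (w * w) ∣ 3 * ((w + 2) * (w + 2) * (w + 2) * ((w + 3) * (w + 3) * (w + 1))) := by
      rw [← hNw]
      exact Nat.mul_dvd_mul_left 3 (by simpa [show w + 2 + 1 = w + 3 by rfl, show w + 2 - 1 = w + 1 by rfl] using hdvd)
    rw [show 3 * ((w + 2) * (w + 2) * (w + 2) * ((w + 3) * (w + 3) * (w + 1))) =
      (w + 2) * (3 * ((w + 2) * (w + 2) * ((w + 3) * (w + 3) * (w + 1)))) by ring] at h3n
    have h4 : w * w ∣ 3 * ((w + 2) * (w + 2) * ((w + 3) * (w + 3) * (w + 1))) :=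
      Nat.dvd_of_mul_dvd_mul_left (by omega) h3n
    have h5 : w ∣ 108 := by
      have h6 : (w : ℤ) ∣ 3 * (((w : ℤ) + 2) * (w + 2) * ((w + 3) * (w + 3) * (w + 1))) := by
        exact_mod_cast (dvd_mul_right w w).trans h4
      have h7 : (w : ℤ) ∣ 3 * (((w : ℤ) + 2) * (w + 2) * ((w + 3) * (w + 3) * (w + 1))) - 108 :=
        ⟨3 * ((w : ℤ) ^ 4 + 11 * w ^ 3 + 47 * w ^ 2 + 97 * w + 96), by ring⟩
      rw [← Int.natCast_dvd_natCast]
      push_cast
      simpa using dvd_sub h6 h7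
    have h8 := Nat.le_of_dvd (by norm_num) h5
    have hwd : w ∈ Nat.divisors 108 := Nat.mem_divisors.2 ⟨h5, by norm_num⟩
    have key : ∀ w ∈ Nat.divisors 108, 73 ≤ w → w * w ∣ 3 * ((w + 2) * (w + 2) * ((w + 3) * (w + 3) * (w + 1))) →
        False := by decide +kernel
    exact key w hwd (by omega) h4
  -- the finite check
  have hq75 : q < 75 := by omega
  have hk' : k < q + 2 := by rcases hkd with ⟨-, h⟩ | ⟨-, h⟩ <;> omega
  have h14 : q ≠ 14 ∧ q ≠ 35 := by
    have key : ∀ {r s : ℕ}, r.Prime → s.Prime → r ∣ q → s ∣ q → r = s := fun hr hs h1 h2 => by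
      rw [hqe] at h1 h2
      rw [(Nat.prime_dvd_prime_iff_eq hr hp).1 (hr.dvd_of_dvd_pow h1),
        (Nat.prime_dvd_prime_iff_eq hs hp).1 (hs.dvd_of_dvd_pow h2)]
    constructor <;> intro h
    · exact absurd (key Nat.prime_two (by norm_num : Nat.Prime 7) (by omega) (by omega)) (by norm_num)
    · exact absurd (key Nat.prime_five (by norm_num : Nat.Prime 7) (by omega) (by omega)) (by norm_num)
  have h := index_small ⟨q, hq75⟩ d
    (by rcases hkd with ⟨h, -⟩ | ⟨h, -⟩ <;> simp [h]) hd2 hd1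
    (fun h => by rcases hsmall with ⟨-, h'⟩ | ⟨h', -⟩ <;> [exact h'; omega]) ⟨k, hk'⟩
    (show 6 ≤ q ∨ q = 4 by omega) h14.1 h14.2 hk
    (show 3 * (1 + k * ((q * q - q + 1) / d)) < _ by rw [hm, ← hn]; exact hlt)
    (show q * q * q * ((q + 1) * (q + 1) * (q - 1)) % (1 + k * ((q * q - q + 1) / d)) = 0 by
      rw [hm, ← hn]; exact Nat.mod_eq_zero_of_dvd hdvd)
  rcases h with h | ⟨h, h'⟩
  · exfalso
    have h6 : q = 6 := h
    have key : ∀ {r : ℕ}, r.Prime → r ∣ q → r = p := fun hr h1 => by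
      rw [hqe] at h1
      exact (Nat.prime_dvd_prime_iff_eq hr hp).1 (hr.dvd_of_dvd_pow h1)
    have := (key Nat.prime_two (by omega)).trans (key Nat.prime_three (by omega)).symm
    omega
  · refine ⟨h, ?_⟩
    rw [hn, ← hm]
    exact h'

end Cfsg.Lib.Classical.SUThree.Singer
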