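import Cfsg.Agent.Classical.ExtFieldU.Field
import Cfsg.Agent.Known.PSUThree.Main
import Cfsg.Agent.Classical.Unitary.FrameFour

/-!
A cubic extension acting on a three-dimensional hermitian space: its group of norm one and the normaliser.
-/

set_option autoImplicit false
set_option linter.unusedSectionVars false
set_option linter.style.haveILetI false

namespace Cfsg.Lib.Classical.SUThree.Singer

open Module Cfsg.Lib.Classical Cfsg.Lib.Classical.ExtFieldU Cfsg.Lib.Known.PSUThree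

universe u v w

/-- The order of the group of norm one. -/
def mS (q : ℕ) : ℕ := q * q - q + 1

theorem mS_spec {q : ℕ} : (mS q : ℤ) = q * q - q + 1 := by
  have : q ≤ q * q := Nat.le_mul_self q
  rw [mS]; push_cast [Nat.cast_sub this]; ring

theorem gcd_exps {q : ℕ} : Nat.gcd (q ^ 3 + 1) (1 + q ^ 2 + (q ^ 2) ^ 2) = mS q := by
  have h1 : q ^ 3 + 1 = mS q * (q + 1) := by
    zify; rw [mS_spec]; ring
  have h2 : 1 + q ^ 2 + (q ^ 2) ^ 2 = mS q * (q * (q + 1) + 1) := by
    zify; rw [mS_spec]; ring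
  rw [h1, h2, Nat.gcd_mul_left]
  have : Nat.gcd (q + 1) (q * (q + 1) + 1) = 1 := by
    rw [Nat.gcd_comm, Nat.gcd_mul_right_add_left]
    exact Nat.gcd_one_left _
  rw [this, mul_one]

variable {F : Type u} [Field F] [Finite F] {V : Type v} [AddCommGroup V] [Module F V] [FiniteDimensional F V]
  {H : HermSpace F V} (L : Type w) [Field L] [Algebra F L] [Module L V] [IsScalarTower F L V]

/-- The hypotheses. -/
structure Sing (H : HermSpace F V) : Prop extends Setup H where
  deg : finrank F L = 3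
  adj : ∃ τ : L →+* L, ∀ (c : L) (u v : V), H.h (c • u) v = H.h u (τ c • v)

/-- The elements acting by scalars of the extension. -/
def Tg (H : HermSpace F V) : Subgroup H.SIsom where
  carrier := {g | ∃ c : L, ∀ z, g.1.1 z = c • z}
  mul_mem' := by
    rintro g k ⟨c, hc⟩ ⟨d, hd⟩
    exact ⟨c * d, fun z => by rw [H.smul_mul_apply, hd, hc, mul_smul]⟩
  one_mem' := ⟨1, fun z => (one_smul L z).symm⟩
  inv_mem' := by
    rintro g ⟨c, hc⟩
    refine ⟨c⁻¹, fun z => ?_⟩
    by_cases hc0 : c = 0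
    · have hz : z = 0 := by
        by_contra h
        exact H.isom_ne_zero g.1 h (by rw [hc, hc0, zero_smul])
      rw [hz, map_zero, smul_zero]
    · conv_lhs => rw [show z = g.1.1 (c⁻¹ • z) by rw [hc, smul_inv_smul₀ hc0]]
      exact H.inv_apply_self g.1 _

variable {L}

theorem mem_Tg {g : H.SIsom} : g ∈ Tg L H ↔ ∃ c : L, ∀ z, g.1.1 z = c • z := Iff.rfl

variable (hS : Sing L H)
include hS

theorem Sing.fd : FiniteDimensional F L := .of_finrank_pos (by rw [hS.deg]; norm_num)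

theorem Sing.finrank_one : finrank L V = 1 := by
  have h := finrank_mul_finrank F L V
  rw [hS.deg, hS.dim] at h
  omega

theorem Sing.nontrivial : Nontrivial V :=
  Module.nontrivial_of_finrank_pos (R := F) (by rw [hS.dim]; norm_num)

theorem Sing.smul_cancel {a b : L} (h : ∀ z : V, a • z = b • z) : a = b := by
  haveI := hS.nontrivial
  obtain ⟨v, hv⟩ := exists_ne (0 : V)
  exact smul_left_injective L hv (h v)

theorem Sing.coord {v : V} (hv : v ≠ 0) (z : V) : ∃ x : L, x • v = z :=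
  (finrank_eq_one_iff_of_nonzero' v hv).1 hS.finrank_one z

theorem Sing.card : Nat.card L = H.q ^ 6 := by
  haveI := hS.fd
  rw [Module.natCard_eq_pow_finrank (K := F), hS.deg, H.card_field, ← pow_mul]

/-- The hermitian form over the extension. -/
theorem Sing.exists_form : ∃ HL : HermSpace L V, HL.q = H.q ^ 3 ∧
    (∀ (c : L) (u v : V), H.h (c • u) v = H.h u (HL.σ c • v)) ∧
    (∀ a, HL.σ (algebraMap F L a) = algebraMap F L (H.σ a)) ∧
    ∀ u v, H.h u v = Algebra.trace F L (HL.h u v) := by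
  haveI := hS.fd
  haveI := hS.nontrivial
  haveI : Finite L := Module.finite_of_finite F
  obtain ⟨τ, hτ⟩ := hS.adj
  obtain ⟨HL, hσ, halg, htr⟩ := exists_trace_herm H τ hτ
  refine ⟨HL, ?_, by rw [hσ]; exact hτ, by rw [hσ]; exact halg, htr⟩
  refine Nat.pow_left_injective two_ne_zero ?_
  show HL.q ^ 2 = (H.q ^ 3) ^ 2
  rw [← HL.card_field, hS.card, ← pow_mul]

theorem Sing.norm_eq (x : L) :
    algebraMap F L (Algebra.norm F x) = x ^ (1 + H.q ^ 2 + (H.q ^ 2) ^ 2) := by
  haveI := hS.fd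
  haveI : Finite L := Module.finite_of_finite F
  rw [FiniteField.algebraMap_norm_eq_pow_sum, hS.deg, H.card_field]
  congr 1
  simp [Finset.sum_range_succ]

omit hS in
/-- The elements of the circle are the roots of unity. -/
theorem circle_iff {K : Type*} [Field K] [Finite K] {W : Type*} [AddCommGroup W] [Module K W]
    [FiniteDimensional K W] (HK : HermSpace K W)
    (x : K) : x * HK.σ x = 1 ↔ x ^ (HK.q + 1) = 1 := by
  classical
  haveI := Fintype.ofFinite K
  refine ⟨HK.circle_pow_card, fun h => ?_⟩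
  have hsub : HK.circle ⊆ (Polynomial.nthRoots (HK.q + 1) (1 : K)).toFinset := fun y hy => by
    rw [HermSpace.mem_circle] at hy
    rw [Multiset.mem_toFinset, Polynomial.mem_nthRoots (Nat.succ_pos _)]
    exact HK.circle_pow_card hy
  have he := Finset.eq_of_subset_of_card_le hsub (by
    rw [HK.card_circle]
    exact (Multiset.toFinset_card_le _).trans (Polynomial.card_nthRoots _ _))
  rw [← HermSpace.mem_circle (H := HK), he, Multiset.mem_toFinset, Polynomial.mem_nthRoots (Nat.succ_pos _)]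
  exact h

omit hS in
/-- Multiplication by a unit of the extension, as a map over the small field. -/
noncomputable def mulBy (c : Lˣ) : V ≃ₗ[F] V :=
  (LinearEquiv.smulOfUnit c : V ≃ₗ[L] V).restrictScalars F

omit hS in
theorem mulBy_apply (c : Lˣ) (z : V) : mulBy (F := F) c z = (c : L) • z := rfl

theorem Sing.det_mulBy (c : Lˣ) : ((LinearEquiv.det (mulBy (F := F) (V := V) c) : Fˣ) : F) = Algebra.norm F (c : L) := by
  haveI := hS.fd
  haveI : FiniteDimensional L V := FiniteDimensional.right F L V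
  rw [LinearEquiv.coe_det]
  show LinearMap.det (((c : L) • LinearMap.id : V →ₗ[L] V).restrictScalars F) = _
  rw [LinearMap.det_restrictScalars, LinearMap.det_smul, LinearMap.det_id, mul_one, hS.finrank_one, pow_one]

/-- Circle elements act by isometries. -/
theorem Sing.exists_mult {x : L} (h : x ^ (H.q ^ 3 + 1) = 1) :
    ∃ g : H.Isom, (∀ z, g.1 z = x • z) ∧ ((H.detHom g : Fˣ) : F) = Algebra.norm F x := by
  haveI := hS.fd
  haveI : Finite L := Module.finite_of_finite F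
  haveI : FiniteDimensional L V := FiniteDimensional.right F L V
  obtain ⟨HL, hq, hadj, -, -⟩ := hS.exists_form
  have hx0 : x ≠ 0 := fun e => by rw [e, zero_pow (Nat.succ_ne_zero _)] at h; exact zero_ne_one h
  have hc : x * HL.σ x = 1 := (circle_iff HL x).2 (by rw [hq]; exact h)
  refine ⟨⟨mulBy (Units.mk0 x hx0), fun u v => ?_⟩, fun z => rfl, hS.det_mulBy _⟩
  rw [mulBy_apply, mulBy_apply, hadj, smul_smul, mul_comm, Units.val_mk0, hc, one_smul]

theorem Sing.exists_Tg {x : L} (h : x ^ mS H.q = 1) : ∃ g ∈ Tg L H, ∀ z, g.1.1 z = x • z := by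
  obtain ⟨h1, h2⟩ := pow_gcd_eq_one.1 (show x ^ Nat.gcd (H.q ^ 3 + 1) (1 + H.q ^ 2 + (H.q ^ 2) ^ 2) = 1 by
    rw [gcd_exps]; exact h)
  obtain ⟨g, hg, hd⟩ := hS.exists_mult h1
  have hs : g ∈ H.SIsom := by
    refine H.mem_SIsom.2 (Units.ext ?_)
    rw [Units.val_one]
    refine hd.trans ((algebraMap F L).injective ?_)
    rw [map_one, hS.norm_eq, h2]
  exact ⟨⟨g, hs⟩, ⟨x, hg⟩, hg⟩

theorem Sing.Tg_coe {g : H.SIsom} {x : L} (hg : ∀ z, g.1.1 z = x • z) : x ^ mS H.q = 1 := by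
  haveI := hS.fd
  haveI : Finite L := Module.finite_of_finite F
  haveI : FiniteDimensional L V := FiniteDimensional.right F L V
  obtain ⟨HL, hq, hadj, -, -⟩ := hS.exists_form
  have hx0 : x ≠ 0 := fun e => by
    haveI := hS.nontrivial
    obtain ⟨v, hv⟩ := exists_ne (0 : V)
    exact H.isom_ne_zero g.1 hv (by rw [hg, e, zero_smul])
  have hc : x * HL.σ x = 1 := hS.smul_cancel fun z => by
    refine H.ext_of_forall fun u => ?_
    rw [one_smul, mul_comm, mul_smul, ← hadj, ← hg, ← hg, H.map_form]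
  have h1 := (circle_iff HL x).1 hc
  rw [hq] at h1
  have h2 : x ^ (1 + H.q ^ 2 + (H.q ^ 2) ^ 2) = 1 := by
    rw [← hS.norm_eq, ← map_one (algebraMap F L), ← Units.val_mk0 hx0, ← hS.det_mulBy (Units.mk0 x hx0)]
    congr 1
    rw [show mulBy (F := F) (V := V) (Units.mk0 x hx0) = g.1.1 from LinearEquiv.ext fun z => (hg z).symm,
      H.mem_SIsom.1 g.2, Units.val_one]
  have := pow_gcd_eq_one.2 ⟨h1, h2⟩
  rwa [gcd_exps] at this

theorem Sing.mS_dvd : mS H.q ∣ H.q ^ 6 - 1 := by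
  refine ⟨(H.q + 1) * (H.q ^ 3 - 1), ?_⟩
  have h1 : 1 ≤ H.q ^ 3 := Nat.one_le_pow _ _ (by have := hS.three; omega)
  have h2 : 1 ≤ H.q ^ 6 := Nat.one_le_pow _ _ (by have := hS.three; omega)
  zify [h1, h2]
  rw [mS_spec]
  ring

theorem Sing.card_roots {k : ℕ} (hk : k ∣ H.q ^ 6 - 1) : Nat.card (powMonoidHom k : Lˣ →* Lˣ).ker = k := by
  haveI := hS.fd
  haveI : Finite L := Module.finite_of_finite F
  rw [IsCyclic.card_powMonoidHom_ker, Nat.card_units, hS.card, Nat.gcd_eq_right hk]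

/-- The group of norm one is cyclic of order `q² - q + 1`. -/
theorem Sing.exists_hom : ∃ μ : (powMonoidHom (mS H.q) : Lˣ →* Lˣ).ker →* H.SIsom, Function.Injective μ ∧
    μ.range = Tg L H ∧ ∀ x z, (μ x).1.1 z = ((x.1 : Lˣ) : L) • z := by
  have hex : ∀ x : (powMonoidHom (mS H.q) : Lˣ →* Lˣ).ker, ∃ g ∈ Tg L H, ∀ z, g.1.1 z = ((x.1 : Lˣ) : L) • z :=
    fun x => hS.exists_Tg (by
      have := congrArg Units.val (MonoidHom.mem_ker.1 x.2)
      simpa using this)
  choose g hgT hg using hex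
  refine ⟨MonoidHom.mk' g fun x y => H.sisom_ext fun z => ?_, fun x y e => ?_, ?_, hg⟩
  · rw [hg, H.smul_mul_apply, hg, hg, smul_smul]
    rfl
  · refine Subtype.ext (Units.ext (hS.smul_cancel fun z => ?_))
    rw [← hg, ← hg, show g x = g y from e]
  · refine le_antisymm (by rintro _ ⟨x, rfl⟩; exact hgT x) fun k ⟨c, hc⟩ => ?_
    have h := hS.Tg_coe hc
    have hc0 : c ≠ 0 := fun e => by rw [e, zero_pow (show mS H.q ≠ 0 by rw [mS]; omega)] at h; exact zero_ne_one h
    refine ⟨⟨Units.mk0 c hc0, MonoidHom.mem_ker.2 (Units.ext h)⟩, H.sisom_ext fun z => ?_⟩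
    exact (hg _ z).trans (hc z).symm

theorem Sing.card_Tg : Nat.card (Tg L H) = mS H.q := by
  obtain ⟨μ, hinj, hr, -⟩ := hS.exists_hom
  rw [← hr, ← Nat.card_congr (MonoidHom.ofInjective hinj).toEquiv, hS.card_roots hS.mS_dvd]

theorem Sing.card_circleF : Nat.card (powMonoidHom (H.q + 1) : Fˣ →* Fˣ).ker = H.q + 1 := by
  rw [IsCyclic.card_powMonoidHom_ker, Nat.card_units, H.card_field]
  refine Nat.gcd_eq_right ⟨H.q - 1, ?_⟩
  have := hS.three
  zify [show 1 ≤ H.q from by omega, show 1 ≤ H.q ^ 2 from Nat.one_le_pow _ _ (by omega)]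
  ring

/-- Every norm in the circle is the norm of an element of the circle. -/
theorem Sing.exists_norm {d : F} (hd : d * H.σ d = 1) :
    ∃ x : L, x ^ (H.q ^ 3 + 1) = 1 ∧ Algebra.norm F x = d := by
  haveI := hS.fd
  haveI : Finite L := Module.finite_of_finite F
  set C := (powMonoidHom (H.q ^ 3 + 1) : Lˣ →* Lˣ).ker
  have hC : Nat.card C = H.q ^ 3 + 1 := by
    refine hS.card_roots ⟨H.q ^ 3 - 1, ?_⟩
    have h1 : 1 ≤ H.q ^ 3 := Nat.one_le_pow _ _ (by have := hS.three; omega)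
    zify [h1, show 1 ≤ H.q ^ 6 from Nat.one_le_pow _ _ (by have := hS.three; omega)]
    ring
  set E := (powMonoidHom (H.q + 1) : Fˣ →* Fˣ).ker
  let N : C →* Fˣ := (Units.map (Algebra.norm F : L →* F)).comp C.subtype
  have hNE : ∀ x : C, N x ∈ E := by
    intro x
    refine MonoidHom.mem_ker.2 (Units.ext ((algebraMap F L).injective ?_))
    have hx : ((x.1 : Lˣ) : L) ^ (H.q ^ 3 + 1) = 1 := by
      simpa using congrArg Units.val (MonoidHom.mem_ker.1 x.2)
    show algebraMap F L ((Algebra.norm F ((x.1 : Lˣ) : L)) ^ (H.q + 1)) = algebraMap F L 1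
    rw [map_pow, hS.norm_eq, map_one, ← pow_mul,
      show (1 + H.q ^ 2 + (H.q ^ 2) ^ 2) * (H.q + 1) = (H.q ^ 3 + 1) * (H.q ^ 2 + H.q + 1) by ring, pow_mul,
      hx, one_pow]
  have hker : Nat.card N.ker ≤ mS H.q := by
    rw [← hS.card_roots hS.mS_dvd]
    refine Nat.card_le_card_of_injective (fun x => ⟨x.1.1, MonoidHom.mem_ker.2 (Units.ext ?_)⟩)
      fun x y e => Subtype.ext (Subtype.ext (congrArg (fun z : (powMonoidHom (mS H.q) : Lˣ →* Lˣ).ker => z.1) e))
    have h1 : ((x.1.1 : Lˣ) : L) ^ (H.q ^ 3 + 1) = 1 := by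
      simpa using congrArg Units.val (MonoidHom.mem_ker.1 x.1.2)
    have h2 : ((x.1.1 : Lˣ) : L) ^ (1 + H.q ^ 2 + (H.q ^ 2) ^ 2) = 1 := by
      rw [← hS.norm_eq, show Algebra.norm F ((x.1.1 : Lˣ) : L) = 1 from congrArg Units.val (MonoidHom.mem_ker.1 x.2),
        map_one]
    have := pow_gcd_eq_one.2 ⟨h1, h2⟩
    rw [gcd_exps] at this
    simpa using this
  have hd0 : d ≠ 0 := left_ne_zero_of_mul_eq_one hd
  have hdE : Units.mk0 d hd0 ∈ E := MonoidHom.mem_ker.2 (Units.ext (by simpa using (circle_iff H d).1 hd))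
  have hr : N.range = E := by
    refine Subgroup.eq_of_le_of_card_ge (by rintro _ ⟨x, rfl⟩; exact hNE x) ?_
    rw [hS.card_circleF]
    have h := N.ker.card_mul_index
    rw [Subgroup.index_ker, hC, show H.q ^ 3 + 1 = mS H.q * (H.q + 1) by zify; rw [mS_spec]; ring] at h
    refine Nat.le_of_mul_le_mul_left ?_ (show 0 < mS H.q by rw [mS]; omega)
    rw [← h]
    exact Nat.mul_le_mul_right _ hker
  obtain ⟨x, hx⟩ := hr.ge hdE
  exact ⟨((x.1 : Lˣ) : L), by simpa using congrArg Units.val (MonoidHom.mem_ker.1 x.2), congrArg Units.val hx⟩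

/-- A semilinear element outside. -/
theorem Sing.exists_semi : ∃ g : H.SIsom, Semi L g.1.1 ∧ g ∉ Tg L H := by
  classical
  haveI := hS.fd
  haveI : Finite L := Module.finite_of_finite F
  haveI := hS.nontrivial
  haveI := Fintype.ofFinite F
  obtain ⟨HL, hq, hadj, halg, htr⟩ := hS.exists_form
  obtain ⟨v₀, hv₀⟩ := exists_ne (0 : V)
  set φ := FiniteField.frobeniusAlgEquivOfAlgebraic F L
  have hφτ : ∀ x, φ (HL.σ x) = HL.σ (φ x) := fun x => by
    simp only [φ, FiniteField.coe_frobeniusAlgEquivOfAlgebraic]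
    exact (map_pow HL.σ x _).symm
  have hφ1 : ∃ a, φ a ≠ a := by
    by_contra! h
    have e : φ ^ (0 : ℕ) = φ ^ (1 : ℕ) := by
      rw [pow_zero, pow_one]
      exact AlgEquiv.ext fun a => (h a).symm
    have := (FiniteField.bijective_frobeniusAlgEquivOfAlgebraic_pow F L).1
      (a₁ := ⟨0, by rw [hS.deg]; norm_num⟩) (a₂ := ⟨1, by rw [hS.deg]; norm_num⟩) e
    exact Nat.zero_ne_one (congrArg Fin.val this)
  set β := HL.h v₀ v₀
  have hβ0 : β ≠ 0 := fun e => hv₀ (HL.nondeg v₀ fun u => by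
    obtain ⟨x, rfl⟩ := hS.coord hv₀ u
    rw [HL.smul_left]
    show x * β = 0
    rw [e, mul_zero])
  have hβ : HL.σ β = β := HL.self_fixed v₀
  obtain ⟨c, hc⟩ : ∃ c : L, c * HL.σ c = φ β / β := by
    have h : 0 < Nat.card {a : L // a * HL.σ a = φ β / β} := by
      rw [HL.conj.card_norm_fiber (by rw [map_div₀, ← hφτ, hβ]) (div_ne_zero ((map_ne_zero φ).2 hβ0) hβ0)]
      exact Nat.succ_pos _
    obtain ⟨⟨c, hc⟩⟩ := (Nat.card_pos_iff.1 h).1
    exact ⟨c, hc⟩
  have hc0 : c ≠ 0 := fun e => by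
    rw [e, zero_mul, eq_comm, div_eq_zero_iff] at hc
    exact hc.elim (fun h => hβ0 ((map_eq_zero φ).1 h)) hβ0
  let e : L ≃ₗ[F] V := LinearEquiv.ofBijective ((LinearMap.toSpanSingleton L V v₀).restrictScalars F)
    ⟨smul_left_injective L hv₀, fun z => hS.coord hv₀ z⟩
  let g₀ : V ≃ₗ[F] V := (e.symm.trans (φ.toLinearEquiv.trans ((mulBy (F := F) (V := L) (Units.mk0 c hc0)).trans e)))
  have hg₀ : ∀ x : L, g₀ (x • v₀) = (c * φ x) • v₀ := fun x => by
    show g₀ (e x) = e (c * φ x)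
    simp [g₀, mulBy_apply]
  have hform : ∀ x y : L, H.h (x • v₀) (y • v₀) = Algebra.trace F L (x * HL.σ y * β) := fun x y => by
    rw [htr, HL.smul_left, HL.smul_right, mul_assoc]
  have hg₀i : g₀ ∈ H.Isom := fun u v => by
    obtain ⟨x, rfl⟩ := hS.coord hv₀ u
    obtain ⟨y, rfl⟩ := hS.coord hv₀ v
    rw [hg₀, hg₀, hform, hform, map_mul HL.σ, ← hφτ, ← Algebra.trace_eq_of_algEquiv φ (x * HL.σ y * β), map_mul φ, map_mul φ]
    congr 1
    have : c * HL.σ c * β = φ β := by rw [hc, div_mul_cancel₀ _ hβ0]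
    linear_combination (φ x * φ (HL.σ y)) * this
  have hdet := H.det_mem_norm_ker ⟨g₀, hg₀i⟩
  set d : F := ((H.detHom ⟨g₀, hg₀i⟩ : Fˣ) : F) with hdd
  have hd : d * H.σ d = 1 := congrArg Units.val (MonoidHom.mem_ker.1 hdet)
  have hd0 : d ≠ 0 := left_ne_zero_of_mul_eq_one hd
  obtain ⟨z, hz1, hz2⟩ := hS.exists_norm (d := d⁻¹) (by rw [map_inv₀, ← mul_inv, hd, inv_one])
  obtain ⟨k, hk, hkd⟩ := hS.exists_mult hz1
  have hmem : k * ⟨g₀, hg₀i⟩ ∈ H.SIsom := by
    refine H.mem_SIsom.2 (Units.ext ?_)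
    show ((H.detHom (k * ⟨g₀, hg₀i⟩) : Fˣ) : F) = 1
    rw [map_mul, Units.val_mul, hkd, hz2, ← hdd, inv_mul_cancel₀ hd0]
  refine ⟨⟨_, hmem⟩, fun a => ⟨φ a, fun u => ?_⟩, fun ⟨b, hb⟩ => ?_⟩
  · obtain ⟨x, rfl⟩ := hS.coord hv₀ u
    show k.1 (g₀ (a • x • v₀)) = φ a • k.1 (g₀ (x • v₀))
    rw [smul_smul, hg₀, hg₀, hk, hk, smul_smul, smul_smul, smul_smul, map_mul]
    ring_nf
  · obtain ⟨a, ha⟩ := hφ1
    have hz0 : z ≠ 0 := fun e => by rw [e, zero_pow (Nat.succ_ne_zero _)] at hz1; exact zero_ne_one hz1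
    have h1 : k.1 (g₀ (a • v₀)) = b • a • v₀ := hb _
    have h2 : k.1 (g₀ ((1 : L) • v₀)) = b • (1 : L) • v₀ := hb _
    rw [hg₀, hk, smul_smul, smul_smul] at h1 h2
    have e1 := smul_left_injective L hv₀ h1
    have e2 := smul_left_injective L hv₀ h2
    rw [map_one, mul_one, mul_one] at e2
    rw [← e2] at e1
    exact ha (mul_left_cancel₀ (mul_ne_zero hz0 hc0) (by linear_combination e1))

/-- The semilinear elements form three cosets of the group of norm one. -/
theorem Sing.card_semi {M : Subgroup H.SIsom} (hM : ∀ g, g ∈ M ↔ Semi L g.1.1) :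
    Nat.card M = 3 * mS H.q ∧ ∀ g ∈ M, g ^ 3 ∈ Tg L H := by
  classical
  haveI := hS.fd
  haveI : Finite L := Module.finite_of_finite F
  haveI := hS.nontrivial
  haveI := Fintype.ofFinite F
  have huniq : ∀ (g : M) {b b' : L}, (∀ z : V, b • g.1.1.1 z = b' • g.1.1.1 z) → b = b' := fun g b b' h =>
    hS.smul_cancel fun z => by
      obtain ⟨w, rfl⟩ := g.1.1.1.surjective z
      exact h w
  choose b hb using fun g : M => (hM g.1).1 g.2
  let f : M → (L →ₐ[F] L) := fun g =>
    { toFun := b g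
      map_one' := huniq g fun z => by rw [← hb, one_smul, one_smul]
      map_mul' := fun x y => huniq g fun z => by rw [← hb, mul_smul, hb, hb, smul_smul]
      map_zero' := huniq g fun z => by rw [← hb, zero_smul, zero_smul, map_zero]
      map_add' := fun x y => huniq g fun z => by rw [← hb, add_smul, map_add, hb, hb, add_smul]
      commutes' := fun r => huniq g fun z => by rw [← hb, algebraMap_smul, algebraMap_smul, map_smul] }
  have hfb : ∀ g : M, Function.Bijective (f g) := fun g =>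
    Finite.injective_iff_bijective.1 (f g).toRingHom.injective
  let θ : M →* (L ≃ₐ[F] L) := MonoidHom.mk' (fun g => AlgEquiv.ofBijective (f g) (hfb g)) fun g k =>
    AlgEquiv.ext fun a => by
      refine huniq (g * k) fun z => ?_
      show b (g * k) a • (g * k).1.1.1 z = b g (b k a) • (g * k).1.1.1 z
      rw [← hb, show ∀ w, (g * k).1.1.1 w = g.1.1.1 (k.1.1.1 w) from fun w => H.smul_mul_apply g.1 k.1 w,
        show ∀ w, (g * k).1.1.1 w = g.1.1.1 (k.1.1.1 w) from fun w => H.smul_mul_apply g.1 k.1 w, hb, hb]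
  have hcardA : Nat.card (L ≃ₐ[F] L) = 3 := by
    rw [← Nat.card_eq_of_bijective _ (FiniteField.bijective_frobeniusAlgEquivOfAlgebraic_pow F L), Nat.card_fin,
      hS.deg]
  have hker : θ.ker = (Tg L H).subgroupOf M := by
    ext g
    rw [MonoidHom.mem_ker, Subgroup.mem_subgroupOf]
    constructor
    · intro h
      have hlin : ∀ (a : L) z, g.1.1.1 (a • z) = a • g.1.1.1 z := fun a z => by
        rw [hb]
        congr 1
        exact congrArg (fun e : L ≃ₐ[F] L => e a) h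
      obtain ⟨v, hv⟩ := exists_ne (0 : V)
      obtain ⟨c, hc⟩ := hS.coord hv (g.1.1.1 v)
      refine ⟨c, fun z => ?_⟩
      obtain ⟨x, rfl⟩ := hS.coord hv z
      rw [hlin, ← hc, smul_comm]
    · rintro ⟨c, hc⟩
      refine AlgEquiv.ext fun a => huniq g fun z => ?_
      show b g a • g.1.1.1 z = a • g.1.1.1 z
      rw [← hb, hc, hc, smul_comm]
  have hTM : Tg L H ≤ M := fun g ⟨c, hc⟩ => (hM g).2 fun a => ⟨a, fun z => by rw [hc, hc, smul_comm]⟩
  have hrange : Nat.card θ.range = 3 := by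
    rcases (Nat.dvd_prime Nat.prime_three).1 (hcardA ▸ Subgroup.card_subgroup_dvd_card θ.range) with h | h
    · exfalso
      obtain ⟨g, hg, hgT⟩ := hS.exists_semi
      have h1 : θ ⟨g, (hM g).2 hg⟩ = 1 := by
        rw [← Subgroup.mem_bot, ← Subgroup.card_eq_one.1 h]
        exact ⟨_, rfl⟩
      have : (⟨g, (hM g).2 hg⟩ : M) ∈ (Tg L H).subgroupOf M := hker ▸ MonoidHom.mem_ker.2 h1
      exact hgT this
    · exact h
  refine ⟨?_, fun g hg => ?_⟩
  · rw [← θ.ker.card_mul_index, Subgroup.index_ker, hrange, hker,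
      Nat.card_congr (Subgroup.subgroupOfEquivOfLe hTM).toEquiv, hS.card_Tg, mul_comm]
  · have h1 : θ (⟨g, hg⟩ ^ 3) = 1 := by rw [map_pow, ← hcardA]; exact pow_card_eq_one'
    have : (⟨g, hg⟩ ^ 3 : M) ∈ (Tg L H).subgroupOf M := hker ▸ MonoidHom.mem_ker.2 h1
    exact this

/-- A conjugate of an element of the field in the field forces a semilinear map. -/
theorem Sing.semi_of_conj {g : H.SIsom} {c c' : L} (hc : ∀ a : F, algebraMap F L a ≠ c)
    (h : ∀ z, g.1.1 (c • z) = c' • g.1.1 z) : Semi L g.1.1 := by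
  haveI := hS.fd
  let S : Subalgebra F L :=
    { carrier := {a | ∃ b : L, ∀ z, g.1.1 (a • z) = b • g.1.1 z}
      mul_mem' := fun {x y} ⟨bx, hx⟩ ⟨by', hy⟩ => ⟨bx * by', fun z => by rw [mul_smul, hx, hy, mul_smul]⟩
      add_mem' := fun {x y} ⟨bx, hx⟩ ⟨by', hy⟩ => ⟨bx + by', fun z => by rw [add_smul, map_add, hx, hy, add_smul]⟩
      algebraMap_mem' := fun r => ⟨algebraMap F L r, fun z => by rw [algebraMap_smul, algebraMap_smul, map_smul]⟩ }
  have hcS : c ∈ S := ⟨c', h⟩
  haveI := Subalgebra.isSimpleOrder_of_finrank_prime F L (by rw [hS.deg]; exact Nat.prime_three)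
  rcases IsSimpleOrder.eq_bot_or_eq_top S with hbot | htop
  · rw [hbot, Algebra.mem_bot] at hcS
    obtain ⟨a, ha⟩ := hcS
    exact absurd ha (hc a)
  · intro a
    have : a ∈ S := htop ▸ Algebra.mem_top
    exact this

end Cfsg.Lib.Classical.SUThree.Singer
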