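import Cfsg.Agent.S0996
import Cfsg.Agent.PLocal.FFModule.Offender

/-!
No group of order `5472` has a self-centralising subgroup of order `19` with normaliser of order `57`.
-/

set_option autoImplicit false
set_option linter.style.haveILetI false

namespace Cfsg.Lib.Classical.SUThree.Singer

open scoped commutatorElement Pointwise

universe u

variable {Q : Type u} [Group Q] [Finite Q] {z : Q}

/-- A normal subgroup of order prime to `19` is trivial. -/
theorem eq_bot_of_not_dvd [Fact (Nat.Prime 19)] (hcard : Nat.card Q = 5472) (hz : orderOf z = 19)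
    (hC : ∀ g : Q, g * z = z * g → g ∈ Subgroup.zpowers z) (N : Subgroup Q) [N.Normal]
    (h19 : ¬ 19 ∣ Nat.card N) : N = ⊥ := by
  classical
  set P := Subgroup.zpowers z
  have hP : Nat.card P = 19 := by rw [Nat.card_zpowers, hz]
  have hPp : IsPGroup 19 P := IsPGroup.of_card (n := 1) (by rw [hP, pow_one])
  have hinf : ∀ g, g ∈ N → g ∈ P → g = 1 := by
    intro g hgN hgP
    have h1 : orderOf g ∣ Nat.card N := by rw [← Subgroup.orderOf_mk g hgN]; exact orderOf_dvd_natCard _
    have h2 : orderOf g ∣ 19 := by rw [← hP, ← Subgroup.orderOf_mk g hgP]; exact orderOf_dvd_natCard _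
    exact orderOf_eq_one_iff.1
      (Nat.eq_one_of_dvd_coprimes ((Nat.Prime.coprime_iff_not_dvd Fact.out).2 h19) h2 h1)
  -- conjugation by the element fixes only the identity
  letI : MulDistribMulAction P N := MulDistribMulAction.compHom N ((MulAut.conjNormal (H := N)).comp P.subtype)
  have hsmul : ∀ (k : P) (n : N), ((k • n : N) : Q) = k.1 * n.1 * k.1⁻¹ := fun k n => rfl
  have hfix : MulAction.fixedPoints P N = {1} := by
    ext n
    rw [MulAction.mem_fixedPoints, Set.mem_singleton_iff]
    refine ⟨fun h => Subtype.ext (hinf n.1 n.2 (hC _ ?_)), fun h k => by rw [h, smul_one]⟩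
    have h' := congrArg Subtype.val (h ⟨z, Subgroup.mem_zpowers z⟩)
    rw [hsmul] at h'
    exact (mul_inv_eq_iff_eq_mul.1 h').symm
  have hmod : Nat.card N % 19 = 1 := by
    have h := hPp.card_modEq_card_fixedPoints N
    simpa [hfix, Nat.ModEq] using h
  have hdvd : Nat.card N ∣ 288 := by
    refine Nat.Coprime.dvd_of_dvd_mul_right
      (Nat.Coprime.symm ((Nat.Prime.coprime_iff_not_dvd (p := 19) Fact.out).2 h19)) ?_
    rw [show 288 * 19 = 5472 by norm_num, ← hcard]
    exact Subgroup.card_subgroup_dvd_card N
  have h96 : ∀ n ∈ Nat.divisors 288, n % 19 = 1 → n = 1 ∨ n = 96 := by decide +kernel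
  rcases h96 _ (Nat.mem_divisors.2 ⟨hdvd, by norm_num⟩) hmod with h | h
  · exact Subgroup.card_eq_one.1 h
  exfalso
  -- a Sylow subgroup for three is fixed, so centralised
  haveI : Fact (Nat.Prime 3) := ⟨Nat.prime_three⟩
  obtain ⟨S⟩ : Nonempty (Sylow 3 N) := inferInstance
  have hS3 : Nat.card (S : Subgroup N) = 3 := by
    rw [Sylow.card_eq_multiplicity, h, show (96 : ℕ).factorization 3 = 1 by
      rw [Nat.factorization_def _ Nat.prime_three, show (96 : ℕ) = 32 * 3 from rfl, padicValNat.mul (by norm_num) (by norm_num),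
        padicValNat.eq_zero_of_not_dvd (by norm_num), padicValNat_self]]
    norm_num
  have hsyl : Nat.card (Sylow 3 N) ∣ 32 := by
    have h1 := S.card_dvd_index
    have h2 := (S : Subgroup N).card_mul_index
    rw [hS3, h] at h2
    exact h1.trans (dvd_of_eq (by omega))
  have h19' : ¬ 19 ∣ Nat.card (Sylow 3 N) := fun h' => absurd (h'.trans hsyl) (by norm_num)
  obtain ⟨T, hT⟩ := hPp.nonempty_fixed_point_of_prime_not_dvd_card (Sylow 3 N) h19'
  have hT3 : Nat.card (T : Subgroup N) = 3 := (Nat.card_congr (Sylow.equiv T S).toEquiv).trans hS3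
  obtain ⟨n, hn⟩ := exists_prime_orderOf_dvd_card' (G := (T : Subgroup N)) 3 (by rw [hT3])
  -- conjugation permutes the three elements
  have hmem : ∀ (k : P) (m : N), m ∈ (T : Subgroup N) → k • m ∈ (T : Subgroup N) := fun k m hm => by
    have h := Subgroup.smul_mem_pointwise_smul m k (T : Subgroup N) hm
    have e : k • (T : Subgroup N) = T := congrArg Sylow.toSubgroup (hT k)
    rwa [e] at h
  letI : MulAction P (T : Subgroup N) :=
    { smul := fun k m => ⟨k • m.1, hmem k m.1 m.2⟩
      one_smul := fun m => Subtype.ext (one_smul P m.1)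
      mul_smul := fun a b m => Subtype.ext (mul_smul a b m.1) }
  have hfix3 : ∀ m : (T : Subgroup N), (⟨z, Subgroup.mem_zpowers z⟩ : P) • m = m := by
    intro m
    have h1 : Nat.card (MulAction.orbit P m) * Nat.card (MulAction.stabilizer P m) = Nat.card P := by
      rw [mul_comm, ← (MulAction.stabilizer P m).card_mul_index, MulAction.index_stabilizer, Nat.card_coe_set_eq]
    have h2 : Nat.card (MulAction.orbit P m) ≤ 3 :=
      (Nat.card_le_card_of_injective _ Subtype.val_injective).trans hT3.le
    have h3 : Nat.card (MulAction.orbit P m) = 1 := by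
      rw [hP] at h1
      rcases (Nat.dvd_prime (Fact.out : Nat.Prime 19)).1 ⟨_, h1.symm⟩ with h | h
      · exact h
      · omega
    obtain ⟨hsub, -⟩ := Nat.card_eq_one_iff_unique.1 h3
    exact congrArg Subtype.val (hsub.allEq (⟨_, MulAction.mem_orbit _ _⟩ : MulAction.orbit P m)
      ⟨m, MulAction.mem_orbit_self m⟩)
  have h1 : ((⟨z, Subgroup.mem_zpowers z⟩ : P) • n.1 : N) = n.1 := congrArg Subtype.val (hfix3 n)
  have h2 := congrArg Subtype.val h1
  rw [hsmul] at h2
  have := hinf n.1.1 n.1.2 (hC _ (mul_inv_eq_iff_eq_mul.1 h2).symm)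
  rw [show n = 1 from Subtype.ext (Subtype.ext this), orderOf_one] at hn
  norm_num at hn

theorem no_group_5472 (hcard : Nat.card Q = 5472) (hz : orderOf z = 19)
    (hC : ∀ g : Q, g * z = z * g → g ∈ Subgroup.zpowers z)
    (hN : Nat.card (Subgroup.normalizer (Subgroup.zpowers z : Set Q)) = 57) : False := by
  classical
  haveI : Fact (Nat.Prime 19) := ⟨by norm_num⟩
  set P := Subgroup.zpowers z with hPdef
  have hP : Nat.card P = 19 := by rw [Nat.card_zpowers, hz]
  have hidx : P.index = 288 := by
    have := P.card_mul_index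
    rw [hcard, hP] at this
    omega
  set S : Sylow 19 Q := (IsPGroup.of_card (n := 1) (by rw [hP, pow_one]) : IsPGroup 19 P).toSylow
    (by rw [hidx]; norm_num)
  have hS : (S : Subgroup Q) = P := rfl
  have hn96 : Nat.card (Sylow 19 Q) = 96 := by
    rw [S.card_eq_index_normalizer]
    have := Subgroup.card_mul_index (Subgroup.normalizer (S : Set Q))
    rw [hcard] at this
    have hN' : Nat.card (Subgroup.normalizer (S : Set Q)) = 57 := hN
    rw [hN'] at this
    omega
  -- a proper normal subgroup is trivial
  have hsimp : ∀ D : Subgroup Q, D.Normal → D ≠ ⊤ → D = ⊥ := by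
    intro D hD htop
    by_contra hne
    have h19 : 19 ∣ Nat.card D := by
      by_contra h
      exact hne (eq_bot_of_not_dvd hcard hz hC D h)
    have hzD : P ≤ D := by
      obtain ⟨T⟩ : Nonempty (Sylow 19 D) := inferInstance
      obtain ⟨x, hx⟩ := exists_prime_orderOf_dvd_card' (G := D) 19 h19
      have hx' : orderOf (x : Q) = 19 := by rw [Subgroup.orderOf_coe, hx]
      obtain ⟨R, hR⟩ := (IsPGroup.of_card (n := 1) (show Nat.card (Subgroup.zpowers (x : Q)) = 19 ^ 1 by
        rw [Nat.card_zpowers, hx', pow_one]) : IsPGroup 19 _).exists_le_sylow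
      obtain ⟨g, hg⟩ := MulAction.exists_smul_eq Q R S
      have hRc : Nat.card (R : Subgroup Q) = 19 := by
        rw [Nat.card_congr (Sylow.equiv R S).toEquiv]; exact hP
      have hRD : (R : Subgroup Q) ≤ D := by
        rw [← Subgroup.eq_of_le_of_card_ge hR (by rw [hRc, Nat.card_zpowers, hx'])]
        exact Subgroup.zpowers_le.2 x.2
      intro y hy
      rw [← hS, ← hg, Sylow.coe_subgroup_smul, Subgroup.mem_pointwise_smul_iff_inv_smul_mem] at hy
      have := hD.conj_mem _ (hRD hy) g
      rw [MulAut.smul_def, MulAut.inv_def, MulAut.conj_symm_apply] at this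
      simpa [mul_assoc] using this
    set SD : Sylow 19 D := S.subtype hzD
    have hSDP : (SD : Subgroup D) = P.subgroupOf D := rfl
    have hDdvd : Nat.card D ∣ 5472 := hcard ▸ Subgroup.card_subgroup_dvd_card D
    have hSDc : Nat.card (SD : Subgroup D) = 19 := by
      rw [hSDP, Nat.card_congr (Subgroup.subgroupOfEquivOfLe hzD).toEquiv, hP]
    have hsyl : Nat.card (Sylow 19 D) = 96 := by
      have h1 : Nat.card (Sylow 19 D) ∣ 288 := by
        refine SD.card_dvd_index.trans (Nat.dvd_of_mul_dvd_mul_left (show 0 < 19 by norm_num) ?_)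
        have := (SD : Subgroup D).card_mul_index
        rw [hSDc] at this
        rw [this]
        exact hDdvd
      have h2 : Nat.card (Sylow 19 D) % 19 = 1 := card_sylow_modEq_one 19 D
      have h3 : ∀ n ∈ Nat.divisors 288, n % 19 = 1 → n = 1 ∨ n = 96 := by decide +kernel
      refine (h3 _ (Nat.mem_divisors.2 ⟨h1, by norm_num⟩) h2).resolve_left fun h => ?_
      haveI := hD
      haveI : Subsingleton (Sylow 19 D) := (Nat.card_eq_one_iff_unique.1 h).1
      haveI := SD.normal_of_subsingleton
      haveI := SD.characteristic_of_normal inferInstance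
      haveI hPn : ((SD : Subgroup D).map D.subtype).Normal := ConjAct.normal_of_characteristic_of_normal
      have e : (SD : Subgroup D).map D.subtype = P := by
        rw [hSDP, Subgroup.map_subgroupOf_eq_of_le hzD]
      rw [e] at hPn
      rw [Subgroup.normalizer_eq_top_iff.2 hPn, Subgroup.card_top, hcard] at hN
      norm_num at hN
    have h96 : Nat.card (Subgroup.normalizer ((SD : Subgroup D) : Set D)) * 96 = Nat.card D := by
      rw [← hsyl, SD.card_eq_index_normalizer]
      exact Subgroup.card_mul_index (Subgroup.normalizer ((SD : Subgroup D) : Set D))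
    have h3 : D.index = 3 ∧ Nat.card (Subgroup.normalizer ((SD : Subgroup D) : Set D)) = 19 := by
      have hDi := D.card_mul_index
      rw [hcard] at hDi
      have hne1 : D.index ≠ 1 := fun h => htop (Subgroup.index_eq_one.1 h)
      have h19n : 19 ∣ Nat.card (Subgroup.normalizer ((SD : Subgroup D) : Set D)) :=
        hSDc.symm.dvd.trans (Subgroup.card_dvd_of_le Subgroup.le_normalizer)
      obtain ⟨t, ht⟩ := h19n
      rw [ht] at h96 ⊢
      have h57 : t * D.index = 3 := by
        have : 1824 * (t * D.index) = 1824 * 3 := by rw [← h96] at hDi; linarith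
        omega
      rcases (Nat.dvd_prime Nat.prime_three).1 ⟨_, h57.symm⟩ with h | h
      · rw [h, one_mul] at h57; exact ⟨h57, by rw [h]⟩
      · rw [h] at h57; omega
    obtain ⟨h3, hnorm⟩ := h3
    have heq : (SD : Subgroup D) = Subgroup.normalizer ((SD : Subgroup D) : Set D) :=
      Subgroup.eq_of_le_of_card_ge Subgroup.le_normalizer (by rw [hnorm, hSDc])
    haveI : IsCyclic (SD : Subgroup D) := isCyclic_of_prime_card hSDc
    have hle : Subgroup.normalizer ((SD : Subgroup D) : Set D) ≤ Subgroup.centralizer ((SD : Subgroup D) : Set D) := by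
      rw [← heq]
      intro a ha b hb
      have := (IsMulCommutative.is_comm (M := (SD : Subgroup D))).comm ⟨b, hb⟩ ⟨a, ha⟩
      exact congrArg Subtype.val this
    have hcomp := MonoidHom.ker_transferSylow_isComplement' SD hle
    set C := (MonoidHom.transferSylow SD hle).ker
    have hC19 : ¬ 19 ∣ Nat.card C := MonoidHom.not_dvd_card_ker_transferSylow SD hle
    -- the complement is characteristic, hence normal
    haveI : C.Normal := MonoidHom.normal_ker _
    have hDc : Nat.card D = 1824 := by
      have := D.card_mul_index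
      rw [h3, hcard] at this
      omega
    have hCc : Nat.card C = 96 := by
      have := hcomp.card_mul
      rw [hSDc, hDc] at this
      omega
    haveI : C.Characteristic := Subgroup.characteristic_iff_map_le.2 fun φ => by
      rintro _ ⟨c, hc, rfl⟩
      by_contra hnot
      have h1 : orderOf ((QuotientGroup.mk' C) (φ.toMonoidHom c)) ∣ 19 := by
        have : C.index = 19 := by
          have := C.card_mul_index
          rw [hCc, hDc] at this
          omega
        rw [← this, Subgroup.index]
        exact orderOf_dvd_natCard _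
      have h2 : orderOf ((QuotientGroup.mk' C) (φ.toMonoidHom c)) ∣ 96 := by
        refine (orderOf_map_dvd _ _).trans ((orderOf_map_dvd _ _).trans ?_)
        rw [← hCc, ← Subgroup.orderOf_mk c hc]
        exact orderOf_dvd_natCard _
      have h3 := orderOf_eq_one_iff.1 (Nat.eq_one_of_dvd_coprimes (by norm_num) h1 h2)
      exact hnot ((QuotientGroup.eq_one_iff _).1 h3)
    haveI := hD
    haveI : (C.map D.subtype).Normal := ConjAct.normal_of_characteristic_of_normal
    have hbot := eq_bot_of_not_dvd hcard hz hC (C.map D.subtype)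
      (by rw [Subgroup.card_map_of_injective D.subtype_injective]; exact hC19)
    have := Subgroup.card_eq_one.2 hbot
    rw [Subgroup.card_map_of_injective D.subtype_injective, hCc] at this
    norm_num at this
  have hperf : commutator Q = ⊤ := by
    by_contra h
    have hb := hsimp (commutator Q) inferInstance h
    have hall : ∀ g : Q, g ∈ P := fun g => hC g (by
      have : ⁅g, z⁆ ∈ commutator Q := Subgroup.commutator_mem_commutator (Subgroup.mem_top _) (Subgroup.mem_top _)
      rw [hb, Subgroup.mem_bot, commutatorElement_eq_one_iff_mul_comm] at this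
      exact this)
    have := hidx
    rw [Subgroup.index_eq_one.2 (eq_top_iff.2 fun g _ => hall g)] at this
    norm_num at this
  have hC' : Subgroup.centralizer ({z} : Set Q) = Subgroup.zpowers z :=
    le_antisymm (fun g hg => hC g (Subgroup.mem_centralizer_singleton_iff.1 hg))
      (Subgroup.zpowers_le.2 (Subgroup.mem_centralizer_singleton_iff.2 rfl))
  rcases Cfsg.Agent.S0996.result hperf 19 z hz hC' (by rw [hn96]; norm_num) with
    ⟨F, hf, hfin, hcF, -, ⟨e⟩⟩ | ⟨m, -, -, -, -, hm, -⟩
  · letI := hf; letI := hfin
    classical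
    have h1 : Nat.card Q ∣ Nat.card (Matrix.SpecialLinearGroup (Fin 2) F) := by
      rw [Nat.card_congr e.toEquiv]
      exact Subgroup.card_quotient_dvd_card _
    rw [hcard, Cfsg.Lib.FFModule.card_sl_two, hcF] at h1
    norm_num at h1
  · have : m < 5 := by
      by_contra! h
      have := Nat.pow_le_pow_right (show 0 < 2 by norm_num) h
      omega
    interval_cases m <;> omega

end Cfsg.Lib.Classical.SUThree.Singer
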