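import Cfsg.Agent.Classical.SUThree.SingerArith
import Cfsg.Agent.Classical.SUThree.SingerGroup
import Cfsg.Agent.Classical.SUThree.SingerField
import Cfsg.Agent.Classical.SUThree.OrthOrbit

/-!
The normaliser of a cubic extension is maximal in a three-dimensional special unitary group.
-/

set_option autoImplicit false
set_option linter.unusedSectionVars false
set_option linter.style.haveILetI false

namespace Cfsg.Lib.Classical.SUThree.Singer

open Module Cfsg.Lib.Classical Cfsg.Lib.Classical.ExtFieldU Cfsg.Lib.Known.PSUThree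

universe u v w

theorem card_map_mk {G : Type*} [Group G] [Finite G] (N A : Subgroup G) [N.Normal] (h : N ≤ A) :
    Nat.card (A.map (QuotientGroup.mk' N)) * Nat.card N = Nat.card A := by
  have h1 := (A.map (QuotientGroup.mk' N)).card_mul_index
  rw [Subgroup.index_map_eq _ (QuotientGroup.mk'_surjective N) (by rwa [QuotientGroup.ker_mk'])] at h1
  have h2 := N.card_mul_index
  rw [Subgroup.index, ← h1, ← A.card_mul_index] at h2
  refine Nat.eq_of_mul_eq_mul_right (Nat.pos_of_ne_zero A.index_ne_zero_of_finite) ?_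
  rw [← h2]
  ring

/-- The part of the order of the group of norm one prime to three. -/
theorem mS_part {q : ℕ} : Nat.gcd 3 (q + 1) ∣ mS q ∧ Nat.Coprime 9 (mS q / Nat.gcd 3 (q + 1)) := by
  obtain ⟨t, r, hr, rfl⟩ : ∃ t r, r < 3 ∧ q = 3 * t + r :=
    ⟨q / 3, q % 3, Nat.mod_lt _ (by norm_num), (Nat.div_add_mod q 3).symm⟩
  have key : ∀ {M : ℕ}, ¬ 3 ∣ M → Nat.Coprime 9 M := fun h =>
    Nat.Coprime.pow_left 2 ((Nat.Prime.coprime_iff_not_dvd Nat.prime_three).2 h)
  interval_cases r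
  · have e : mS (3 * t + 0) = 3 * (3 * t * t - t) + 1 := by
      have : t ≤ 3 * t * t := by rcases Nat.eq_zero_or_pos t with h | h <;> nlinarith
      zify [this]; rw [mS_spec]; push_cast; ring
    rw [Nat.Coprime.gcd_eq_one ((Nat.Prime.coprime_iff_not_dvd Nat.prime_three).2 (by omega)), Nat.div_one, e]
    exact ⟨one_dvd _, key (by omega)⟩
  · have e : mS (3 * t + 1) = 3 * (3 * t * t + t) + 1 := by zify; rw [mS_spec]; push_cast; ring
    rw [Nat.Coprime.gcd_eq_one ((Nat.Prime.coprime_iff_not_dvd Nat.prime_three).2 (by omega)), Nat.div_one, e]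
    exact ⟨one_dvd _, key (by omega)⟩
  · have e : mS (3 * t + 2) = 3 * (3 * (t * t + t) + 1) := by zify; rw [mS_spec]; push_cast; ring
    rw [Nat.gcd_eq_left (show 3 ∣ 3 * t + 2 + 1 by omega), e, Nat.mul_div_cancel_left _ (by norm_num)]
    exact ⟨dvd_mul_right _ _, key (by omega)⟩

variable {F : Type u} [Field F] [Finite F] {V : Type v} [AddCommGroup V] [Module F V] [FiniteDimensional F V]
  {H : HermSpace F V} {L : Type w} [Field L] [Algebra F L] [Module L V] [IsScalarTower F L V]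
  (hS : Sing L H) {M : Subgroup H.SIsom} (hM : ∀ g, g ∈ M ↔ Semi L g.1.1)
include hS hM

theorem Sing.Tg_le : Tg L H ≤ M := fun g ⟨c, hc⟩ =>
  (hM g).2 fun a => ⟨a, fun z => by rw [hc, hc, smul_comm]⟩

theorem Sing.center_le : Subgroup.center H.SIsom ≤ Tg L H := fun g hg => by
  obtain ⟨a, -, -, hg'⟩ := (H.mem_center_SIsom_iff (by rw [hS.dim]; norm_num)).1 hg
  exact ⟨algebraMap F L a, fun z => by rw [algebraMap_smul]; exact hg' z⟩

omit hM in
/-- Commuting with an element outside the base field. -/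
theorem Sing.Tg_of_comm {g : H.SIsom} {c : L} (hc : ∀ a : F, algebraMap F L a ≠ c)
    (h : ∀ z, g.1.1 (c • z) = c • g.1.1 z) : g ∈ Tg L H := by
  haveI := hS.fd
  haveI := hS.nontrivial
  let S : Subalgebra F L :=
    { carrier := {a | ∀ z, g.1.1 (a • z) = a • g.1.1 z}
      mul_mem' := fun {x y} hx hy z => by rw [mul_smul, hx, hy, mul_smul]
      add_mem' := fun {x y} hx hy z => by rw [add_smul, map_add, hx, hy, add_smul]
      algebraMap_mem' := fun r z => by rw [algebraMap_smul, algebraMap_smul, map_smul] }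
  have hcS : c ∈ S := h
  haveI := Subalgebra.isSimpleOrder_of_finrank_prime F L (by rw [hS.deg]; exact Nat.prime_three)
  rcases IsSimpleOrder.eq_bot_or_eq_top S with hbot | htop
  · rw [hbot, Algebra.mem_bot] at hcS
    obtain ⟨a, ha⟩ := hcS
    exact absurd ha (hc a)
  · obtain ⟨v, hv⟩ := exists_ne (0 : V)
    obtain ⟨d, hd⟩ := hS.coord hv (g.1.1 v)
    refine ⟨d, fun z => ?_⟩
    obtain ⟨x, rfl⟩ := hS.coord hv z
    rw [show g.1.1 (x • v) = x • g.1.1 v from (htop ▸ Algebra.mem_top : x ∈ S) v, ← hd, smul_comm]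

omit hM in
/-- The cube of an element of order prime to three is outside the base field. -/
theorem Sing.cube_not_base {u : L} (hu : u ≠ 1) (hum : u ^ (mS H.q / Nat.gcd 3 (H.q + 1)) = 1) (a : F) :
    algebraMap F L a ≠ u ^ 3 := by
  intro ha
  have hm : u ^ mS H.q = 1 := by
    rw [← Nat.div_mul_cancel (mS_part (q := H.q)).1, pow_mul, hum, one_pow]
  have hN : Algebra.norm F u = 1 := by
    refine (algebraMap F L).injective ?_
    rw [hS.norm_eq, map_one]
    obtain ⟨t, ht⟩ : mS H.q ∣ 1 + H.q ^ 2 + (H.q ^ 2) ^ 2 := by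
      rw [← gcd_exps]; exact Nat.gcd_dvd_right _ _
    rw [ht, pow_mul, hm, one_pow]
  haveI := hS.fd
  have ha3 : a ^ 3 = 1 := by
    have h := congrArg (Algebra.norm F) ha
    rwa [Algebra.norm_algebraMap, hS.deg, map_pow, hN, one_pow] at h
  have h9 : u ^ 9 = 1 := by rw [show 9 = 3 * 3 by rfl, pow_mul, ← ha, ← map_pow, ha3, map_one]
  have := pow_gcd_eq_one.2 ⟨h9, hum⟩
  rw [(mS_part (q := H.q)).2.gcd_eq_one, pow_one] at this
  exact hu this

/-- A conjugate in the normaliser forces an element of the normaliser. -/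
theorem Sing.mem_of_conj {g x : H.SIsom} {u : L} (hx : ∀ z, x.1.1 z = u • z) (hu : u ≠ 1)
    (hum : u ^ (mS H.q / Nat.gcd 3 (H.q + 1)) = 1) (h : g⁻¹ * x * g ∈ M) : g ∈ M := by
  obtain ⟨c', hc'⟩ : (g⁻¹ * x * g) ^ 3 ∈ Tg L H := (hS.card_semi hM).2 _ h
  have e : (g⁻¹ * x * g) ^ 3 = g⁻¹ * x ^ 3 * g := by
    rw [show g⁻¹ * x * g = g⁻¹ * x * g⁻¹⁻¹ by rw [inv_inv], conj_pow, inv_inv]
  refine M.inv_mem_iff.1 ((hM _).2 (hS.semi_of_conj (c := u ^ 3) (c' := c') (hS.cube_not_base hu hum) fun z => ?_))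
  have h3 : ∀ w, (x ^ 3).1.1 w = u ^ 3 • w := fun w => by
    rw [pow_succ, pow_two, H.smul_mul_apply, H.smul_mul_apply, hx, hx, hx, smul_smul, smul_smul]
    congr 1
    ring
  rw [← hc', e, H.smul_mul_apply, H.smul_mul_apply, h3]
  exact congrArg (fun w => (g⁻¹).1.1 (u ^ 3 • w)) (H.apply_inv_self g.1 z).symm

/-- The congruence for the index. -/
theorem Sing.index_mod {K : Subgroup H.SIsom} (hMK : M ≤ K) :
    mS H.q / Nat.gcd 3 (H.q + 1) ∣ (M.subgroupOf K).index - 1 := by
  classical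
  haveI := hS.fd
  haveI : Finite L := Module.finite_of_finite F
  haveI : Finite V := Module.finite_of_finite F
  obtain ⟨μ, hinj, hr, hμ⟩ := hS.exists_hom
  set m' := mS H.q / Nat.gcd 3 (H.q + 1) with hm'
  have hdvd : m' ∣ mS H.q := Nat.div_dvd_of_dvd mS_part.1
  set U := (powMonoidHom m' : Lˣ →* Lˣ).ker
  have hle : U ≤ (powMonoidHom (mS H.q) : Lˣ →* Lˣ).ker := fun x hx => by
    obtain ⟨t, ht⟩ := hdvd
    rw [MonoidHom.mem_ker, powMonoidHom_apply] at hx ⊢
    rw [ht, pow_mul, hx, one_pow]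
  have hνK : ∀ x, μ (Subgroup.inclusion hle x) ∈ M := fun x => hS.Tg_le hM (hr ▸ ⟨_, rfl⟩)
  let ν : U →* K := (μ.comp (Subgroup.inclusion hle)).codRestrict K fun x => hMK (hνK x)
  letI : MulAction U (K ⧸ M.subgroupOf K) := MulAction.compHom _ ν
  let s : SubMulAction U (K ⧸ M.subgroupOf K) :=
    { carrier := {x | x ≠ ((1 : K) : K ⧸ M.subgroupOf K)}
      smul_mem' := fun u y hy h => hy <| by
        have h0 : u • ((1 : K) : K ⧸ M.subgroupOf K) = ((1 : K) : K ⧸ M.subgroupOf K) := by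
          show ((ν u * 1 : K) : K ⧸ M.subgroupOf K) = _
          rw [mul_one, QuotientGroup.eq, mul_one, Subgroup.mem_subgroupOf]
          exact M.inv_mem (hνK u)
        exact MulAction.injective u (h.trans h0.symm) }
  have hdiv := Orth.card_dvd_of_stab s (k := 1) fun y hy => by
    rw [Nat.dvd_one, Subgroup.card_eq_one, eq_bot_iff]
    intro u hu
    rw [Subgroup.mem_bot]
    by_contra hu1
    induction y using QuotientGroup.induction_on with | H g => ?_
    rw [MulAction.mem_stabilizer_iff] at hu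
    have h1 : ((ν u * g : K) : K ⧸ M.subgroupOf K) = (g : K ⧸ M.subgroupOf K) := hu
    have h2 := QuotientGroup.eq.1 h1.symm
    rw [Subgroup.mem_subgroupOf] at h2
    have h3 : g.1⁻¹ * μ (Subgroup.inclusion hle u) * g.1 ∈ M := by rw [mul_assoc]; exact h2
    refine hy (QuotientGroup.eq.2 ?_)
    rw [mul_one]
    refine (M.subgroupOf K).inv_mem ?_
    rw [Subgroup.mem_subgroupOf]
    refine hS.mem_of_conj hM (fun z => hμ _ z) (fun e => hu1 (Subtype.ext (Units.ext e))) ?_ h3
    simpa using congrArg Units.val (MonoidHom.mem_ker.1 u.2)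
  have hU : Nat.card U = m' := hS.card_roots (hdvd.trans hS.mS_dvd)
  rw [one_mul, hU] at hdiv
  convert hdiv using 1
  show _ = Nat.card ↥({x | x ≠ ((1 : K) : K ⧸ M.subgroupOf K)} : Set (K ⧸ M.subgroupOf K))
  rw [Nat.card_coe_set_eq, show {x | x ≠ ((1 : K) : K ⧸ M.subgroupOf K)} = {((1 : K) : K ⧸ M.subgroupOf K)}ᶜ from rfl,
    Set.ncard_compl, Set.ncard_singleton, Subgroup.index]

/-- There is no overgroup of index 96 for `q = 8`. -/
theorem Sing.not_eight {K : Subgroup H.SIsom} (hMK : M ≤ K) (h8 : H.q = 8)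
    (hn : (M.subgroupOf K).index = 96) : False := by
  classical
  haveI := hS.fd
  haveI : Finite L := Module.finite_of_finite F
  obtain ⟨μ, hinj, hr, hμ⟩ := hS.exists_hom
  have hm : mS H.q = 57 := by rw [h8]; rfl
  have hTK : Tg L H ≤ K := (hS.Tg_le hM).trans hMK
  have hZT := hS.center_le hM
  have hKc : Nat.card K = 16416 := by
    rw [← (M.subgroupOf K).card_mul_index, hn, Nat.card_congr (Subgroup.subgroupOfEquivOfLe hMK).toEquiv,
      (hS.card_semi hM).1, hm]
  have hd3 : (2 : ℕ) ≤ finrank F V := by rw [hS.dim]; norm_num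
  have hZc : Nat.card (Subgroup.center H.SIsom) = 3 := by
    set E := (powMonoidHom 3 : Fˣ →* Fˣ).ker
    have hE : Nat.card E = 3 := by
      rw [IsCyclic.card_powMonoidHom_ker, Nat.card_units, H.card_field, h8]
      rfl
    have hex : ∀ a : E, ∃ g : H.SIsom, g ∈ Subgroup.center H.SIsom ∧ ∀ z, g.1.1 z = ((a.1 : Fˣ) : F) • z := by
      intro a
      have ha : ((a.1 : Fˣ) : F) ^ 3 = 1 := by simpa using congrArg Units.val (MonoidHom.mem_ker.1 a.2)
      obtain ⟨g, -, hg⟩ := hS.exists_Tg (x := algebraMap F L ((a.1 : Fˣ) : F)) (by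
        rw [hm, ← map_pow, show 57 = 3 * 19 by rfl, pow_mul, ha, one_pow, map_one])
      have hg' : ∀ z, g.1.1 z = ((a.1 : Fˣ) : F) • z := fun z => by rw [hg, algebraMap_smul]
      refine ⟨g, (H.mem_center_SIsom_iff hd3).2 ⟨_, ?_, by rw [hS.dim]; exact ha, hg'⟩, hg'⟩
      rw [circle_iff H, h8, show 8 + 1 = 3 * 3 by rfl, pow_mul, ha, one_pow]
    choose g hg hg' using hex
    rw [← hE]
    symm
    refine Nat.card_eq_of_bijective (fun a => (⟨g a, hg a⟩ : Subgroup.center H.SIsom)) ⟨fun a b e => ?_, fun k => ?_⟩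
    · have h := hg' a
      rw [show g a = g b from congrArg Subtype.val e] at h
      haveI := hS.nontrivial
      obtain ⟨v, hv⟩ := exists_ne (0 : V)
      exact Subtype.ext (Units.ext (smul_left_injective F hv ((h v).symm.trans (hg' b v))))
    · obtain ⟨a, ha, ha3, hk⟩ := (H.mem_center_SIsom_iff hd3).1 k.2
      rw [hS.dim] at ha3
      refine ⟨⟨Units.mk0 a (left_ne_zero_of_mul_eq_one ha), MonoidHom.mem_ker.2 (Units.ext ha3)⟩,
        Subtype.ext (H.sisom_ext fun z => ?_)⟩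
      exact (hg' _ z).trans (hk z).symm
  set Z := (Subgroup.center H.SIsom).subgroupOf K
  haveI : Z.Normal := inferInstance
  have hZK : Subgroup.center H.SIsom ≤ K := hZT.trans hTK
  have hZc' : Nat.card Z = 3 := by rw [Nat.card_congr (Subgroup.subgroupOfEquivOfLe hZK).toEquiv, hZc]
  set f := QuotientGroup.mk' Z
  have hQ : Nat.card (K ⧸ Z) = 5472 := by
    have := Z.card_mul_index
    rw [hZc', hKc, Subgroup.index] at this
    omega
  -- the group of norm one and the normaliser in the quotient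
  set T' := ((Tg L H).subgroupOf K).map f
  set M' := (M.subgroupOf K).map f
  have hT'c : Nat.card T' = 19 := by
    have h := card_map_mk Z ((Tg L H).subgroupOf K) (Subgroup.comap_mono hZT)
    rw [hZc', Nat.card_congr (Subgroup.subgroupOfEquivOfLe hTK).toEquiv, hS.card_Tg, hm] at h
    show Nat.card (((Tg L H).subgroupOf K).map (QuotientGroup.mk' Z)) = 19
    omega
  have hM'c : Nat.card M' = 57 := by
    have h := card_map_mk Z (M.subgroupOf K) (Subgroup.comap_mono (hZT.trans (hS.Tg_le hM)))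
    rw [hZc', Nat.card_congr (Subgroup.subgroupOfEquivOfLe hMK).toEquiv, (hS.card_semi hM).1, hm] at h
    show Nat.card ((M.subgroupOf K).map (QuotientGroup.mk' Z)) = 57
    omega
  haveI : Fact (Nat.Prime 19) := ⟨by norm_num⟩
  obtain ⟨w, hw⟩ := exists_prime_orderOf_dvd_card' (G := (powMonoidHom (mS H.q) : Lˣ →* Lˣ).ker) 19
    (by rw [hS.card_roots hS.mS_dvd, hm]; norm_num)
  have hwT : μ w ∈ Tg L H := hr ▸ ⟨w, rfl⟩
  set x : K := ⟨μ w, hTK hwT⟩
  have hxo : orderOf x = 19 := by rw [Subgroup.orderOf_mk, orderOf_injective μ hinj, hw]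
  set u : L := ((w.1 : Lˣ) : L)
  have hu1 : u ≠ 1 := fun e => by
    rw [show w = 1 from Subtype.ext (Units.ext e), orderOf_one] at hw
    norm_num at hw
  have hum : u ^ (mS H.q / Nat.gcd 3 (H.q + 1)) = 1 := by
    rw [hm, h8, show 57 / Nat.gcd 3 (8 + 1) = 19 by rfl, ← hw]
    have := congrArg (fun z : (powMonoidHom (mS H.q) : Lˣ →* Lˣ).ker => ((z.1 : Lˣ) : L)) (pow_orderOf_eq_one w)
    exact (Units.val_pow_eq_pow_val _ _).symm.trans this
  have hzo : orderOf (f x) = 19 := by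
    refine orderOf_eq_prime (by rw [← map_pow, ← hxo, pow_orderOf_eq_one, map_one]) fun h => ?_
    have h1 : x ∈ Z := (QuotientGroup.eq_one_iff x).1 h
    have h2 : orderOf x ∣ 3 := by
      rw [← hZc', ← Subgroup.orderOf_mk x h1]
      exact orderOf_dvd_natCard _
    rw [hxo] at h2
    norm_num at h2
  have hzT : Subgroup.zpowers (f x) = T' := by
    refine Subgroup.eq_of_le_of_card_ge (Subgroup.zpowers_le.2 ⟨x, hwT, rfl⟩) ?_
    rw [hT'c, Nat.card_zpowers, hzo]
  -- conjugates in the normaliser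
  have hback : ∀ g : K, (f g)⁻¹ * f x * f g ∈ M' → g.1 ∈ M := by
    rintro g ⟨k, hk, e⟩
    refine hS.mem_of_conj hM (hμ w) hu1 hum ?_
    have h : k⁻¹ * (g⁻¹ * x * g) ∈ Z := QuotientGroup.eq.1 (e.trans (by simp [f]))
    have := M.mul_mem hk ((hZT.trans (hS.Tg_le hM)) h)
    simpa [mul_assoc] using this
  refine no_group_5472 (z := f x) hQ hzo (fun g hg => ?_) ?_
  · induction g using QuotientGroup.induction_on with | H g => ?_
    change f g * f x = f x * f g at hg
    have hgM : g.1 ∈ M := hback g ⟨x, hS.Tg_le hM hwT, by rw [mul_assoc, ← hg, inv_mul_cancel_left]⟩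
    have hc : g * x * (x * g)⁻¹ ∈ Z := (QuotientGroup.eq_one_iff _).1 (by
      show f (g * x * (x * g)⁻¹) = 1
      rw [map_mul, map_inv, map_mul, map_mul, hg, mul_inv_cancel])
    set a := g.1 * x.1 * (x.1 * g.1)⁻¹ with ha
    have hac : a ∈ Subgroup.center H.SIsom := hc
    have ha3 : a ^ 3 = 1 := by
      have h := orderOf_dvd_natCard (⟨a, hac⟩ : Subgroup.center H.SIsom)
      rw [hZc, Subgroup.orderOf_mk] at h
      exact orderOf_dvd_iff_pow_eq_one.1 h
    have e : g.1 * x.1 * g.1⁻¹ = a * x.1 := by rw [ha]; group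
    have e3 : g.1 * x.1 ^ 3 * g.1⁻¹ = x.1 ^ 3 := by
      rw [← conj_pow, e, (show Commute a x.1 from (Subgroup.mem_center_iff.1 hac x.1).symm).mul_pow, ha3, one_mul]
    have h3 : ∀ z, (x.1 ^ 3).1.1 z = u ^ 3 • z := fun z => by
      show (μ w ^ 3).1.1 z = _
      rw [pow_succ, pow_two, H.smul_mul_apply, H.smul_mul_apply, hμ, hμ, hμ, smul_smul, smul_smul]
      congr 1
      ring
    have hgT : g.1 ∈ Tg L H := hS.Tg_of_comm (hS.cube_not_base hu1 hum) fun z => by
      rw [← h3, ← h3, ← H.smul_mul_apply, ← H.smul_mul_apply, mul_inv_eq_iff_eq_mul.1 e3]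
    exact hzT ▸ ⟨g, hgT, rfl⟩
  · rw [hzT, ← hM'c]
    refine congrArg (fun S : Subgroup (K ⧸ Z) => Nat.card S) (le_antisymm (fun g hg => ?_) ?_)
    · induction g using QuotientGroup.induction_on with | H g => ?_
      rw [Subgroup.mem_normalizer_iff''] at hg
      have h1 := (hg (f x)).1 ⟨x, hwT, rfl⟩
      obtain ⟨k, hk, e⟩ := h1
      exact ⟨g, hback g ⟨k, hS.Tg_le hM hk, e⟩, rfl⟩
    · rintro _ ⟨g, hg, rfl⟩
      refine Subgroup.mem_normalizer_fintype ?_
      rintro _ ⟨k, ⟨c, hc⟩, rfl⟩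
      refine ⟨g * k * g⁻¹, ?_, by simp⟩
      obtain ⟨b, hb⟩ := (hM g.1).1 hg c
      refine ⟨b, fun z => ?_⟩
      show (g.1 * k.1 * g.1⁻¹).1.1 z = b • z
      rw [H.smul_mul_apply, H.smul_mul_apply, show k.1.1.1 _ = _ from hc _, hb]
      exact congrArg (b • ·) (H.apply_inv_self g.1.1 z)

/-- The normaliser of a cubic extension is maximal. -/
theorem Sing.isCoatom (h3 : H.q ≠ 3) (h5 : H.q ≠ 5) (hpp : IsPrimePow H.q)
    (hcard : Nat.card H.SIsom = H.q ^ 3 * ((H.q ^ 3 + 1) * (H.q ^ 2 - 1))) : IsCoatom M := by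
  classical
  have h3q := hS.three
  obtain ⟨hMc, -⟩ := hS.card_semi hM
  have e3 : H.q ^ 3 + 1 = mS H.q * (H.q + 1) := by zify; rw [mS_spec]; ring
  have e2 : H.q ^ 2 - 1 = (H.q + 1) * (H.q - 1) := by
    rw [show (H.q ^ 2 - 1) = H.q ^ 2 - 1 ^ 2 by rw [one_pow], Nat.sq_sub_sq]
  refine ⟨fun htop => ?_, fun K hlt => ?_⟩
  · have : 3 * mS H.q < Nat.card H.SIsom := by
      rw [hcard, e3]
      have h1 : 27 ≤ H.q ^ 3 := le_trans (by norm_num) (Nat.pow_le_pow_left h3q 3)
      have h2 : 1 ≤ (H.q + 1) * (H.q ^ 2 - 1) :=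
        Nat.mul_pos (Nat.succ_pos _) (e2 ▸ Nat.mul_pos (Nat.succ_pos _) (by omega))
      calc 3 * mS H.q < 27 * mS H.q := Nat.mul_lt_mul_of_pos_right (by norm_num) (by rw [mS]; omega)
        _ ≤ H.q ^ 3 * (mS H.q * ((H.q + 1) * (H.q ^ 2 - 1))) :=
          Nat.mul_le_mul h1 (Nat.le_mul_of_pos_right _ h2)
        _ = _ := by ring
    rw [← hMc, htop, Subgroup.card_top] at this
    exact lt_irrefl _ this
  by_contra htop
  have hsmall : Nat.card K < (H.q ^ 3 + 1) * (H.q ^ 2 - 1) := by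
    by_contra! h
    exact htop (top_of_big (K := K) { toSetup := hS.toSetup, card := h } h5
      (((hS.center_le hM).trans (hS.Tg_le hM)).trans hlt.le))
  set n := (M.subgroupOf K).index
  have hKc : 3 * mS H.q * n = Nat.card K := by
    rw [← hMc, ← Nat.card_congr (Subgroup.subgroupOfEquivOfLe hlt.le).toEquiv]
    exact Subgroup.card_mul_index _
  have hn0 : n ≠ 0 := Subgroup.index_ne_zero_of_finite
  have hn1 : n ≠ 1 := fun h => not_le_of_gt hlt (Subgroup.subgroupOf_eq_top.1 (Subgroup.index_eq_one.1 h))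
  obtain ⟨k, hk⟩ := hS.index_mod hM hlt.le
  have hmpos : 0 < mS H.q := by rw [mS]; omega
  have hn : n = 1 + k * (mS H.q / Nat.gcd 3 (H.q + 1)) := by
    rw [mul_comm] at hk
    show n = _
    omega
  have hk1 : 1 ≤ k := by
    rcases Nat.eq_zero_or_pos k with rfl | h
    · rw [zero_mul] at hn; exact absurd hn hn1
    · exact h
  have hlt' : 3 * n < (H.q + 1) * (H.q + 1) * (H.q - 1) := by
    refine Nat.lt_of_mul_lt_mul_left (a := mS H.q) ?_
    calc mS H.q * (3 * n) = Nat.card K := by rw [← hKc]; ring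
      _ < _ := hsmall
      _ = _ := by rw [e3, e2]; ring
  have hdvd : n ∣ H.q * H.q * H.q * ((H.q + 1) * (H.q + 1) * (H.q - 1)) := by
    refine (dvd_mul_left n 3).trans (Nat.dvd_of_mul_dvd_mul_left hmpos ?_)
    rw [show mS H.q * (3 * n) = Nat.card K by rw [← hKc]; ring]
    refine (Subgroup.card_subgroup_dvd_card K).trans (dvd_of_eq ?_)
    rw [hcard, e3, e2]
    ring
  obtain ⟨h8, h96⟩ := index_cases h3q h3 h5 hpp rfl hn hk1 hlt' hdvd
  exact hS.not_eight hM hlt.le h8 h96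

end Cfsg.Lib.Classical.SUThree.Singer
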