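import Cfsg.Prelude.Def_GeometricClasses
import Cfsg.Agent.Classical.SUThree.SingerTop

/-!
Normalisers of adjoint-closed cubic field algebras in `SU_3(q)` through matrices.
-/

set_option autoImplicit false
set_option linter.unusedSectionVars false
set_option linter.style.haveILetI false

namespace Cfsg.Lib.Classical.SUThree

universe u w

open Module Matrix Cfsg.Lib.Classical Cfsg.Lib.Classical.ExtFieldU

theorem singer_of_field {F : Type u} [Field F] [Fintype F] {q : ℕ} (hF : Fintype.card F = q ^ 2)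
    (hq : 3 ≤ q) (h3 : q ≠ 3) (h5 : q ≠ 5) {K : Subalgebra F (Matrix (Fin 3) (Fin 3) F)} {L : Type w} [Field L]
    [Algebra F L] [Module L (Fin 3 → F)] (hT : IsScalarTower F L (Fin 3 → F))
    (ι : L → Matrix (Fin 3) (Fin 3) F) (hι : ∀ (a : L) (z : Fin 3 → F), a • z = ι a *ᵥ z)
    (hmemι : ∀ a, ι a ∈ K) (hsurj : ∀ k ∈ K, ∃ a, ι a = k) (hdeg : finrank F L = 3)
    (hac : Cfsg.Geo.IsAdjointClosedFor (Cfsg.hermForm 3 F q) K) :
    Cfsg.Geo.IsMaximalIn (Cfsg.GU 3 F q ⊓ Cfsg.Geo.specialLinear (Fin 3) F)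
      (Cfsg.Geo.subalgebraNormalizer K ⊓ (Cfsg.GU 3 F q ⊓ Cfsg.Geo.specialLinear (Fin 3) F)) := by
  classical
  refine isMaximalIn_of_isCoatom_comap (sunitToGL hF) (range_sunitToGL hF) ?_
  set H := stdHerm 3 hF with hH
  have hHq : H.q = q := stdHerm_q hF
  -- the adjoint
  have huniq : ∀ c c' : L, (∀ u v, H.h u (c • v) = H.h u (c' • v)) → c = c' := fun c c' h => by
    obtain ⟨v, hv⟩ := exists_ne (0 : Fin 3 → F)
    exact smul_left_injective L hv (H.ext_of_forall fun u => h u v)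
  have hex : ∀ c : L, ∃ d : L, ∀ u v, H.h (c • u) v = H.h u (d • v) := fun c => by
    obtain ⟨k', hk', hkuv⟩ := hac _ (hmemι c)
    obtain ⟨d, rfl⟩ := hsurj k' hk'
    exact ⟨d, fun u v => by rw [hι, hι, hH, stdHerm_h, stdHerm_h]; exact hkuv u v⟩
  choose f hf using hex
  let τ : L →+* L :=
    { toFun := f
      map_one' := huniq _ _ fun u v => by rw [← hf, one_smul, one_smul]
      map_mul' := fun a b => huniq _ _ fun u v => by rw [← hf, mul_comm a b, mul_smul, hf, hf, smul_smul]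
      map_zero' := huniq _ _ fun u v => by rw [← hf, zero_smul, zero_smul, H.zero_left, H.zero_right]
      map_add' := fun a b => huniq _ _ fun u v => by rw [← hf, add_smul, H.add_left, hf, hf, ← H.add_right, add_smul] }
  have hS : Singer.Sing L H :=
    { toSetup := Cfsg.Lib.Known.PSUThree.setup_std hF hq
      deg := hdeg
      adj := ⟨τ, hf⟩ }
  haveI : FiniteDimensional F L := hS.fd
  have hconj : ∀ g : H.SIsom, Semi L g.1.1 → ∀ k ∈ K,
      ((sunitToGL hF g : GL (Fin 3) F) : Matrix (Fin 3) (Fin 3) F) * k *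
        (((sunitToGL hF g)⁻¹ : GL (Fin 3) F) : Matrix (Fin 3) (Fin 3) F) ∈ K := by
    intro g hg k hk
    obtain ⟨a, rfl⟩ := hsurj k hk
    obtain ⟨b, hb⟩ := hg a
    have h : ((sunitToGL hF g : GL (Fin 3) F) : Matrix (Fin 3) (Fin 3) F) * ι a =
        ι b * (sunitToGL hF g : GL (Fin 3) F) := by
      refine Matrix.toLin'.injective (LinearMap.ext fun z => ?_)
      have := hb z
      rw [hι, hι, ← sunitToGL_mulVec hF g, ← sunitToGL_mulVec hF g z, mulVec_mulVec, mulVec_mulVec] at this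
      simpa using this
    rw [h, mul_assoc, ← Units.val_mul, mul_inv_cancel, Units.val_one, mul_one]
    exact hmemι b
  have hsemi : ∀ g : H.SIsom, g ∈ (Cfsg.Geo.subalgebraNormalizer K).comap (sunitToGL hF) ↔ Semi L g.1.1 := by
    intro g
    constructor
    · intro hg a
      obtain ⟨b, hb⟩ := hsurj _ ((hg (ι a)).mp (hmemι a))
      refine ⟨b, fun z => ?_⟩
      rw [hι, hι, hb, ← sunitToGL_mulVec hF g, ← sunitToGL_mulVec hF g z, mulVec_mulVec, mulVec_mulVec,
        mul_assoc _ _ ((sunitToGL hF g : GL (Fin 3) F) : Matrix (Fin 3) (Fin 3) F),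
        ← Units.val_mul, inv_mul_cancel, Units.val_one, mul_one]
    · intro hg k
      refine ⟨hconj g hg k, fun h => ?_⟩
      have h' := hconj g⁻¹ (ExtField.Semi.inv hg) _ h
      rw [map_inv, inv_inv] at h'
      simpa [← mul_assoc, mul_assoc _ _ ((sunitToGL hF g : GL (Fin 3) F) : Matrix (Fin 3) (Fin 3) F),
        ← Units.val_mul] using h'
  refine hS.isCoatom hsemi (by rw [hHq]; exact h3) (by rw [hHq]; exact h5) ?_
    (by rw [hHq]; exact Cfsg.Lib.Known.PSUThree.card_SIsom_std hF hq)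
  have h1 : IsPrimePow (Fintype.card F) := FiniteField.isPrimePow_card F
  rw [hF, isPrimePow_pow_iff two_ne_zero] at h1
  rw [hHq]
  exact h1

theorem isMaximalIn_singer {F : Type*} [Field F] [Fintype F] {q : ℕ} (hF : Fintype.card F = q ^ 2)
    (hq : 3 ≤ q) (h3 : q ≠ 3) (h5 : q ≠ 5) (K : Subalgebra F (Matrix (Fin 3) (Fin 3) F))
    (hK : Cfsg.Geo.IsFieldSubalgebra 3 K) (hac : Cfsg.Geo.IsAdjointClosedFor (Cfsg.hermForm 3 F q) K) :
    Cfsg.Geo.IsMaximalIn (Cfsg.GU 3 F q ⊓ Cfsg.Geo.specialLinear (Fin 3) F)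
      (Cfsg.Geo.subalgebraNormalizer K ⊓ (Cfsg.GU 3 F q ⊓ Cfsg.Geo.specialLinear (Fin 3) F)) := by
  classical
  have hfield : IsField K :=
    ⟨⟨0, 1, fun h => by
      have h' := congrFun (congrFun (congrArg Subtype.val h) 0) 0
      simp at h'⟩, fun a b => Subtype.ext (hK.comm a a.2 b b.2), fun {a} ha => by
      obtain ⟨b, hb, hab⟩ := hK.inv a a.2 (fun h => ha (Subtype.ext h))
      exact ⟨⟨b, hb⟩, Subtype.ext hab⟩⟩
  let : Field K := hfield.toField
  let : Module K (Fin 3 → F) :=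
    Module.compHom (Fin 3 → F) ((Matrix.toLinAlgEquiv'.toAlgHom.comp K.val).toRingHom)
  have hsmul : ∀ (k : K) (z : Fin 3 → F), k • z = (k : Matrix (Fin 3) (Fin 3) F) *ᵥ z := fun k z => rfl
  have hT : IsScalarTower F K (Fin 3 → F) :=
    ⟨fun l k z => by rw [hsmul, hsmul, SetLike.val_smul, smul_mulVec]⟩
  exact singer_of_field (L := K) hF hq h3 h5 hT (fun k => (k : Matrix (Fin 3) (Fin 3) F)) hsmul
    (fun k => k.2) (fun k hk => ⟨⟨k, hk⟩, rfl⟩) hK.finrank_eq hac

end Cfsg.Lib.Classical.SUThree
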