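import Cfsg.Agent.Classical.PrimeDim.UnitaryMain
import Cfsg.Agent.Classical.SLThree.FieldAut

/-!
Tools for solvable overgroups in `SL₃`: the permutation action on a frame, the action of a normaliser of a
Heisenberg group on its central quotient, and a bound on the order of such a normaliser.
-/

set_option autoImplicit false
set_option linter.unusedSimpArgs false
set_option linter.unusedSectionVars false
set_option linter.style.haveILetI false

namespace Cfsg.Lib.Classical.SUThree.Solv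

open Matrix Cfsg.Geo
open scoped MatrixGroups
open Cfsg.Lib.Classical.PrimeDim

universe u

variable {F : Type u} [Field F]

local notation "MM" => Matrix (Fin 3) (Fin 3) F
local notation "GG" => GL (Fin 3) F

/-- A solvable group has no quasi-simple core. -/
theorem preCore_false {H P : Subgroup GG} (hP : IsPreCore H P) (hs : Group.IsSolvable H) : False := by
  haveI := hs
  haveI := hP.simple
  haveI : Group.IsSolvable P :=
    Group.isSolvable_of_isSolvable_injective (f := Subgroup.inclusion hP.le) (Subgroup.inclusion_injective _)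
  haveI : Group.IsSolvable (P ⧸ (scalars (Fin 3) F).subgroupOf P) :=
    Group.isSolvable_of_surjective (QuotientGroup.mk'_surjective _)
  exact hP.nonabelian ⟨⟨IsSimpleGroup.comm_iff_isSolvable.mpr inferInstance⟩⟩

/-- A group with a non-central solvable normal subgroup has no quasi-simple core. -/
theorem preCore_false_of_normal {H N P : Subgroup GG} (hP : IsPreCore H P) (hNH : N ≤ H) (hn : Normalises H N)
    (hs : Group.IsSolvable N) (hns : ¬ N ≤ scalars (Fin 3) F) : False := by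
  classical
  haveI := hs
  haveI := hP.simple
  refine hns fun g hg => hP.centralizer_scalar g (hNH hg) fun x hx => ?_
  set J : Subgroup GG := N ⊓ P with hJ
  have hmem : g * x * g⁻¹ * x⁻¹ ∈ J := by
    refine ⟨?_, P.mul_mem (hP.normal g (hNH hg) x hx) (P.inv_mem hx)⟩
    rw [mul_assoc, mul_assoc]
    refine N.mul_mem hg ?_
    rw [← mul_assoc]
    exact hn x (hP.le hx) _ (N.inv_mem hg)
  haveI : Group.IsSolvable J := Group.isSolvable_of_isSolvable_injective
    (f := Subgroup.inclusion (inf_le_left : J ≤ N)) (Subgroup.inclusion_injective _)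
  let ψ : J →* P ⧸ (scalars (Fin 3) F).subgroupOf P :=
    (QuotientGroup.mk' _).comp (Subgroup.inclusion (inf_le_right : J ≤ P))
  haveI : ψ.range.Normal := ⟨fun m hm r => by
    obtain ⟨h, rfl⟩ := hm
    obtain ⟨y, rfl⟩ := QuotientGroup.mk_surjective r
    have h1 : (y : GG) * (h : GG) * (y : GG)⁻¹ ∈ J :=
      ⟨hn y (hP.le y.2) h h.2.1, P.mul_mem (P.mul_mem y.2 h.2.2) (P.inv_mem y.2)⟩
    refine ⟨⟨_, h1⟩, ?_⟩
    show QuotientGroup.mk _ = _
    rw [← QuotientGroup.mk_inv]
    rfl⟩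
  rcases (inferInstance : ψ.range.Normal).eq_bot_or_eq_top with h | h
  · have h1 : ψ ⟨_, hmem⟩ ∈ (⊥ : Subgroup _) := h ▸ ⟨_, rfl⟩
    rw [Subgroup.mem_bot] at h1
    have h2 := (QuotientGroup.eq_one_iff _).mp h1
    rw [Subgroup.mem_subgroupOf] at h2
    exact h2
  · haveI : Group.IsSolvable (P ⧸ (scalars (Fin 3) F).subgroupOf P) :=
      Group.isSolvable_of_surjective (MonoidHom.range_eq_top.mp h)
    exact absurd ⟨⟨IsSimpleGroup.comm_iff_isSolvable.mpr inferInstance⟩⟩ hP.nonabelian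

/-! ### Frames -/

section Perm

variable {t : ℕ} {D : Fin t → Submodule F (Fin 3 → F)}

theorem frame_injective (hD : IsMDecomposition 1 D) : Function.Injective D := by
  intro i j hij
  by_contra hne
  have h := hD.indep.pairwiseDisjoint hne
  change Disjoint (D i) (D j) at h
  rw [hij, disjoint_self] at h
  have := hD.finrank_eq j
  rw [h, finrank_bot] at this
  exact zero_ne_one this

/-- The permutation of the members induced by an element of the stabiliser. -/
noncomputable def permHom (hD : IsMDecomposition 1 D) : decompositionStabilizer D →* Equiv.Perm (Fin t) where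
  toFun g := g.2.choose
  map_one' := by
    refine Equiv.ext fun i => frame_injective hD ?_
    rw [← (1 : decompositionStabilizer D).2.choose_spec i]
    simp
  map_mul' a b := by
    refine Equiv.ext fun i => frame_injective hD ?_
    rw [← (a * b).2.choose_spec i, Subgroup.coe_mul, Units.val_mul, Matrix.toLin'_mul, Submodule.map_comp,
      b.2.choose_spec i, a.2.choose_spec, Equiv.Perm.mul_apply]

theorem permHom_spec (hD : IsMDecomposition 1 D) (g : decompositionStabilizer D) (i : Fin t) :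
    (D i).map (Matrix.toLin' ((g : GG) : MM)) = D (permHom hD g i) :=
  g.2.choose_spec i

theorem permHom_eq (hD : IsMDecomposition 1 D) {g : decompositionStabilizer D} {σ : Equiv.Perm (Fin t)}
    (h : ∀ i, (D i).map (Matrix.toLin' ((g : GG) : MM)) = D (σ i)) : permHom hD g = σ :=
  Equiv.ext fun i => frame_injective hD ((permHom_spec hD g i).symm.trans (h i))

theorem mem_of_permHom_eq_one (hD : IsMDecomposition 1 D) {g : decompositionStabilizer D}
    (h : permHom hD g = 1) {i : Fin t} {v : Fin 3 → F} (hv : v ∈ D i) : ((g : GG) : MM) *ᵥ v ∈ D i := by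
  have e := permHom_spec hD g i
  rw [h, Equiv.Perm.one_apply] at e
  exact e ▸ ⟨v, hv, Matrix.toLin'_apply _ _⟩

/-- Elements fixing every member commute. -/
theorem commute_of_fixed (hD : IsMDecomposition 1 D) {g h : GG} (hg : ∀ i, ∀ v ∈ D i, (g : MM) *ᵥ v ∈ D i)
    (hh : ∀ i, ∀ v ∈ D i, (h : MM) *ᵥ v ∈ D i) : g * h = h * g := by
  refine Units.ext ?_
  have hker : (⊤ : Submodule F (Fin 3 → F)) ≤
      LinearMap.ker (Matrix.toLin' ((g : MM) * (h : MM) - (h : MM) * (g : MM))) := by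
    rw [← hD.iSup_eq_top]
    refine iSup_le fun i v hv => ?_
    obtain ⟨⟨w, hw⟩, -, hw'⟩ := finrank_eq_one_iff'.mp (hD.finrank_eq i)
    obtain ⟨s, hs⟩ := hw' ⟨v, hv⟩
    obtain ⟨α, hα⟩ := hw' ⟨_, hg i w hw⟩
    obtain ⟨β, hβ⟩ := hw' ⟨_, hh i w hw⟩
    have e1 : α • w = (g : MM) *ᵥ w := congrArg Subtype.val hα
    have e2 : β • w = (h : MM) *ᵥ w := congrArg Subtype.val hβ
    have e3 : s • w = v := congrArg Subtype.val hs
    rw [LinearMap.mem_ker, Matrix.toLin'_apply, ← e3, Matrix.mulVec_smul, Matrix.sub_mulVec, ← Matrix.mulVec_mulVec,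
      ← Matrix.mulVec_mulVec, ← e2, Matrix.mulVec_smul, ← e1, Matrix.mulVec_smul, ← e2, smul_smul, smul_smul,
      mul_comm β, sub_self, smul_zero]
  rw [top_le_iff, LinearMap.ker_eq_top, LinearEquiv.map_eq_zero_iff, sub_eq_zero] at hker
  rw [Units.val_mul, Units.val_mul, hker]

end Perm

/-- An abelian group of permutations of three points has exponent two or three. -/
theorem perm_three_exp {G : Type*} [Group G] (φ : G →* Equiv.Perm (Fin 3))
    (hc : ∀ a b, φ a * φ b = φ b * φ a) : ∃ k, (k = 2 ∨ k = 3) ∧ ∀ a, φ (a ^ k) = 1 := by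
  have key : ∀ σ τ : Equiv.Perm (Fin 3), σ * τ = τ * σ → σ ^ 2 ≠ 1 → τ ^ 3 = 1 := by decide +kernel
  by_cases h : ∀ a, φ a ^ 2 = 1
  · exact ⟨2, Or.inl rfl, fun a => by rw [map_pow]; exact h a⟩
  · push Not at h
    obtain ⟨a, ha⟩ := h
    exact ⟨3, Or.inr rfl, fun b => by rw [map_pow]; exact key _ _ (hc a b) ha⟩

/-- The cube of an element normalising a field of degree three lies in it. -/
theorem cube_mem_field [Fintype F] {K : Subalgebra F MM} (hK : IsFieldSubalgebra 3 K) {g : GG}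
    (hg : g ∈ subalgebraNormalizer K) : ((g ^ 3 : GG) : MM) ∈ K := by
  classical
  letI : CommRing K := { (inferInstance : Ring K) with mul_comm := fun a b => Subtype.ext (hK.comm a a.2 b b.2) }
  have hF : IsField K :=
    { exists_pair_ne := ⟨0, 1, zero_ne_one⟩
      mul_comm := mul_comm
      mul_inv_cancel := fun {a} ha => by
        obtain ⟨y, hy, h⟩ := hK.inv a a.2 (fun h => ha (Subtype.ext h))
        exact ⟨⟨y, hy⟩, Subtype.ext h⟩ }
  letI : Field K := hF.toField
  letI : Fintype K := Fintype.ofFinite K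
  obtain ⟨i, -, hi⟩ := Cfsg.Lib.Classical.SLThree.exists_frob hK hg
  set Q := Fintype.card F with hQ
  have hcardK : Fintype.card K = Q ^ 3 := by
    rw [← Nat.card_eq_fintype_card, Module.natCard_eq_pow_finrank (K := F) (V := K), hK.finrank_eq,
      Nat.card_eq_fintype_card]
  have hfix : ∀ k ∈ K, k ^ (Q ^ i) ^ 3 = k := by
    intro k hk
    have h : (⟨k, hk⟩ : K) ^ (Fintype.card K) ^ i = ⟨k, hk⟩ := FiniteField.pow_card_pow i _
    rw [hcardK, ← pow_mul, mul_comm, pow_mul] at h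
    exact congrArg Subtype.val h
  refine fieldSub_centralizer (by simpa using hK) fun k hk => ?_
  have h1 : (g : MM) * ((g : MM) * ((g : MM) * k * ((g⁻¹ : GG) : MM)) * ((g⁻¹ : GG) : MM)) *
      ((g⁻¹ : GG) : MM) = k := by
    rw [hi k hk, hi _ (K.pow_mem hk _), hi _ (K.pow_mem (K.pow_mem hk _) _), ← pow_mul, ← pow_mul]
    conv_rhs => rw [← hfix k hk]
    congr 1
    ring
  have h2 := congrArg (fun M : MM => M * ((g ^ 3 : GG) : MM)) h1
  replace h2 : _ = k * ((g ^ 3 : GG) : MM) := h2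
  rw [← h2]
  simp [pow_succ, mul_assoc]

/-- Scalars of determinant one have order dividing three. -/
theorem scalar_cube {g : GG} (hd : (g : MM).det = 1) {l : F} (hg : (g : MM) = l • 1) : l ^ 3 = 1 ∧ g ^ 3 = 1 := by
  have h3 : l ^ 3 = 1 := by
    rw [hg, Matrix.det_smul, Matrix.det_one, mul_one, Fintype.card_fin] at hd
    exact hd
  exact ⟨h3, Units.ext (by rw [Units.val_pow_eq_pow_val, hg, _root_.smul_pow, one_pow, h3, one_smul, Units.val_one])⟩

theorem card_scalar_le {A : Subgroup GG} (hA : A ≤ specialLinear (Fin 3) F) (hs : A ≤ scalars (Fin 3) F) :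
    Nat.card A ≤ 3 := by
  classical
  let φ : A → ((Polynomial.nthRoots 3 (1 : F)).toFinset : Finset F) := fun g => ⟨((g : GG) : MM) 0 0, by
    obtain ⟨c, hc⟩ := (mem_scalars_iff _).mp (hs g.2)
    rw [Multiset.mem_toFinset, Polynomial.mem_nthRoots (by norm_num), hc]
    simpa using (scalar_cube (det_eq_one hA g.2) hc).1⟩
  have hφ : Function.Injective φ := fun g h e => by
    obtain ⟨c, hc⟩ := (mem_scalars_iff _).mp (hs g.2)
    obtain ⟨d, hd⟩ := (mem_scalars_iff _).mp (hs h.2)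
    have e' : ((g : GG) : MM) 0 0 = ((h : GG) : MM) 0 0 := congrArg Subtype.val e
    rw [hc, hd] at e'
    refine Subtype.ext (Units.ext ?_)
    rw [hc, hd, show (c : F) = d by simpa using e']
  refine (Nat.card_le_card_of_injective φ hφ).trans ?_
  rw [Nat.card_eq_finsetCard]
  exact (Multiset.toFinset_card_le _).trans (Polynomial.card_nthRoots 3 1)

/-! ### Coordinates on the central quotient of a Heisenberg group -/

/-- The projection to the projective group. -/
def proj : GG →* GG ⧸ scalars (Fin 3) F := QuotientGroup.mk' (scalars (Fin 3) F)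

theorem proj_eq_iff {g h : GG} : proj g = proj h ↔ ∃ c : Fˣ, (h : MM) = (c : F) • (g : MM) := by
  show (QuotientGroup.mk g : GG ⧸ scalars (Fin 3) F) = QuotientGroup.mk h ↔ _
  rw [QuotientGroup.eq, mem_scalars_iff]
  constructor
  · rintro ⟨c, hc⟩
    refine ⟨c, ?_⟩
    have := congrArg (fun M : MM => (g : MM) * M) hc
    simp only [Units.val_mul, mul_inv_cancel_left, Matrix.mul_smul, mul_one, ← mul_assoc, val_mul_inv, one_mul] at this
    exact this
  · rintro ⟨c, hc⟩
    exact ⟨c, by rw [Units.val_mul, hc, Matrix.mul_smul, val_inv_mul]⟩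

theorem proj_eq_one_iff {g : GG} : proj g = 1 ↔ g ∈ scalars (Fin 3) F := QuotientGroup.eq_one_iff g

/-- The coordinates of the central quotient. -/
def pt (x y : GG) (v : Fin 2 → ZMod 3) : GG ⧸ scalars (Fin 3) F :=
  proj x ^ (v 0).val * proj y ^ (v 1).val

/-- A Heisenberg group with generators. -/
structure Gen (R : Subgroup (GL (Fin 3) F)) (x y : GL (Fin 3) F) (ζ : F) : Prop where
  mem_x : x ∈ R
  mem_y : y ∈ R
  prim : IsPrimitiveRoot ζ 3
  cube_x : x ^ 3 = 1
  cube_y : y ^ 3 = 1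
  twist : (x : MM) * (y : MM) = ζ • ((y : MM) * (x : MM))
  form : ∀ g ∈ R, ∃ v, proj g = pt x y v
  absIrred : ActsAbsolutelyIrreducibly (matrixSet R)

variable {R : Subgroup (GL (Fin 3) F)} {x y : GL (Fin 3) F} {ζ : F}

theorem pow_cube_add {M : Type*} [Monoid M] {g : M} (h : g ^ 3 = 1) (a b : ZMod 3) :
    g ^ (a + b).val = g ^ a.val * g ^ b.val := by
  rw [← pow_add, ZMod.val_add]
  exact (pow_eq_pow_mod _ h).symm

theorem Gen.commute_proj (G : Gen R x y ζ) : Commute (proj x) (proj y) := by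
  rw [Commute, SemiconjBy, ← map_mul, ← map_mul, proj_eq_iff]
  have h0 : ζ⁻¹ ≠ 0 := inv_ne_zero (G.prim.ne_zero (by norm_num))
  refine ⟨Units.mk0 _ h0, ?_⟩
  rw [Units.val_mul, Units.val_mul, G.twist, smul_smul, Units.val_mk0, inv_mul_cancel₀ (G.prim.ne_zero (by norm_num)),
    one_smul]

theorem Gen.pt_add (G : Gen R x y ζ) (v w : Fin 2 → ZMod 3) : pt x y (v + w) = pt x y v * pt x y w := by
  rw [pt, pt, pt, Pi.add_apply, Pi.add_apply, pow_cube_add (by rw [← map_pow, G.cube_x, map_one]),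
    pow_cube_add (g := proj y) (by rw [← map_pow, G.cube_y, map_one])]
  exact (((G.commute_proj.symm).pow_pow _ _).mul_mul_mul_comm _ _).symm

theorem pt_zero (x y : GG) : pt x y 0 = 1 := by simp [pt]

theorem Gen.pt_nsmul (G : Gen R x y ζ) (v : Fin 2 → ZMod 3) (n : ℕ) : pt x y (n • v) = pt x y v ^ n := by
  induction n with
  | zero => rw [zero_smul, pt_zero, pow_zero]
  | succ n ih => rw [succ_nsmul, G.pt_add, ih, pow_succ]

theorem pt_eq (x y : GG) (v : Fin 2 → ZMod 3) : pt x y v = proj (x ^ (v 0).val * y ^ (v 1).val) := by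
  rw [map_mul, map_pow, map_pow, pt]

theorem Gen.pt_inj (G : Gen R x y ζ) : Function.Injective (pt x y) := by
  intro v w h
  rw [pt_eq, pt_eq, proj_eq_iff] at h
  obtain ⟨c, hc⟩ := h
  simp only [Units.val_mul, Units.val_pow_eq_pow_val] at hc
  have hli := mono_indep G.prim G.twist
  let s : Fin 3 × Fin 3 := (⟨(v 0).val, ZMod.val_lt _⟩, ⟨(v 1).val, ZMod.val_lt _⟩)
  let t : Fin 3 × Fin 3 := (⟨(w 0).val, ZMod.val_lt _⟩, ⟨(w 1).val, ZMod.val_lt _⟩)
  by_contra hne
  have hst : s ≠ t := fun e => hne (by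
    funext i
    fin_cases i
    · exact ZMod.val_injective 3 (congrArg (fun p : Fin 3 × Fin 3 => (p.1 : ℕ)) e)
    · exact ZMod.val_injective 3 (congrArg (fun p : Fin 3 × Fin 3 => (p.2 : ℕ)) e))
  have h3 := (linearIndependent_iff'.mp hli) {s, t} (fun p => if p = s then -(c : F) else 1) (by
    rw [Finset.sum_pair hst, if_pos rfl, if_neg (Ne.symm hst), one_smul, neg_smul]
    simp only [s, t]
    rw [hc, neg_add_cancel]) t (by simp)
  rw [if_neg (Ne.symm hst)] at h3
  exact one_ne_zero h3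

/-- The exponent of the twist of two elements is the determinant of their coordinates. -/
theorem Gen.twist_det (G : Gen R x y ζ) {g h : GG} {v w : Fin 2 → ZMod 3} (hv : proj g = pt x y v)
    (hw : proj h = pt x y w) {k : ℕ} (hk : (g : MM) * (h : MM) = ζ ^ k • ((h : MM) * (g : MM))) :
    v 0 * w 1 - v 1 * w 0 = (k : ZMod 3) := by
  set X : MM := (x : MM)
  set Y : MM := (y : MM)
  rw [pt_eq, eq_comm, proj_eq_iff] at hv hw
  obtain ⟨s, hs⟩ := hv
  obtain ⟨s', hs'⟩ := hw
  simp only [Units.val_mul, Units.val_pow_eq_pow_val] at hs hs'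
  set a := (v 0).val with ha
  set b := (v 1).val with hb
  set c := (w 0).val with hc
  set d := (w 1).val with hd
  have e1 : ζ ^ (b * c) • (X ^ a * Y ^ b * (X ^ c * Y ^ d)) = X ^ (a + c) * Y ^ (b + d) := by
    have : X ^ c * Y ^ b = ζ ^ (b * c) • (Y ^ b * X ^ c) := by
      rw [twist_pow_left (twist_pow_right G.twist b) c, pow_mul]
    rw [pow_add, pow_add, mul_assoc (X ^ a) (X ^ c), ← mul_assoc (X ^ c), this, Matrix.smul_mul, Matrix.mul_smul]
    simp only [mul_assoc]
  have e2 : ζ ^ (d * a) • (X ^ c * Y ^ d * (X ^ a * Y ^ b)) = X ^ (a + c) * Y ^ (b + d) := by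
    have : X ^ a * Y ^ d = ζ ^ (d * a) • (Y ^ d * X ^ a) := by
      rw [twist_pow_left (twist_pow_right G.twist d) a, pow_mul]
    rw [add_comm a c, add_comm b d, pow_add, pow_add, mul_assoc (X ^ c) (X ^ a), ← mul_assoc (X ^ a), this,
      Matrix.smul_mul, Matrix.mul_smul]
    simp only [mul_assoc]
  rw [hs, hs', Matrix.smul_mul, Matrix.mul_smul, Matrix.smul_mul, Matrix.mul_smul, smul_smul, smul_smul,
    smul_smul, mul_comm (s : F) (s' : F), show (ζ ^ k * (s' : F) * (s : F)) = (s' : F) * s * ζ ^ k by ring] at hk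
  rw [← smul_smul ((s' : F) * s)] at hk
  have hk' := smul_right_injective MM (mul_ne_zero (Units.ne_zero s') (Units.ne_zero s)) hk
  have e3 : ζ ^ (b * c + k) • (X ^ c * Y ^ d * (X ^ a * Y ^ b)) = ζ ^ (d * a) • (X ^ c * Y ^ d * (X ^ a * Y ^ b)) := by
    rw [e2, ← e1, hk', smul_smul, ← pow_add]
  have hne : X ^ c * Y ^ d * (X ^ a * Y ^ b) ≠ 0 := fun e => by
    refine Units.ne_zero ((x ^ c * y ^ d) * (x ^ a * y ^ b) : GG) ?_
    simp only [Units.val_mul, Units.val_pow_eq_pow_val]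
    exact e
  have e4 := smul_left_injective F hne e3
  rw [pow_eq_pow_mod _ G.prim.pow_eq_one, pow_eq_pow_mod (d * a) G.prim.pow_eq_one] at e4
  have e5 := G.prim.pow_inj (Nat.mod_lt _ (by norm_num)) (Nat.mod_lt _ (by norm_num)) e4
  have e6 := (ZMod.natCast_eq_natCast_iff' _ _ 3).mpr e5
  push_cast at e6
  simp only [ha, hb, hc, hd, ZMod.natCast_val, ZMod.cast_id'] at e6
  simp only [id_eq] at e6
  linear_combination -e6

/-- The matrix of conjugation on the central quotient. -/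
def IsConjMat (x y h : GG) (M : Matrix (Fin 2) (Fin 2) (ZMod 3)) : Prop :=
  ∀ v, proj h * pt x y v * (proj h)⁻¹ = pt x y (M *ᵥ v)

theorem Gen.conjMat_of_images (G : Gen R x y ζ) {h : GG} {c₀ c₁ : Fin 2 → ZMod 3}
    (h0 : proj (h * x * h⁻¹) = pt x y c₀) (h1 : proj (h * y * h⁻¹) = pt x y c₁) :
    IsConjMat x y h !![c₀ 0, c₁ 0; c₀ 1, c₁ 1] := by
  intro v
  have hv : (!![c₀ 0, c₁ 0; c₀ 1, c₁ 1] : Matrix (Fin 2) (Fin 2) (ZMod 3)) *ᵥ v =
      (v 0).val • c₀ + (v 1).val • c₁ := by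
    funext i
    simp only [Pi.add_apply, ← Nat.cast_smul_eq_nsmul (ZMod 3), ZMod.natCast_val, ZMod.cast_id', id_eq, Pi.smul_apply, smul_eq_mul]
    fin_cases i <;> simp [Matrix.mulVec, dotProduct, Fin.sum_univ_two] <;> ring
  rw [hv, G.pt_add, G.pt_nsmul, G.pt_nsmul, ← h0, ← h1, pt]
  simp only [map_mul, map_inv, conj_pow]
  group

theorem Gen.exists_conjMat (G : Gen R x y ζ) {h : GG} (hn : ∀ g ∈ R, h * g * h⁻¹ ∈ R) :
    ∃ M, IsConjMat x y h M ∧ M.det = 1 := by
  obtain ⟨c₀, h0⟩ := G.form _ (hn x G.mem_x)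
  obtain ⟨c₁, h1⟩ := G.form _ (hn y G.mem_y)
  refine ⟨_, G.conjMat_of_images h0 h1, ?_⟩
  have key := G.twist_det h0 h1 (k := 1) (by
    have e1 : (h * x * h⁻¹) * (h * y * h⁻¹) = h * (x * y) * h⁻¹ := by group
    have e2 : (h * y * h⁻¹) * (h * x * h⁻¹) = h * (y * x) * h⁻¹ := by group
    rw [← Units.val_mul, e1, ← Units.val_mul, e2]
    simp only [Units.val_mul, G.twist, Matrix.mul_smul, Matrix.smul_mul, pow_one])
  rw [Nat.cast_one] at key
  rw [Matrix.det_fin_two_of]
  linear_combination key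

theorem Gen.conjMat_unique (G : Gen R x y ζ) {h : GG} {M N : Matrix (Fin 2) (Fin 2) (ZMod 3)}
    (hM : IsConjMat x y h M) (hN : IsConjMat x y h N) : M = N :=
  Matrix.ext_of_mulVec_single fun i => G.pt_inj ((hM _).symm.trans (hN _))

theorem IsConjMat.mul {g h : GG} {M N : Matrix (Fin 2) (Fin 2) (ZMod 3)} (hM : IsConjMat x y g M)
    (hN : IsConjMat x y h N) : IsConjMat x y (g * h) (M * N) := fun v => by
  rw [← Matrix.mulVec_mulVec, ← hM, ← hN, map_mul, _root_.mul_inv_rev]
  simp only [mul_assoc]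

/-- The action of a normaliser on the central quotient. -/
noncomputable def Gen.rho (G : Gen R x y ζ) {H : Subgroup GG} (hn : Normalises H R) :
    H →* Matrix.SpecialLinearGroup (Fin 2) (ZMod 3) where
  toFun h := ⟨(G.exists_conjMat (hn h h.2)).choose, (G.exists_conjMat (hn h h.2)).choose_spec.2⟩
  map_one' := Subtype.ext <| G.conjMat_unique (G.exists_conjMat (hn _ (1 : H).2)).choose_spec.1
    (fun v => by simp)
  map_mul' a b := Subtype.ext <| G.conjMat_unique (G.exists_conjMat (hn _ (a * b).2)).choose_spec.1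
    ((G.exists_conjMat (hn _ a.2)).choose_spec.1.mul (G.exists_conjMat (hn _ b.2)).choose_spec.1)

theorem Gen.rho_spec (G : Gen R x y ζ) {H : Subgroup GG} (hn : Normalises H R) (h : H) :
    IsConjMat x y h (G.rho hn h : Matrix (Fin 2) (Fin 2) (ZMod 3)) :=
  (G.exists_conjMat (hn h h.2)).choose_spec.1

theorem Gen.rho_eq_one_of_mem (G : Gen R x y ζ) {H : Subgroup GG} (hn : Normalises H R) {h : H}
    (hh : (h : GG) ∈ R) : G.rho hn h = 1 := by
  refine Subtype.ext (G.conjMat_unique (G.rho_spec hn h) fun v => ?_)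
  obtain ⟨w, hw⟩ := G.form _ hh
  rw [hw, ← G.pt_add, add_comm, G.pt_add, mul_inv_cancel_right]
  simp

theorem Gen.mem_of_rho_eq_one (G : Gen R x y ζ) {H : Subgroup GG} (hn : Normalises H R)
    (hdet : H ≤ specialLinear (Fin 3) F) (hRH : R ≤ H) {h : H} (hh : G.rho hn h = 1) : (h : GG) ∈ R := by
  classical
  set C : GG := x * y * x⁻¹ * y⁻¹ with hC
  have hCR : C ∈ R := R.mul_mem (R.mul_mem (R.mul_mem G.mem_x G.mem_y) (R.inv_mem G.mem_x)) (R.inv_mem G.mem_y)
  have hCv : (C : MM) = ζ • 1 := by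
    rw [hC, Units.val_mul, Units.val_mul, Units.val_mul, G.twist, Matrix.smul_mul, mul_assoc (y : MM),
      val_mul_inv, mul_one, Matrix.smul_mul, val_mul_inv]
  have hCs : C ∈ scalars (Fin 3) F := mem_scalars_of_val_eq hCv
  have hC3 : C ^ 3 = 1 := Units.ext (by
    rw [Units.val_pow_eq_pow_val, hCv, _root_.smul_pow, one_pow, G.prim.pow_eq_one, one_smul, Units.val_one])
  have hCcomm : ∀ (n : ℕ) (g : GG), C ^ n * g = g * C ^ n := fun n g =>
    scalar_commute (Subgroup.pow_mem _ hCs n) g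
  have hspec := G.rho_spec hn h
  rw [hh, Matrix.SpecialLinearGroup.coe_one] at hspec
  -- conjugation fixes the generators up to scalars
  have himg : ∀ g : GG, (∃ v, proj g = pt x y v) → ∃ i : ℕ, (h : GG) * g * (h : GG)⁻¹ = C ^ i * g := by
    rintro g ⟨v, hv⟩
    have e := hspec v
    rw [Matrix.one_mulVec, ← hv, ← map_inv, ← map_mul, ← map_mul, ← mul_inv_eq_one, ← map_inv, ← map_mul,
      proj_eq_one_iff] at e
    obtain ⟨w, hw, he⟩ := exists_twist e
    rw [Fintype.card_fin] at hw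
    obtain ⟨i, -, rfl⟩ := G.prim.eq_pow_of_pow_eq_one hw
    refine ⟨i, mul_inv_eq_iff_eq_mul.mpr (Units.ext ?_)⟩
    rw [Units.val_mul, he, mul_assoc, Units.val_mul, Units.val_mul, Units.val_pow_eq_pow_val, hCv, _root_.smul_pow,
      one_pow, Matrix.smul_mul, one_mul]
  have hx' : ∃ v, proj x = pt x y v := G.form x G.mem_x
  have hy' : ∃ v, proj y = pt x y v := G.form y G.mem_y
  obtain ⟨i, hi⟩ := himg x hx'
  obtain ⟨j, hj⟩ := himg y hy'
  have hyx : ∀ k : ℕ, y ^ k * x * (y ^ k)⁻¹ = C⁻¹ ^ k * x := by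
    intro k
    induction k with
    | zero => simp
    | succ k ih =>
      rw [pow_succ' y, _root_.mul_inv_rev, show y * y ^ k * x * ((y ^ k)⁻¹ * y⁻¹) = y * (y ^ k * x * (y ^ k)⁻¹) * y⁻¹ by
        group, ih, ← mul_assoc, show y * C⁻¹ ^ k = C⁻¹ ^ k * y from
        (scalar_commute (Subgroup.pow_mem _ (Subgroup.inv_mem _ hCs) k) y).symm, pow_succ, mul_assoc, mul_assoc,
        show C⁻¹ = y * x * y⁻¹ * x⁻¹ by rw [hC]; group]
      group
  have hxy : ∀ k : ℕ, x ^ k * y * (x ^ k)⁻¹ = C ^ k * y := by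
    intro k
    induction k with
    | zero => simp
    | succ k ih =>
      rw [pow_succ' x, _root_.mul_inv_rev, show x * x ^ k * y * ((x ^ k)⁻¹ * x⁻¹) = x * (x ^ k * y * (x ^ k)⁻¹) * x⁻¹ by
        group, ih, ← mul_assoc, ← hCcomm k x, pow_succ, mul_assoc, mul_assoc]
      rw [show x * (y * x⁻¹) = C * y by rw [hC]; group, ← mul_assoc]
  set m : GG := x ^ j * y ^ (2 * i) with hm
  have hmR : m ∈ R := R.mul_mem (R.pow_mem G.mem_x _) (R.pow_mem G.mem_y _)
  have hCi : C⁻¹ ^ (2 * i) = C ^ i := by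
    rw [inv_pow, inv_eq_iff_mul_eq_one, ← pow_add, show 2 * i + i = 3 * i by ring, pow_mul, hC3, one_pow]
  have hmx : m * x * m⁻¹ = C ^ i * x := by
    rw [hm, _root_.mul_inv_rev, show x ^ j * y ^ (2 * i) * x * ((y ^ (2 * i))⁻¹ * (x ^ j)⁻¹) =
      x ^ j * (y ^ (2 * i) * x * (y ^ (2 * i))⁻¹) * (x ^ j)⁻¹ by group, hyx, hCi, ← mul_assoc, ← hCcomm i (x ^ j)]
    group
  have hmy : m * y * m⁻¹ = C ^ j * y := by
    rw [hm, _root_.mul_inv_rev, show x ^ j * y ^ (2 * i) * y * ((y ^ (2 * i))⁻¹ * (x ^ j)⁻¹) =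
      x ^ j * y * (x ^ j)⁻¹ by group, hxy]
  set g := m⁻¹ * (h : GG) with hg
  have hcomm : ∀ (z : GG) (c : GG), (h : GG) * z * (h : GG)⁻¹ = c → m * z * m⁻¹ = c → g * z = z * g := by
    intro z c e1 e2
    rw [← e2] at e1
    calc g * z = m⁻¹ * ((h : GG) * z * (h : GG)⁻¹) * h := by rw [hg]; group
      _ = z * g := by rw [e1, hg]; group
  have hgx := hcomm x _ hi hmx
  have hgy := hcomm y _ hj hmy
  have hgs : g ∈ scalars (Fin 3) F := by
    refine mem_scalars_of_commute G.absIrred fun r hr => ?_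
    obtain ⟨v, hv⟩ := G.form r hr
    rw [pt_eq, eq_comm, proj_eq_iff] at hv
    obtain ⟨c, hc⟩ := hv
    refine Units.ext ?_
    have hcm : g * (x ^ (v 0).val * y ^ (v 1).val) = x ^ (v 0).val * y ^ (v 1).val * g :=
      (Commute.mul_right (Commute.pow_right hgx _) (Commute.pow_right hgy _)).eq
    have := congrArg Units.val hcm
    simp only [Units.val_mul] at this
    simp only [Units.val_mul, hc, Matrix.mul_smul, Matrix.smul_mul, this]
  obtain ⟨l, hl⟩ := (mem_scalars_iff g).mp hgs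
  obtain ⟨hl3, -⟩ := scalar_cube (det_eq_one hdet (H.mul_mem (H.inv_mem (hRH hmR)) h.2)) hl
  obtain ⟨k, -, hk⟩ := G.prim.eq_pow_of_pow_eq_one hl3
  have : g = C ^ k := Units.ext (by rw [hl, Units.val_pow_eq_pow_val, hCv, _root_.smul_pow, one_pow, hk])
  rw [show (h : GG) = m * g by rw [hg, mul_inv_cancel_left], this]
  exact R.mul_mem hmR (R.pow_mem hCR k)

theorem Gen.ker_rho (G : Gen R x y ζ) {H : Subgroup GG} (hn : Normalises H R)
    (hdet : H ≤ specialLinear (Fin 3) F) (hRH : R ≤ H) : (G.rho hn).ker = R.subgroupOf H := by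
  ext h
  rw [MonoidHom.mem_ker, Subgroup.mem_subgroupOf]
  exact ⟨G.mem_of_rho_eq_one hn hdet hRH, G.rho_eq_one_of_mem hn⟩

theorem card_SL_two_three : Nat.card (Matrix.SpecialLinearGroup (Fin 2) (ZMod 3)) = 24 := by
  rw [Nat.card_eq_fintype_card]
  decide +kernel

theorem Gen.card_dvd (G : Gen R x y ζ) (h27 : Nat.card R = 27) {H : Subgroup GG} (hn : Normalises H R)
    (hdet : H ≤ specialLinear (Fin 3) F) (hRH : R ≤ H) : Nat.card H ∣ 648 := by
  rw [← (G.rho hn).ker.card_mul_index, Subgroup.index_ker, G.ker_rho hn hdet hRH,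
    Nat.card_congr (Subgroup.subgroupOfEquivOfLe hRH).toEquiv, h27, show 648 = 27 * 24 by norm_num]
  exact mul_dvd_mul_left 27 (card_SL_two_three ▸ (G.rho hn).range.card_subgroup_dvd_card)

/-- Generators of a Heisenberg group. -/
theorem exists_gen {R : Subgroup GG} (hR : IsHeisenberg 3 R) : ∃ x y ζ, Gen R x y ζ := by
  obtain ⟨x, y, ζ, hx, hy, hζ, hx3, hy3, hxy, hform⟩ := hR.gens
  refine ⟨x, y, ζ, hx, hy, hζ, hx3, hy3, hxy, fun g hg => ?_, hR.absIrred⟩
  obtain ⟨⟨a, b⟩, c, hgm⟩ := hform g hg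
  refine ⟨![((a : ℕ) : ZMod 3), ((b : ℕ) : ZMod 3)], ?_⟩
  rw [pt_eq, eq_comm, proj_eq_iff]
  refine ⟨Units.mk0 (ζ ^ (c : ℕ)) (pow_ne_zero _ (hζ.ne_zero (by norm_num))), ?_⟩
  rw [hgm, Units.val_mk0]
  simp [ZMod.val_natCast, Nat.mod_eq_of_lt a.2, Nat.mod_eq_of_lt b.2]

/-- A group stable under a fixed-point-free action on the central quotient is central. -/
theorem Gen.fix_free (G : Gen R x y ζ) {f : GG} {M : Matrix (Fin 2) (Fin 2) (ZMod 3)} (hf : IsConjMat x y f M)
    (hM : ∀ v, v 0 * (M *ᵥ v) 1 - v 1 * (M *ᵥ v) 0 = 0 → v = 0) {A : Subgroup GG} (hAR : A ≤ R)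
    (hAc : ∀ a ∈ A, ∀ b ∈ A, a * b = b * a) (hAf : ∀ a ∈ A, f * a * f⁻¹ ∈ A) : A ≤ scalars (Fin 3) F := by
  intro a ha
  obtain ⟨v, hv⟩ := G.form a (hAR ha)
  have hw : proj (f * a * f⁻¹) = pt x y (M *ᵥ v) := by rw [map_mul, map_mul, map_inv, hv, hf v]
  have h0 := G.twist_det hv hw (k := 0) (by
    rw [pow_zero, one_smul, ← Units.val_mul, hAc a ha _ (hAf a ha), Units.val_mul])
  rw [Nat.cast_zero] at h0
  rw [hM v h0, pt_zero] at hv
  exact proj_eq_one_iff.mp hv

end Cfsg.Lib.Classical.SUThree.Solv
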