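import Cfsg.Agent.Classical.SUThree.SolvableBase

/-!
Solvable overgroups in `SU₃(q)` of the stabiliser of an orthogonal frame.
-/

set_option autoImplicit false
set_option linter.unusedSimpArgs false
set_option linter.unusedSectionVars false
set_option linter.style.haveILetI false

namespace Cfsg.Lib.Classical.SUThree.Solv

open Matrix Cfsg.Geo
open scoped MatrixGroups
open Cfsg.Lib.Classical.PrimeDim

universe u

variable {F : Type u} [Field F] [Fintype F] {q : ℕ}

local notation "MM" => Matrix (Fin 3) (Fin 3) F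
local notation "GG" => GL (Fin 3) F

/-- An orthonormal basis spanning the lines of an orthogonal frame. -/
theorem exists_unit_basis (hF : Fintype.card F = q ^ 2) {D : Fin 3 → Submodule F (Fin 3 → F)}
    (hD : IsNondegenerateMDecomposition (Cfsg.hermForm 3 F q) 1 D) :
    ∃ G ∈ Cfsg.GU 3 F q, ∀ j, D j = Submodule.span F {(G : MM) *ᵥ Pi.single j 1} := by
  classical
  have hs := herm_isSesq (n := 3) hF
  have hu : ∀ i, ∃ u ∈ D i, Cfsg.hermForm 3 F q u u = 1 := by
    intro i
    obtain ⟨⟨v, hv⟩, hv0, hspan⟩ := finrank_eq_one_iff'.mp (hD.decomp.finrank_eq i)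
    have hvne : v ≠ 0 := fun e => hv0 (Subtype.ext e)
    obtain ⟨⟨x, hx, hxv⟩, -⟩ := hD.nondegenerate i v hv hvne
    obtain ⟨c, hc⟩ := hspan ⟨x, hx⟩
    rw [← show c • v = x from congrArg Subtype.val hc, hs.smul_left] at hxv
    have hk : Cfsg.hermForm 3 F q v v ≠ 0 := right_ne_zero_of_mul hxv
    obtain ⟨t, ht⟩ := exists_norm_eq hF (a := (Cfsg.hermForm 3 F q v v)⁻¹) (by
      rw [map_inv₀, ← (herm_isUnitary hF).herm v v])
    refine ⟨t • v, Submodule.smul_mem _ t hv, ?_⟩
    rw [hs.smul_left, hs.smul_right, ← mul_assoc, ht, inv_mul_cancel₀ hk]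
  choose u huD hu1 using hu
  set M : MM := Matrix.of fun i j => u j i with hM
  have hMv : ∀ v : Fin 3 → F, M *ᵥ v = ∑ j, v j • u j := fun v => by
    funext i
    simp [hM, Matrix.mulVec, dotProduct, Finset.sum_apply, mul_comm]
  have hiso : ∀ v w, Cfsg.hermForm 3 F q (M *ᵥ v) (M *ᵥ w) = Cfsg.hermForm 3 F q v w := by
    intro v w
    rw [hMv, hMv]
    simp only [Fin.sum_univ_three, hs.add_left, hs.add_right, hs.smul_left, hs.smul_right, hu1,
      hD.orthogonal 0 1 (by decide) _ (huD 0) _ (huD 1), hD.orthogonal 0 2 (by decide) _ (huD 0) _ (huD 2),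
      hD.orthogonal 1 0 (by decide) _ (huD 1) _ (huD 0), hD.orthogonal 1 2 (by decide) _ (huD 1) _ (huD 2),
      hD.orthogonal 2 0 (by decide) _ (huD 2) _ (huD 0), hD.orthogonal 2 1 (by decide) _ (huD 2) _ (huD 1),
      mul_zero, add_zero, zero_add, mul_one]
    simp only [Cfsg.hermForm, Fin.sum_univ_three, frob_apply]
  have hinj : Function.Injective M.mulVec := by
    intro v w h
    by_contra hne
    obtain ⟨z, hz⟩ := (hs.nondegenerate _ (sub_ne_zero.mpr hne)).1
    apply hz
    rw [← hiso, show M *ᵥ (v - w) = 0 by rw [Matrix.mulVec_sub]; exact sub_eq_zero.mpr h]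
    simpa using hs.smul_right 0 (M *ᵥ z) 0
  obtain ⟨G, hG⟩ := Matrix.mulVec_injective_iff_isUnit.mp hinj
  refine ⟨G, mem_GU_iff.mpr (by rw [hG]; exact hiso), fun j => ?_⟩
  have hne : u j ≠ 0 := fun e => by
    have h := hu1 j
    rw [e] at h
    exact one_ne_zero (h.symm.trans (by simpa using hs.smul_left 0 0 (0 : Fin 3 → F)))
  have hcol : (G : MM) *ᵥ Pi.single j 1 = u j := by
    rw [hG, Matrix.mulVec_single_one]
    rfl
  rw [hcol]
  refine (Submodule.eq_of_le_of_finrank_eq ?_ ?_).symm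
  · rw [Submodule.span_singleton_le_iff_mem]
    exact huD j
  · rw [finrank_span_singleton hne, hD.decomp.finrank_eq]

/-- Diagonal matrices as a homomorphism from pairs of units. -/
def dg (F : Type u) [Field F] : Fˣ × Fˣ →* GL (Fin 3) F :=
  MonoidHom.toHomUnits
    { toFun := fun a => Matrix.diagonal ![(a.1 : F), (a.2 : F), (((a.1 * a.2)⁻¹ : Fˣ) : F)]
      map_one' := by
        rw [← Matrix.diagonal_one]
        congr 1
        funext i
        fin_cases i <;> simp
      map_mul' := fun a b => by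
        rw [Matrix.diagonal_mul_diagonal]
        congr 1
        funext i
        fin_cases i <;> simp
        ring }

theorem dg_val (a : Fˣ × Fˣ) :
    ((dg F a : GG) : MM) = Matrix.diagonal ![(a.1 : F), (a.2 : F), (((a.1 * a.2)⁻¹ : Fˣ) : F)] := rfl

/-- Norm-one units. -/
def normOne (F : Type u) [Field F] (q : ℕ) : Subgroup Fˣ := (powMonoidHom (q + 1)).ker

theorem card_normOne (hF : Fintype.card F = q ^ 2) : Nat.card (normOne F q) = q + 1 := by
  rw [normOne, IsCyclic.card_powMonoidHom_ker, Nat.card_units, Nat.card_eq_fintype_card, hF, ← one_pow 2,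
    Nat.sq_sub_sq, one_pow]
  exact Nat.gcd_eq_right (dvd_mul_right _ _)

theorem dg_mem {a : Fˣ × Fˣ} (h1 : a.1 ∈ normOne F q) (h2 : a.2 ∈ normOne F q) :
    dg F a ∈ suGL 3 F q := by
  refine ⟨mem_GU_iff.mpr fun v w => ?_, ?_⟩
  · have h3 : (a.1 * a.2)⁻¹ ∈ normOne F q := Subgroup.inv_mem _ (Subgroup.mul_mem _ h1 h2)
    have e : ∀ c : Fˣ, c ∈ normOne F q → (c : F) * (c : F) ^ q = 1 := fun c hc => by
      rw [← pow_succ']
      exact congrArg Units.val hc
    rw [dg_val]
    simp only [Cfsg.hermForm, Matrix.mulVec_diagonal, Fin.sum_univ_three, Matrix.cons_val_zero, Matrix.cons_val_one,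
      Matrix.cons_val, mul_pow]
    linear_combination (v 0 * w 0 ^ q) * e _ h1 + (v 1 * w 1 ^ q) * e _ h2 + (v 2 * w 2 ^ q) * e _ h3
  · show Matrix.GeneralLinearGroup.det (dg F a) = 1
    refine Units.ext ?_
    rw [Matrix.GeneralLinearGroup.val_det_apply, dg_val, Matrix.det_diagonal, Fin.prod_univ_three, Units.val_one]
    simp
    field_simp

/-- The cyclic shift of the coordinates. -/
def shift (F : Type u) [Field F] : GL (Fin 3) F where
  val := !![0, 0, 1; 1, 0, 0; 0, 1, 0]
  inv := !![0, 1, 0; 0, 0, 1; 1, 0, 0]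
  val_inv := by ext i j; fin_cases i <;> fin_cases j <;> simp [Matrix.mul_apply, Fin.sum_univ_three]
  inv_val := by ext i j; fin_cases i <;> fin_cases j <;> simp [Matrix.mul_apply, Fin.sum_univ_three]

theorem shift_mulVec (v : Fin 3 → F) : (shift F : MM) *ᵥ v = fun i => v (i + 2) := by
  funext i
  fin_cases i <;> simp [shift, Matrix.mulVec, dotProduct, Fin.sum_univ_three]

theorem shift_mem (F : Type u) [Field F] [Fintype F] (q : ℕ) : shift F ∈ suGL 3 F q := by
  refine ⟨mem_GU_iff.mpr fun v w => ?_, ?_⟩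
  · rw [shift_mulVec, shift_mulVec]
    exact Equiv.sum_comp (Equiv.addRight (2 : Fin 3)) fun i => v i * w i ^ q
  · show Matrix.GeneralLinearGroup.det (shift F) = 1
    refine Units.ext ?_
    simp [shift, Matrix.GeneralLinearGroup.val_det_apply, Matrix.det_fin_three]

theorem conj_suGL {G g : GG} (hG : G ∈ Cfsg.GU 3 F q) (hg : g ∈ suGL 3 F q) :
    G * g * G⁻¹ ∈ suGL 3 F q := by
  refine ⟨Subgroup.mul_mem _ (Subgroup.mul_mem _ hG hg.1) (Subgroup.inv_mem _ hG), ?_⟩
  exact MonoidHom.normal_ker _ |>.conj_mem g hg.2 G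

theorem frame_mem {G : GG} {D : Fin 3 → Submodule F (Fin 3 → F)}
    (hG : ∀ j, D j = Submodule.span F {(G : MM) *ᵥ Pi.single j 1}) {g : GG} {σ : Equiv.Perm (Fin 3)} {c : Fin 3 → F}
    (hc : ∀ j, c j ≠ 0) (hg : ∀ j, (g : MM) *ᵥ Pi.single j 1 = c j • Pi.single (σ j) 1) :
    ∀ j, (D j).map (Matrix.toLin' ((G * g * G⁻¹ : GG) : MM)) = D (σ j) := by
  intro j
  rw [hG j, hG (σ j), Submodule.map_span, Set.image_singleton, Matrix.toLin'_apply, Units.val_mul, Units.val_mul,
    ← Matrix.mulVec_mulVec, inv_mulVec_mulVec, ← Matrix.mulVec_mulVec, hg, Matrix.mulVec_smul]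
  exact Submodule.span_singleton_smul_eq (isUnit_iff_ne_zero.mpr (hc j)) _

/-- The arithmetic at the end. -/
theorem frame_arith {n : ℕ} (hn : 4 ≤ n) (h6 : n ≠ 6) (hd : 3 * n ^ 2 ∣ 648) : False := by
  have h : n ≤ 14 := by
    have := Nat.le_of_dvd (by norm_num) hd
    nlinarith
  interval_cases n <;> omega

set_option maxHeartbeats 800000 in
theorem frame_solvable (hF : Fintype.card F = q ^ 2) (hq : 3 ≤ q) (hq5 : q ≠ 5)
    {D : Fin 3 → Submodule F (Fin 3 → F)} (hD : IsNondegenerateMDecomposition (Cfsg.hermForm 3 F q) 1 D)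
    (H : Subgroup GG) (hle : decompositionStabilizer D ⊓ suGL 3 F q ≤ H) (hH : H ≤ suGL 3 F q)
    (hs : Group.IsSolvable H) : H ≤ decompositionStabilizer D := by
  classical
  obtain ⟨G, hGU, hG⟩ := exists_unit_basis hF hD
  set M := decompositionStabilizer D ⊓ suGL 3 F q with hM
  let T : Fˣ × Fˣ →* GG := (MulAut.conj G).toMonoidHom.comp (dg F)
  have hTv : ∀ a, T a = G * dg F a * G⁻¹ := fun a => rfl
  have hTsingle : ∀ a j, ((dg F a : GG) : MM) *ᵥ Pi.single j 1 =
      ![(a.1 : F), (a.2 : F), (((a.1 * a.2)⁻¹ : Fˣ) : F)] j • Pi.single ((1 : Equiv.Perm (Fin 3)) j) 1 := fun a j => by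
    rw [dg_val, Matrix.diagonal_mulVec_single, Equiv.Perm.one_apply, ← Pi.single_smul, smul_eq_mul]
  have hTne : ∀ (a : Fˣ × Fˣ) (j : Fin 3), ![(a.1 : F), (a.2 : F), (((a.1 * a.2)⁻¹ : Fˣ) : F)] j ≠ 0 := fun a j => by
    fin_cases j <;> simp
  set U := (normOne F q).prod (normOne F q) with hU
  have hTstab : ∀ a, T a ∈ decompositionStabilizer D := fun a => ⟨1, frame_mem hG (hTne a) (hTsingle a)⟩
  have hTM : ∀ a ∈ U, T a ∈ M := fun a ha => ⟨hTstab a, conj_suGL hGU (dg_mem ha.1 ha.2)⟩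
  have hTH : ∀ a ∈ U, T a ∈ H := fun a ha => hle (hTM a ha)
  set c := G * shift F * G⁻¹ with hc
  have hcperm : ∀ j, (D j).map (Matrix.toLin' (c : MM)) = D (Equiv.addRight (1 : Fin 3) j) := by
    refine frame_mem hG (c := fun _ => 1) (fun _ => one_ne_zero) fun j => ?_
    rw [shift_mulVec, one_smul]
    funext i
    fin_cases i <;> fin_cases j <;> simp [Pi.single_apply]
  have hcM : c ∈ M := ⟨⟨_, hcperm⟩, conj_suGL hGU (shift_mem F q)⟩
  obtain ⟨⟨g, hgN⟩, hgo⟩ := IsCyclic.exists_ofOrder_eq_natCard (α := normOne F q)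
  rw [card_normOne hF, Subgroup.orderOf_mk] at hgo
  have hgk : ∀ k, 0 < k → k ≤ 3 → g ^ k ≠ 1 := fun k h0 h3 e => by
    have := Nat.le_of_dvd h0 (orderOf_dvd_of_pow_eq_one e)
    omega
  have hGinj : ∀ v w, (G : MM) *ᵥ v = (G : MM) *ᵥ w → v = w := fun v w e => by
    rw [← inv_mulVec_mulVec G v, e, inv_mulVec_mulVec]
  -- coordinates of invariant lines
  have hcoord : ∀ (a : Fˣ × Fˣ) (v : Fin 3 → F), ((T a : GG) : MM) *ᵥ ((G : MM) *ᵥ v) =
      (G : MM) *ᵥ fun i => ![(a.1 : F), (a.2 : F), (((a.1 * a.2)⁻¹ : Fˣ) : F)] i * v i := fun a v => by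
    rw [hTv, Units.val_mul, Units.val_mul, ← Matrix.mulVec_mulVec, inv_mulVec_mulVec, ← Matrix.mulVec_mulVec, dg_val]
    congr 1
    funext i
    rw [Matrix.mulVec_diagonal]
  -- irreducibility
  have hirr : ActsIrreducibly (matrixSet H) := (irreducible_iff H).mpr fun W hW => by
    refine or_iff_not_imp_left.mpr fun h0 => ?_
    obtain ⟨w, hw, hw0⟩ := (Submodule.ne_bot_iff W).mp h0
    set v := ((G⁻¹ : GG) : MM) *ᵥ w with hv
    have hwv : (G : MM) *ᵥ v = w := mulVec_inv_mulVec G w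
    set W' : Submodule F (Fin 3 → F) := W.comap (Matrix.toLin' (G : MM)) with hW'
    have hvW : v ∈ W' := by
      rw [hW', Submodule.mem_comap, Matrix.toLin'_apply, hwv]
      exact hw
    have hdiag : ∀ x ∈ W', (fun i => ![(g : F), ((g⁻¹ : Fˣ) : F), 1] i * x i) ∈ W' := fun x hx => by
      have h1 := hW (T (g, g⁻¹)) (hTH _ ⟨hgN, Subgroup.inv_mem _ hgN⟩) _ hx
      rw [Matrix.toLin'_apply, hcoord] at h1
      simpa [hW'] using h1
    have hshift : ∀ x ∈ W', (fun i => x (i + 2)) ∈ W' := fun x hx => by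
      have h1 := hW c (hle hcM) _ hx
      rw [Matrix.toLin'_apply, hc, Units.val_mul, Units.val_mul, ← Matrix.mulVec_mulVec, inv_mulVec_mulVec,
        ← Matrix.mulVec_mulVec, shift_mulVec] at h1
      simpa [hW'] using h1
    set d : Fin 3 → F := ![(g : F), ((g⁻¹ : Fˣ) : F), 1] with hd
    have hdinj : Function.Injective d := by
      have a1 : (g : F) ≠ 1 := fun e => hgk 1 one_pos (by norm_num) (by rw [pow_one]; exact Units.ext e)
      have a2 : ((g⁻¹ : Fˣ) : F) ≠ 1 := fun e => hgk 1 one_pos (by norm_num) (by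
        rw [pow_one]; exact inv_eq_one.mp (Units.ext e))
      have a3 : (g : F) ≠ ((g⁻¹ : Fˣ) : F) := fun e => hgk 2 two_pos (by norm_num) (by
        have h2 : g = g⁻¹ := Units.ext e
        rw [pow_two]
        conv_lhs => arg 2; rw [h2]
        exact mul_inv_cancel g)
      simp only [Units.val_inv_eq_inv_val] at a2 a3
      intro i j h
      fin_cases i <;> fin_cases j <;> simp [hd, a1, a1.symm, a2, a2.symm, a3, a3.symm] at h ⊢
    obtain ⟨i, hi⟩ : ∃ i, v i ≠ 0 := by
      by_contra hcon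
      push Not at hcon
      refine hw0 ?_
      rw [← hwv, show v = 0 from funext hcon, Matrix.mulVec_zero]
    have hei : (Pi.single i 1 : Fin 3 → F) ∈ W' := by
      have hf : ∀ j, ∀ x ∈ W', (fun l => (d l - d j) * x l) ∈ W' := fun j x hx => by
        have := sub_mem (hdiag x hx) (W'.smul_mem (d j) hx)
        convert this using 1
        funext l
        simp [sub_mul]
      have h2 := hf (i + 1) _ (hf (i + 2) v hvW)
      have hne : (d i - d (i + 1)) * ((d i - d (i + 2)) * v i) ≠ 0 := by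
        refine mul_ne_zero (sub_ne_zero.mpr fun e => ?_) (mul_ne_zero (sub_ne_zero.mpr fun e => ?_) hi) <;>
          · have := hdinj e
            revert this
            clear * -
            revert i
            decide
      have h3 := W'.smul_mem ((d i - d (i + 1)) * ((d i - d (i + 2)) * v i))⁻¹ h2
      convert h3 using 1
      funext l
      have hl : l = i ∨ l = i + 1 ∨ l = i + 2 := by
        clear * -
        revert i l
        decide
      rcases hl with rfl | rfl | rfl
      · simp only [Pi.single_eq_same, Pi.smul_apply, smul_eq_mul]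
        rw [inv_mul_cancel₀ hne]
      · simp [Pi.single_apply]
      · simp [Pi.single_apply]
    have hnext : ∀ l, (Pi.single l 1 : Fin 3 → F) ∈ W' → (Pi.single (l + 1) 1 : Fin 3 → F) ∈ W' := fun l hl => by
      have := hshift _ hl
      convert this using 1
      funext i
      fin_cases l <;> fin_cases i <;> simp [Pi.single_apply]
    have hall : ∀ l, (Pi.single l 1 : Fin 3 → F) ∈ W' := fun l => by
      have hl : l = i ∨ l = i + 1 ∨ l = i + 1 + 1 := by
        clear * -
        revert i l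
        decide
      rcases hl with rfl | rfl | rfl
      exacts [hei, hnext _ hei, hnext _ (hnext _ hei)]
    refine Submodule.eq_top_iff'.mpr fun z => ?_
    have hz : ((G⁻¹ : GG) : MM) *ᵥ z ∈ W' := by
      rw [pi_eq_sum_univ' (((G⁻¹ : GG) : MM) *ᵥ z)]
      exact sum_mem fun l _ => W'.smul_mem _ (hall l)
    rw [hW', Submodule.mem_comap, Matrix.toLin'_apply, mulVec_inv_mulVec] at hz
    exact hz
  have hdet : H ≤ specialLinear (Fin 3) F := hH.trans inf_le_right
  rcases core_cases (n := 3) (Fintype.card_fin 3) Nat.prime_three (by decide) hdet hirr with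
    ⟨N, -, -, D', hD'⟩ | ⟨N, -, hNn, hK⟩ | ⟨R, hRH, hRn, hR⟩ | ⟨P, hP⟩
  · -- another frame
    let ι : U →* decompositionStabilizer D' := (Subgroup.inclusion hD'.le_stab).comp
      ((T.comp U.subtype).codRestrict H fun a => hTH a a.2)
    obtain ⟨k, hk, hfix⟩ := perm_three_exp ((permHom hD'.decomp).comp ι) fun a b => by
      rw [← map_mul, mul_comm, map_mul]
    have hk' : 0 < k ∧ k ≤ 3 := by omega
    have hline : ∀ j, ∃ i, D' j = D i := by
      intro j
      obtain ⟨⟨w, hw⟩, hw0, hspan⟩ := finrank_eq_one_iff'.mp (hD'.decomp.finrank_eq j)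
      have hwne : w ≠ 0 := fun e => hw0 (Subtype.ext e)
      set v := ((G⁻¹ : GG) : MM) *ᵥ w with hv
      have hwv : (G : MM) *ᵥ v = w := mulVec_inv_mulVec G w
      have heig : ∀ a ∈ U, ∃ s : F, ∀ i,
          ![(((a : Fˣ × Fˣ) ^ k).1 : F), ((a ^ k).2 : F), ((((a ^ k).1 * (a ^ k).2)⁻¹ : Fˣ) : F)] i * v i =
            s * v i := by
        intro a ha
        have hf : ((T (a ^ k) : GG) : MM) *ᵥ w ∈ D' j :=
          mem_of_permHom_eq_one hD'.decomp (hfix ⟨a, ha⟩) hw
        obtain ⟨s, hs⟩ := hspan ⟨_, hf⟩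
        have e : s • w = ((T (a ^ k) : GG) : MM) *ᵥ w := congrArg Subtype.val hs
        rw [← hwv, hcoord, ← Matrix.mulVec_smul] at e
        exact ⟨s, fun i => (congrFun (hGinj _ _ e) i).symm⟩
      have htwo : ∀ i i', i ≠ i' → v i = 0 ∨ v i' = 0 := by
        intro i i' hne
        by_contra hcon
        push Not at hcon
        have hex : ∃ a ∈ U, ![(((a : Fˣ × Fˣ) ^ k).1 : F), ((a ^ k).2 : F),
            ((((a ^ k).1 * (a ^ k).2)⁻¹ : Fˣ) : F)] i ≠
            ![(((a : Fˣ × Fˣ) ^ k).1 : F), ((a ^ k).2 : F), ((((a ^ k).1 * (a ^ k).2)⁻¹ : Fˣ) : F)] i' := by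
          have hg1 : ((g : F)) ^ k ≠ 1 := fun e => hgk k hk'.1 hk'.2 (Units.ext (by
            rw [Units.val_pow_eq_pow_val]; exact e))
          have hg2 : ((g : F))⁻¹ ^ k ≠ 1 := fun e => hg1 (by rwa [inv_pow, inv_eq_one] at e)
          have hcases : (i = 0 ∧ i' = 1) ∨ (i = 1 ∧ i' = 0) ∨ (i = 0 ∧ i' = 2) ∨ (i = 2 ∧ i' = 0) ∨
              (i = 1 ∧ i' = 2) ∨ (i = 2 ∧ i' = 1) := by
            revert hne
            clear * -
            revert i i'
            decide
          rcases hcases with ⟨rfl, rfl⟩ | ⟨rfl, rfl⟩ | ⟨rfl, rfl⟩ | ⟨rfl, rfl⟩ | ⟨rfl, rfl⟩ | ⟨rfl, rfl⟩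
          · exact ⟨(g, 1), ⟨hgN, Subgroup.one_mem _⟩, by simpa using hg1⟩
          · exact ⟨(g, 1), ⟨hgN, Subgroup.one_mem _⟩, by simpa using hg1.symm⟩
          · exact ⟨(1, g), ⟨Subgroup.one_mem _, hgN⟩, by simpa using hg2.symm⟩
          · exact ⟨(1, g), ⟨Subgroup.one_mem _, hgN⟩, by simpa using hg2⟩
          · exact ⟨(g, 1), ⟨hgN, Subgroup.one_mem _⟩, by simpa using hg2.symm⟩
          · exact ⟨(g, 1), ⟨hgN, Subgroup.one_mem _⟩, by simpa using hg2⟩
        obtain ⟨a, ha, hne'⟩ := hex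
        obtain ⟨s, hs⟩ := heig a ha
        exact hne' ((mul_right_cancel₀ hcon.1 (hs i)).trans (mul_right_cancel₀ hcon.2 (hs i')).symm)
      obtain ⟨i, hi⟩ : ∃ i, v i ≠ 0 := by
        by_contra hcon
        push Not at hcon
        refine hwne ?_
        rw [← hwv, show v = 0 from funext hcon, Matrix.mulVec_zero]
      have hvsingle : v = v i • (Pi.single i 1 : Fin 3 → F) := by
        funext l
        by_cases hl : l = i
        · subst hl; simp
        · simp [hl, (htwo l i hl).resolve_right hi]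
      refine ⟨i, (Submodule.eq_of_le_of_finrank_eq ?_ (by rw [hD.decomp.finrank_eq, hD'.decomp.finrank_eq])).symm⟩
      rw [hG i, Submodule.span_singleton_le_iff_mem]
      have hw' : w = v i • ((G : MM) *ᵥ Pi.single i 1) := by rw [← Matrix.mulVec_smul, ← hvsingle, hwv]
      have h1 := (D' j).smul_mem (v i)⁻¹ hw
      rwa [hw', smul_smul, inv_mul_cancel₀ hi, one_smul] at h1
    choose i hi using hline
    have hinj : Function.Injective i := fun a b e => frame_injective hD'.decomp (by rw [hi a, hi b, e])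
    let e := Equiv.ofBijective i (Finite.injective_iff_bijective.mp hinj)
    intro h hh
    obtain ⟨σ, hσ⟩ := hD'.le_stab hh
    refine ⟨(e.symm.trans σ).trans e, fun l => ?_⟩
    have h1 := hσ (e.symm l)
    rw [hi, hi] at h1
    rwa [show i (e.symm l) = l from e.apply_symm_apply l] at h1
  · -- a field
    exfalso
    have hg3 : g ^ 3 ≠ 1 := hgk 3 (by norm_num) le_rfl
    have hmem := cube_mem_field hK
      (le_subalgebraNormalizer_comm hNn (hTH (g, 1) ⟨hgN, Subgroup.one_mem _⟩))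
    rw [← map_pow] at hmem
    set L := comm (matrixSet N)
    set A : MM := ((T ((g, 1) ^ 3) : GG) : MM) - 1 with hA
    have hAL : A ∈ L := sub_mem hmem (one_mem L)
    have hA1 : A *ᵥ ((G : MM) *ᵥ Pi.single 1 1) = 0 := by
      rw [hA, Matrix.sub_mulVec, Matrix.one_mulVec, hcoord, sub_eq_zero]
      congr 1
      funext l
      fin_cases l <;> simp [Pi.single_apply]
    have hA0 : A = 0 := by
      by_contra hne
      obtain ⟨u, hu⟩ := fieldSub_isUnit hK hAL hne
      rw [← hu] at hA1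
      refine gl_mulVec_ne_zero u ?_ hA1
      refine gl_mulVec_ne_zero G ?_
      simp
    have h0 : A *ᵥ ((G : MM) *ᵥ Pi.single 0 1) = 0 := by rw [hA0, Matrix.zero_mulVec]
    rw [hA, Matrix.sub_mulVec, Matrix.one_mulVec, hcoord, sub_eq_zero] at h0
    have := congrFun (hGinj _ _ h0) 0
    exact hg3 (Units.ext (by simpa using this))
  · -- a Heisenberg group
    exfalso
    obtain ⟨x, y, ζ, hgen⟩ := exists_gen hR
    have h648 := hgen.card_dvd (by rw [hR.card]; norm_num) hRn hdet hRH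
    have hMH : Nat.card M ∣ 648 := (Subgroup.card_dvd_of_le hle).trans h648
    let ψ : M →* Equiv.Perm (Fin 3) :=
      (permHom hD.decomp).comp (Subgroup.inclusion (inf_le_left : M ≤ decompositionStabilizer D))
    let τ : U →* ψ.ker := MonoidHom.mk' (fun a => ⟨⟨T a, hTM a a.2⟩, by
      rw [MonoidHom.mem_ker]
      exact permHom_eq hD.decomp (frame_mem hG (hTne a) (hTsingle a))⟩)
      fun a b => Subtype.ext (Subtype.ext (map_mul T _ _))
    have hτ : Function.Injective τ := fun a b e => by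
      have h1 : T a = T b := congrArg (fun z : ψ.ker => ((z : M) : GG)) e
      have h2 : dg F a = dg F b := (MulAut.conj G).injective h1
      have h3 : ∀ l, ((dg F a : GG) : MM) l l = ((dg F b : GG) : MM) l l := fun l => by rw [h2]
      simp only [dg_val, Matrix.diagonal_apply_eq] at h3
      exact Subtype.ext (Prod.ext (Units.ext (h3 0)) (Units.ext (h3 1)))
    have hUcard : Nat.card U = (q + 1) ^ 2 := by
      rw [hU, Nat.card_congr (Subgroup.prodEquiv _ _).toEquiv, Nat.card_prod, card_normOne hF, pow_two]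
    have h1 : (q + 1) ^ 2 ∣ Nat.card ψ.ker := hUcard ▸ Subgroup.card_dvd_of_injective τ hτ
    have h3 : 3 ∣ Nat.card ψ.range := by
      have e : ψ ⟨c, hcM⟩ = Equiv.addRight (1 : Fin 3) := permHom_eq hD.decomp hcperm
      have ho : orderOf (ψ ⟨c, hcM⟩) = 3 := by
        haveI : Fact (Nat.Prime 3) := ⟨Nat.prime_three⟩
        rw [e]
        exact orderOf_eq_prime (by decide) (by decide)
      have := Subgroup.orderOf_dvd_natCard ψ.range (x := ψ ⟨c, hcM⟩) ⟨_, rfl⟩
      rwa [ho] at this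
    rw [← ψ.ker.card_mul_index, Subgroup.index_ker, mul_comm] at hMH
    exact frame_arith (n := q + 1) (by omega) (by omega) ((mul_dvd_mul h3 h1).trans hMH)
  · exact (preCore_false hP hs).elim

end Cfsg.Lib.Classical.SUThree.Solv
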